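import Mathlib
import Groth.Prelude.Def_ProCons
import Groth.Agent.Lib.Lead.Spectral
import Groth.Agent.Lib.Helper21.ConsTop
import Groth.Agent.Lib.Helper25.ConstructibleSub

namespace Groth.Agent.Lib.Helper17.ProConsLib

open Topology Set TopologicalSpace ProCons
open scoped Set.Notation
open Groth.Agent.Lib.Lead Groth.Agent.Lib.Helper21 Groth.Agent.Lib.Helper25

universe u

variable {X : Type u} [TopologicalSpace X]

/-- "Spectral open": a quasi-compact quasi-separated open subset. -/
def SpecOpen (W : Set X) : Prop := IsOpen W ∧ IsCompact W ∧ IsQuasiSeparated W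

lemma SpecOpen.compactSpace {W : Set X} (h : SpecOpen W) : CompactSpace W :=
  isCompact_iff_compactSpace.mp h.2.1

lemma SpecOpen.quasiSeparatedSpace {W : Set X} (h : SpecOpen W) : QuasiSeparatedSpace W :=
  (isQuasiSeparated_iff_quasiSeparatedSpace W h.1).mp h.2.2

lemma SpecOpen.quasiSober [QuasiSober X] {W : Set X} (h : SpecOpen W) : QuasiSober W :=
  h.1.isOpenEmbedding_subtypeVal.quasiSober

lemma SpecOpen.prespectralSpace [PrespectralSpace X] {W : Set X} (h : SpecOpen W) :
    PrespectralSpace W :=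
  h.1.isOpenEmbedding_subtypeVal.prespectralSpace

lemma isLocallyConstructible_compl {Y : Type*} [TopologicalSpace Y] {s : Set Y}
    (hs : IsLocallyConstructible s) : IsLocallyConstructible sᶜ := by
  intro x
  obtain ⟨U, hxU, hU, hc⟩ := hs x
  exact ⟨U, hxU, hU, by rw [preimage_compl]; exact hc.compl⟩

lemma isIndConstructible_iff_compl (E : Set X) :
    IsIndConstructible E ↔ IsProConstructible Eᶜ := by
  constructor
  · intro h x
    obtain ⟨U, hU, hxU, S, hS, hES⟩ := h x
    refine ⟨U, hU, hxU, compl '' S, ?_, ?_⟩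
    · rintro _ ⟨T, hT, rfl⟩
      exact isLocallyConstructible_compl (hS T hT)
    · rw [preimage_compl, hES, compl_sUnion]
  · intro h x
    obtain ⟨U, hU, hxU, S, hS, hES⟩ := h x
    refine ⟨U, hU, hxU, compl '' S, ?_, ?_⟩
    · rintro _ ⟨T, hT, rfl⟩
      exact isLocallyConstructible_compl (hS T hT)
    · rw [← compl_compl (Subtype.val ⁻¹' E), ← preimage_compl, hES, compl_sInter]

/-- A pro-constructible set is closed for the constructible topology of every spectral open. -/
theorem isClosed_constructible_of_isProConstructible [QuasiSober X] [PrespectralSpace X]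
    {E : Set X} (hE : IsProConstructible E) {W : Set X} (hW : SpecOpen W) :
    IsClosed[constructibleTopology W] (W ↓∩ E) := by
  have := hW.compactSpace
  have := hW.quasiSeparatedSpace
  have := hW.quasiSober
  have := hW.prespectralSpace
  rw [← @isOpen_compl_iff W _ (constructibleTopology W),
    @isOpen_iff_forall_mem_open W (constructibleTopology W)]
  rintro ⟨w, hwW⟩ hwE
  obtain ⟨U, hU, hwU, S, hS, hES⟩ := hE w
  have hwT : ∃ T ∈ S, (⟨w, hwU⟩ : U) ∉ T := by
    by_contra hcon
    push Not at hcon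
    have : (⟨w, hwU⟩ : U) ∈ ⋂₀ S := fun T hT => hcon T hT
    rw [← hES] at this
    exact hwE this
  obtain ⟨T, hT, hwT⟩ := hwT
  obtain ⟨W', ⟨hW'o, hW'c⟩, hwW', hW'sub⟩ :=
    (PrespectralSpace.isTopologicalBasis (X := X)).exists_subset_of_mem_open
      (show w ∈ U ∩ W from ⟨hwU, hwW⟩) (hU.inter hW.1)
  have hW'spec : SpecOpen W' := ⟨hW'o, hW'c, hW.2.2.of_subset (fun y hy => (hW'sub hy).2)⟩
  have := hW'spec.compactSpace
  have := hW'spec.quasiSeparatedSpace
  have := hW'spec.prespectralSpace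
  have h1 : MapsTo id W' U := fun y hy => (hW'sub hy).1
  have h2 : MapsTo id W' W := fun y hy => (hW'sub hy).2
  have hι₁ : IsOpenEmbedding h1.restrict := IsOpenEmbedding.id.restrict h1 hW'o
  have hι₂ : IsOpenEmbedding h2.restrict := IsOpenEmbedding.id.restrict h2 hW'o
  have hT' : IsConstructible (h1.restrict ⁻¹' T) :=
    ((hS T hT).preimage_of_isOpenEmbedding hι₁).isConstructible
  have hretro : IsRetrocompact (range h2.restrict) :=
    (isCompact_range hι₂.continuous).isRetrocompact hι₂.isOpen_range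
  have hO : IsConstructible (h2.restrict '' (h1.restrict ⁻¹' T)ᶜ) :=
    hT'.compl.image_of_isOpenEmbedding hι₂ hretro
  refine ⟨h2.restrict '' (h1.restrict ⁻¹' T)ᶜ, ?_, (isClopen_constructible_of_isConstructible hO).2,
    ⟨⟨w, hwW'⟩, hwT, rfl⟩⟩
  rintro _ ⟨⟨y, hy⟩, hyT, rfl⟩ hyE
  apply hyT
  have : (⟨y, h1 hy⟩ : U) ∈ U ↓∩ E := hyE
  rw [hES] at this
  exact this T hT

/-- A set closed for the constructible topology of a spectral space is an intersection of
constructible sets. -/
theorem eq_sInter_of_isClosed_constructible {Y : Type u} [TopologicalSpace Y] [CompactSpace Y]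
    [QuasiSeparatedSpace Y] {F : Set Y} (hcl : IsClosed[constructibleTopology Y] F) :
    F = ⋂₀ {C : Set Y | IsConstructible C ∧ F ⊆ C} := by
  apply subset_antisymm
  · intro y hy C hC
    exact hC.2 hy
  · intro y hy
    by_contra hyE
    have hop : IsOpen[constructibleTopology Y] Fᶜ :=
      (@isOpen_compl_iff Y _ (constructibleTopology Y)).mpr hcl
    obtain ⟨U₁, V₁, hU₁, hU₁', hV₁, hV₁', hyUV, hsub⟩ :=
      exists_compact_open_of_isOpen_constructibleTopology hop hyE
    have hC : IsConstructible (U₁ ∩ V₁ᶜ)ᶜ :=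
      ((hU₁'.isConstructible hU₁).inter (hV₁'.isConstructible hV₁).compl).compl
    exact hy (U₁ ∩ V₁ᶜ)ᶜ ⟨hC, fun z hz hz' => hsub hz' hz⟩ hyUV

/-- If every point has a spectral open neighbourhood on which `E` is closed for the constructible
topology, then `E` is pro-constructible. -/
theorem isProConstructible_of_forall_exists_specOpen {E : Set X}
    (h : ∀ x, ∃ W, SpecOpen W ∧ x ∈ W ∧ IsClosed[constructibleTopology W] (W ↓∩ E)) :
    IsProConstructible E := by
  intro x
  obtain ⟨W, hW, hxW, hcl⟩ := h x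
  have := hW.compactSpace
  have := hW.quasiSeparatedSpace
  exact ⟨W, hW.1, hxW, {C : Set W | IsConstructible C ∧ W ↓∩ E ⊆ C},
    fun C hC => hC.1.isLocallyConstructible, eq_sInter_of_isClosed_constructible hcl⟩

theorem isOpen_constructible_of_isIndConstructible [QuasiSober X] [PrespectralSpace X]
    {E : Set X} (hE : IsIndConstructible E) {W : Set X} (hW : SpecOpen W) :
    IsOpen[constructibleTopology W] (W ↓∩ E) := by
  have h := isClosed_constructible_of_isProConstructible ((isIndConstructible_iff_compl E).mp hE) hW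
  rw [preimage_compl] at h
  exact (@isClosed_compl_iff W (constructibleTopology W) _).mp h

theorem isIndConstructible_of_forall_exists_specOpen {E : Set X}
    (h : ∀ x, ∃ W, SpecOpen W ∧ x ∈ W ∧ IsOpen[constructibleTopology W] (W ↓∩ E)) :
    IsIndConstructible E := by
  rw [isIndConstructible_iff_compl]
  apply isProConstructible_of_forall_exists_specOpen
  intro x
  obtain ⟨W, hW, hxW, hop⟩ := h x
  refine ⟨W, hW, hxW, ?_⟩
  rw [preimage_compl]
  exact (@isClosed_compl_iff W (constructibleTopology W) _).mpr hop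

section scheme

open AlgebraicGeometry CategoryTheory

variable {X Y : Scheme.{u}}

lemma exists_affine_nhds (x : X) {W : Set X} (hW : IsOpen W) (hx : x ∈ W) :
    ∃ U : X.Opens, IsAffineOpen U ∧ x ∈ U ∧ (U : Set X) ⊆ W := by
  obtain ⟨U, hU, hxU, hUW⟩ := (Opens.isBasis_iff_nbhd.mp X.isBasis_affineOpens)
    (show x ∈ (⟨W, hW⟩ : X.Opens) from hx)
  exact ⟨U, hU, hxU, hUW⟩

lemma specOpen_of_isAffineOpen {U : X.Opens} (hU : IsAffineOpen U) : SpecOpen (U : Set X) :=
  ⟨U.2, hU.isCompact, hU.isQuasiSeparated⟩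

lemma resLE_spectral (f : X ⟶ Y) {U : X.Opens} {V : Y.Opens} (hU : IsAffineOpen U)
    (hV : IsAffineOpen V) (e : MapsTo f (U : Set X) (V : Set Y)) :
    IsSpectralMap (Set.MapsTo.restrict f (U : Set X) (V : Set Y) e) := by
  have : IsAffine U.toScheme := hU
  have : IsAffine V.toScheme := hV
  have e' : U ≤ f ⁻¹ᵁ V := e
  have h := (f.resLE V U e').isSpectralMap
  have heq : (Set.MapsTo.restrict f (U : Set X) (V : Set Y) e) = (f.resLE V U e' : U → V) := by
    funext x
    apply Subtype.ext
    exact (Scheme.Hom.coe_resLE_apply f e' x).symm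
  rw [heq]
  exact h

theorem isProConstructible_image (f : X ⟶ Y) [QuasiCompact f] {E : Set X}
    (hE : IsProConstructible E) : IsProConstructible (f '' E) := by
  apply isProConstructible_of_forall_exists_specOpen
  intro y
  obtain ⟨V, hV, hyV, -⟩ := exists_affine_nhds y isOpen_univ (mem_univ _)
  refine ⟨V, specOpen_of_isAffineOpen hV, hyV, ?_⟩
  obtain ⟨s, hs, hUs⟩ := (isCompact_and_isOpen_iff_finite_and_eq_biUnion_affineOpens (U := f ⁻¹' (V : Set Y))).mp
    ⟨QuasiCompact.isCompact_preimage _ V.2 hV.isCompact, V.2.preimage f.continuous⟩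
  have hsub : ∀ i : s, MapsTo f (i.1.1 : Set X) (V : Set Y) := by
    intro i x hx
    have : x ∈ f ⁻¹' (V : Set Y) := by
      rw [hUs]
      exact mem_biUnion i.2 hx
    exact this
  have key : (V : Set Y) ↓∩ (f '' E) =
      ⋃ i : s, (MapsTo.restrict f (i.1.1 : Set X) (V : Set Y) (hsub i)) '' ((i.1.1 : Set X) ↓∩ E) := by
    ext ⟨v, hv⟩
    simp only [mem_preimage, mem_image, mem_iUnion]
    constructor
    · rintro ⟨x, hxE, hxv⟩
      have hx : x ∈ f ⁻¹' (V : Set Y) := by
        show f x ∈ (V : Set Y)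
        rw [hxv]; exact hv
      rw [hUs] at hx
      obtain ⟨i, hi, hxi⟩ := mem_iUnion₂.mp hx
      exact ⟨⟨i, hi⟩, ⟨x, hxi⟩, hxE, Subtype.ext hxv⟩
    · rintro ⟨i, ⟨x, hxi⟩, hxE, hxv⟩
      exact ⟨x, hxE, congrArg Subtype.val hxv⟩
  rw [key]
  have : Finite s := hs.to_subtype
  apply @isClosed_iUnion_of_finite _ _ (constructibleTopology V)
  intro i
  have hUi := specOpen_of_isAffineOpen i.1.2
  have hVs := specOpen_of_isAffineOpen hV
  have := hUi.compactSpace
  have := hUi.quasiSeparatedSpace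
  have := hUi.quasiSober
  have := hUi.prespectralSpace
  have := hVs.prespectralSpace
  exact isClosedMap_constructible_of_isSpectralMap (resLE_spectral f i.1.2 hV (hsub i)) _
    (isClosed_constructible_of_isProConstructible hE hUi)

lemma restrict_eq_resLE (f : X ⟶ Y) {U : X.Opens} {V : Y.Opens}
    (e : MapsTo f (U : Set X) (V : Set Y)) :
    (Set.MapsTo.restrict f (U : Set X) (V : Set Y) e) =
      (f.resLE V U (show U ≤ f ⁻¹ᵁ V from e) : U → V) := by
  funext x
  apply Subtype.ext
  exact (Scheme.Hom.coe_resLE_apply f (show U ≤ f ⁻¹ᵁ V from e) x).symm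

lemma resLE_isConstructible_image (f : X ⟶ Y) [LocallyOfFinitePresentation f] {U : X.Opens}
    {V : Y.Opens} (hU : IsAffineOpen U) (hV : IsAffineOpen V)
    (e : MapsTo f (U : Set X) (V : Set Y)) {C : Set U} (hC : IsConstructible C) :
    IsConstructible (Set.MapsTo.restrict f (U : Set X) (V : Set Y) e '' C) := by
  have : IsAffine U.toScheme := hU
  have : IsAffine V.toScheme := hV
  rw [restrict_eq_resLE]
  exact (f.resLE V U (show U ≤ f ⁻¹ᵁ V from e)).isConstructible_image hC

theorem isIndConstructible_image (f : X ⟶ Y) [LocallyOfFinitePresentation f] {E : Set X}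
    (hE : IsIndConstructible E) : IsIndConstructible (f '' E) := by
  apply isIndConstructible_of_forall_exists_specOpen
  intro y
  obtain ⟨V, hV, hyV, -⟩ := exists_affine_nhds y isOpen_univ (mem_univ _)
  have hVs := specOpen_of_isAffineOpen hV
  refine ⟨V, hVs, hyV, ?_⟩
  rw [@isOpen_iff_forall_mem_open (V : Set Y) (constructibleTopology (V : Set Y))]
  rintro ⟨v, hv⟩ ⟨x, hxE, hxv⟩
  have hxV : x ∈ f ⁻¹' (V : Set Y) := by
    show f x ∈ (V : Set Y)
    rw [hxv]; exact hv
  obtain ⟨U, hU, hxU, hUV⟩ := exists_affine_nhds x (V.2.preimage f.continuous) hxV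
  have hUs := specOpen_of_isAffineOpen hU
  have := hUs.compactSpace
  have := hUs.quasiSeparatedSpace
  have := hVs.compactSpace
  have hop := isOpen_constructible_of_isIndConstructible hE hUs
  obtain ⟨U₁, V₁, hU₁, hU₁', hV₁, hV₁', hyUV, hsub⟩ :=
    exists_compact_open_of_isOpen_constructibleTopology hop
      (show (⟨x, hxU⟩ : (U : Set X)) ∈ (U : Set X) ↓∩ E from hxE)
  have hC : IsConstructible (U₁ ∩ V₁ᶜ) :=
    (hU₁'.isConstructible hU₁).inter (hV₁'.isConstructible hV₁).compl
  have hC' := resLE_isConstructible_image f hU hV hUV hC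
  refine ⟨_, ?_, (isClopen_constructible_of_isConstructible hC').2,
    ⟨⟨x, hxU⟩, hyUV, Subtype.ext hxv⟩⟩
  rintro _ ⟨⟨z, hz⟩, hzC, rfl⟩
  exact ⟨z, hsub hzC, rfl⟩

lemma isIndConstructible_of_isLocallyConstructible {Z : Type u} [TopologicalSpace Z] {E : Set Z}
    (hE : IsLocallyConstructible E) : IsIndConstructible E := by
  intro x
  obtain ⟨U, hxU, hU, hc⟩ := hE x
  exact ⟨U, hU, mem_of_mem_nhds hxU, {U ↓∩ E},
    fun T hT => by rw [mem_singleton_iff.mp hT]; exact hc.isLocallyConstructible,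
    (sUnion_singleton _).symm⟩

lemma isProConstructible_of_isLocallyConstructible {Z : Type u} [TopologicalSpace Z] {E : Set Z}
    (hE : IsLocallyConstructible E) : IsProConstructible E := by
  intro x
  obtain ⟨U, hxU, hU, hc⟩ := hE x
  exact ⟨U, hU, mem_of_mem_nhds hxU, {U ↓∩ E},
    fun T hT => by rw [mem_singleton_iff.mp hT]; exact hc.isLocallyConstructible,
    (sInter_singleton _).symm⟩

theorem isLocallyConstructible_iff_ind_pro (E : Set X) :
    IsLocallyConstructible E ↔ IsIndConstructible E ∧ IsProConstructible E := by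
  refine ⟨fun h => ⟨isIndConstructible_of_isLocallyConstructible h,
    isProConstructible_of_isLocallyConstructible h⟩, fun ⟨hi, hp⟩ x => ?_⟩
  obtain ⟨V, hV, hxV, -⟩ := exists_affine_nhds x isOpen_univ (mem_univ _)
  have hVs := specOpen_of_isAffineOpen hV
  have := hVs.compactSpace
  have := hVs.quasiSeparatedSpace
  have := hVs.quasiSober
  have := hVs.prespectralSpace
  exact ⟨V, V.2.mem_nhds hxV, V.2, isConstructible_of_isClopen_constructible
    ⟨isClosed_constructible_of_isProConstructible hp hVs,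
      isOpen_constructible_of_isIndConstructible hi hVs⟩⟩

section top
variable {Z : Type u} [TopologicalSpace Z]

theorem exists_finset_biInter_subset [CompactSpace Z] [QuasiSober Z] [PrespectralSpace Z]
    [QuasiSeparatedSpace Z] {ι : Type*} (F : ι → Set Z)
    (hF : ∀ i, IsClosed[constructibleTopology Z] (F i)) (E : Set Z)
    (hE : IsOpen[constructibleTopology Z] E) (h : ⋂ i, F i ⊆ E) :
    ∃ J : Finset ι, ⋂ i ∈ J, F i ⊆ E := by
  have hcs : @CompactSpace Z (constructibleTopology Z) := compactSpace_constructible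
  have hEc : @IsCompact Z (constructibleTopology Z) Eᶜ :=
    @IsClosed.isCompact Z (constructibleTopology Z) Eᶜ hcs
      ((@isClosed_compl_iff Z (constructibleTopology Z) E).mpr hE)
  obtain ⟨J, hJ⟩ := @IsCompact.elim_finite_subfamily_closed Z (constructibleTopology Z) Eᶜ ι hEc F hF
    (by
      rw [← disjoint_iff_inter_eq_empty, disjoint_compl_left_iff_subset]
      exact h)
  refine ⟨J, ?_⟩
  rw [← disjoint_iff_inter_eq_empty, disjoint_compl_left_iff_subset] at hJ
  exact hJ

end top

theorem mem_interior_iff_of_isIndConstructible {E : Set X} (hE : IsIndConstructible E) (x : X) :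
    x ∈ interior E ↔ ∀ x' : X, x' ⤳ x → x' ∈ E := by
  constructor
  · intro hx x' hx'
    exact interior_subset (hx'.mem_open isOpen_interior hx)
  · intro h
    obtain ⟨V, hV, hxV, -⟩ := exists_affine_nhds x isOpen_univ (mem_univ _)
    have hVs := specOpen_of_isAffineOpen hV
    have := hVs.compactSpace
    have := hVs.quasiSeparatedSpace
    have := hVs.quasiSober
    have := hVs.prespectralSpace
    have hop := isOpen_constructible_of_isIndConstructible hE hVs
    let x₀ : (V : Set X) := ⟨x, hxV⟩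
    let I := {U : Set (V : Set X) // IsOpen U ∧ IsCompact U ∧ ({x₀} : Set _) ⊆ U}
    have hgen := generalizations_eq_sInter (X := (V : Set X)) (E := {x₀}) isCompact_singleton
    have hsub : ⋂ i : I, i.1 ⊆ (V : Set X) ↓∩ E := by
      intro z hz
      have hz' : z ∈ ⋂₀ {U : Set (V : Set X) | IsOpen U ∧ IsCompact U ∧ ({x₀} : Set _) ⊆ U} := by
        intro U hU
        exact mem_iInter.mp hz ⟨U, hU⟩
      rw [← hgen] at hz'
      obtain ⟨e, he, hze⟩ := hz'
      rw [mem_singleton_iff.mp he] at hze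
      exact h z.1 (hze.map continuous_subtype_val)
    obtain ⟨J, hJ⟩ := exists_finset_biInter_subset (fun i : I => i.1)
      (fun i => isClosed_constructible_of_isOpen_isCompact i.2.1 i.2.2.1) _ hop hsub
    rw [mem_interior]
    refine ⟨Subtype.val '' (⋂ i ∈ J, i.1), ?_, ?_, ?_⟩
    · rintro _ ⟨z, hz, rfl⟩
      exact hJ hz
    · apply V.2.isOpenMap_subtype_val
      exact isOpen_biInter_finset fun i _ => i.2.1
    · refine ⟨x₀, ?_, rfl⟩
      exact mem_iInter₂.mpr fun i _ => i.2.2.2 rfl

theorem exists_finset_biInter_subset_scheme [CompactSpace X] {E : Set X}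
    (hE : IsIndConstructible E) {ι : Type*} (F : ι → Set X)
    (hF : ∀ i, IsProConstructible (F i)) (h : ⋂ i, F i ⊆ E) :
    ∃ J : Finset ι, ⋂ i ∈ J, F i ⊆ E := by
  classical
  obtain ⟨s, hs, hUs⟩ := (isCompact_and_isOpen_iff_finite_and_eq_biUnion_affineOpens
    (U := (univ : Set X))).mp ⟨isCompact_univ, isOpen_univ⟩
  have key : ∀ V : X.affineOpens, ∃ J : Finset ι, ⋂ i ∈ J, (V.1 : Set X) ↓∩ F i ⊆ (V.1 : Set X) ↓∩ E := by
    intro V
    have hVs := specOpen_of_isAffineOpen V.2
    have := hVs.compactSpace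
    have := hVs.quasiSeparatedSpace
    have := hVs.quasiSober
    have := hVs.prespectralSpace
    apply exists_finset_biInter_subset (fun i => (V.1 : Set X) ↓∩ F i)
      (fun i => isClosed_constructible_of_isProConstructible (hF i) hVs) _
      (isOpen_constructible_of_isIndConstructible hE hVs)
    intro z hz
    apply h
    exact mem_iInter.mpr fun i => mem_iInter.mp hz i
  choose J hJ using key
  refine ⟨hs.toFinset.biUnion J, ?_⟩
  intro z hz
  have hzu : z ∈ (univ : Set X) := mem_univ z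
  rw [hUs] at hzu
  obtain ⟨V, hVs, hzV⟩ := mem_iUnion₂.mp hzu
  have : (⟨z, hzV⟩ : (V.1 : Set X)) ∈ ⋂ i ∈ J V, (V.1 : Set X) ↓∩ F i := by
    refine mem_iInter₂.mpr fun i hi => ?_
    exact mem_iInter₂.mp hz i (Finset.mem_biUnion.mpr ⟨V, hs.mem_toFinset.mpr hVs, hi⟩)
  exact hJ V this

theorem nhds_in_closure_of_isIndConstructible {E : Set X} (hE : IsIndConstructible E)
    {x : X} (hx : x ∈ E) :
    (Subtype.val ⁻¹' E : Set ↥(closure ({x} : Set X))) ∈
      nhds (⟨x, subset_closure rfl⟩ : ↥(closure ({x} : Set X))) := by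
  obtain ⟨V, hV, hxV, -⟩ := exists_affine_nhds x isOpen_univ (mem_univ _)
  have hVs := specOpen_of_isAffineOpen hV
  have := hVs.compactSpace
  have := hVs.quasiSeparatedSpace
  have hop := isOpen_constructible_of_isIndConstructible hE hVs
  obtain ⟨U₁, V₁, hU₁, hU₁', hV₁, hV₁', hyUV, hsub⟩ :=
    exists_compact_open_of_isOpen_constructibleTopology hop
      (show (⟨x, hxV⟩ : (V : Set X)) ∈ (V : Set X) ↓∩ E from hx)
  rw [mem_nhds_subtype]
  refine ⟨Subtype.val '' U₁, (V.2.isOpenMap_subtype_val _ hU₁).mem_nhds ⟨_, hyUV.1, rfl⟩, ?_⟩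
  rintro ⟨z, hz⟩ ⟨z', hz'U, hzz'⟩
  have hz'V : z' ∉ V₁ := by
    intro hcon
    have hspec : x ⤳ z := specializes_iff_mem_closure.mpr hz
    have hO : IsOpen (Subtype.val '' V₁ : Set X) := V.2.isOpenMap_subtype_val _ hV₁
    have : x ∈ (Subtype.val '' V₁ : Set X) := hspec.mem_open hO ⟨z', hcon, hzz'⟩
    obtain ⟨w, hw, hwx⟩ := this
    apply hyUV.2
    have : w = ⟨x, hxV⟩ := Subtype.ext hwx
    rw [← this]; exact hw
  have := hsub ⟨hz'U, hz'V⟩
  show z ∈ E
  simp only [mem_preimage] at this
  have h2 : (z' : X) = z := hzz'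
  rw [← h2]; exact this

theorem isIndConstructible_of_nhds_in_closure [IsLocallyNoetherian X] {E : Set X}
    (h : ∀ x ∈ E, (Subtype.val ⁻¹' E : Set ↥(closure ({x} : Set X))) ∈
      nhds (⟨x, subset_closure rfl⟩ : ↥(closure ({x} : Set X)))) :
    IsIndConstructible E := by
  apply isIndConstructible_of_forall_exists_specOpen
  intro x
  obtain ⟨V, hV, hxV, -⟩ := exists_affine_nhds x isOpen_univ (mem_univ _)
  have hVs := specOpen_of_isAffineOpen hV
  refine ⟨V, hVs, hxV, ?_⟩
  have := hVs.compactSpace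
  have := hVs.quasiSeparatedSpace
  have : IsNoetherianRing Γ(X, V) := IsLocallyNoetherian.component_noetherian ⟨V, hV⟩
  have hN : NoetherianSpace (V : Set X) := noetherianSpace_of_isAffineOpen V hV
  rw [@isOpen_iff_forall_mem_open (V : Set X) (constructibleTopology (V : Set X))]
  rintro ⟨z, hzV⟩ hzE
  have hz := h z hzE
  rw [mem_nhds_subtype] at hz
  obtain ⟨u, hu, husub⟩ := hz
  obtain ⟨u', hu'u, hu'o, hzu'⟩ := mem_nhds_iff.mp hu
  have hretro : ∀ s : Set (V : Set X), IsRetrocompact s :=
    fun s t _ _ => NoetherianSpace.isCompact _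
  have ho1 : IsOpen ((V : Set X) ↓∩ u') := hu'o.preimage continuous_subtype_val
  have hC1 : IsConstructible ((V : Set X) ↓∩ u') := (hretro _).isConstructible ho1
  have hC2 : IsConstructible ((V : Set X) ↓∩ closure {z}) := by
    have hc2 : IsClosed ((V : Set X) ↓∩ closure {z}) :=
      isClosed_closure.preimage continuous_subtype_val
    have : IsConstructible ((V : Set X) ↓∩ closure {z})ᶜ :=
      (hretro _).isConstructible (isOpen_compl_iff.mpr hc2)
    simpa using this.compl
  have hC := hC1.inter hC2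
  refine ⟨_, ?_, (isClopen_constructible_of_isConstructible hC).2,
    ⟨hzu', subset_closure rfl⟩⟩
  rintro ⟨w, hwV⟩ ⟨hwu, hwc⟩
  exact husub (show (⟨w, hwc⟩ : ↥(closure ({z} : Set X))) ∈ Subtype.val ⁻¹' u from hu'u hwu)

theorem isIndConstructible_of_isOpen {U : Set X} (hU : IsOpen U) : IsIndConstructible U := by
  apply isIndConstructible_of_forall_exists_specOpen
  intro x
  obtain ⟨V, hV, hxV, -⟩ := exists_affine_nhds x isOpen_univ (mem_univ _)
  have hVs := specOpen_of_isAffineOpen hV
  have := hVs.prespectralSpace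
  have ho : IsOpen ((V : Set X) ↓∩ U) := hU.preimage continuous_subtype_val
  exact ⟨V, hVs, hxV, isOpen_constructible_of_isOpen ho⟩

theorem isProConstructible_of_isClosed {Z : Set X} (hZ : IsClosed Z) : IsProConstructible Z := by
  have := isIndConstructible_of_isOpen hZ.isOpen_compl
  rw [isIndConstructible_iff_compl, compl_compl] at this
  exact this

theorem exists_generization_lift (f : X ⟶ Y) (x : X) (hf : ∀ U ∈ 𝓝 x, f.base '' U ∈ 𝓝 (f.base x))
    (y' : Y) (hy' : y' ⤳ f.base x) : ∃ x' : X, x' ⤳ x ∧ f.base x' = y' := by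
  obtain ⟨V, hV, hyV, -⟩ := exists_affine_nhds (f.base x) isOpen_univ (mem_univ _)
  obtain ⟨U, hU, hxU, hUV⟩ := exists_affine_nhds x (V.2.preimage f.continuous) hyV
  have hUs := specOpen_of_isAffineOpen hU
  have hVs := specOpen_of_isAffineOpen hV
  have := hUs.compactSpace
  have := hUs.quasiSeparatedSpace
  have := hUs.quasiSober
  have := hUs.prespectralSpace
  have := hVs.prespectralSpace
  have hy'V : y' ∈ (V : Set Y) := hy'.mem_open V.2 hyV
  let g := MapsTo.restrict f (U : Set X) (V : Set Y) hUV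
  have hg : IsSpectralMap g := resLE_spectral f hU hV hUV
  let x₀ : (U : Set X) := ⟨x, hxU⟩
  let y₀ : (V : Set Y) := ⟨y', hy'V⟩
  have hT2 : @T2Space (V : Set Y) (constructibleTopology (V : Set Y)) := t2Space_constructible
  have hcl : IsClosed[constructibleTopology (U : Set X)] (g ⁻¹' {y₀}) := by
    have h1 : IsClosed[constructibleTopology (V : Set Y)] ({y₀} : Set (V : Set Y)) :=
      @isClosed_singleton _ (constructibleTopology (V : Set Y)) _ y₀
    exact @IsClosed.preimage _ _ (constructibleTopology (U : Set X))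
      (constructibleTopology (V : Set Y)) g (continuous_constructible_of_isSpectralMap hg) _ h1
  let I := {W : Set (U : Set X) // IsOpen W ∧ IsCompact W ∧ ({x₀} : Set _) ⊆ W}
  have hgen := generalizations_eq_sInter (X := (U : Set X)) (E := {x₀}) isCompact_singleton
  by_contra hcon
  push Not at hcon
  have hsub : ⋂ i : I, i.1 ⊆ (g ⁻¹' {y₀})ᶜ := by
    intro z hz hzy
    have hz' : z ∈ ⋂₀ {W : Set (U : Set X) | IsOpen W ∧ IsCompact W ∧ ({x₀} : Set _) ⊆ W} := by
      intro W hW
      exact mem_iInter.mp hz ⟨W, hW⟩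
    rw [← hgen] at hz'
    obtain ⟨e, he, hze⟩ := hz'
    rw [mem_singleton_iff.mp he] at hze
    apply hcon z.1 (hze.map continuous_subtype_val)
    exact congrArg Subtype.val (mem_singleton_iff.mp hzy)
  obtain ⟨J, hJ⟩ := exists_finset_biInter_subset (fun i : I => i.1)
    (fun i => isClosed_constructible_of_isOpen_isCompact i.2.1 i.2.2.1) _
    ((@isOpen_compl_iff _ _ (constructibleTopology (U : Set X))).mpr hcl) hsub
  -- the finite intersection is an open nbhd of x₀
  have hopen : IsOpen (⋂ i ∈ J, i.1 : Set (U : Set X)) := isOpen_biInter_finset fun i _ => i.2.1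
  have hx₀ : x₀ ∈ (⋂ i ∈ J, i.1 : Set (U : Set X)) := mem_iInter₂.mpr fun i _ => i.2.2.2 rfl
  have hN : (Subtype.val '' (⋂ i ∈ J, i.1 : Set (U : Set X)) : Set X) ∈ 𝓝 x :=
    (U.2.isOpenMap_subtype_val _ hopen).mem_nhds ⟨x₀, hx₀, rfl⟩
  have hfN := hf _ hN
  have hy'N : y' ∈ f.base '' (Subtype.val '' (⋂ i ∈ J, i.1 : Set (U : Set X)) : Set X) :=
    mem_of_mem_nhds (hy' hfN)
  obtain ⟨_, ⟨z, hz, rfl⟩, hzy⟩ := hy'N
  exact hJ hz (show g z ∈ ({y₀} : Set _) from Subtype.ext hzy)

theorem isOpenAt_of_generization_lift (f : X ⟶ Y) [LocallyOfFinitePresentation f] (x : X)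
    (h : ∀ y' : Y, y' ⤳ f.base x → ∃ x' : X, x' ⤳ x ∧ f.base x' = y') :
    ∀ U ∈ 𝓝 x, f.base '' U ∈ 𝓝 (f.base x) := by
  intro N hN
  obtain ⟨U, hUN, hU, hxU⟩ := mem_nhds_iff.mp hN
  have hind : IsIndConstructible (f '' U) :=
    isIndConstructible_image f (isIndConstructible_of_isOpen hU)
  have hint : f.base x ∈ interior (f '' U) := by
    rw [mem_interior_iff_of_isIndConstructible hind]
    intro y' hy'
    obtain ⟨x', hx', hfx'⟩ := h y' hy'
    exact ⟨x', hx'.mem_open hU hxU, hfx'⟩
  exact Filter.mem_of_superset (mem_interior_iff_mem_nhds.mp hint) (image_mono hUN)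

end scheme

end Groth.Agent.Lib.Helper17.ProConsLib
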