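import Groth.Agent.Lib.Helper17.QcSec
import Groth.Agent.Lib.Helper3.StalkBij

/-!
# The comparison `H^i(Φ L) ⟶ Φ(H^i L)` for a left exact functor `Φ`, and `R f_*` on `D_QCoh` for affine `f`
-/

set_option autoImplicit false
universe w v u v' u'

open CategoryTheory Limits Opposite CochainComplex

namespace Groth.Agent.Lib.Helper17.PushCoh

open Groth.Agent.Lib.Helper17.SG1 Groth.Agent.Lib.Helper17.SG2 Groth.Agent.Lib.Helper17.RL1

section abstract

variable {A : Type u'} [Category.{v'} A] [Abelian A] {B : Type u} [Category.{v} B] [Abelian B]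
  (Φ : A ⥤ B) [Φ.Additive] [PreservesFiniteLimits Φ]

/-- `Φ` applied to a complex. -/
noncomputable abbrev ΦC (L : CochainComplex A ℤ) : CochainComplex B ℤ :=
  (Φ.mapHomologicalComplex (ComplexShape.up ℤ)).obj L

/-- `Z^i(Φ L) ≅ Φ(Z^i L)`. -/
noncomputable def κ (L : CochainComplex A ℤ) (i : ℤ) : (ΦC Φ L).cycles i ≅ Φ.obj (L.cycles i) :=
  IsLimit.conePointUniqueUpToIso ((ΦC Φ L).cyclesIsKernel i (i + 1) (by simp))
    (KernelFork.mapIsLimit _ (L.cyclesIsKernel i (i + 1) (by simp)) Φ)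

@[reassoc]
lemma κ_hom_iCycles (L : CochainComplex A ℤ) (i : ℤ) :
    (κ Φ L i).hom ≫ Φ.map (L.iCycles i) = (ΦC Φ L).iCycles i :=
  IsLimit.conePointUniqueUpToIso_hom_comp ((ΦC Φ L).cyclesIsKernel i (i + 1) (by simp))
    (KernelFork.mapIsLimit _ (L.cyclesIsKernel i (i + 1) (by simp)) Φ) WalkingParallelPair.zero

instance (L : CochainComplex A ℤ) (i : ℤ) : Mono (Φ.map (L.iCycles i)) := inferInstance

lemma toCycles_κ (L : CochainComplex A ℤ) (i j : ℤ) :
    (ΦC Φ L).toCycles i j ≫ (κ Φ L j).hom = Φ.map (L.toCycles i j) := by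
  rw [← cancel_mono (Φ.map (L.iCycles j))]
  have h1 : ((ΦC Φ L).toCycles i j ≫ (κ Φ L j).hom) ≫ Φ.map (L.iCycles j) = (ΦC Φ L).d i j := by
    rw [Category.assoc, κ_hom_iCycles]
    exact HomologicalComplex.toCycles_i _ _ _
  have h2 : Φ.map (L.toCycles i j) ≫ Φ.map (L.iCycles j) = Φ.map (L.d i j) := by
    rw [← Φ.map_comp, HomologicalComplex.toCycles_i]
  exact h1.trans h2.symm

lemma map_toCycles_homologyπ (L : CochainComplex A ℤ) (i j : ℤ) :
    Φ.map (L.toCycles i j) ≫ Φ.map (L.homologyπ j) = 0 := by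
  rw [← Φ.map_comp, HomologicalComplex.toCycles_comp_homologyπ, Φ.map_zero]

/-- the comparison `H^i(Φ L) ⟶ Φ(H^i L)`. -/
noncomputable def cmp (L : CochainComplex A ℤ) (i : ℤ) :
    (ΦC Φ L).homology i ⟶ Φ.obj (L.homology i) :=
  ((ΦC Φ L).homologyIsCokernel (i - 1) i (by simp)).desc
    (CokernelCofork.ofπ ((κ Φ L i).hom ≫ Φ.map (L.homologyπ i)) (by
      rw [← Category.assoc, toCycles_κ]
      exact map_toCycles_homologyπ Φ L (i - 1) i))

@[reassoc]
lemma π_cmp (L : CochainComplex A ℤ) (i : ℤ) :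
    (ΦC Φ L).homologyπ i ≫ cmp Φ L i = (κ Φ L i).hom ≫ Φ.map (L.homologyπ i) :=
  Cofork.IsColimit.π_desc ((ΦC Φ L).homologyIsCokernel (i - 1) i (by simp))

lemma cyclesMap_κ {L L' : CochainComplex A ℤ} (ψ : L ⟶ L') (i : ℤ) :
    HomologicalComplex.cyclesMap ((Φ.mapHomologicalComplex (ComplexShape.up ℤ)).map ψ) i ≫
      (κ Φ L' i).hom = (κ Φ L i).hom ≫ Φ.map (HomologicalComplex.cyclesMap ψ i) := by
  rw [← cancel_mono (Φ.map (L'.iCycles i))]
  have h1 : (HomologicalComplex.cyclesMap ((Φ.mapHomologicalComplex (ComplexShape.up ℤ)).map ψ) i ≫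
      (κ Φ L' i).hom) ≫ Φ.map (L'.iCycles i) = (ΦC Φ L).iCycles i ≫ Φ.map (ψ.f i) := by
    rw [Category.assoc, κ_hom_iCycles]
    exact HomologicalComplex.cyclesMap_i _ _
  have h2 : ((κ Φ L i).hom ≫ Φ.map (HomologicalComplex.cyclesMap ψ i)) ≫ Φ.map (L'.iCycles i) =
      (ΦC Φ L).iCycles i ≫ Φ.map (ψ.f i) := by
    rw [Category.assoc, ← Φ.map_comp, HomologicalComplex.cyclesMap_i, Φ.map_comp,
      κ_hom_iCycles_assoc]
    rfl
  exact h1.trans h2.symm

/-- naturality of the comparison. -/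
lemma cmp_naturality {L L' : CochainComplex A ℤ} (ψ : L ⟶ L') (i : ℤ) :
    HomologicalComplex.homologyMap ((Φ.mapHomologicalComplex (ComplexShape.up ℤ)).map ψ) i ≫
      cmp Φ L' i = cmp Φ L i ≫ Φ.map (HomologicalComplex.homologyMap ψ i) := by
  rw [← cancel_epi ((ΦC Φ L).homologyπ i), HomologicalComplex.homologyπ_naturality_assoc, π_cmp,
    π_cmp_assoc, ← Φ.map_comp, HomologicalComplex.homologyπ_naturality, Φ.map_comp,
    ← Category.assoc, cyclesMap_κ, Category.assoc]

section transfer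

variable (G : B) (G' : A) (e : ∀ M : A, (G ⟶ Φ.obj M) ≃ (G' ⟶ M))
  (he : ∀ {M N : A} (σ : G ⟶ Φ.obj M) (φ : M ⟶ N), e N (σ ≫ Φ.map φ) = e M σ ≫ φ)
  (hadd : ∀ (M : A) (σ τ : G ⟶ Φ.obj M), e M (σ + τ) = e M σ + e M τ)

include he hadd in
lemma e_cycle (L : CochainComplex A ℤ) (i : ℤ) (y : G ⟶ Φ.obj (L.X i))
    (hy : y ≫ (ΦC Φ L).d i (i + 1) = 0) : e _ y ≫ L.d i (i + 1) = 0 := by
  rw [← he y (L.d i (i + 1))]
  exact (congrArg (e _) hy).trans (Groth.Agent.Lib.Helper17.SecQis.e_zero Φ G G' e hadd _)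

include he hadd in
lemma e_symm_cycle (L : CochainComplex A ℤ) (i : ℤ) (y' : G' ⟶ L.X i)
    (hy' : y' ≫ L.d i (i + 1) = 0) : (e (L.X i)).symm y' ≫ (ΦC Φ L).d i (i + 1) = 0 := by
  have h1 : e (L.X (i + 1)) ((e (L.X i)).symm y' ≫ Φ.map (L.d i (i + 1))) = e (L.X (i + 1)) 0 := by
    rw [he, Equiv.apply_symm_apply, hy', Groth.Agent.Lib.Helper17.SecQis.e_zero Φ G G' e hadd]
  exact (e (L.X (i + 1))).injective h1

include he hadd in
/-- the comparison sends the class of a cocycle to the class of the corresponding cocycle. -/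
lemma hcls_cmp (L : CochainComplex A ℤ) (i : ℤ) (y : G ⟶ Φ.obj (L.X i))
    (hy : y ≫ (ΦC Φ L).d i (i + 1) = 0) :
    e _ (hcls (ΦC Φ L) i y hy ≫ cmp Φ L i) =
      hcls L i (e _ y) (e_cycle Φ G G' e he hadd L i y hy) := by
  have h1 : hcls (ΦC Φ L) i y hy ≫ cmp Φ L i =
      ((ΦC Φ L).liftCycles y (i + 1) (by simp) hy ≫ (κ Φ L i).hom) ≫ Φ.map (L.homologyπ i) := by
    unfold hcls
    rw [Category.assoc, π_cmp, Category.assoc]
  rw [h1, he]
  unfold hcls
  congr 1
  rw [← cancel_mono (L.iCycles i), HomologicalComplex.liftCycles_i, ← he, Category.assoc,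
    κ_hom_iCycles]
  congr 1
  exact HomologicalComplex.liftCycles_i _ _ _ _ _

end transfer

end abstract

section scheme

open AlgebraicGeometry Groth.Agent.Lib.Helper17.SG7 Groth.Agent.Lib.Helper17.QcSec
open Groth.Agent.Lib.Helper17.RL10

variable {X S : Scheme.{u}} (f : X ⟶ S)

instance : PreservesFiniteLimits (Scheme.Modules.pushforward f) := by
  haveI : (Scheme.Modules.pushforward f).IsRightAdjoint :=
    (Scheme.Modules.pullbackPushforwardAdjunction f).isRightAdjoint
  infer_instance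

variable [IsAffineHom f]

/-- **`H^i(f_* I) ≅ f_* H^i(I)`** for `f` affine and `I` K-injective with quasi-coherent cohomology. -/
theorem isIso_cmp_pushforward (I : CochainComplex X.Modules ℤ) [I.IsKInjective]
    (hI : ∀ i : ℤ, (I.homology i).IsQuasicoherent) (i : ℤ) :
    IsIso (cmp (Scheme.Modules.pushforward f) I i) := by
  have he : ∀ (V : S.Opens) {M N : X.Modules}
      (σ : (schemeGens S).G V ⟶ (Scheme.Modules.pushforward f).obj M) (φ : M ⟶ N),
      pushEquiv f V N (σ ≫ (Scheme.Modules.pushforward f).map φ) = pushEquiv f V M σ ≫ φ :=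
    fun V _ _ σ φ => pushEquiv_comp f V σ φ
  have hadd : ∀ (V : S.Opens) (M : X.Modules)
      (σ τ : (schemeGens S).G V ⟶ (Scheme.Modules.pushforward f).obj M),
      pushEquiv f V M (σ + τ) = pushEquiv f V M σ + pushEquiv f V M τ :=
    fun V M σ τ => pushEquiv_add f V M σ τ
  have hB := exists_affine_cover S
  haveI : Mono (cmp (Scheme.Modules.pushforward f) I i) := by
    apply mono_of_local (schemeGens S) _ {V : S.Opens | IsAffineOpen V} hB
    intro V hV σ hσ
    obtain ⟨T, hT, hloc⟩ := (schemeGens S).exists_local_hcls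
      (ΦC (Scheme.Modules.pushforward f) I) i σ
    obtain ⟨ι, Yf, gf, hgT, hcov, hYB⟩ := exists_family_in_sieve _ hB V T hT
    apply (schemeGens S).sep σ _ hcov
    intro W k hk
    obtain ⟨_, k', _, ⟨j⟩, rfl⟩ := hk
    obtain ⟨y, hy, hσy⟩ := hloc (gf j) (hgT j)
    have h0 : hcls (ΦC (Scheme.Modules.pushforward f) I) i y hy = 0 := by
      have h1 : hcls (ΦC (Scheme.Modules.pushforward f) I) i y hy ≫
          cmp (Scheme.Modules.pushforward f) I i = 0 := by
        rw [← hσy, Category.assoc, hσ, comp_zero]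
      have h2 := hcls_cmp (Scheme.Modules.pushforward f) _ _ (pushEquiv f (Yf j)) (he (Yf j))
        (hadd (Yf j)) I i y hy
      rw [h1, Groth.Agent.Lib.Helper17.SecQis.e_zero (Scheme.Modules.pushforward f) _ _
        (pushEquiv f (Yf j)) (hadd (Yf j))] at h2
      obtain ⟨w', hw'⟩ := boundary_of_hcls_eq_zero (f ⁻¹ᵁ (Yf j)) (IsAffineOpen.preimage (hYB j) f)
        I hI i _ _ h2.symm
      apply hcls_eq_zero_of_boundary _ i y hy ((pushEquiv f (Yf j) _).symm w')
      apply (pushEquiv f (Yf j) _).injective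
      have h3 := he (Yf j) ((pushEquiv f (Yf j) _).symm w') (I.d (i - 1) i)
      rw [Equiv.apply_symm_apply] at h3
      exact h3.trans hw'
    rw [(schemeGens S).Gm_comp, Category.assoc, hσy, h0, comp_zero]
  haveI : Epi (cmp (Scheme.Modules.pushforward f) I i) := by
    apply epi_of_local (schemeGens S) _ {V : S.Opens | IsAffineOpen V} hB
    intro V hV σ
    refine ⟨⊤, (Opens.grothendieckTopology S).top_mem V, fun Y g _ => ?_⟩
    obtain ⟨y', hy', hσ'⟩ := exists_hcls_eq (f ⁻¹ᵁ V) (IsAffineOpen.preimage hV f) I hI i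
      (pushEquiv f V _ σ)
    have hy := e_symm_cycle (Scheme.Modules.pushforward f) _ _ (pushEquiv f V) (he V) (hadd V)
      I i y' hy'
    refine ⟨(schemeGens S).Gm g ≫ hcls (ΦC (Scheme.Modules.pushforward f) I) i _ hy, ?_⟩
    rw [Category.assoc]
    congr 1
    apply (pushEquiv f V _).injective
    rw [hcls_cmp (Scheme.Modules.pushforward f) _ _ (pushEquiv f V) (he V) (hadd V) I i _ hy,
      ← hσ']
    congr 1
    exact Equiv.apply_symm_apply _ _
  exact isIso_of_mono_of_epi _

omit [IsAffineHom f] in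
/-- a morphism of quasi-coherent modules which is bijective on sections over affine opens covering
`X` is an isomorphism. -/
theorem isIso_of_app_bijective {M N : X.Modules} [M.IsQuasicoherent] [N.IsQuasicoherent]
    (g : M ⟶ N)
    (h : ∀ x : X, ∃ U : X.Opens, IsAffineOpen U ∧ x ∈ U ∧ Function.Bijective (g.app U)) :
    IsIso g := by
  rw [Groth.Agent.Lib.Helper29.QCoh.isIso_iff_stalkMap_bijective]
  intro x
  obtain ⟨U, hU, hx, hb⟩ := h x
  exact Groth.Agent.Lib.Helper3.stalkMap_bijective_of_app_bijective g hU hb x hx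

omit [IsAffineHom f] in
lemma app_bijective_of_isIso {M N : X.Modules} (g : M ⟶ N) [IsIso g] (U : X.Opens) :
    Function.Bijective (g.app U) := by
  have h1 : g.app U ≫ (inv g).app U = 𝟙 _ := by
    rw [← Scheme.Modules.Hom.comp_app, IsIso.hom_inv_id]
    rfl
  have h2 : (inv g).app U ≫ g.app U = 𝟙 _ := by
    rw [← Scheme.Modules.Hom.comp_app, IsIso.inv_hom_id]
    rfl
  exact (ConcreteCategory.isIso_iff_bijective _).1 ⟨(inv g).app U, h1, h2⟩

/-- for `f` affine, `f_*` reflects isomorphisms between quasi-coherent modules. -/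
theorem isIso_of_isIso_pushforward_map {M N : X.Modules} [M.IsQuasicoherent] [N.IsQuasicoherent]
    (g : M ⟶ N) [IsIso ((Scheme.Modules.pushforward f).map g)] : IsIso g := by
  apply isIso_of_app_bijective
  intro x
  obtain ⟨_, ⟨V, hV : IsAffineOpen V, rfl⟩, hxV, -⟩ :=
    (S.isBasis_affineOpens).exists_subset_of_mem_open (Set.mem_univ (f.base x)) isOpen_univ
  refine ⟨f ⁻¹ᵁ V, IsAffineOpen.preimage hV f, hxV, ?_⟩
  exact app_bijective_of_isIso ((Scheme.Modules.pushforward f).map g) V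

/-- for `f` affine, `f_*` reflects quasi-isomorphisms between K-injective complexes with
quasi-coherent cohomology. -/
theorem quasiIso_of_quasiIso_pushforward {I I' : CochainComplex X.Modules ℤ} [I.IsKInjective]
    [I'.IsKInjective] (hI : ∀ i : ℤ, (I.homology i).IsQuasicoherent)
    (hI' : ∀ i : ℤ, (I'.homology i).IsQuasicoherent) (ψ : I ⟶ I')
    (h : QuasiIso (((Scheme.Modules.pushforward f).mapHomologicalComplex (ComplexShape.up ℤ)).map ψ)) :
    QuasiIso ψ := by
  rw [quasiIso_iff]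
  intro i
  rw [quasiIsoAt_iff_isIso_homologyMap]
  haveI := hI i
  haveI := hI' i
  haveI := isIso_cmp_pushforward f I hI i
  haveI := isIso_cmp_pushforward f I' hI' i
  haveI h1 : IsIso (HomologicalComplex.homologyMap
      (((Scheme.Modules.pushforward f).mapHomologicalComplex (ComplexShape.up ℤ)).map ψ) i) :=
    (quasiIsoAt_iff_isIso_homologyMap _ i).1 inferInstance
  have h2 := cmp_naturality (Scheme.Modules.pushforward f) ψ i
  haveI : IsIso ((Scheme.Modules.pushforward f).map (HomologicalComplex.homologyMap ψ i)) := by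
    have h3 : (Scheme.Modules.pushforward f).map (HomologicalComplex.homologyMap ψ i) =
        inv (cmp (Scheme.Modules.pushforward f) I i) ≫ HomologicalComplex.homologyMap
          (((Scheme.Modules.pushforward f).mapHomologicalComplex (ComplexShape.up ℤ)).map ψ) i ≫
          cmp (Scheme.Modules.pushforward f) I' i := by
      rw [h2, IsIso.inv_hom_id_assoc]
    rw [h3]
    infer_instance
  exact isIso_of_isIso_pushforward_map f _

/-- for `f` affine, `f_*` of a K-injective complex with quasi-coherent cohomology has quasi-coherent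
cohomology. -/
theorem isQuasicoherent_homology_pushforward (I : CochainComplex X.Modules ℤ) [I.IsKInjective]
    (hI : ∀ i : ℤ, (I.homology i).IsQuasicoherent) (i : ℤ) :
    ((ΦC (Scheme.Modules.pushforward f) I).homology i).IsQuasicoherent := by
  haveI := isIso_cmp_pushforward f I hI i
  haveI := hI i
  exact (SheafOfModules.isQuasicoherent S.ringCatSheaf).prop_of_iso
    (asIso (cmp (Scheme.Modules.pushforward f) I i)).symm
    (Groth.Agent.Lib.Helper29.QCoh.isQuasicoherent_pushforward_of_qcqs f _)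

end scheme

end Groth.Agent.Lib.Helper17.PushCoh
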