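import Mathlib
import Groth.Prelude.Def_ModSite

open CategoryTheory CategoryTheory.Limits Opposite

universe u

noncomputable section

namespace Groth.Agent.Lib.Helper17.ExtZeroP

variable {C : Type u} [SmallCategory C] (U : C) (R : Cᵒᵖ ⥤ RingCat.{u})

/-- the restriction of the presheaf of rings to `Over U` -/
abbrev RU : (Over U)ᵒᵖ ⥤ RingCat.{u} := (Over.forget U).op ⋙ R

variable {U R} (G : PresheafOfModules.{u} (RU U R))

/-- the summand of `j_! G (V)` indexed by `φ : V ⟶ U` -/
def smd (V : C) (φ : V ⟶ U) : ModuleCat.{u} (R.obj (op V)) := G.obj (op (Over.mk φ))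

/-- the sections of `j_! G` -/
def jObj (X : Cᵒᵖ) : ModuleCat.{u} (R.obj X) := ∐ (smd G X.unop)

/-- inclusion of a summand, on elements -/
def inj {V : C} (φ : V ⟶ U) (x : smd G V φ) : jObj G (op V) := (Sigma.ι (smd G V) φ).hom x

/-- restriction on summands -/
def smdMap {V V' : C} (f : V' ⟶ V) (φ : V ⟶ U) :
    smd G V φ ⟶ (ModuleCat.restrictScalars (R.map f.op).hom).obj (smd G V' (f ≫ φ)) :=
  G.map (Over.homMk f : Over.mk (f ≫ φ) ⟶ Over.mk φ).op

/-- the restriction maps of `j_! G` -/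
def jMap {X Y : Cᵒᵖ} (f : X ⟶ Y) :
    jObj G X ⟶ (ModuleCat.restrictScalars (R.map f).hom).obj (jObj G Y) :=
  Sigma.desc (fun φ => smdMap G f.unop φ ≫
    (ModuleCat.restrictScalars (R.map f).hom).map (Sigma.ι (smd G Y.unop) (f.unop ≫ φ)))

lemma jMap_inj {V V' : C} (f : V' ⟶ V) (φ : V ⟶ U) (x : smd G V φ) :
    (jMap G f.op).hom (inj G φ x) = inj G (f ≫ φ) ((smdMap G f φ).hom x) := by
  have := Sigma.ι_desc (fun φ => smdMap G f φ ≫
    (ModuleCat.restrictScalars (R.map f.op).hom).map (Sigma.ι (smd G V') (f ≫ φ))) φ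
  exact congrArg (fun k => k.hom x) this

lemma jObj_hom_ext {V : C} {M : ModuleCat.{u} (R.obj (op V))} {a b : jObj G (op V) ⟶ M}
    (h : ∀ (φ : V ⟶ U) (x : smd G V φ), a.hom (inj G φ x) = b.hom (inj G φ x)) : a = b := by
  apply Sigma.hom_ext
  intro φ
  ext x
  exact h φ x

/-- transport between summands with equal index -/
lemma inj_map_congr {V W : C} {φ : W ⟶ U} {ψ ψ' : V ⟶ U} (h : ψ = ψ')
    (k : Over.mk ψ ⟶ Over.mk φ) (k' : Over.mk ψ' ⟶ Over.mk φ) (hk : k.left = k'.left)
    (x : G.obj (op (Over.mk φ))) :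
    inj G ψ (G.map k.op x) = inj G ψ' (G.map k'.op x) := by
  subst h
  have : k = k' := Over.OverMorphism.ext hk
  rw [this]

lemma jMap_id_aux {V : C} (φ : V ⟶ U) (x : smd G V φ) :
    inj G (𝟙 V ≫ φ) ((smdMap G (𝟙 V) φ).hom x) = inj G φ x := by
  have h := inj_map_congr G (Category.id_comp φ)
    (Over.homMk (𝟙 V) : Over.mk (𝟙 V ≫ φ) ⟶ Over.mk φ) (𝟙 (Over.mk φ)) rfl x
  refine h.trans ?_
  congr 1
  have := G.map_id (op (Over.mk φ))
  rw [op_id, this]
  rfl

lemma jMap_comp_aux {V V' V'' : C} (f : V' ⟶ V) (g : V'' ⟶ V') (φ : V ⟶ U) (x : smd G V φ) :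
    inj G (g ≫ f ≫ φ) ((smdMap G g (f ≫ φ)).hom ((smdMap G f φ).hom x)) =
      inj G ((g ≫ f) ≫ φ) ((smdMap G (g ≫ f) φ).hom x) := by
  have h4 : (smdMap G g (f ≫ φ)).hom ((smdMap G f φ).hom x) =
      G.map ((Over.homMk f : Over.mk (f ≫ φ) ⟶ Over.mk φ).op ≫
        (Over.homMk g : Over.mk (g ≫ f ≫ φ) ⟶ Over.mk (f ≫ φ)).op) x :=
    (PresheafOfModules.map_comp_apply G (Over.homMk f : Over.mk (f ≫ φ) ⟶ Over.mk φ).op
      (Over.homMk g : Over.mk (g ≫ f ≫ φ) ⟶ Over.mk (f ≫ φ)).op x).symm
  refine (congrArg (inj G (g ≫ f ≫ φ)) h4).trans ?_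
  exact inj_map_congr G (Category.assoc _ _ _).symm
    ((Over.homMk g : Over.mk (g ≫ f ≫ φ) ⟶ Over.mk (f ≫ φ)) ≫
      (Over.homMk f : Over.mk (f ≫ φ) ⟶ Over.mk φ))
    (Over.homMk (g ≫ f) : Over.mk ((g ≫ f) ≫ φ) ⟶ Over.mk φ) rfl x

lemma jMap_jMap_inj {V V' V'' : C} (f : V' ⟶ V) (g : V'' ⟶ V') (φ : V ⟶ U) (x : smd G V φ) :
    (jMap G g.op).hom ((jMap G f.op).hom (inj G φ x)) =
      inj G (g ≫ f ≫ φ) ((smdMap G g (f ≫ φ)).hom ((smdMap G f φ).hom x)) := by
  rw [jMap_inj]
  exact jMap_inj G g (f ≫ φ) _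

/-- extension by zero of a presheaf of modules on `Over U` -/
def jP : PresheafOfModules.{u} R where
  obj X := jObj G X
  map f := jMap G f
  map_id X := by
    apply jObj_hom_ext
    intro φ x
    have h1 := jMap_inj G (𝟙 X.unop) φ x
    refine h1.trans ?_
    exact jMap_id_aux G φ x
  map_comp {X Y Z} f g := by
    apply jObj_hom_ext
    intro φ x
    have h1 := jMap_inj G (f ≫ g).unop φ x
    refine h1.trans ?_
    refine (jMap_comp_aux G f.unop g.unop φ x).symm.trans ?_
    exact (jMap_jMap_inj G f.unop g.unop φ x).symm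

lemma jP_map_inj {V V' : C} (f : V' ⟶ V) (φ : V ⟶ U) (x : smd G V φ) :
    ((jP G).map f.op).hom (inj G φ x) = inj G (f ≫ φ) ((smdMap G f φ).hom x) :=
  jMap_inj G f φ x

variable {G} {G' : PresheafOfModules.{u} (RU U R)}

/-- a morphism on summands -/
def smdHom (α : G ⟶ G') {V : C} (φ : V ⟶ U) : smd G V φ ⟶ smd G' V φ := α.app (op (Over.mk φ))

/-- functoriality of `jObj` -/
def jObjMap (α : G ⟶ G') (X : Cᵒᵖ) : jObj G X ⟶ jObj G' X :=
  Limits.Sigma.map (fun φ : X.unop ⟶ U => smdHom α φ)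

lemma jObjMap_inj (α : G ⟶ G') {V : C} (φ : V ⟶ U) (x : smd G V φ) :
    (jObjMap α (op V)).hom (inj G φ x) = inj G' φ ((smdHom α φ).hom x) := by
  have := Limits.Sigma.ι_map (fun φ : V ⟶ U => smdHom α φ) φ
  exact congrArg (fun k => k.hom x) this

/-- functoriality of `jP` -/
def jPMap (α : G ⟶ G') : jP G ⟶ jP G' where
  app X := jObjMap α X
  naturality {X Y} f := by
    apply jObj_hom_ext
    intro φ x
    show (jObjMap α Y).hom (((jP G).map f).hom (inj G φ x)) =
      ((jP G').map f).hom ((jObjMap α X).hom (inj G φ x))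
    have e1 := jP_map_inj G f.unop φ x
    have e2 := jObjMap_inj α φ x
    have e3 := jP_map_inj G' f.unop φ ((smdHom α φ).hom x)
    have e4 := jObjMap_inj α (f.unop ≫ φ) ((smdMap G f.unop φ).hom x)
    refine (congrArg (jObjMap α Y).hom e1).trans ?_
    refine e4.trans ?_
    refine Eq.trans ?_ (congrArg ((jP G').map f).hom e2).symm
    refine Eq.trans ?_ e3.symm
    congr 1
    exact PresheafOfModules.naturality_apply α
      (Over.homMk f.unop : Over.mk (f.unop ≫ φ) ⟶ Over.mk φ).op x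

lemma jPMap_app_inj (α : G ⟶ G') {V : C} (φ : V ⟶ U) (x : smd G V φ) :
    ((jPMap α).app (op V)).hom (inj G φ x) = inj G' φ ((smdHom α φ).hom x) :=
  jObjMap_inj α φ x

lemma jP_hom_ext {F : PresheafOfModules.{u} R} {a b : jP G ⟶ F}
    (h : ∀ (V : C) (φ : V ⟶ U) (x : smd G V φ),
      (a.app (op V)).hom (inj G φ x) = (b.app (op V)).hom (inj G φ x)) : a = b := by
  apply PresheafOfModules.hom_ext
  intro X
  exact jObj_hom_ext G (fun φ x => h X.unop φ x)

variable (U R) in
/-- extension by zero on presheaves of modules, as a functor -/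
def jPF : PresheafOfModules.{u} (RU U R) ⥤ PresheafOfModules.{u} R where
  obj G := jP G
  map α := jPMap α
  map_id G := by
    apply jP_hom_ext
    intro V φ x
    exact jPMap_app_inj (𝟙 G) φ x
  map_comp {G₁ G₂ G₃} α β := by
    apply jP_hom_ext
    intro V φ x
    refine (jPMap_app_inj (α ≫ β) φ x).trans ?_
    show _ = ((jPMap β).app (op V)).hom (((jPMap α).app (op V)).hom (inj G₁ φ x))
    rw [jPMap_app_inj, jPMap_app_inj]
    rfl

variable (U R) in
/-- restriction to `Over U` on presheaves of modules -/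
def resP : PresheafOfModules.{u} R ⥤ PresheafOfModules.{u} (RU U R) :=
  PresheafOfModules.pushforward (F := Over.forget U) (R := R) (S := RU U R) (𝟙 _)

variable {F : PresheafOfModules.{u} R}

/-- components of the adjunct of a map out of `jP G` -/
def toRes (α : jP G ⟶ F) (Y : (Over U)ᵒᵖ) : G.obj Y ⟶ ((resP U R).obj F).obj Y :=
  (Sigma.ι (smd G Y.unop.left) Y.unop.hom ≫ α.app (op Y.unop.left) :
    smd G Y.unop.left Y.unop.hom ⟶ F.obj (op Y.unop.left))

lemma toRes_apply (α : jP G ⟶ F) (Y : (Over U)ᵒᵖ) (x : G.obj Y) :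
    (toRes α Y).hom x = (α.app (op Y.unop.left)).hom (inj G Y.unop.hom x) := rfl

/-- components of a map into a restriction, on summands -/
def smdRes (β : G ⟶ (resP U R).obj F) {V : C} (φ : V ⟶ U) : smd G V φ ⟶ F.obj (op V) :=
  β.app (op (Over.mk φ))

/-- components of the adjunct of a map into a restriction -/
def fromRes (β : G ⟶ (resP U R).obj F) (X : Cᵒᵖ) : jObj G X ⟶ F.obj X :=
  Sigma.desc (fun φ : X.unop ⟶ U => smdRes β φ)

lemma fromRes_inj (β : G ⟶ (resP U R).obj F) {V : C} (φ : V ⟶ U) (x : smd G V φ) :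
    (fromRes β (op V)).hom (inj G φ x) = (smdRes β φ).hom x := by
  have := Sigma.ι_desc (fun φ : V ⟶ U => smdRes β φ) φ
  exact congrArg (fun k => k.hom x) this

lemma resP_map_apply (F : PresheafOfModules.{u} R) {Y Y' : (Over U)ᵒᵖ} (k : Y ⟶ Y')
    (y : F.obj (op Y.unop.left)) :
    (((resP U R).obj F).map k).hom y = (F.map k.unop.left.op).hom y := rfl

/-- the adjunct of a map out of `jP G` -/
def toResHom (α : jP G ⟶ F) : G ⟶ (resP U R).obj F where
  app Y := toRes α Y
  naturality {Y Y'} k := by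
    ext x
    show (α.app (op Y'.unop.left)).hom (inj G Y'.unop.hom ((G.map k).hom x)) =
      (F.map k.unop.left.op).hom ((α.app (op Y.unop.left)).hom (inj G Y.unop.hom x))
    have h1 := PresheafOfModules.naturality_apply α k.unop.left.op (inj G Y.unop.hom x)
    refine Eq.trans ?_ h1
    congr 1
    have h2 := jP_map_inj G k.unop.left Y.unop.hom x
    refine Eq.trans ?_ h2.symm
    exact inj_map_congr G (Over.w k.unop).symm k.unop
      (Over.homMk k.unop.left : Over.mk (k.unop.left ≫ Y.unop.hom) ⟶ Over.mk Y.unop.hom) rfl x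

/-- the adjunct of a map into a restriction -/
def fromResHom (β : G ⟶ (resP U R).obj F) : jP G ⟶ F where
  app X := fromRes β X
  naturality {X Y} f := by
    apply jObj_hom_ext
    intro φ x
    show (fromRes β Y).hom (((jP G).map f).hom (inj G φ x)) =
      (F.map f).hom ((fromRes β X).hom (inj G φ x))
    have h1 := jP_map_inj G f.unop φ x
    refine (congrArg (fromRes β Y).hom h1).trans ?_
    refine (fromRes_inj β (f.unop ≫ φ) ((smdMap G f.unop φ).hom x)).trans ?_
    refine Eq.trans ?_ (congrArg (F.map f).hom (fromRes_inj β φ x)).symm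
    exact PresheafOfModules.naturality_apply β
      (Over.homMk f.unop : Over.mk (f.unop ≫ φ) ⟶ Over.mk φ).op x

variable (G F) in
/-- the adjunction between extension by zero and restriction, on presheaves of modules -/
def jPHomEquiv : (jP G ⟶ F) ≃ (G ⟶ (resP U R).obj F) where
  toFun := toResHom
  invFun := fromResHom
  left_inv α := by
    apply jP_hom_ext
    intro V φ x
    exact fromRes_inj (toResHom α) φ x
  right_inv β := by
    apply PresheafOfModules.hom_ext
    intro Y
    ext x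
    exact fromRes_inj β Y.unop.hom x

variable (U R) in
/-- extension by zero is left adjoint to restriction, on presheaves of modules -/
def jPAdj : jPF U R ⊣ resP U R :=
  Adjunction.mkOfHomEquiv
    { homEquiv := fun G F => jPHomEquiv G F
      homEquiv_naturality_left_symm := by
        intro G₁ G₂ F f g
        apply jP_hom_ext
        intro V φ x
        show (fromRes (f ≫ g) (op V)).hom (inj G₁ φ x) =
          (fromRes g (op V)).hom (((jPMap f).app (op V)).hom (inj G₁ φ x))
        refine (fromRes_inj (f ≫ g) φ x).trans ?_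
        refine Eq.trans ?_ (congrArg (fromRes g (op V)).hom (jPMap_app_inj f φ x)).symm
        exact (fromRes_inj g φ ((smdHom f φ).hom x)).symm
      homEquiv_naturality_right := by
        intro G₁ F₁ F₂ α g
        apply PresheafOfModules.hom_ext
        intro Y
        ext x
        rfl }

instance jPF_preservesMonomorphisms : (jPF U R).PreservesMonomorphisms where
  preserves {G G'} α _ := by
    rw [PresheafOfModules.mono_iff_surjective]
    intro X
    rw [← ModuleCat.mono_iff_injective]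
    have : ∀ φ : X.unop ⟶ U, Mono (smdHom α φ) := fun φ =>
      inferInstanceAs (Mono (α.app (op (Over.mk φ))))
    exact inferInstanceAs (Mono (Limits.Sigma.map (fun φ : X.unop ⟶ U => smdHom α φ)))

end Groth.Agent.Lib.Helper17.ExtZeroP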