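import Mathlib
import Groth.Prelude.Def_ModSite

open CategoryTheory CategoryTheory.Limits Opposite MonoidalCategory

universe u

noncomputable section

namespace Groth.Agent.Lib.Helper17.IHom

variable {C : Type u} [SmallCategory C] {R : Cᵒᵖ ⥤ CommRingCat.{u}}

variable (Q F : PresheafOfModules.{u} (R ⋙ forget₂ CommRingCat RingCat))

/-- The group of morphisms between the restrictions of the underlying abelian presheaves to
`Over U`. -/
abbrev HomAb (U : C) : Type u :=
  ((Over.forget U).op ⋙ Q.presheaf ⟶ (Over.forget U).op ⋙ F.presheaf)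

variable {Q F}

/-- restriction of sections with explicit types -/
def rs (M : PresheafOfModules.{u} (R ⋙ forget₂ CommRingCat RingCat)) {U V : C} (g : V ⟶ U)
    (m : M.obj (op U)) : M.obj (op V) := M.map g.op m

/-- evaluation of a section of the hom presheaf -/
def ev {U : C} (α : HomAb Q F U) {V : C} (g : V ⟶ U) (q : Q.obj (op V)) : F.obj (op V) :=
  (α.app (op (Over.mk g))).hom q

lemma ev_add {U : C} (α : HomAb Q F U) {V : C} (g : V ⟶ U) (q q' : Q.obj (op V)) :
    ev α g (q + q') = ev α g q + ev α g q' :=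
  map_add (α.app (op (Over.mk g))).hom q q'

lemma ev_naturality {U : C} (α : HomAb Q F U) {V W : C} (g : V ⟶ U) (h : W ⟶ V)
    (q : Q.obj (op V)) : rs F h (ev α g q) = ev α (h ≫ g) (rs Q h q) := by
  have := α.naturality (Over.homMk h : Over.mk (h ≫ g) ⟶ Over.mk g).op
  exact (ConcreteCategory.congr_hom this q).symm

lemma add_ev {U : C} (α β : HomAb Q F U) {V : C} (g : V ⟶ U) (q : Q.obj (op V)) :
    ev (α + β) g q = ev α g q + ev β g q := rfl

lemma zero_ev {U : C} {V : C} (g : V ⟶ U) (q : Q.obj (op V)) :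
    ev (0 : HomAb Q F U) g q = 0 := rfl

lemma neg_ev {U : C} (α : HomAb Q F U) {V : C} (g : V ⟶ U) (q : Q.obj (op V)) :
    ev (-α) g q = - ev α g q := rfl

lemma hom_ext' {U : C} {α β : HomAb Q F U}
    (h : ∀ {V : C} (g : V ⟶ U) (q : Q.obj (op V)), ev α g q = ev β g q) : α = β := by
  apply NatTrans.ext
  funext Y
  apply AddCommGrpCat.hom_ext
  ext q
  exact h Y.unop.hom q

/-- constructor -/
def mkHomAb {U : C} (a : ∀ {V : C} (g : V ⟶ U), Q.obj (op V) →+ F.obj (op V))
    (nat : ∀ {V W : C} (g : V ⟶ U) (h : W ⟶ V) (q : Q.obj (op V)),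
      rs F h (a g q) = a (h ≫ g) (rs Q h q)) : HomAb Q F U where
  app Y := AddCommGrpCat.ofHom (a Y.unop.hom)
  naturality := by
    rintro ⟨Y⟩ ⟨Y'⟩ ⟨φ⟩
    apply AddCommGrpCat.hom_ext
    ext q
    have := nat Y.hom φ.left q
    have e : φ.left ≫ Y.hom = Y'.hom := Over.w φ
    rw [e] at this
    exact this.symm

@[simp] lemma ev_mkHomAb {U : C} (a : ∀ {V : C} (g : V ⟶ U), Q.obj (op V) →+ F.obj (op V))
    (nat) {V : C} (g : V ⟶ U) (q : Q.obj (op V)) :
    ev (mkHomAb a nat) g q = a g q := rfl

variable (Q F) in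
/-- the subgroup of linear families -/
def linSubgroup (U : C) : AddSubgroup (HomAb Q F U) where
  carrier := {α | ∀ {V : C} (g : V ⟶ U) (r : R.obj (op V)) (q : Q.obj (op V)),
    ev α g (r • q) = r • ev α g q}
  add_mem' := by
    intro α β hα hβ V g r q
    rw [add_ev, add_ev, hα, hβ, smul_add]
  zero_mem' := by
    intro V g r q
    rw [zero_ev, zero_ev, smul_zero]
  neg_mem' := by
    intro α hα V g r q
    rw [neg_ev, neg_ev, hα, smul_neg]



/-- restriction of scalars ring hom -/
def rmap {U V : C} (g : V ⟶ U) : R.obj (op U) →+* R.obj (op V) := (R.map g.op).hom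

lemma rmap_comp {U V W : C} (g : V ⟶ U) (h : W ⟶ V) (r : R.obj (op U)) :
    rmap (R := R) (h ≫ g) r = rmap h (rmap g r) := by
  simp [rmap]

lemma rmap_id {U : C} (r : R.obj (op U)) : rmap (R := R) (𝟙 U) r = r := by
  simp [rmap]

lemma rs_smul (M : PresheafOfModules.{u} (R ⋙ forget₂ CommRingCat RingCat)) {U V : C}
    (g : V ⟶ U) (r : R.obj (op U)) (m : M.obj (op U)) :
    rs M g (r • m) = rmap g r • rs M g m :=
  M.map_smul g.op r m

lemma rs_add (M : PresheafOfModules.{u} (R ⋙ forget₂ CommRingCat RingCat)) {U V : C}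
    (g : V ⟶ U) (m m' : M.obj (op U)) :
    rs M g (m + m') = rs M g m + rs M g m' :=
  map_add (M.map g.op).hom m m'

lemma rs_zero (M : PresheafOfModules.{u} (R ⋙ forget₂ CommRingCat RingCat)) {U V : C}
    (g : V ⟶ U) : rs M g (0 : M.obj (op U)) = 0 :=
  map_zero (M.map g.op).hom

lemma rs_comp (M : PresheafOfModules.{u} (R ⋙ forget₂ CommRingCat RingCat)) {U V W : C}
    (g : V ⟶ U) (h : W ⟶ V) (m : M.obj (op U)) :
    rs M (h ≫ g) m = rs M h (rs M g m) := by
  unfold rs
  rw [op_comp, M.map_comp_apply]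

lemma rs_id (M : PresheafOfModules.{u} (R ⋙ forget₂ CommRingCat RingCat)) {U : C}
    (m : M.obj (op U)) : rs M (𝟙 U) m = m := by
  unfold rs
  rw [op_id, M.map_id]
  rfl

/-- scalar multiplication on the hom group -/
def smulHomAb {U : C} (r : R.obj (op U)) (α : HomAb Q F U) : HomAb Q F U :=
  mkHomAb (fun {V} g => (DistribSMul.toAddMonoidHom (F.obj (op V)) (rmap g r)).comp
      (α.app (op (Over.mk g))).hom)
    (by
      intro V W g h q
      show rs F h (rmap g r • ev α g q) = rmap (h ≫ g) r • ev α (h ≫ g) (rs Q h q)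
      rw [rs_smul, ev_naturality, rmap_comp])

@[simp] lemma ev_smulHomAb {U : C} (r : R.obj (op U)) (α : HomAb Q F U) {V : C} (g : V ⟶ U)
    (q : Q.obj (op V)) : ev (smulHomAb r α) g q = rmap g r • ev α g q := rfl



lemma mem_linSubgroup {U : C} {α : HomAb Q F U} :
    α ∈ linSubgroup Q F U ↔ ∀ {V : C} (g : V ⟶ U) (r : R.obj (op V)) (q : Q.obj (op V)),
      ev α g (r • q) = r • ev α g q := Iff.rfl

lemma smulHomAb_mem {U : C} (r : R.obj (op U)) {α : HomAb Q F U} (hα : α ∈ linSubgroup Q F U) :
    smulHomAb r α ∈ linSubgroup Q F U := by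
  intro V g s q
  rw [ev_smulHomAb, ev_smulHomAb, hα, smul_comm]

instance instSMul (U : C) : SMul (R.obj (op U)) (linSubgroup Q F U) where
  smul r α := ⟨smulHomAb r α.1, smulHomAb_mem r α.2⟩

lemma smul_val {U : C} (r : R.obj (op U)) (α : linSubgroup Q F U) :
    (r • α).1 = smulHomAb r α.1 := rfl

lemma ev_smul {U : C} (r : R.obj (op U)) (α : linSubgroup Q F U) {V : C} (g : V ⟶ U)
    (q : Q.obj (op V)) : ev (r • α).1 g q = rmap g r • ev α.1 g q := rfl

lemma ext_lin {U : C} {α β : linSubgroup Q F U}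
    (h : ∀ {V : C} (g : V ⟶ U) (q : Q.obj (op V)), ev α.1 g q = ev β.1 g q) : α = β :=
  Subtype.ext (hom_ext' h)

instance instModule (U : C) : Module (R.obj (op U)) (linSubgroup Q F U) where
  one_smul α := ext_lin fun g q => by rw [ev_smul, map_one, one_smul]
  mul_smul r s α := ext_lin fun g q => by rw [ev_smul, ev_smul, ev_smul, map_mul, mul_smul]
  smul_zero r := ext_lin fun g q => by
    rw [ev_smul]
    show rmap g r • ev (0 : HomAb Q F U) g q = ev (0 : HomAb Q F U) g q
    rw [zero_ev, smul_zero]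
  smul_add r α β := ext_lin fun g q => by
    rw [ev_smul]
    show rmap g r • ev (α.1 + β.1) g q = ev ((r • α).1 + (r • β).1) g q
    rw [add_ev, add_ev, ev_smul, ev_smul, smul_add]
  add_smul r s α := ext_lin fun g q => by
    rw [ev_smul]
    show _ = ev ((r • α).1 + (s • α).1) g q
    rw [add_ev, ev_smul, ev_smul, map_add, add_smul]
  zero_smul α := ext_lin fun g q => by
    rw [ev_smul, map_zero, zero_smul]
    rfl



variable (Q F) in
/-- the presheaf of types of all additive families -/
abbrev T : Cᵒᵖ ⥤ Type u := presheafHom Q.presheaf F.presheaf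

/-- restriction of families -/
def resFun {U U' : C} (f : U' ⟶ U) (α : HomAb Q F U) : HomAb Q F U' :=
  (T Q F).map f.op α

@[simp] lemma ev_resFun {U U' : C} (f : U' ⟶ U) (α : HomAb Q F U) {V : C} (g : V ⟶ U')
    (q : Q.obj (op V)) : ev (resFun f α) g q = ev α (g ≫ f) q := by
  have := presheafHom_map_app g f (g ≫ f) rfl α
  unfold ev resFun
  rw [this]
  rfl

lemma resFun_mem {U U' : C} (f : U' ⟶ U) {α : HomAb Q F U} (hα : α ∈ linSubgroup Q F U) :
    resFun f α ∈ linSubgroup Q F U' := by
  intro V g r q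
  rw [ev_resFun, ev_resFun, hα]

/-- restriction as an additive map on linear families -/
def resLin {U U' : C} (f : U' ⟶ U) : linSubgroup Q F U →+ linSubgroup Q F U' where
  toFun α := ⟨resFun f α.1, resFun_mem f α.2⟩
  map_zero' := ext_lin fun g q => by
    rw [ev_resFun]
    rfl
  map_add' α β := ext_lin fun g q => by
    rw [ev_resFun]
    show ev (α.1 + β.1) (g ≫ f) q = ev (resFun f α.1 + resFun f β.1) g q
    rw [add_ev, add_ev, ev_resFun, ev_resFun]

@[simp] lemma ev_resLin {U U' : C} (f : U' ⟶ U) (α : linSubgroup Q F U) {V : C} (g : V ⟶ U')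
    (q : Q.obj (op V)) : ev (resLin f α).1 g q = ev α.1 (g ≫ f) q := ev_resFun f α.1 g q

variable (Q F) in
/-- underlying abelian presheaf of the internal hom -/
def ihomAb : Cᵒᵖ ⥤ Ab.{u} where
  obj X := AddCommGrpCat.of (linSubgroup Q F X.unop)
  map {X Y} f := AddCommGrpCat.ofHom (resLin f.unop)
  map_id X := by
    apply AddCommGrpCat.hom_ext
    refine AddMonoidHom.ext fun α => ?_
    apply ext_lin
    intro V g q
    show ev (resLin (𝟙 X.unop) α).1 g q = ev α.1 g q
    rw [ev_resLin, Category.comp_id]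
  map_comp {X Y Z} f f' := by
    apply AddCommGrpCat.hom_ext
    refine AddMonoidHom.ext fun α => ?_
    apply ext_lin
    intro V g q
    show ev (resLin (f'.unop ≫ f.unop) α).1 g q = ev (resLin f'.unop (resLin f.unop α)).1 g q
    rw [ev_resLin, ev_resLin, ev_resLin, Category.assoc]

instance (X : Cᵒᵖ) : Module ((R ⋙ forget₂ CommRingCat RingCat).obj X) ((ihomAb Q F).obj X) :=
  instModule (Q := Q) (F := F) X.unop

variable (Q F) in
/-- the internal hom of presheaves of modules -/
def ihom : PresheafOfModules.{u} (R ⋙ forget₂ CommRingCat RingCat) :=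
  PresheafOfModules.ofPresheaf (ihomAb Q F) (by
    intro X Y f r α
    have key : ∀ (r' : R.obj (op X.unop)) (α' : linSubgroup Q F X.unop),
        resLin f.unop (r' • α') = rmap f.unop r' • resLin f.unop α' := by
      intro r' α'
      apply ext_lin
      intro V g q
      rw [ev_resLin, ev_smul, ev_smul, ev_resLin, rmap_comp]
    exact key r α)



section adj

variable {P : PresheafOfModules.{u} (R ⋙ forget₂ CommRingCat RingCat)}

/-- the linear map underlying a morphism out of a tensor product -/
def appL (β : P ⊗ Q ⟶ F) (V : C) :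
    TensorProduct (R.obj (op V)) (P.obj (op V)) (Q.obj (op V)) →ₗ[R.obj (op V)] F.obj (op V) :=
  (β.app (op V)).hom

/-- apply a morphism out of a tensor product to a pure tensor -/
def appT (β : P ⊗ Q ⟶ F) {V : C} (p : P.obj (op V)) (q : Q.obj (op V)) : F.obj (op V) :=
  appL β V (p ⊗ₜ[R.obj (op V)] q)

lemma appT_add_right (β : P ⊗ Q ⟶ F) {V : C} (p : P.obj (op V)) (q q' : Q.obj (op V)) :
    appT β p (q + q') = appT β p q + appT β p q' := by
  unfold appT
  rw [TensorProduct.tmul_add, map_add]

lemma appT_add_left (β : P ⊗ Q ⟶ F) {V : C} (p p' : P.obj (op V)) (q : Q.obj (op V)) :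
    appT β (p + p') q = appT β p q + appT β p' q := by
  unfold appT
  rw [TensorProduct.add_tmul, map_add]

lemma appT_zero_right (β : P ⊗ Q ⟶ F) {V : C} (p : P.obj (op V)) :
    appT β p (0 : Q.obj (op V)) = 0 := by
  unfold appT
  rw [TensorProduct.tmul_zero, map_zero]

lemma appT_zero_left (β : P ⊗ Q ⟶ F) {V : C} (q : Q.obj (op V)) :
    appT β (0 : P.obj (op V)) q = 0 := by
  unfold appT
  rw [TensorProduct.zero_tmul, map_zero]

lemma appT_smul_right (β : P ⊗ Q ⟶ F) {V : C} (r : R.obj (op V)) (p : P.obj (op V))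
    (q : Q.obj (op V)) : appT β p (r • q) = r • appT β p q := by
  unfold appT
  rw [TensorProduct.tmul_smul, map_smul]

lemma appT_smul_left (β : P ⊗ Q ⟶ F) {V : C} (r : R.obj (op V)) (p : P.obj (op V))
    (q : Q.obj (op V)) : appT β (r • p) q = r • appT β p q := by
  unfold appT
  rw [← TensorProduct.smul_tmul', map_smul]

lemma appT_naturality (β : P ⊗ Q ⟶ F) {V W : C} (h : W ⟶ V) (p : P.obj (op V))
    (q : Q.obj (op V)) : rs F h (appT β p q) = appT β (rs P h p) (rs Q h q) := by
  have := PresheafOfModules.naturality_apply β h.op (p ⊗ₜ[R.obj (op V)] q)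
  exact this.symm





/-- the family attached to a section `p` by a morphism `β : P ⊗ Q ⟶ F` -/
def curryFam (β : P ⊗ Q ⟶ F) {U : C} (p : P.obj (op U)) : HomAb Q F U :=
  mkHomAb (fun {V} g => AddMonoidHom.mk' (fun q => appT β (rs P g p) q) (appT_add_right β _))
    (by
      intro V W g h q
      show rs F h (appT β (rs P g p) q) = appT β (rs P (h ≫ g) p) (rs Q h q)
      rw [appT_naturality, rs_comp])

@[simp] lemma ev_curryFam (β : P ⊗ Q ⟶ F) {U : C} (p : P.obj (op U)) {V : C} (g : V ⟶ U)
    (q : Q.obj (op V)) : ev (curryFam β p) g q = appT β (rs P g p) q := rfl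

lemma curryFam_mem (β : P ⊗ Q ⟶ F) {U : C} (p : P.obj (op U)) :
    curryFam β p ∈ linSubgroup Q F U := by
  intro V g r q
  rw [ev_curryFam, ev_curryFam, appT_smul_right]

/-- currying, sectionwise -/
def curryLin (β : P ⊗ Q ⟶ F) (U : C) : P.obj (op U) →ₗ[R.obj (op U)] linSubgroup Q F U where
  toFun p := ⟨curryFam β p, curryFam_mem β p⟩
  map_add' p p' := ext_lin fun g q => by
    show ev (curryFam β (p + p')) g q = ev (curryFam β p + curryFam β p') g q
    rw [add_ev, ev_curryFam, ev_curryFam, ev_curryFam, rs_add, appT_add_left]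
  map_smul' r p := ext_lin fun g q => by
    show ev (curryFam β (r • p)) g q = ev (r • (⟨curryFam β p, curryFam_mem β p⟩ :
      linSubgroup Q F U)).1 g q
    rw [ev_smul, ev_curryFam, rs_smul, appT_smul_left]
    rfl

lemma ev_curryLin (β : P ⊗ Q ⟶ F) {U : C} (p : P.obj (op U)) {V : C} (g : V ⟶ U)
    (q : Q.obj (op V)) : ev (curryLin β U p).1 g q = appT β (rs P g p) q := rfl

/-- currying -/
def curry (β : P ⊗ Q ⟶ F) : P ⟶ ihom Q F where
  app X := ModuleCat.ofHom (Y := (ihom Q F).obj X) (curryLin β X.unop)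
  naturality {X Y} f := by
    ext p
    apply ext_lin
    intro V g q
    show ev (curryLin β Y.unop (rs P f.unop p)).1 g q = ev (resLin f.unop (curryLin β X.unop p)).1 g q
    rw [ev_resLin, ev_curryLin, ev_curryLin, rs_comp]





/-- the linear family attached to `p` by `γ : P ⟶ ihom Q F` -/
def fam (γ : P ⟶ ihom Q F) {U : C} (p : P.obj (op U)) : linSubgroup Q F U :=
  (γ.app (op U)).hom p

lemma fam_add (γ : P ⟶ ihom Q F) {U : C} (p p' : P.obj (op U)) :
    fam γ (p + p') = fam γ p + fam γ p' :=
  map_add (γ.app (op U)).hom p p'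

lemma fam_smul (γ : P ⟶ ihom Q F) {U : C} (r : R.obj (op U)) (p : P.obj (op U)) :
    fam γ (r • p) = r • fam γ p :=
  (γ.app (op U)).hom.map_smul r p

lemma fam_rs (γ : P ⟶ ihom Q F) {U V : C} (g : V ⟶ U) (p : P.obj (op U)) :
    fam γ (rs P g p) = resLin g (fam γ p) :=
  PresheafOfModules.naturality_apply γ g.op p

/-- evaluation pairing attached to `γ` -/
def pair (γ : P ⟶ ihom Q F) {V : C} (p : P.obj (op V)) (q : Q.obj (op V)) : F.obj (op V) :=
  ev (fam γ p).1 (𝟙 V) q

lemma pair_rs (γ : P ⟶ ihom Q F) {V W : C} (h : W ⟶ V) (p : P.obj (op V)) (q : Q.obj (op V)) :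
    rs F h (pair γ p q) = pair γ (rs P h p) (rs Q h q) := by
  unfold pair
  rw [ev_naturality, fam_rs, ev_resLin, Category.comp_id, Category.id_comp]

/-- the bilinear map attached to `γ` -/
def pairBil (γ : P ⟶ ihom Q F) (V : C) :
    P.obj (op V) →ₗ[R.obj (op V)] Q.obj (op V) →ₗ[R.obj (op V)] F.obj (op V) :=
  LinearMap.mk₂ (R.obj (op V)) (fun p q => pair γ p q)
    (fun p p' q => by
      unfold pair
      rw [fam_add]
      exact add_ev _ _ _ _)
    (fun r p q => by
      unfold pair
      rw [fam_smul, ev_smul, rmap_id])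
    (fun p q q' => ev_add _ _ _ _)
    (fun r p q => (fam γ p).2 (𝟙 V) r q)

/-- uncurrying -/
def uncurry (γ : P ⟶ ihom Q F) : P ⊗ Q ⟶ F where
  app X := ModuleCat.ofHom (X := (P ⊗ Q).obj X) (TensorProduct.lift (pairBil γ X.unop))
  naturality {X Y} f := by
    apply ModuleCat.MonoidalCategory.tensor_ext
    intro p q
    show pair γ (rs P f.unop p) (rs Q f.unop q) = rs F f.unop (pair γ p q)
    rw [pair_rs]

lemma appT_uncurry (γ : P ⟶ ihom Q F) {V : C} (p : P.obj (op V)) (q : Q.obj (op V)) :
    appT (uncurry γ) p q = pair γ p q := rfl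





lemma tensor_hom_ext {β β' : P ⊗ Q ⟶ F}
    (h : ∀ {V : C} (p : P.obj (op V)) (q : Q.obj (op V)), appT β p q = appT β' p q) : β = β' := by
  apply PresheafOfModules.hom_ext
  intro X
  apply ModuleCat.MonoidalCategory.tensor_ext
  intro p q
  exact h (V := X.unop) p q

lemma uncurry_curry (β : P ⊗ Q ⟶ F) : uncurry (curry β) = β := by
  apply tensor_hom_ext
  intro V p q
  rw [appT_uncurry]
  show ev (curryLin β V p).1 (𝟙 V) q = _
  rw [ev_curryLin, rs_id]

lemma curry_uncurry (γ : P ⟶ ihom Q F) : curry (uncurry γ) = γ := by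
  apply PresheafOfModules.hom_ext
  intro X
  ext p
  apply ext_lin
  intro V g q
  show ev (curryLin (uncurry γ) X.unop p).1 g q = ev (fam γ p).1 g q
  rw [ev_curryLin, appT_uncurry]
  unfold pair
  rw [fam_rs, ev_resLin, Category.id_comp]

variable (P Q F) in
/-- the tensor-hom adjunction for presheaves of modules, as an equivalence of hom sets -/
def curryEquiv : (P ⊗ Q ⟶ F) ≃ (P ⟶ ihom Q F) where
  toFun := curry
  invFun := uncurry
  left_inv := uncurry_curry
  right_inv := curry_uncurry

lemma appT_whiskerRight_comp {P' : PresheafOfModules.{u} (R ⋙ forget₂ CommRingCat RingCat)}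
    (f : P' ⟶ P) (β : P ⊗ Q ⟶ F) {V : C} (p' : P'.obj (op V)) (q : Q.obj (op V)) :
    appT (f ▷ Q ≫ β) p' q = appT β ((f.app (op V)).hom p') q := rfl

lemma hom_rs {P' : PresheafOfModules.{u} (R ⋙ forget₂ CommRingCat RingCat)}
    (f : P' ⟶ P) {U V : C} (g : V ⟶ U) (p' : P'.obj (op U)) :
    (f.app (op V)).hom (rs P' g p') = rs P g ((f.app (op U)).hom p') :=
  PresheafOfModules.naturality_apply f g.op p'

lemma curry_naturality_left {P' : PresheafOfModules.{u} (R ⋙ forget₂ CommRingCat RingCat)}
    (f : P' ⟶ P) (β : P ⊗ Q ⟶ F) : curry (f ▷ Q ≫ β) = f ≫ curry β := by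
  apply PresheafOfModules.hom_ext
  intro X
  ext p'
  apply ext_lin
  intro V g q
  show ev (curryLin (f ▷ Q ≫ β) X.unop p').1 g q =
    ev (curryLin β X.unop ((f.app X).hom p')).1 g q
  rw [ev_curryLin, ev_curryLin, appT_whiskerRight_comp, hom_rs]





end adj

section sheaf

variable (J : GrothendieckTopology C)

/-- separatedness of the underlying abelian presheaf, elementwise -/
lemma eq_of_forall_rs_eq (hF : Presheaf.IsSheaf J F.presheaf) {V : C} (S : Sieve V)
    (hS : S ∈ J V) (x y : F.obj (op V))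
    (h : ∀ {W : C} (h : W ⟶ V), S h → rs F h x = rs F h y) : x = y := by
  have h1 : Presieve.IsSheaf J (F.presheaf ⋙ forget Ab) :=
    (isSheaf_iff_isSheaf_of_type J _).mp
      ((Presheaf.isSheaf_iff_isSheaf_forget J F.presheaf (forget Ab)).mp hF)
  exact (h1.isSeparated S hS).ext (fun W h' hh => h h' hh)

variable (Q F) in
/-- the subfunctor of linear families -/
def linSubfunctor : Subfunctor (T Q F) where
  obj X := {α | α ∈ linSubgroup Q F X.unop}
  map {X Y} f α hα := resFun_mem f.unop hα

lemma mem_linSubgroup_of_locally (hF : Presheaf.IsSheaf J F.presheaf) {U : C} (α : HomAb Q F U)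
    (S : Sieve U) (hS : S ∈ J U)
    (hα : ∀ {U' : C} (f : U' ⟶ U), S f → resFun f α ∈ linSubgroup Q F U') :
    α ∈ linSubgroup Q F U := by
  intro V g r q
  refine eq_of_forall_rs_eq J hF _ (J.pullback_stable g hS) _ _ ?_
  intro W h hh
  have hmem : resFun (h ≫ g) α ∈ linSubgroup Q F W := hα _ hh
  have h1 := hmem (𝟙 W) (rmap h r) (rs Q h q)
  rw [ev_resFun, ev_resFun, Category.id_comp] at h1
  rw [ev_naturality, rs_smul, h1, rs_smul, ev_naturality]

lemma linSubfunctor_isSheaf (hF : Presheaf.IsSheaf J F.presheaf) :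
    Presieve.IsSheaf J (linSubfunctor Q F).toFunctor := by
  have hT : Presieve.IsSheaf J (T Q F) :=
    (isSheaf_iff_isSheaf_of_type J _).mp (Presheaf.IsSheaf.hom Q.presheaf F.presheaf hF)
  rw [Subfunctor.isSheaf_iff _ hT]
  intro X α hα
  exact mem_linSubgroup_of_locally J hF (U := X.unop) α _ hα (fun f hf => hf)





variable (Q F) in
/-- comparison with the subfunctor of linear families -/
def ihomAbForgetIso : ihomAb Q F ⋙ forget Ab ≅ (linSubfunctor Q F).toFunctor :=
  NatIso.ofComponents (fun X => Iso.refl _) (by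
    intro X Y f
    rfl)

theorem isSheaf_ihom (hF : Presheaf.IsSheaf J F.presheaf) :
    Presheaf.IsSheaf J (ihom Q F).presheaf := by
  show Presheaf.IsSheaf J (ihomAb Q F)
  rw [Presheaf.isSheaf_iff_isSheaf_forget J (ihomAb Q F) (forget Ab), isSheaf_iff_isSheaf_of_type]
  exact Presieve.isSheaf_iso J (ihomAbForgetIso Q F).symm (linSubfunctor_isSheaf J hF)

end sheaf



section site

variable {J : GrothendieckTopology C} (O : Sheaf J CommRingCat.{u})

/-- presheaves of modules over the underlying presheaf of rings of `O` -/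
abbrev PMod : Type (u + 1) := PresheafOfModules.{u} (O.obj ⋙ forget₂ CommRingCat RingCat)

variable {O}

/-- the underlying presheaf of modules -/
def toPMod (M : ModSite.Mod O) : PMod O := M.val

variable (O) in
lemma tensorBi_obj_obj (M N : ModSite.Mod O) :
    ((ModSite.tensorBi O).obj M).obj N = (ModSite.sheafify O).obj (toPMod M ⊗ toPMod N : PMod O) := rfl

/-- internal hom of sheaves of modules -/
def sheafIHom (N F : ModSite.Mod O) : ModSite.Mod O where
  val := ihom (toPMod N) (toPMod F)
  isSheaf := isSheaf_ihom J F.isSheaf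

/-- the sheafification adjunction hom-equivalence with identity ring map, with clean types -/
def sheafifyHomEquiv (X : PMod O) (F : ModSite.Mod O) :
    ((ModSite.sheafify O).obj X ⟶ F) ≃ (X ⟶ toPMod F) :=
  (PresheafOfModules.sheafificationAdjunction (𝟙 (ModSite.ringSh O).obj)).homEquiv X F

lemma sheafifyHomEquiv_naturality_left {X X' : PMod O} (φ : X' ⟶ X) {F : ModSite.Mod O}
    (g : (ModSite.sheafify O).obj X ⟶ F) :
    sheafifyHomEquiv X' F ((ModSite.sheafify O).map φ ≫ g) = φ ≫ sheafifyHomEquiv X F g :=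
  (PresheafOfModules.sheafificationAdjunction (𝟙 (ModSite.ringSh O).obj)).homEquiv_naturality_left
    φ g

/-- morphisms of sheaves of modules are morphisms of the underlying presheaves of modules -/
def valEquiv (M F : ModSite.Mod O) : (M ⟶ F) ≃ (toPMod M ⟶ toPMod F) where
  toFun f := f.val
  invFun g := ⟨g⟩
  left_inv _ := rfl
  right_inv _ := rfl

/-- the tensor-hom adjunction, as an equivalence -/
def tensorHomEquiv (N M F : ModSite.Mod O) :
    (((ModSite.tensorBi O).flip.obj N).obj M ⟶ F) ≃ (M ⟶ sheafIHom N F) :=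
  (sheafifyHomEquiv (toPMod M ⊗ toPMod N) F).trans
    ((curryEquiv (P := toPMod M) (Q := toPMod N) (F := toPMod F)).trans (valEquiv M (sheafIHom N F)).symm)

lemma tensorBi_flip_map (N : ModSite.Mod O) {M M' : ModSite.Mod O} (f : M' ⟶ M) :
    ((ModSite.tensorBi O).flip.obj N).map f = (ModSite.sheafify O).map ((show toPMod M' ⟶ toPMod M from f.val) ▷ toPMod N : (toPMod M' ⊗ toPMod N : PMod O) ⟶ toPMod M ⊗ toPMod N) := rfl

lemma tensorHomEquiv_naturality (N : ModSite.Mod O) {M M' : ModSite.Mod O} (F : ModSite.Mod O)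
    (f : M' ⟶ M) (g : ((ModSite.tensorBi O).flip.obj N).obj M ⟶ F) :
    tensorHomEquiv N M' F (((ModSite.tensorBi O).flip.obj N).map f ≫ g) =
      f ≫ tensorHomEquiv N M F g := by
  apply SheafOfModules.hom_ext
  have h1 := sheafifyHomEquiv_naturality_left (F := F)
    ((show toPMod M' ⟶ toPMod M from f.val) ▷ toPMod N :
      (toPMod M' ⊗ toPMod N : PMod O) ⟶ toPMod M ⊗ toPMod N) g
  have h2 := curry_naturality_left (show toPMod M' ⟶ toPMod M from f.val)
    (sheafifyHomEquiv (toPMod M ⊗ toPMod N : PMod O) F g)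
  exact (congrArg curry h1).trans h2

/-- the tensor-hom adjunction for sheaves of modules on a ringed site -/
def tensorHomAdj (N : ModSite.Mod O) :
    (ModSite.tensorBi O).flip.obj N ⊣
      Adjunction.rightAdjointOfEquiv (fun M F => tensorHomEquiv N M F)
        (fun _ _ F f g => tensorHomEquiv_naturality N F f g) :=
  Adjunction.adjunctionOfEquivRight _ _

theorem hasSheafHom (N : ModSite.Mod O) : ModSite.HasSheafHom N :=
  ⟨_, ⟨tensorHomAdj N⟩⟩

/-- a morphism of presheaves of modules that is inverted by every sheaf -/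
def IsLocalIso {P' P : PMod O} (φ : P' ⟶ P) : Prop :=
  ∀ G : ModSite.Mod O, Function.Bijective (fun γ : P ⟶ toPMod G => φ ≫ γ)

lemma IsLocalIso.comp {P'' P' P : PMod O} {φ : P'' ⟶ P'} {ψ : P' ⟶ P} (hφ : IsLocalIso φ)
    (hψ : IsLocalIso ψ) : IsLocalIso (φ ≫ ψ) := by
  intro G
  have : (fun γ : P ⟶ toPMod G => (φ ≫ ψ) ≫ γ) =
      (fun γ : P' ⟶ toPMod G => φ ≫ γ) ∘ (fun γ : P ⟶ toPMod G => ψ ≫ γ) := by
    funext γ
    simp
  rw [this]
  exact (hφ G).comp (hψ G)

lemma IsLocalIso.of_isIso {P' P : PMod O} (φ : P' ⟶ P) [IsIso φ] : IsLocalIso φ := by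
  intro G
  constructor
  · intro γ γ' h
    exact (cancel_epi φ).mp h
  · intro γ
    exact ⟨inv φ ≫ γ, by simp⟩

/-- the internal hom from an arbitrary presheaf into a sheaf, as a sheaf -/
def sheafIHom' (Q : PMod O) (F : ModSite.Mod O) : ModSite.Mod O where
  val := ihom Q (toPMod F)
  isSheaf := isSheaf_ihom J F.isSheaf

lemma IsLocalIso.whiskerRight {P' P : PMod O} {φ : P' ⟶ P} (hφ : IsLocalIso φ) (Q : PMod O) :
    IsLocalIso (φ ▷ Q) := by
  intro G
  have h := hφ (sheafIHom' Q G)
  have key : (fun γ : P ⊗ Q ⟶ toPMod G => φ ▷ Q ≫ γ) =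
      (curryEquiv (P := P') (Q := Q) (F := toPMod G)).symm ∘
        (fun γ : P ⟶ toPMod (sheafIHom' Q G) => φ ≫ γ) ∘
          (curryEquiv (P := P) (Q := Q) (F := toPMod G)) := by
    funext γ
    apply (curryEquiv (P := P') (Q := Q) (F := toPMod G)).injective
    simp only [Function.comp_apply, Equiv.apply_symm_apply]
    exact curry_naturality_left φ γ
  rw [key]
  exact (Equiv.bijective _).comp (h.comp (Equiv.bijective _))

lemma IsLocalIso.whiskerLeft {P' P : PMod O} {φ : P' ⟶ P} (hφ : IsLocalIso φ) (Q : PMod O) :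
    IsLocalIso (Q ◁ φ) := by
  have : Q ◁ φ = (β_ Q P').hom ≫ φ ▷ Q ≫ (β_ P Q).hom := by
    rw [BraidedCategory.braiding_naturality_left, ← Category.assoc, SymmetricCategory.symmetry,
      Category.id_comp]
  rw [this]
  exact (IsLocalIso.of_isIso _).comp ((hφ.whiskerRight Q).comp (IsLocalIso.of_isIso _))

lemma IsLocalIso.tensorHom {P' P Q' Q : PMod O} {φ : P' ⟶ P} {ψ : Q' ⟶ Q} (hφ : IsLocalIso φ)
    (hψ : IsLocalIso ψ) : IsLocalIso (φ ⊗ₘ ψ) := by
  rw [MonoidalCategory.tensorHom_def]
  exact (hφ.whiskerRight Q').comp (hψ.whiskerLeft P)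

/-- the unit of the sheafification adjunction, with clean types -/
def sheafifyUnit (M : PMod O) : M ⟶ toPMod ((ModSite.sheafify O).obj M) :=
  (PresheafOfModules.sheafificationAdjunction (𝟙 (ModSite.ringSh O).obj)).unit.app M

lemma sheafifyHomEquiv_eq (M : PMod O) (F : ModSite.Mod O) (g : (ModSite.sheafify O).obj M ⟶ F) :
    sheafifyHomEquiv M F g = sheafifyUnit M ≫ (show toPMod _ ⟶ toPMod F from g.val) :=
  (PresheafOfModules.sheafificationAdjunction (𝟙 (ModSite.ringSh O).obj)).homEquiv_unit M F g

lemma isLocalIso_sheafifyUnit (M : PMod O) : IsLocalIso (sheafifyUnit M) := by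
  intro G
  have key : (fun γ : toPMod ((ModSite.sheafify O).obj M) ⟶ toPMod G => sheafifyUnit M ≫ γ) =
      (sheafifyHomEquiv M G) ∘ (valEquiv ((ModSite.sheafify O).obj M) G).symm := by
    funext γ
    exact (sheafifyHomEquiv_eq M G ⟨γ⟩).symm
  rw [key]
  exact (Equiv.bijective _).comp (Equiv.bijective _)

lemma isIso_sheafify_map_of_isLocalIso {P' P : PMod O} {φ : P' ⟶ P} (hφ : IsLocalIso φ) :
    IsIso ((ModSite.sheafify O).map φ) := by
  apply isIso_of_coyoneda_map_bijective
  intro G
  have key : (fun x : (ModSite.sheafify O).obj P ⟶ G => (ModSite.sheafify O).map φ ≫ x) =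
      (sheafifyHomEquiv P' G).symm ∘ (fun γ : P ⟶ toPMod G => φ ≫ γ) ∘ (sheafifyHomEquiv P G) := by
    funext x
    apply (sheafifyHomEquiv P' G).injective
    simp only [Function.comp_apply, Equiv.apply_symm_apply]
    exact sheafifyHomEquiv_naturality_left φ x
  rw [key]
  exact (Equiv.bijective _).comp ((hφ G).comp (Equiv.bijective _))

theorem isIso_sheafify_map_tensorHom_units (M N : PMod O) :
    IsIso ((ModSite.sheafify O).map (show (M ⊗ N : PMod O) ⟶
      (toPMod ((ModSite.sheafify O).obj M) ⊗ toPMod ((ModSite.sheafify O).obj N) : PMod O) from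
        sheafifyUnit M ⊗ₘ sheafifyUnit N)) :=
  isIso_sheafify_map_of_isLocalIso
    ((isLocalIso_sheafifyUnit M).tensorHom (isLocalIso_sheafifyUnit N))


section sections

variable (M N : ModSite.Mod O) (X : C)

/-- from a linear family to a morphism of restricted presheaves of abelian groups -/
def famToPresheafHom (α : linSubgroup (toPMod M) (toPMod N) X) :
    ((ModSite.restr O X).obj M).val.presheaf ⟶ ((ModSite.restr O X).obj N).val.presheaf :=
  α.1

/-- linear families over `X` are the morphisms between the restrictions to `C/X` -/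
def sectEquiv : linSubgroup (toPMod M) (toPMod N) X ≃+
    ((ModSite.restr O X).obj M ⟶ (ModSite.restr O X).obj N) where
  toFun α := ⟨PresheafOfModules.homMk (famToPresheafHom M N X α)
    (fun Y r m => α.2 Y.unop.hom r m)⟩
  invFun f := ⟨(PresheafOfModules.toPresheaf _).map f.val,
    fun {V} g r q => (f.val.app (op (Over.mk g))).hom.map_smul r q⟩
  left_inv α := by
    apply Subtype.ext
    rfl
  right_inv f := by
    apply SheafOfModules.hom_ext
    rfl
  map_add' α β := by
    apply SheafOfModules.hom_ext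
    rfl



/-- the chosen internal hom agrees with the explicit one -/
def sheafHomIso (M : ModSite.Mod O) [ModSite.HasSheafHom M] :
    ModSite.sheafHom M ≅ Adjunction.rightAdjointOfEquiv (fun M' F => tensorHomEquiv M M' F)
        (fun _ _ F f g => tensorHomEquiv_naturality M F f g) :=
  (ModSite.sheafHomAdj M).rightAdjointUniq (tensorHomAdj M)

/-- the chosen internal hom agrees with the explicit one, objectwise -/
def sheafHomObjIso (M N : ModSite.Mod O) [ModSite.HasSheafHom M] :
    (ModSite.sheafHom M).obj N ≅ sheafIHom M N :=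
  (sheafHomIso M).app N

/-- an isomorphism of sheaves of modules induces an additive equivalence on sections -/
def sectAddEquivOfIso {A B : ModSite.Mod O} (e : A ≅ B) (X : C) :
    ModSite.sect A X ≃+ ModSite.sect B X :=
  (((SheafOfModules.forget _ ⋙ PresheafOfModules.evaluation _ (op X)).mapIso e).toLinearEquiv).toAddEquiv

/-- sections of the internal hom are morphisms between restrictions -/
def sectSheafHomEquiv (M N : ModSite.Mod O) [ModSite.HasSheafHom M] (X : C) :
    ModSite.sect ((ModSite.sheafHom M).obj N) X ≃+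
      ((ModSite.restr O X).obj M ⟶ (ModSite.restr O X).obj N) :=
  (sectAddEquivOfIso (sheafHomObjIso M N) X).trans (sectEquiv M N X)


end sections

section restr

variable (M N : ModSite.Mod O) (X : C)

/-- restriction of a sheaf of modules to `C/X`, as a presheaf of modules -/
abbrev rP (M : ModSite.Mod O) (X : C) : PMod (O.over X) := toPMod ((ModSite.restr O X).obj M)

example (Z : Over X) : (rP M X).obj (op Z) = (toPMod M).obj (op Z.left) := rfl

lemma rs_rP {Z Z' : Over X} (k : Z' ⟶ Z) (m : (toPMod M).obj (op Z.left)) :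
    rs (rP M X) k m = rs (toPMod M) k.left m := rfl

lemma rmap_over {Z Z' : Over X} (k : Z' ⟶ Z) (r : O.obj.obj (op Z.left)) :
    rmap (R := (O.over X).obj) k r = rmap (R := O.obj) k.left r := rfl

/-- a family over `Y.left` in `C` gives a family over `Y` in `C/X` -/
def overFam {Y : Over X} (α : HomAb (toPMod M) (toPMod N) Y.left) :
    HomAb (rP M X) (rP N X) Y :=
  mkHomAb (fun {Z} h => (α.app (op (Over.mk h.left))).hom) (by
    intro Z Z' h k q
    exact ev_naturality α h.left k.left q)

@[simp] lemma ev_overFam {Y : Over X} (α : HomAb (toPMod M) (toPMod N) Y.left) {Z : Over X}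
    (h : Z ⟶ Y) (q : (toPMod M).obj (op Z.left)) :
    ev (overFam M N X α) h q = ev α h.left q := rfl

/-- a family over `Y` in `C/X` gives a family over `Y.left` in `C` -/
def underFam {Y : Over X} (β : HomAb (rP M X) (rP N X) Y) :
    HomAb (toPMod M) (toPMod N) Y.left :=
  mkHomAb (fun {V} g => (β.app (op (Over.mk (Over.homMk g : Over.mk (g ≫ Y.hom) ⟶ Y)))).hom) (by
    intro V W g h q
    have := ev_naturality β (Over.homMk g : Over.mk (g ≫ Y.hom) ⟶ Y)
      (Over.homMk h (by simp) : Over.mk ((h ≫ g) ≫ Y.hom) ⟶ Over.mk (g ≫ Y.hom)) q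
    exact this)





@[simp] lemma ev_underFam {Y : Over X} (β : HomAb (rP M X) (rP N X) Y) {V : C} (g : V ⟶ Y.left)
    (q : (toPMod M).obj (op V)) :
    ev (underFam M N X β) g q =
      ev β (Over.homMk g : Over.mk (g ≫ Y.hom) ⟶ Y) q := rfl

lemma underFam_overFam {Y : Over X} (α : HomAb (toPMod M) (toPMod N) Y.left) :
    underFam M N X (overFam M N X α) = α :=
  hom_ext' fun _ _ => rfl

lemma ev_homMk_left {Y : Over X} (β : HomAb (rP M X) (rP N X) Y) {Z : Over X} (h : Z ⟶ Y)
    (q : (rP M X).obj (op Z)) :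
    ev β (Over.homMk h.left : Over.mk (h.left ≫ Y.hom) ⟶ Y) q = ev β h q := by
  let k : Over.mk (h.left ≫ Y.hom) ⟶ Z := Over.homMk (𝟙 Z.left) (by simp)
  have h1 := ev_naturality β h k q
  have h2 : k ≫ h = (Over.homMk h.left : Over.mk (h.left ≫ Y.hom) ⟶ Y) := by
    ext
    simp [k]
  have h3 : rs (rP N X) k (ev β h q) = ev β h q :=
    rs_id (toPMod N) (show (toPMod N).obj (op Z.left) from ev β h q)
  have h4 : rs (rP M X) k q = q :=
    rs_id (toPMod M) (show (toPMod M).obj (op Z.left) from q)
  have h5 : ev β (k ≫ h) (rs (rP M X) k q) =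
      ev β (Over.homMk h.left : Over.mk (h.left ≫ Y.hom) ⟶ Y) q := by
    rw [h2]
    exact congrArg _ h4
  exact (h5.symm.trans h1.symm).trans h3

lemma overFam_underFam {Y : Over X} (β : HomAb (rP M X) (rP N X) Y) :
    overFam M N X (underFam M N X β) = β :=
  hom_ext' fun h q => ev_homMk_left M N X β h q

lemma overFam_mem {Y : Over X} {α : HomAb (toPMod M) (toPMod N) Y.left}
    (hα : α ∈ linSubgroup (toPMod M) (toPMod N) Y.left) :
    overFam M N X α ∈ linSubgroup (rP M X) (rP N X) Y := by
  intro Z h r q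
  exact hα h.left r q

lemma underFam_mem {Y : Over X} {β : HomAb (rP M X) (rP N X) Y}
    (hβ : β ∈ linSubgroup (rP M X) (rP N X) Y) :
    underFam M N X β ∈ linSubgroup (toPMod M) (toPMod N) Y.left := by
  intro V g r q
  have h := hβ (Over.homMk g : Over.mk (g ≫ Y.hom) ⟶ Y)
    (show (O.over X).obj.obj (op (Over.mk (g ≫ Y.hom))) from r)
    (show (rP M X).obj (op (Over.mk (g ≫ Y.hom))) from q)
  exact h

/-- sections of the internal hom over `Y.left` and sections of the internal hom of the restrictions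
over `Y` -/
def overAddEquiv (Y : Over X) :
    linSubgroup (toPMod M) (toPMod N) Y.left ≃+ linSubgroup (rP M X) (rP N X) Y where
  toFun α := ⟨overFam M N X α.1, overFam_mem M N X α.2⟩
  invFun β := ⟨underFam M N X β.1, underFam_mem M N X β.2⟩
  left_inv α := Subtype.ext (underFam_overFam M N X α.1)
  right_inv β := Subtype.ext (overFam_underFam M N X β.1)
  map_add' α β := ext_lin fun h q => rfl





/-- forward map of `restrIHomIsoP` -/
def restrIHomFwd (Y : Over X) : (rP (sheafIHom M N) X).obj (op Y) ⟶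
    (toPMod (sheafIHom ((ModSite.restr O X).obj M) ((ModSite.restr O X).obj N))).obj (op Y) :=
  ModuleCat.ofHom (R := ((O.over X).obj ⋙ forget₂ CommRingCat RingCat).obj (op Y))
    (X := (rP (sheafIHom M N) X).obj (op Y))
    (Y := (toPMod (sheafIHom ((ModSite.restr O X).obj M) ((ModSite.restr O X).obj N))).obj (op Y))
    { toFun := fun α => overAddEquiv M N X Y α
      map_add' := fun α β => (overAddEquiv M N X Y).map_add α β
      map_smul' := fun r α => ext_lin fun h q => rfl }

/-- backward map of `restrIHomIsoP` -/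
def restrIHomBwd (Y : Over X) :
    (toPMod (sheafIHom ((ModSite.restr O X).obj M) ((ModSite.restr O X).obj N))).obj (op Y) ⟶
      (rP (sheafIHom M N) X).obj (op Y) :=
  ModuleCat.ofHom (R := ((O.over X).obj ⋙ forget₂ CommRingCat RingCat).obj (op Y))
    (X := (toPMod (sheafIHom ((ModSite.restr O X).obj M) ((ModSite.restr O X).obj N))).obj (op Y))
    (Y := (rP (sheafIHom M N) X).obj (op Y))
    { toFun := fun β => (overAddEquiv M N X Y).symm β
      map_add' := fun α β => (overAddEquiv M N X Y).symm.map_add α β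
      map_smul' := fun r α => ext_lin fun h q => rfl }

/-- restriction commutes with the internal hom, on underlying presheaves of modules -/
def restrIHomIsoP : rP (sheafIHom M N) X ≅
    toPMod (sheafIHom ((ModSite.restr O X).obj M) ((ModSite.restr O X).obj N)) :=
  PresheafOfModules.isoMk (fun Y =>
    { hom := restrIHomFwd M N X Y.unop
      inv := restrIHomBwd M N X Y.unop
      hom_inv_id := by
        ext α
        change (overAddEquiv M N X Y.unop).symm ((overAddEquiv M N X Y.unop) α) = α
        exact (overAddEquiv M N X Y.unop).symm_apply_apply α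
      inv_hom_id := by
        ext β
        change (overAddEquiv M N X Y.unop) ((overAddEquiv M N X Y.unop).symm β) = β
        exact (overAddEquiv M N X Y.unop).apply_symm_apply β }) (by
    intro Y Y' k
    ext α
    apply ext_lin
    intro Z h q
    rfl)

/-- restriction commutes with the internal hom -/
def restrIHomIso : (ModSite.restr O X).obj (sheafIHom M N) ≅
    sheafIHom ((ModSite.restr O X).obj M) ((ModSite.restr O X).obj N) :=
  (SheafOfModules.fullyFaithfulForget _).preimageIso (restrIHomIsoP M N X)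

end restr


/-- restriction commutes with the chosen internal hom -/
def restrSheafHomIso (M N : ModSite.Mod O) (X : C) [ModSite.HasSheafHom M]
    [ModSite.HasSheafHom ((ModSite.restr O X).obj M)] :
    (ModSite.restr O X).obj ((ModSite.sheafHom M).obj N) ≅
      (ModSite.sheafHom ((ModSite.restr O X).obj M)).obj ((ModSite.restr O X).obj N) :=
  (ModSite.restr O X).mapIso (sheafHomObjIso M N) ≪≫ restrIHomIso M N X ≪≫
    (sheafHomObjIso ((ModSite.restr O X).obj M) ((ModSite.restr O X).obj N)).symm


end site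

section functoriality

variable {C : Type u} [SmallCategory C] {R : Cᵒᵖ ⥤ CommRingCat.{u}}
variable {P Q F F' : PresheafOfModules.{u} (R ⋙ forget₂ CommRingCat RingCat)}

/-- apply a morphism of presheaves of modules to a section -/
def appE (φ : F ⟶ F') {V : C} (x : F.obj (op V)) : F'.obj (op V) := (φ.app (op V)).hom x

lemma appE_add (φ : F ⟶ F') {V : C} (x y : F.obj (op V)) :
    appE φ (x + y) = appE φ x + appE φ y := map_add (φ.app (op V)).hom x y

lemma appE_smul (φ : F ⟶ F') {V : C} (r : R.obj (op V)) (x : F.obj (op V)) :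
    appE φ (r • x) = r • appE φ x := (φ.app (op V)).hom.map_smul r x

lemma appE_rs (φ : F ⟶ F') {U V : C} (g : V ⟶ U) (x : F.obj (op U)) :
    appE φ (rs F g x) = rs F' g (appE φ x) := hom_rs φ g x

/-- post-composition of a family with a morphism -/
def postFam (φ : F ⟶ F') {U : C} (α : HomAb Q F U) : HomAb Q F' U :=
  mkHomAb (fun {V} g => AddMonoidHom.mk' (fun q => appE φ (ev α g q)) (by
      intro q q'
      rw [ev_add, appE_add]))
    (by
      intro V W g h q
      show rs F' h (appE φ (ev α g q)) = appE φ (ev α (h ≫ g) (rs Q h q))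
      rw [← appE_rs, ev_naturality])

@[simp] lemma ev_postFam (φ : F ⟶ F') {U : C} (α : HomAb Q F U) {V : C} (g : V ⟶ U)
    (q : Q.obj (op V)) : ev (postFam φ α) g q = appE φ (ev α g q) := rfl

lemma postFam_mem (φ : F ⟶ F') {U : C} {α : HomAb Q F U} (hα : α ∈ linSubgroup Q F U) :
    postFam φ α ∈ linSubgroup Q F' U := by
  intro V g r q
  rw [ev_postFam, ev_postFam, hα, appE_smul]

/-- post-composition, sectionwise -/
def postLin (φ : F ⟶ F') (U : C) : linSubgroup Q F U →ₗ[R.obj (op U)] linSubgroup Q F' U where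
  toFun α := ⟨postFam φ α.1, postFam_mem φ α.2⟩
  map_add' α β := ext_lin fun g q => by
    show appE φ (ev (α.1 + β.1) g q) = ev (postFam φ α.1 + postFam φ β.1) g q
    rw [add_ev, add_ev, appE_add]
    rfl
  map_smul' r α := ext_lin fun g q => by
    show appE φ (ev (r • α).1 g q) = ev (r • (⟨postFam φ α.1, postFam_mem φ α.2⟩ :
      linSubgroup Q F' U)).1 g q
    rw [ev_smul, ev_smul, appE_smul]
    rfl

lemma ev_postLin (φ : F ⟶ F') {U : C} (α : linSubgroup Q F U) {V : C} (g : V ⟶ U)
    (q : Q.obj (op V)) : ev (postLin φ U α).1 g q = appE φ (ev α.1 g q) := rfl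

variable (Q) in
/-- functoriality of the internal hom in the second variable -/
def ihomMap (φ : F ⟶ F') : ihom Q F ⟶ ihom Q F' where
  app X := ModuleCat.ofHom (X := (ihom Q F).obj X) (Y := (ihom Q F').obj X) (postLin φ X.unop)
  naturality {X Y} f := by
    ext α
    apply ext_lin
    intro V g q
    rfl

lemma curry_naturality_right (β : P ⊗ Q ⟶ F) (φ : F ⟶ F') :
    curry (β ≫ φ) = curry β ≫ ihomMap Q φ := by
  apply PresheafOfModules.hom_ext
  intro X
  ext p
  apply ext_lin
  intro V g q
  rfl

end functoriality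



section site2

variable {C : Type u} [SmallCategory C] {J : GrothendieckTopology C} {O : Sheaf J CommRingCat.{u}}

/-- the explicit internal hom functor `Hom_O(N, -)` -/
def HFun (N : ModSite.Mod O) : ModSite.Mod O ⥤ ModSite.Mod O :=
  Adjunction.rightAdjointOfEquiv (fun M F => tensorHomEquiv N M F)
    (fun _ _ F f g => tensorHomEquiv_naturality N F f g)

/-- the tensor-hom adjunction with the explicit internal hom functor -/
def HAdj (N : ModSite.Mod O) : (ModSite.tensorBi O).flip.obj N ⊣ HFun N :=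
  tensorHomAdj N

lemma HFun_obj (N F : ModSite.Mod O) : (HFun N).obj F = sheafIHom N F := rfl

lemma sheafifyHomEquiv_naturality_right {X : PMod O} {F F' : ModSite.Mod O}
    (g : (ModSite.sheafify O).obj X ⟶ F) (φ : F ⟶ F') :
    sheafifyHomEquiv X F' (g ≫ φ) =
      sheafifyHomEquiv X F g ≫ (show toPMod F ⟶ toPMod F' from φ.val) :=
  (PresheafOfModules.sheafificationAdjunction (𝟙 (ModSite.ringSh O).obj)).homEquiv_naturality_right
    g φ

lemma tensorHomEquiv_naturality_right (N M : ModSite.Mod O) {F F' : ModSite.Mod O}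
    (g : ((ModSite.tensorBi O).flip.obj N).obj M ⟶ F) (φ : F ⟶ F') :
    (tensorHomEquiv N M F' (g ≫ φ)).val =
      (tensorHomEquiv N M F g).val ≫
        ihomMap (toPMod N) (show toPMod F ⟶ toPMod F' from φ.val) := by
  have h1 := sheafifyHomEquiv_naturality_right (X := (toPMod M ⊗ toPMod N : PMod O)) g φ
  have h2 := curry_naturality_right (sheafifyHomEquiv (toPMod M ⊗ toPMod N : PMod O) F g)
    (show toPMod F ⟶ toPMod F' from φ.val)
  exact (congrArg curry h1).trans h2

lemma HFun_map_val (N : ModSite.Mod O) {F F' : ModSite.Mod O} (φ : F ⟶ F') :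
    ((HFun N).map φ).val = ihomMap (toPMod N) (show toPMod F ⟶ toPMod F' from φ.val) := by
  show (tensorHomEquiv N (sheafIHom N F) F'
    ((tensorHomEquiv N (sheafIHom N F) F).symm (𝟙 _) ≫ φ)).val = _
  rw [tensorHomEquiv_naturality_right, Equiv.apply_symm_apply]
  exact Category.id_comp _





lemma restrIHomIso_hom_val (M N : ModSite.Mod O) (X : C) :
    (restrIHomIso M N X).hom.val = (restrIHomIsoP M N X).hom := rfl

lemma restrIHomIso_naturality (N : ModSite.Mod O) (X : C) {F F' : ModSite.Mod O} (φ : F ⟶ F') :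
    (ModSite.restr O X).map ((HFun N).map φ) ≫ (restrIHomIso N F' X).hom =
      (restrIHomIso N F X).hom ≫
        (HFun ((ModSite.restr O X).obj N)).map ((ModSite.restr O X).map φ) := by
  apply SheafOfModules.hom_ext
  have h1 : ((ModSite.restr O X).map ((HFun N).map φ) ≫ (restrIHomIso N F' X).hom).val =
      (show rP (sheafIHom N F) X ⟶ rP (sheafIHom N F') X from
        ((ModSite.restr O X).map ((HFun N).map φ)).val) ≫ (restrIHomIsoP N F' X).hom := rfl
  have h2 : ((restrIHomIso N F X).hom ≫
        (HFun ((ModSite.restr O X).obj N)).map ((ModSite.restr O X).map φ)).val =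
      (restrIHomIsoP N F X).hom ≫ ihomMap (rP N X)
        (show rP F X ⟶ rP F' X from ((ModSite.restr O X).map φ).val) := by
    show (restrIHomIso N F X).hom.val ≫
      ((HFun ((ModSite.restr O X).obj N)).map ((ModSite.restr O X).map φ)).val = _
    rw [HFun_map_val]
    rfl
  rw [h1, h2]
  apply PresheafOfModules.hom_ext
  intro Y
  ext α
  apply ext_lin
  intro Z h q
  have h3 : ((HFun N).map φ).val = ihomMap (toPMod N) (show toPMod F ⟶ toPMod F' from φ.val) :=
    HFun_map_val N φ
  show ev (overFam N F' X ((((HFun N).map φ).val.app (op Y.unop.left)).hom α).1) h q = _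
  rw [h3]
  rfl





/-- restriction commutes with the internal hom, naturally in the second variable -/
def restrHFunIso (N : ModSite.Mod O) (X : C) :
    HFun N ⋙ ModSite.restr O X ≅ ModSite.restr O X ⋙ HFun ((ModSite.restr O X).obj N) :=
  NatIso.ofComponents (fun F => restrIHomIso N F X) (fun φ => restrIHomIso_naturality N X φ)

/-- the projection formula `j_!(P ⊗ j^*N) ≅ j_!P ⊗ N`, as an isomorphism of functors in `P` -/
def projectionFormulaIso (N : ModSite.Mod O) (X : C) :
    (ModSite.tensorBi (O.over X)).flip.obj ((ModSite.restr O X).obj N) ⋙ ModSite.extZero O X ≅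
      ModSite.extZero O X ⋙ (ModSite.tensorBi O).flip.obj N :=
  ((HAdj ((ModSite.restr O X).obj N)).comp (ModSite.extZeroAdj O X)).leftAdjointUniq
    (((ModSite.extZeroAdj O X).comp (HAdj N)).ofNatIsoRight (restrHFunIso N X))

theorem extZero_projection_formula (X : C) (P : ModSite.Mod (O.over X)) (N : ModSite.Mod O) :
    Nonempty ((ModSite.extZero O X).obj
        (((ModSite.tensorBi (O.over X)).obj P).obj ((ModSite.restr O X).obj N)) ≅
      ((ModSite.tensorBi O).obj ((ModSite.extZero O X).obj P)).obj N) :=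
  ⟨(projectionFormulaIso N X).app P⟩

/-- left unit isomorphism for the tensor product of sheaves of modules -/
def tensorUnitIso (G : ModSite.Mod O) : ((ModSite.tensorBi O).obj (ModSite.unit O)).obj G ≅ G :=
  (ModSite.sheafify O).mapIso (show (toPMod (ModSite.unit O) ⊗ toPMod G : PMod O) ≅ toPMod G from
      λ_ (toPMod G)) ≪≫
    (asIso (PresheafOfModules.sheafificationAdjunction (𝟙 (ModSite.ringSh O).obj)).counit).app G

theorem freeOn_tensor_iso (X : C) (M : ModSite.Mod O) :
    Nonempty (((ModSite.tensorBi O).obj (ModSite.freeOn O X)).obj M ≅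
      (ModSite.extZero O X).obj ((ModSite.restr O X).obj M)) :=
  ⟨((projectionFormulaIso M X).app (ModSite.unit (O.over X))).symm ≪≫
    (ModSite.extZero O X).mapIso (tensorUnitIso ((ModSite.restr O X).obj M))⟩

end site2


section restrTensor

variable {C : Type u} [SmallCategory C] {J : GrothendieckTopology C} {O : Sheaf J CommRingCat.{u}}
variable (X : C)

/-- `W` is stable under restriction to `C/X` -/
lemma W_whiskerLeft_overForget {P Q : Cᵒᵖ ⥤ AddCommGrpCat.{u}} (f : P ⟶ Q) (hf : J.W f) :
    (J.over X).W (Functor.whiskerLeft (Over.forget X).op f) := by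
  rw [GrothendieckTopology.W_iff] at hf ⊢
  have e := (Over.forget X).pushforwardContinuousSheafificationCompatibility AddCommGrpCat.{u}
    (J.over X) J
  have nat := e.hom.naturality f
  have : IsIso (((Functor.whiskeringLeft _ _ AddCommGrpCat.{u}).obj (Over.forget X).op ⋙
      presheafToSheaf (J.over X) AddCommGrpCat.{u}).map f) := by
    have h2 : IsIso ((presheafToSheaf J AddCommGrpCat.{u} ⋙
        (Over.forget X).sheafPushforwardContinuous AddCommGrpCat.{u} (J.over X) J).map f) := by
      rw [Functor.comp_map]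
      infer_instance
    have h3 : ((Functor.whiskeringLeft _ _ AddCommGrpCat.{u}).obj (Over.forget X).op ⋙
        presheafToSheaf (J.over X) AddCommGrpCat.{u}).map f =
        e.hom.app P ≫ (presheafToSheaf J AddCommGrpCat.{u} ⋙
          (Over.forget X).sheafPushforwardContinuous AddCommGrpCat.{u} (J.over X) J).map f ≫
          e.inv.app Q := by
      rw [← Category.assoc, ← nat, Category.assoc, Iso.hom_inv_id_app, Category.comp_id]
    rw [h3]
    infer_instance
  exact this





variable (O) in
/-- restriction to `C/X` on presheaves of modules -/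
def restrP : PMod O ⥤ PMod (O.over X) :=
  PresheafOfModules.pushforward (F := Over.forget X) (R := (ModSite.ringSh O).obj)
    (S := ((ModSite.ringSh O).over X).obj) (𝟙 _)

lemma restrP_obj (M : ModSite.Mod O) : (restrP O X).obj (toPMod M) = rP M X := rfl

lemma toPresheaf_restrP_map {A B : PMod O} (ψ : A ⟶ B) :
    (PresheafOfModules.toPresheaf _).map ((restrP O X).map ψ) =
      Functor.whiskerLeft (Over.forget X).op ((PresheafOfModules.toPresheaf _).map ψ) := rfl

lemma isIso_sheafify_map_of_W {A B : PMod O} (ψ : A ⟶ B)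
    (h : J.W ((PresheafOfModules.toPresheaf _).map ψ)) : IsIso ((ModSite.sheafify O).map ψ) := by
  have := PresheafOfModules.inverseImage_W_toPresheaf_eq_inverseImage_isomorphisms.{u}
    (𝟙 (ModSite.ringSh O).obj)
  have h2 : (J.W.inverseImage (PresheafOfModules.toPresheaf (ModSite.ringSh O).obj)) ψ := h
  rw [this] at h2
  exact h2

lemma W_toPresheaf_sheafifyUnit (A : PMod O) :
    J.W ((PresheafOfModules.toPresheaf _).map (sheafifyUnit A)) := by
  show J.W (toSheafify J A.presheaf)
  exact J.W_toSheafify _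

/-- sheafification commutes with restriction to `C/X` -/
def restrSheafifyIso (A : PMod O) :
    (ModSite.sheafify (O.over X)).obj ((restrP O X).obj A) ≅
      (ModSite.restr O X).obj ((ModSite.sheafify O).obj A) :=
  have : IsIso ((ModSite.sheafify (O.over X)).map ((restrP O X).map (sheafifyUnit A))) := by
    apply isIso_sheafify_map_of_W
    rw [toPresheaf_restrP_map]
    exact W_whiskerLeft_overForget X _ (W_toPresheaf_sheafifyUnit A)
  asIso ((ModSite.sheafify (O.over X)).map ((restrP O X).map (sheafifyUnit A))) ≪≫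
    (asIso (PresheafOfModules.sheafificationAdjunction
      (𝟙 (ModSite.ringSh (O.over X)).obj)).counit).app
        ((ModSite.restr O X).obj ((ModSite.sheafify O).obj A))





/-- restriction to `C/X` commutes with the tensor product of presheaves of modules -/
def restrPTensorIso (A B : PMod O) :
    (restrP O X).obj (A ⊗ B) ≅ ((restrP O X).obj A ⊗ (restrP O X).obj B : PMod (O.over X)) :=
  PresheafOfModules.isoMk (fun Y => Iso.refl _) (by
    intro Y Y' k
    refine ModuleCat.MonoidalCategory.tensor_ext (R := O.obj.obj (op Y.unop.left))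
      (M₁ := A.obj (op Y.unop.left)) (M₂ := B.obj (op Y.unop.left)) ?_
    intro a b
    rfl)

/-- restriction to `C/X` commutes with the tensor product of sheaves of modules -/
def restrTensorIso (M N : ModSite.Mod O) :
    (ModSite.restr O X).obj (((ModSite.tensorBi O).obj M).obj N) ≅
      ((ModSite.tensorBi (O.over X)).obj ((ModSite.restr O X).obj M)).obj
        ((ModSite.restr O X).obj N) :=
  (restrSheafifyIso X (toPMod M ⊗ toPMod N : PMod O)).symm ≪≫
    (ModSite.sheafify (O.over X)).mapIso (restrPTensorIso X (toPMod M) (toPMod N))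

end restrTensor


end Groth.Agent.Lib.Helper17.IHom
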