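import Mathlib
import Groth.Prelude.Def_ModSite
import Groth.Agent.Lib.Helper17.ExtZeroP
import Groth.Agent.Lib.Helper17.IHom

open CategoryTheory CategoryTheory.Limits Opposite

universe u

noncomputable section

namespace Groth.Agent.Lib.Helper17.ExtZero

open Groth.Agent.Lib.Helper17.ExtZeroP

variable {C : Type u} [SmallCategory C] {J : GrothendieckTopology C} (O : Sheaf J CommRingCat.{u})
  (U : C)

/-- presheaves of modules on `C/U` over the restricted presheaf of rings -/
abbrev PModU : Type (u + 1) := PresheafOfModules.{u} (RU U (ModSite.ringSh O).obj)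

/-- the forgetful functor from sheaves of modules on `C/U` -/
def forgetU : ModSite.Mod (O.over U) ⥤ PModU O U :=
  SheafOfModules.forget (ModSite.ringSh (O.over U))

/-- sheafification on `C` -/
def shf : PresheafOfModules.{u} (ModSite.ringSh O).obj ⥤ ModSite.Mod O := ModSite.sheafify O

/-- the forgetful functor from sheaves of modules on `C` -/
def forgetC : ModSite.Mod O ⥤ PresheafOfModules.{u} (ModSite.ringSh O).obj :=
  SheafOfModules.forget (ModSite.ringSh O)

/-- the explicit extension by zero on sheaves of modules -/
def extZero' : ModSite.Mod (O.over U) ⥤ ModSite.Mod O :=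
  forgetU O U ⋙ jPF U (ModSite.ringSh O).obj ⋙ shf O

/-- the adjunction between sheafification and the forgetful functor -/
def shfAdj : shf O ⊣ forgetC O :=
  PresheafOfModules.sheafificationAdjunction (𝟙 (ModSite.ringSh O).obj)

/-- the explicit extension by zero is left adjoint to restriction -/
def extZero'Adj : extZero' O U ⊣ ModSite.restr O U :=
  ((jPAdj U (ModSite.ringSh O).obj).comp (shfAdj O)).restrictFullyFaithful
    (iC := forgetU O U) (iD := 𝟭 _)
    (SheafOfModules.fullyFaithfulForget _) (Functor.FullyFaithful.id _) (Iso.refl _) (Iso.refl _)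

/-- the chosen extension by zero is the explicit one -/
def extZeroIso : ModSite.extZero O U ≅ extZero' O U :=
  (ModSite.extZeroAdj O U).leftAdjointUniq (extZero'Adj O U)

instance forgetU_preservesMonomorphisms : (forgetU O U).PreservesMonomorphisms :=
  inferInstanceAs (SheafOfModules.forget (ModSite.ringSh (O.over U))).PreservesMonomorphisms

instance shf_preservesFiniteLimits : PreservesFiniteLimits (shf O) := by
  unfold shf
  infer_instance

instance shf_preservesMonomorphisms : (shf O).PreservesMonomorphisms := inferInstance

instance extZero'_preservesMonomorphisms : (extZero' O U).PreservesMonomorphisms := by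
  unfold extZero'
  infer_instance

instance extZero_preservesMonomorphisms : (ModSite.extZero O U).PreservesMonomorphisms :=
  Functor.PreservesMonomorphisms.of_iso (extZeroIso O U).symm

instance restr_additive : (ModSite.restr O U).Additive where

instance extZero_additive : (ModSite.extZero O U).Additive :=
  (ModSite.extZeroAdj O U).left_adjoint_additive

instance extZero_preservesFiniteColimits : PreservesFiniteColimits (ModSite.extZero O U) := by
  have := (ModSite.extZeroAdj O U).leftAdjoint_preservesColimits
  infer_instance

instance extZero_preservesHomology : (ModSite.extZero O U).PreservesHomology :=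
  Functor.preservesHomology_of_preservesMonos_and_cokernels _

theorem extZero_preservesFiniteLimits : PreservesFiniteLimits (ModSite.extZero O U) :=
  Functor.preservesFiniteLimits_of_preservesHomology _

/-- sheafification on `C/U` -/
def shfU : PModU O U ⥤ ModSite.Mod (O.over U) := ModSite.sheafify (O.over U)

/-- the adjunction between sheafification and the forgetful functor on `C/U` -/
def shfUAdj : shfU O U ⊣ forgetU O U :=
  PresheafOfModules.sheafificationAdjunction (𝟙 (ModSite.ringSh (O.over U)).obj)

instance shfU_preservesFiniteLimits : PreservesFiniteLimits (shfU O U) :=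
  inferInstanceAs (PreservesFiniteLimits
    (PresheafOfModules.sheafification.{u} (𝟙 (ModSite.ringSh (O.over U)).obj)))

instance : IsIso (shfUAdj O U).counit :=
  inferInstanceAs (IsIso
    (PresheafOfModules.sheafificationAdjunction.{u} (𝟙 (ModSite.ringSh (O.over U)).obj)).counit)

lemma unit_val (G : ModSite.Mod (O.over U)) :
    (forgetU O U).map ((extZero'Adj O U).unit.app G) =
      (jPAdj U (ModSite.ringSh O).obj).unit.app ((forgetU O U).obj G) ≫
        (resP U (ModSite.ringSh O).obj).map
          ((shfAdj O).unit.app (jP ((forgetU O U).obj G))) := by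
  have h := Adjunction.map_restrictFullyFaithful_unit_app (iC := forgetU O U) (iD := 𝟭 _)
    (adj := (jPAdj U (ModSite.ringSh O).obj).comp (shfAdj O))
    (SheafOfModules.fullyFaithfulForget _) (Functor.FullyFaithful.id _)
    (L := extZero' O U) (R := ModSite.restr O U) (Iso.refl _) (Iso.refl _) G
  refine h.trans ?_
  rw [Adjunction.comp_unit_app]
  simp
  rfl

lemma mono_jPAdj_unit (G : PModU O U) :
    Mono ((jPAdj U (ModSite.ringSh O).obj).unit.app G) := by
  rw [PresheafOfModules.mono_iff_surjective]
  intro Y
  rw [← ModuleCat.mono_iff_injective]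
  have : DecidableEq (Y.unop.left ⟶ U) := Classical.decEq _
  have h : Mono (Sigma.ι (smd G Y.unop.left) Y.unop.hom) := inferInstance
  have e : ((jPAdj U (ModSite.ringSh O).obj).unit.app G).app Y =
      Sigma.ι (smd G Y.unop.left) Y.unop.hom :=
    Category.comp_id (Sigma.ι (smd G Y.unop.left) Y.unop.hom)
  rw [e]
  exact h

lemma isIso_shfU_map_resP_unit (P : PresheafOfModules.{u} (ModSite.ringSh O).obj) :
    IsIso ((shfU O U).map ((resP U (ModSite.ringSh O).obj).map ((shfAdj O).unit.app P))) := by
  have h := IHom.W_whiskerLeft_overForget (J := J) U _ (IHom.W_toPresheaf_sheafifyUnit (O := O) P)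
  exact IHom.isIso_sheafify_map_of_W (O := O.over U)
    ((IHom.restrP O U).map (IHom.sheafifyUnit (O := O) P)) h

omit O U in
lemma mono_map_comp_of {A B : Type*} [Category A] [Category B] (F : A ⥤ B) {X Y Z : A}
    (f : X ⟶ Y) (g : Y ⟶ Z) (h1 : Mono (F.map f)) (h2 : IsIso (F.map g)) {k : X ⟶ Z}
    (hk : k = f ≫ g) : Mono (F.map k) := by
  subst hk
  rw [F.map_comp]
  infer_instance

theorem mono_unit (G : ModSite.Mod (O.over U)) : Mono ((extZero'Adj O U).unit.app G) := by
  have h1 : Mono ((shfU O U).map ((forgetU O U).map ((extZero'Adj O U).unit.app G))) := by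
    have m1 : Mono ((shfU O U).map
        ((jPAdj U (ModSite.ringSh O).obj).unit.app ((forgetU O U).obj G))) := by
      have := mono_jPAdj_unit O U ((forgetU O U).obj G)
      infer_instance
    exact mono_map_comp_of (shfU O U) _ _ m1
      (isIso_shfU_map_resP_unit O U (jP ((forgetU O U).obj G))) (unit_val O U G)
  have e := asIso (shfUAdj O U).counit
  have h2 : (extZero'Adj O U).unit.app G =
      e.inv.app G ≫ (shfU O U).map ((forgetU O U).map ((extZero'Adj O U).unit.app G)) ≫
        e.hom.app _ := by
    have := e.hom.naturality ((extZero'Adj O U).unit.app G)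
    simp only [Functor.comp_map, Functor.id_map] at this
    rw [this]
    simp
  rw [h2]
  infer_instance

instance extZero'_faithful : (extZero' O U).Faithful where
  map_injective {G G'} f g h := by
    have := mono_unit O U G'
    have hf := (extZero'Adj O U).unit.naturality f
    have hg := (extZero'Adj O U).unit.naturality g
    simp only [Functor.id_map, Functor.comp_map] at hf hg
    rw [← cancel_mono ((extZero'Adj O U).unit.app G'), hf, hg, h]

instance extZero_faithful : (ModSite.extZero O U).Faithful :=
  Functor.Faithful.of_iso (extZeroIso O U).symm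

theorem exact_of_exact_map_extZero (S : ShortComplex (ModSite.Mod (O.over U)))
    (h : (S.map (ModSite.extZero O U)).Exact) : S.Exact :=
  (ShortComplex.exact_map_iff_of_faithful S (ModSite.extZero O U)).1 h

end Groth.Agent.Lib.Helper17.ExtZero
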