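import Mathlib
import Groth.Prelude.Def_ModSite
import Groth.Agent.Lib.Helper17.IHom

open CategoryTheory CategoryTheory.Limits Opposite MonoidalCategory

universe u

noncomputable section

namespace Groth.Agent.Lib.Helper17.HomBifun

open Groth.Agent.Lib.Helper17.IHom

section pre

variable {C : Type u} [SmallCategory C] {R : Cᵒᵖ ⥤ CommRingCat.{u}}
variable {P Q Q' F F' : PresheafOfModules.{u} (R ⋙ forget₂ CommRingCat RingCat)}

/-- pre-composition of a family with a morphism -/
def preFam (ψ : Q' ⟶ Q) {U : C} (α : HomAb Q F U) : HomAb Q' F U :=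
  mkHomAb (fun {V} g => AddMonoidHom.mk' (fun q => ev α g (appE ψ q)) (by
      intro q q'
      rw [appE_add, ev_add]))
    (by
      intro V W g h q
      show rs F h (ev α g (appE ψ q)) = ev α (h ≫ g) (appE ψ (rs Q' h q))
      rw [appE_rs, ev_naturality])

@[simp] lemma ev_preFam (ψ : Q' ⟶ Q) {U : C} (α : HomAb Q F U) {V : C} (g : V ⟶ U)
    (q : Q'.obj (op V)) : ev (preFam ψ α) g q = ev α g (appE ψ q) := rfl

lemma preFam_mem (ψ : Q' ⟶ Q) {U : C} {α : HomAb Q F U} (hα : α ∈ linSubgroup Q F U) :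
    preFam ψ α ∈ linSubgroup Q' F U := by
  intro V g r q
  rw [ev_preFam, ev_preFam, appE_smul, hα]

/-- pre-composition, sectionwise -/
def preLin (ψ : Q' ⟶ Q) (U : C) : linSubgroup Q F U →ₗ[R.obj (op U)] linSubgroup Q' F U where
  toFun α := ⟨preFam ψ α.1, preFam_mem ψ α.2⟩
  map_add' α β := ext_lin fun g q => by
    show ev (α.1 + β.1) g (appE ψ q) = ev (preFam ψ α.1 + preFam ψ β.1) g q
    rw [add_ev, add_ev]
    rfl
  map_smul' r α := ext_lin fun g q => by
    show ev (r • α).1 g (appE ψ q) = ev (r • (⟨preFam ψ α.1, preFam_mem ψ α.2⟩ :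
      linSubgroup Q' F U)).1 g q
    rw [ev_smul, ev_smul]
    rfl

lemma ev_preLin (ψ : Q' ⟶ Q) {U : C} (α : linSubgroup Q F U) {V : C} (g : V ⟶ U)
    (q : Q'.obj (op V)) : ev (preLin ψ U α).1 g q = ev α.1 g (appE ψ q) := rfl

variable (F) in
/-- functoriality of the internal hom in the first variable -/
def ihomPre (ψ : Q' ⟶ Q) : ihom Q F ⟶ ihom Q' F where
  app X := ModuleCat.ofHom (X := (ihom Q F).obj X) (Y := (ihom Q' F).obj X) (preLin ψ X.unop)
  naturality {X Y} f := by
    ext α
    apply ext_lin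
    intro V g q
    rfl

lemma curry_naturality_middle (β : P ⊗ Q ⟶ F) (ψ : Q' ⟶ Q) :
    curry (P ◁ ψ ≫ β) = curry β ≫ ihomPre F ψ := by
  apply PresheafOfModules.hom_ext
  intro X
  ext p
  apply ext_lin
  intro V g q
  rfl

lemma ihomPre_ihomMap (ψ : Q' ⟶ Q) (φ : F ⟶ F') :
    ihomPre F ψ ≫ ihomMap Q' φ = ihomMap Q φ ≫ ihomPre F' ψ := by
  apply PresheafOfModules.hom_ext
  intro X
  ext α
  apply ext_lin
  intro V g q
  rfl

end pre

section site

variable {C : Type u} [SmallCategory C] {J : GrothendieckTopology C} {O : Sheaf J CommRingCat.{u}}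

/-- underlying morphism of presheaves of modules, with clean types -/
abbrev pv {M N : ModSite.Mod O} (f : M ⟶ N) : toPMod M ⟶ toPMod N := f.val

/-- pre-composition on the internal hom of sheaves of modules -/
def HPreApp {N N' : ModSite.Mod O} (g : N ⟶ N') (F : ModSite.Mod O) :
    sheafIHom N' F ⟶ sheafIHom N F :=
  ⟨ihomPre (toPMod F) (pv g)⟩

lemma HPreApp_val {N N' : ModSite.Mod O} (g : N ⟶ N') (F : ModSite.Mod O) :
    (HPreApp g F).val = ihomPre (toPMod F) (pv g) := rfl

/-- functoriality of the internal hom functor in the first variable -/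
def HPre {N N' : ModSite.Mod O} (g : N ⟶ N') : HFun N' ⟶ HFun N where
  app F := HPreApp g F
  naturality F F' φ := by
    apply SheafOfModules.hom_ext
    show ((HFun N').map φ).val ≫ (HPreApp g F').val = (HPreApp g F).val ≫ ((HFun N).map φ).val
    rw [HFun_map_val, HFun_map_val]
    exact (ihomPre_ihomMap (pv g) (pv φ)).symm

lemma tensorHomEquiv_naturality_middle {N N' : ModSite.Mod O} (g : N ⟶ N') (M F : ModSite.Mod O)
    (f : ((ModSite.tensorBi O).flip.obj N').obj M ⟶ F) :
    tensorHomEquiv N M F (((ModSite.tensorBi O).flip.map g).app M ≫ f) =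
      tensorHomEquiv N' M F f ≫ HPreApp g F := by
  apply SheafOfModules.hom_ext
  have h1 := sheafifyHomEquiv_naturality_left (F := F)
    (toPMod M ◁ pv g : (toPMod M ⊗ toPMod N : PMod O) ⟶ toPMod M ⊗ toPMod N') f
  have h2 := curry_naturality_middle (sheafifyHomEquiv (toPMod M ⊗ toPMod N' : PMod O) F f) (pv g)
  exact (congrArg curry h1).trans h2

lemma HAdj_homEquiv (N M F : ModSite.Mod O) :
    (HAdj N).homEquiv M F = tensorHomEquiv N M F :=
  congrFun (congrFun (Adjunction.mkOfHomEquiv_homEquiv _) M) F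

lemma HAdj_homEquiv_apply (N M F : ModSite.Mod O) (f : ((ModSite.tensorBi O).flip.obj N).obj M ⟶ F) :
    (HAdj N).unit.app M ≫ (HFun N).map f = tensorHomEquiv N M F f :=
  ((HAdj N).homEquiv_unit M F f).symm.trans (congrFun (congrArg DFunLike.coe (HAdj_homEquiv N M F)) f)

lemma conjugateEquiv_flip_map {N N' : ModSite.Mod O} (g : N ⟶ N') :
    conjugateEquiv (HAdj N') (HAdj N) ((ModSite.tensorBi O).flip.map g) = HPre g := by
  ext F : 2
  rw [conjugateEquiv_apply_app]
  have key := tensorHomEquiv_naturality_middle g ((HFun N').obj F) F ((HAdj N').counit.app F)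
  have e2 : tensorHomEquiv N' ((HFun N').obj F) F ((HAdj N').counit.app F) = 𝟙 _ :=
    (HAdj_homEquiv_apply N' _ F _).symm.trans ((HAdj N').right_triangle_components F)
  have e3 : tensorHomEquiv N' ((HFun N').obj F) F ((HAdj N').counit.app F) ≫ HPreApp g F =
      HPreApp g F := (congrArg (· ≫ HPreApp g F) e2).trans (Category.id_comp _)
  have e4 := (HAdj_homEquiv_apply N ((HFun N').obj F) F
    (((ModSite.tensorBi O).flip.map g).app ((HFun N').obj F) ≫ (HAdj N').counit.app F))
  rw [← Functor.map_comp]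
  exact e4.trans (key.trans e3)

lemma restrIHomIso_naturality_left {N N' : ModSite.Mod O} (g : N ⟶ N') (F : ModSite.Mod O) (X : C) :
    (ModSite.restr O X).map ((HPre g).app F) ≫ (restrIHomIso N F X).hom =
      (restrIHomIso N' F X).hom ≫
        (HPre ((ModSite.restr O X).map g)).app ((ModSite.restr O X).obj F) := by
  apply SheafOfModules.hom_ext
  have h1 : ((ModSite.restr O X).map ((HPre g).app F) ≫ (restrIHomIso N F X).hom).val =
      (show rP (sheafIHom N' F) X ⟶ rP (sheafIHom N F) X from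
        ((ModSite.restr O X).map ((HPre g).app F)).val) ≫ (restrIHomIsoP N F X).hom := rfl
  have h2 : ((restrIHomIso N' F X).hom ≫
        (HPre ((ModSite.restr O X).map g)).app ((ModSite.restr O X).obj F)).val =
      (restrIHomIsoP N' F X).hom ≫ ihomPre (rP F X)
        (show rP N X ⟶ rP N' X from ((ModSite.restr O X).map g).val) := rfl
  rw [h1, h2]
  apply PresheafOfModules.hom_ext
  intro Y
  ext α
  apply ext_lin
  intro Z h q
  rfl

lemma restrHFunIso_naturality_left {N N' : ModSite.Mod O} (g : N ⟶ N') (X : C) :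
    Functor.whiskerRight (HPre g) (ModSite.restr O X) ≫ (restrHFunIso N X).hom =
      (restrHFunIso N' X).hom ≫
        Functor.whiskerLeft (ModSite.restr O X) (HPre ((ModSite.restr O X).map g)) := by
  ext F : 2
  exact restrIHomIso_naturality_left g F X

end site

end Groth.Agent.Lib.Helper17.HomBifun
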