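import Mathlib
import Groth.Prelude.Def_ModSite
import Groth.Agent.Lib.Helper17.IHom

open CategoryTheory CategoryTheory.Limits Opposite MonoidalCategory

universe u

noncomputable section

namespace Groth.Agent.Lib.Helper17.Tensor

open Groth.Agent.Lib.Helper17.IHom

variable {C : Type u} [SmallCategory C] {J : GrothendieckTopology C} {O : Sheaf J CommRingCat.{u}}

variable (O) in
/-- sheafification of presheaves of modules, with clean types -/
def shF : PMod O ⥤ ModSite.Mod O := ModSite.sheafify O

/-- underlying morphism of presheaves of modules, with clean types -/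
abbrev pv {M N : ModSite.Mod O} (f : M ⟶ N) : toPMod M ⟶ toPMod N := f.val

/-- the tensor product of sheaves of modules, with clean types -/
abbrev tens (M N : ModSite.Mod O) : ModSite.Mod O := (shF O).obj (toPMod M ⊗ toPMod N)

lemma tensorBi_obj_obj' (M N : ModSite.Mod O) : ((ModSite.tensorBi O).obj M).obj N = tens M N := rfl

/-- left whiskering for `tens` -/
def tensL (M : ModSite.Mod O) {N N' : ModSite.Mod O} (g : N ⟶ N') : tens M N ⟶ tens M N' :=
  (shF O).map (toPMod M ◁ pv g)

/-- right whiskering for `tens` -/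
def tensR {M M' : ModSite.Mod O} (f : M ⟶ M') (N : ModSite.Mod O) : tens M N ⟶ tens M' N :=
  (shF O).map (pv f ▷ toPMod N)

lemma tensorBi_obj_map (M : ModSite.Mod O) {N N' : ModSite.Mod O} (g : N ⟶ N') :
    ((ModSite.tensorBi O).obj M).map g = tensL M g := rfl

lemma tensorBi_map_app {M M' : ModSite.Mod O} (f : M ⟶ M') (N : ModSite.Mod O) :
    ((ModSite.tensorBi O).map f).app N = tensR f N := rfl

lemma tensorBi_flip_obj_map (N : ModSite.Mod O) {M M' : ModSite.Mod O} (f : M ⟶ M') :
    ((ModSite.tensorBi O).flip.obj N).map f = tensR f N := rfl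

/-- the symmetry of the tensor product of sheaves of modules -/
def braidIso (M N : ModSite.Mod O) : tens M N ≅ tens N M :=
  (shF O).mapIso (β_ (toPMod M) (toPMod N))

lemma braidIso_hom (M N : ModSite.Mod O) :
    (braidIso M N).hom = (shF O).map (β_ (toPMod M) (toPMod N)).hom := rfl

lemma braidIso_naturality_right (M : ModSite.Mod O) {N N' : ModSite.Mod O} (g : N ⟶ N') :
    tensL M g ≫ (braidIso M N').hom = (braidIso M N).hom ≫ tensR g M := by
  rw [braidIso_hom, braidIso_hom, tensL, tensR, ← Functor.map_comp, ← Functor.map_comp]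
  congr 1
  exact BraidedCategory.braiding_naturality_right (toPMod M) (pv g)

lemma braidIso_naturality_left {M M' : ModSite.Mod O} (f : M ⟶ M') (N : ModSite.Mod O) :
    tensR f N ≫ (braidIso M' N).hom = (braidIso M N).hom ≫ tensL N f := by
  rw [braidIso_hom, braidIso_hom, tensL, tensR, ← Functor.map_comp, ← Functor.map_comp]
  congr 1
  exact BraidedCategory.braiding_naturality_left (pv f) (toPMod N)

variable (O) in
/-- the tensor product is symmetric, as a natural isomorphism of bifunctors -/
def flipIso : ModSite.tensorBi O ≅ (ModSite.tensorBi O).flip :=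
  NatIso.ofComponents (fun M => NatIso.ofComponents (fun N => braidIso M N)
    (fun g => braidIso_naturality_right M g)) (by
    intro M M' f
    apply NatTrans.ext
    funext N
    exact braidIso_naturality_left f N)

/-- `M ⊗ -` is isomorphic to `- ⊗ M` -/
def objIsoFlipObj (M : ModSite.Mod O) : (ModSite.tensorBi O).obj M ≅ (ModSite.tensorBi O).flip.obj M :=
  (flipIso O).app M

instance isLeftAdjoint_flip_obj (M : ModSite.Mod O) : ((ModSite.tensorBi O).flip.obj M).IsLeftAdjoint :=
  hasSheafHom M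

instance isLeftAdjoint_obj (M : ModSite.Mod O) : ((ModSite.tensorBi O).obj M).IsLeftAdjoint :=
  Functor.isLeftAdjoint_of_iso (objIsoFlipObj M).symm

/-- the unit of sheafification, with clean types -/
def un (P : PMod O) : P ⟶ toPMod ((shF O).obj P) := sheafifyUnit P

lemma un_naturality {P Q : PMod O} (φ : P ⟶ Q) : φ ≫ un Q = un P ≫ pv ((shF O).map φ) :=
  (PresheafOfModules.sheafificationAdjunction (𝟙 (ModSite.ringSh O).obj)).unit.naturality φ

lemma isIso_shF_map_of_isLocalIso {P' P : PMod O} {φ : P' ⟶ P} (hφ : IsLocalIso φ) :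
    IsIso ((shF O).map φ) := isIso_sheafify_map_of_isLocalIso hφ

lemma isLocalIso_un (P : PMod O) : IsLocalIso (un P) := isLocalIso_sheafifyUnit P

/-- `a(P ⊗ Q) ≅ a(aP ⊗ Q)` -/
def shWhiskerRightIso (P Q : PMod O) :
    (shF O).obj (P ⊗ Q) ≅ (shF O).obj (toPMod ((shF O).obj P) ⊗ Q) :=
  haveI := isIso_shF_map_of_isLocalIso ((isLocalIso_un P).whiskerRight Q)
  asIso ((shF O).map (un P ▷ Q))

/-- `a(P ⊗ Q) ≅ a(P ⊗ aQ)` -/
def shWhiskerLeftIso (P Q : PMod O) :
    (shF O).obj (P ⊗ Q) ≅ (shF O).obj (P ⊗ toPMod ((shF O).obj Q)) :=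
  haveI := isIso_shF_map_of_isLocalIso ((isLocalIso_un Q).whiskerLeft P)
  asIso ((shF O).map (P ◁ un Q))

lemma shWhiskerRightIso_hom (P Q : PMod O) :
    (shWhiskerRightIso P Q).hom = (shF O).map (un P ▷ Q) := rfl

lemma shWhiskerLeftIso_hom (P Q : PMod O) :
    (shWhiskerLeftIso P Q).hom = (shF O).map (P ◁ un Q) := rfl

/-- associativity of the tensor product of sheaves of modules -/
def assocIso (X M N : ModSite.Mod O) : tens (tens X M) N ≅ tens X (tens M N) :=
  (shWhiskerRightIso (toPMod X ⊗ toPMod M) (toPMod N)).symm ≪≫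
    (shF O).mapIso (α_ (toPMod X) (toPMod M) (toPMod N)) ≪≫
      shWhiskerLeftIso (toPMod X) (toPMod M ⊗ toPMod N)

lemma assocIso_hom (X M N : ModSite.Mod O) :
    (assocIso X M N).hom = (shWhiskerRightIso (toPMod X ⊗ toPMod M) (toPMod N)).inv ≫
      (shF O).map (α_ (toPMod X) (toPMod M) (toPMod N)).hom ≫
        (shWhiskerLeftIso (toPMod X) (toPMod M ⊗ toPMod N)).hom := rfl

lemma assocIso_naturality_left {X X' : ModSite.Mod O} (f : X ⟶ X') (M N : ModSite.Mod O) :
    tensR (tensR f M) N ≫ (assocIso X' M N).hom = (assocIso X M N).hom ≫ tensR f (tens M N) := by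
  have h1 : (shWhiskerRightIso (toPMod X ⊗ toPMod M) (toPMod N)).hom ≫ tensR (tensR f M) N =
        (shF O).map ((pv f ▷ toPMod M) ▷ toPMod N) ≫
          (shWhiskerRightIso (toPMod X' ⊗ toPMod M) (toPMod N)).hom := by
    rw [shWhiskerRightIso_hom, shWhiskerRightIso_hom, tensR, ← Functor.map_comp, ← Functor.map_comp]
    congr 1
    rw [← MonoidalCategory.comp_whiskerRight, ← MonoidalCategory.comp_whiskerRight]
    congr 1
    exact (un_naturality (pv f ▷ toPMod M)).symm
  have h2 : (shF O).map ((pv f ▷ toPMod M) ▷ toPMod N) ≫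
      (shF O).map (α_ (toPMod X') (toPMod M) (toPMod N)).hom =
        (shF O).map (α_ (toPMod X) (toPMod M) (toPMod N)).hom ≫
          (shF O).map (pv f ▷ (toPMod M ⊗ toPMod N)) := by
    rw [← Functor.map_comp, ← Functor.map_comp]
    congr 1
    exact MonoidalCategory.associator_naturality_left (pv f) (toPMod M) (toPMod N)
  have h3 : (shF O).map (pv f ▷ (toPMod M ⊗ toPMod N)) ≫
      (shWhiskerLeftIso (toPMod X') (toPMod M ⊗ toPMod N)).hom =
        (shWhiskerLeftIso (toPMod X) (toPMod M ⊗ toPMod N)).hom ≫ tensR f (tens M N) := by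
    rw [shWhiskerLeftIso_hom, shWhiskerLeftIso_hom, tensR, ← Functor.map_comp, ← Functor.map_comp]
    congr 1
    exact (MonoidalCategory.whisker_exchange (pv f) (un (toPMod M ⊗ toPMod N))).symm
  have h1' : tensR (tensR f M) N ≫ (shWhiskerRightIso (toPMod X' ⊗ toPMod M) (toPMod N)).inv =
        (shWhiskerRightIso (toPMod X ⊗ toPMod M) (toPMod N)).inv ≫
          (shF O).map ((pv f ▷ toPMod M) ▷ toPMod N) := by
    rw [Iso.comp_inv_eq, Category.assoc, Iso.eq_inv_comp]
    exact h1
  rw [assocIso_hom, assocIso_hom, reassoc_of% h1', reassoc_of% h2, h3]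
  simp only [Category.assoc]

/-- `(- ⊗ M) ⊗ N ≅ - ⊗ (M ⊗ N)` as functors -/
def assocNatIso (M N : ModSite.Mod O) :
    (ModSite.tensorBi O).flip.obj M ⋙ (ModSite.tensorBi O).flip.obj N ≅
      (ModSite.tensorBi O).flip.obj (((ModSite.tensorBi O).obj M).obj N) :=
  NatIso.ofComponents (fun X => assocIso X M N) (fun f => assocIso_naturality_left f M N)

instance flip_obj_preservesColimits (M : ModSite.Mod O) :
    PreservesColimitsOfSize.{u, u} ((ModSite.tensorBi O).flip.obj M) :=
  (Adjunction.ofIsLeftAdjoint _).leftAdjoint_preservesColimits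

instance flip_obj_preservesFiniteColimits (M : ModSite.Mod O) :
    PreservesFiniteColimits ((ModSite.tensorBi O).flip.obj M) :=
  PreservesColimitsOfSize.preservesFiniteColimits _

instance obj_preservesColimits (M : ModSite.Mod O) :
    PreservesColimitsOfSize.{u, u} ((ModSite.tensorBi O).obj M) :=
  (Adjunction.ofIsLeftAdjoint _).leftAdjoint_preservesColimits

theorem isFlat_iff (F : ModSite.Mod O) :
    ModSite.IsFlat F ↔ PreservesFiniteLimits ((ModSite.tensorBi O).flip.obj F) :=
  ⟨fun h => h.1, fun h => ⟨h, inferInstance⟩⟩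

theorem isFlat_iff' (F : ModSite.Mod O) :
    ModSite.IsFlat F ↔ PreservesFiniteLimits ((ModSite.tensorBi O).obj F) := by
  rw [isFlat_iff]
  exact ⟨fun h => preservesFiniteLimits_of_natIso (objIsoFlipObj F).symm,
    fun h => preservesFiniteLimits_of_natIso (objIsoFlipObj F)⟩

theorem isFlat_tensor (G F : ModSite.Mod O) (hG : ModSite.IsFlat G) (hF : ModSite.IsFlat F) :
    ModSite.IsFlat (((ModSite.tensorBi O).obj G).obj F) := by
  rw [isFlat_iff] at hG hF ⊢
  exact preservesFiniteLimits_of_natIso (assocNatIso G F)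

end Groth.Agent.Lib.Helper17.Tensor
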