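import Mathlib
import Groth.Prelude.Def_ModSite
import Groth.Agent.Lib.Helper17.IHom
import Groth.Agent.Lib.Helper17.HomBifun
import Groth.Agent.Lib.Helper17.Tensor
import Groth.Agent.Lib.Helper17.ExtZero

open CategoryTheory CategoryTheory.Limits Opposite MonoidalCategory

universe u

noncomputable section

namespace Groth.Agent.Lib.Helper17.ProjFormula

open Groth.Agent.Lib.Helper17.IHom Groth.Agent.Lib.Helper17.HomBifun

variable {C : Type u} [SmallCategory C] {J : GrothendieckTopology C} {O : Sheaf J CommRingCat.{u}}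
  {X : C}

/-- the adjunction `j_!(- ⊗ N|_X) ⊣ Hom(N|_X, (-)|_X)` -/
def adjA (N : ModSite.Mod O) (X : C) :
    (ModSite.tensorBi (O.over X)).flip.obj ((ModSite.restr O X).obj N) ⋙ ModSite.extZero O X ⊣
      ModSite.restr O X ⋙ HFun ((ModSite.restr O X).obj N) :=
  (HAdj ((ModSite.restr O X).obj N)).comp (ModSite.extZeroAdj O X)

/-- the adjunction `j_!(-) ⊗ N ⊣ Hom(N, -)|_X` -/
def adjB (N : ModSite.Mod O) (X : C) :
    ModSite.extZero O X ⋙ (ModSite.tensorBi O).flip.obj N ⊣ HFun N ⋙ ModSite.restr O X :=
  (ModSite.extZeroAdj O X).comp (HAdj N)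

/-- the projection formula `j_!(P ⊗ N|_X) ≅ j_!P ⊗ N`, as an isomorphism of functors in `P` -/
def pf (N : ModSite.Mod O) (X : C) :
    (ModSite.tensorBi (O.over X)).flip.obj ((ModSite.restr O X).obj N) ⋙ ModSite.extZero O X ≅
      ModSite.extZero O X ⋙ (ModSite.tensorBi O).flip.obj N :=
  (conjugateIsoEquiv (adjB N X) (adjA N X)).symm (restrHFunIso N X)

lemma conj_pf_hom (N : ModSite.Mod O) (X : C) :
    conjugateEquiv (adjB N X) (adjA N X) (pf N X).hom = (restrHFunIso N X).hom :=
  (conjugateEquiv (adjB N X) (adjA N X)).apply_symm_apply _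

/-- the variance of `j_!(- ⊗ N|_X)` in `N` -/
def LA {N N' : ModSite.Mod O} (g : N ⟶ N') (X : C) :
    (ModSite.tensorBi (O.over X)).flip.obj ((ModSite.restr O X).obj N) ⋙ ModSite.extZero O X ⟶
      (ModSite.tensorBi (O.over X)).flip.obj ((ModSite.restr O X).obj N') ⋙ ModSite.extZero O X :=
  Functor.whiskerRight ((ModSite.tensorBi (O.over X)).flip.map ((ModSite.restr O X).map g))
    (ModSite.extZero O X)

/-- the variance of `j_!(-) ⊗ N` in `N` -/
def LB {N N' : ModSite.Mod O} (g : N ⟶ N') (X : C) :
    ModSite.extZero O X ⋙ (ModSite.tensorBi O).flip.obj N ⟶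
      ModSite.extZero O X ⋙ (ModSite.tensorBi O).flip.obj N' :=
  Functor.whiskerLeft (ModSite.extZero O X) ((ModSite.tensorBi O).flip.map g)

theorem pf_naturality {N N' : ModSite.Mod O} (g : N ⟶ N') (X : C) :
    LA g X ≫ (pf N' X).hom = (pf N X).hom ≫ LB g X := by
  apply (conjugateEquiv (adjB N' X) (adjA N X)).injective
  rw [← conjugateEquiv_comp (adjB N' X) (adjA N' X) (adjA N X) (pf N' X).hom (LA g X),
    ← conjugateEquiv_comp (adjB N' X) (adjB N X) (adjA N X) (LB g X) (pf N X).hom,
    conj_pf_hom, conj_pf_hom]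
  have h1 : conjugateEquiv (adjA N' X) (adjA N X) (LA g X) =
      Functor.whiskerLeft (ModSite.restr O X) (HPre ((ModSite.restr O X).map g)) := by
    unfold adjA LA
    rw [conjugateEquiv_whiskerRight, conjugateEquiv_flip_map]
  have h2 : conjugateEquiv (adjB N' X) (adjB N X) (LB g X) =
      Functor.whiskerRight (HPre g) (ModSite.restr O X) := by
    unfold adjB LB
    rw [conjugateEquiv_whiskerLeft, conjugateEquiv_flip_map]
  rw [h1, h2]
  exact (restrHFunIso_naturality_left g X).symm

/-- the projection formula `j_!(G ⊗ N|_X) ≅ j_!G ⊗ N`, as an isomorphism of functors in `N` -/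
def tensorObjExtZeroIso (G : ModSite.Mod (O.over X)) :
    ModSite.restr O X ⋙ (ModSite.tensorBi (O.over X)).obj G ⋙ ModSite.extZero O X ≅
      (ModSite.tensorBi O).obj ((ModSite.extZero O X).obj G) :=
  NatIso.ofComponents (fun N => (pf N X).app G) (by
    intro N N' g
    exact congrArg (fun t => t.app G) (pf_naturality g X))

open Groth.Agent.Lib.Helper17.Tensor Groth.Agent.Lib.Helper17.ExtZero in
theorem isFlat_extZero (G : ModSite.Mod (O.over X)) (hG : ModSite.IsFlat G) :
    ModSite.IsFlat ((ModSite.extZero O X).obj G) := by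
  rw [isFlat_iff'] at hG ⊢
  have h1 : PreservesFiniteLimits (ModSite.extZero O X) := extZero_preservesFiniteLimits O X
  have h2 : PreservesFiniteLimits (ModSite.restr O X) := by
    have : PreservesLimitsOfSize.{u, u} (ModSite.restr O X) :=
      (ModSite.extZeroAdj O X).rightAdjoint_preservesLimits
    exact PreservesLimitsOfSize.preservesFiniteLimits _
  exact preservesFiniteLimits_of_natIso (tensorObjExtZeroIso (X := X) G)

section unit

open Groth.Agent.Lib.Helper17.Tensor

/-- the counit of sheafification, with clean types -/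
def cou (G : ModSite.Mod O) : (shF O).obj (toPMod G) ⟶ G :=
  (PresheafOfModules.sheafificationAdjunction (𝟙 (ModSite.ringSh O).obj)).counit.app G

theorem cou_isIso (G : ModSite.Mod O) : IsIso (cou G) := by
  have : IsIso (PresheafOfModules.sheafificationAdjunction.{u} (𝟙 (ModSite.ringSh O).obj)).counit :=
    inferInstance
  exact inferInstanceAs (IsIso
    ((PresheafOfModules.sheafificationAdjunction.{u} (𝟙 (ModSite.ringSh O).obj)).counit.app G))

lemma cou_naturality {G G' : ModSite.Mod O} (f : G ⟶ G') :
    (shF O).map (Tensor.pv f) ≫ cou G' = cou G ≫ f :=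
  (PresheafOfModules.sheafificationAdjunction (𝟙 (ModSite.ringSh O).obj)).counit.naturality f

/-- the left unitor on presheaves of modules, with clean types -/
def lu (G : ModSite.Mod O) : (toPMod (ModSite.unit O) ⊗ toPMod G : PMod O) ≅ toPMod G :=
  λ_ (toPMod G)

lemma lu_naturality {G G' : ModSite.Mod O} (f : G ⟶ G') :
    toPMod (ModSite.unit O) ◁ Tensor.pv f ≫ (lu G').hom = (lu G).hom ≫ Tensor.pv f :=
  MonoidalCategory.leftUnitor_naturality (Tensor.pv f)

/-- the left unit isomorphism, natural -/
def leftUnitNatIso : (ModSite.tensorBi O).obj (ModSite.unit O) ≅ 𝟭 (ModSite.Mod O) :=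
  NatIso.ofComponents (fun G => (shF O).mapIso (lu G) ≪≫
    (haveI := cou_isIso G; asIso (cou G))) (by
    intro G G' f
    show tensL (ModSite.unit O) f ≫ ((shF O).map (lu G').hom ≫ cou G') =
      ((shF O).map (lu G).hom ≫ cou G) ≫ f
    rw [Category.assoc, ← cou_naturality f, tensL, ← Functor.map_comp_assoc,
      ← Functor.map_comp_assoc, lu_naturality])

theorem isFlat_unit : ModSite.IsFlat (ModSite.unit O) := by
  rw [isFlat_iff']
  exact preservesFiniteLimits_of_natIso (leftUnitNatIso (O := O)).symm

end unit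

section additive

open Groth.Agent.Lib.Helper17.Tensor

instance flip_obj_additive (N : ModSite.Mod O) : ((ModSite.tensorBi O).flip.obj N).Additive :=
  haveI := preservesBinaryBiproducts_of_preservesBinaryCoproducts ((ModSite.tensorBi O).flip.obj N)
  Functor.additive_of_preservesBinaryBiproducts _

instance obj_additive (N : ModSite.Mod O) : ((ModSite.tensorBi O).obj N).Additive :=
  haveI : PreservesFiniteColimits ((ModSite.tensorBi O).obj N) :=
    PreservesColimitsOfSize.preservesFiniteColimits _
  haveI := preservesBinaryBiproducts_of_preservesBinaryCoproducts ((ModSite.tensorBi O).obj N)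
  Functor.additive_of_preservesBinaryBiproducts _

theorem isFlat_of_preservesMonomorphisms (F : ModSite.Mod O)
    (h : ((ModSite.tensorBi O).flip.obj F).PreservesMonomorphisms) : ModSite.IsFlat F := by
  rw [isFlat_iff]
  have : ((ModSite.tensorBi O).flip.obj F).PreservesHomology :=
    Functor.preservesHomology_of_preservesMonos_and_cokernels _
  exact Functor.preservesFiniteLimits_of_preservesHomology _

theorem preservesMonomorphisms_of_isFlat (F : ModSite.Mod O) (h : ModSite.IsFlat F) :
    ((ModSite.tensorBi O).flip.obj F).PreservesMonomorphisms := by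
  rw [isFlat_iff] at h
  infer_instance

end additive

open Groth.Agent.Lib.Helper17.Tensor Groth.Agent.Lib.Helper17.ExtZero in
theorem isFlat_restr (M : ModSite.Mod O) (hM : ModSite.IsFlat M) (V : C) :
    ModSite.IsFlat ((ModSite.restr O V).obj M) := by
  apply isFlat_of_preservesMonomorphisms
  rw [isFlat_iff] at hM
  have h1 : PreservesFiniteLimits (ModSite.extZero O V) := extZero_preservesFiniteLimits O V
  have hc : PreservesFiniteLimits
      ((ModSite.tensorBi (O.over V)).flip.obj ((ModSite.restr O V).obj M) ⋙ ModSite.extZero O V) :=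
    preservesFiniteLimits_of_natIso (pf M V).symm
  constructor
  intro A B f hf
  have : Mono (((ModSite.tensorBi (O.over V)).flip.obj ((ModSite.restr O V).obj M) ⋙
      ModSite.extZero O V).map f) := inferInstance
  exact (ModSite.extZero O V).mono_of_mono_map this

theorem isFlat_freeOn (X : C) : ModSite.IsFlat (ModSite.freeOn O X) :=
  isFlat_extZero (X := X) (ModSite.unit (O.over X)) isFlat_unit

end Groth.Agent.Lib.Helper17.ProjFormula
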