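import Mathlib

open CategoryTheory CategoryTheory.Limits

universe v₁ v₂ v₃ v₄ u₁ u₂ u₃ u₄

namespace Groth.Agent.Lib.Helper17.Reflective

variable {P : Type u₁} [Category.{v₁} P] {S : Type u₂} [Category.{v₂} S]
  {X : Type u₃} [Category.{v₃} X] {K : Type u₄} [Category.{v₄} K]

/-- If `L ⊣ R` is a reflection (counit iso) and `L ⋙ F` preserves colimits of shape `K`, then so
does `F`. -/
theorem preservesColimitsOfShape_of_comp_left {L : P ⥤ S} {R : S ⥤ P} (adj : L ⊣ R)
    [IsIso adj.counit] [HasColimitsOfShape K P] (F : S ⥤ X)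
    [PreservesColimitsOfShape K (L ⋙ F)] : PreservesColimitsOfShape K F := by
  constructor
  intro D
  have : L.IsLeftAdjoint := adj.isLeftAdjoint
  let e : (D ⋙ R) ⋙ L ≅ D :=
    Functor.associator _ _ _ ≪≫ Functor.isoWhiskerLeft D (asIso adj.counit) ≪≫ D.rightUnitor
  have h1 : PreservesColimit ((D ⋙ R) ⋙ L) F := by
    let c' := colimit.cocone (D ⋙ R)
    have hc' : IsColimit c' := colimit.isColimit _
    have h2 : IsColimit (L.mapCocone c') := isColimitOfPreserves L hc'
    apply preservesColimit_of_preserves_colimit_cocone h2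
    exact isColimitOfPreserves (L ⋙ F) hc'
  exact preservesColimit_of_iso_diagram F e

theorem preservesColimitsOfSize_of_comp_left {L : P ⥤ S} {R : S ⥤ P} (adj : L ⊣ R)
    [IsIso adj.counit] [HasColimitsOfSize.{v₄, u₄} P] (F : S ⥤ X)
    [PreservesColimitsOfSize.{v₄, u₄} (L ⋙ F)] : PreservesColimitsOfSize.{v₄, u₄} F := by
  constructor
  intro K _
  exact preservesColimitsOfShape_of_comp_left adj F

end Groth.Agent.Lib.Helper17.Reflective
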