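import Mathlib
import Groth.Prelude.Def_ModSite
import Groth.Agent.Lib.Helper17.Reflective

open CategoryTheory CategoryTheory.Limits

universe u

namespace Groth.Agent.Lib.Helper17.ModSiteColim

variable {C : Type u} [SmallCategory C] {J : GrothendieckTopology C}

theorem toSheaf_preservesColimits (R : Sheaf J RingCat.{u}) :
    PreservesColimitsOfSize.{u, u} (SheafOfModules.toSheaf.{u} R) := by
  have h1 : PreservesColimitsOfSize.{u, u}
      (PresheafOfModules.toPresheaf.{u} R.obj ⋙ presheafToSheaf J AddCommGrpCat.{u}) :=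
    inferInstance
  have h2 : PreservesColimitsOfSize.{u, u}
      (PresheafOfModules.sheafification.{u} (𝟙 R.obj) ⋙ SheafOfModules.toSheaf.{u} R) :=
    preservesColimits_of_natIso (PresheafOfModules.sheafificationCompToSheaf.{u} (𝟙 R.obj)).symm
  exact Reflective.preservesColimitsOfSize_of_comp_left
    (PresheafOfModules.sheafificationAdjunction.{u} (𝟙 R.obj)) _

theorem toSheaf_preservesLimits (R : Sheaf J RingCat.{u}) :
    PreservesLimitsOfSize.{u, u} (SheafOfModules.toSheaf.{u} R) := by
  have h1 : PreservesLimitsOfSize.{u, u}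
      (SheafOfModules.toSheaf.{u} R ⋙ sheafToPresheaf J AddCommGrpCat.{u}) :=
    inferInstanceAs (PreservesLimitsOfSize.{u, u}
      (SheafOfModules.forget.{u} R ⋙ PresheafOfModules.toPresheaf.{u} R.obj))
  exact preservesLimits_of_reflects_of_preserves _ (sheafToPresheaf J AddCommGrpCat.{u})

/-- restriction of scalars does not change the underlying abelian sheaf -/
noncomputable def restrictScalarsCompToSheaf {A B : Sheaf J RingCat.{u}} (φ : A ⟶ B) :
    SheafOfModules.restrictScalars.{u} φ ⋙ SheafOfModules.toSheaf.{u} A ≅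
      SheafOfModules.toSheaf.{u} B :=
  Iso.refl _

theorem restrictScalars_props {A B : Sheaf J RingCat.{u}} (φ : A ⟶ B) :
    PreservesLimitsOfSize.{u, u} (SheafOfModules.restrictScalars.{u} φ) ∧
    PreservesColimitsOfSize.{u, u} (SheafOfModules.restrictScalars.{u} φ) ∧
    (SheafOfModules.restrictScalars.{u} φ).ReflectsIsomorphisms := by
  have hA1 := toSheaf_preservesColimits A
  have hA2 := toSheaf_preservesLimits A
  have hB1 := toSheaf_preservesColimits B
  have hB2 := toSheaf_preservesLimits B
  have rA1 : ReflectsColimitsOfSize.{u, u} (SheafOfModules.toSheaf.{u} A) :=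
    reflectsColimits_of_reflectsIsomorphisms
  have rA2 : ReflectsLimitsOfSize.{u, u} (SheafOfModules.toSheaf.{u} A) :=
    reflectsLimits_of_reflectsIsomorphisms
  have c1 : PreservesColimitsOfSize.{u, u}
      (SheafOfModules.restrictScalars.{u} φ ⋙ SheafOfModules.toSheaf.{u} A) :=
    preservesColimits_of_natIso (restrictScalarsCompToSheaf φ).symm
  have c2 : PreservesLimitsOfSize.{u, u}
      (SheafOfModules.restrictScalars.{u} φ ⋙ SheafOfModules.toSheaf.{u} A) :=
    preservesLimits_of_natIso (restrictScalarsCompToSheaf φ).symm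
  refine ⟨preservesLimits_of_reflects_of_preserves _ (SheafOfModules.toSheaf.{u} A),
    preservesColimits_of_reflects_of_preserves _ (SheafOfModules.toSheaf.{u} A), ?_⟩
  have : (SheafOfModules.restrictScalars.{u} φ ⋙ SheafOfModules.toSheaf.{u} A).ReflectsIsomorphisms :=
    inferInstanceAs (SheafOfModules.toSheaf.{u} B).ReflectsIsomorphisms
  exact reflectsIsomorphisms_of_comp _ (SheafOfModules.toSheaf.{u} A)

end Groth.Agent.Lib.Helper17.ModSiteColim
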