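import Mathlib
import Groth.Prelude.Def_ModSite
import Groth.Agent.Lib.Helper17.ModSiteColim

open CategoryTheory CategoryTheory.Limits

universe u

namespace Groth.Agent.Lib.Helper17.ModSiteExact

variable {C : Type u} [SmallCategory C] {J : GrothendieckTopology C}

theorem toSheaf_preservesFiniteLimits (R : Sheaf J RingCat.{u}) :
    PreservesFiniteLimits (SheafOfModules.toSheaf.{u} R) := by
  have h2 := ModSiteColim.toSheaf_preservesLimits R
  exact PreservesLimitsOfSize.preservesFiniteLimits _

theorem toSheaf_preservesFiniteColimits (R : Sheaf J RingCat.{u}) :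
    PreservesFiniteColimits (SheafOfModules.toSheaf.{u} R) := by
  have h2 := ModSiteColim.toSheaf_preservesColimits R
  exact PreservesColimitsOfSize.preservesFiniteColimits _

theorem toSheaf_reflectsFiniteLimits (R : Sheaf J RingCat.{u}) :
    ReflectsFiniteLimits (SheafOfModules.toSheaf.{u} R) := by
  have h2 := ModSiteColim.toSheaf_preservesLimits R
  have h4 := toSheaf_preservesFiniteLimits R
  exact ⟨fun K _ _ => reflectsLimitsOfShape_of_reflectsIsomorphisms⟩

/-- exactness of colimits of a given shape in sheaves of modules, transferred from abelian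
sheaves -/
theorem hasExactColimitsOfShape_mod (R : Sheaf J RingCat.{u}) (Λ : Type u) [SmallCategory Λ]
    [HasExactColimitsOfShape Λ (Sheaf J AddCommGrpCat.{u})]
    [HasColimitsOfShape Λ (SheafOfModules.{u} R)] :
    HasExactColimitsOfShape Λ (SheafOfModules.{u} R) := by
  have h1 := ModSiteColim.toSheaf_preservesColimits R
  have h4 := toSheaf_preservesFiniteLimits R
  have h5 := toSheaf_reflectsFiniteLimits R
  exact HasExactColimitsOfShape.domain_of_functor Λ (SheafOfModules.toSheaf.{u} R)

theorem hasExactColimitsOfShape_filtered (R : Sheaf J RingCat.{u}) (Λ : Type u) [SmallCategory Λ]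
    [IsFiltered Λ] : HasExactColimitsOfShape Λ (SheafOfModules.{u} R) :=
  hasExactColimitsOfShape_mod R Λ

theorem hasExactColimitsOfShape_discrete (R : Sheaf J RingCat.{u}) (ι : Type u) :
    HasExactColimitsOfShape (Discrete ι) (SheafOfModules.{u} R) :=
  hasExactColimitsOfShape_mod R (Discrete ι)

end Groth.Agent.Lib.Helper17.ModSiteExact
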