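import Mathlib

open CategoryTheory TopologicalSpace Opposite TopCat

universe u

namespace Groth.Agent.Lib.Helper17.SheafBasis

variable {X : TopCat.{u}} (G : TopCat.Sheaf Ab.{u} X)

/-- restriction from `V` to `V ⊓ U` -/
abbrev resInf (P : TopCat.Presheaf Ab.{u} X) (U V : Opens X) : P.obj (op V) ⟶ P.obj (op (V ⊓ U)) :=
  P.map (homOfLE (inf_le_left : V ⊓ U ≤ V)).op

lemma map_map_apply (P : TopCat.Presheaf Ab.{u} X) {U V W : Opens X} (f : U ⟶ V) (g : V ⟶ W)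
    (h : U ⟶ W) (s : P.obj (op W)) : P.map f.op (P.map g.op s) = P.map h.op s := by
  rw [← ConcreteCategory.comp_apply, ← P.map_comp, ← op_comp]
  rfl

theorem injective_of_basis (B : Set (Opens X)) (U : Opens X)
    (hB : ∀ (V : Opens X) (x : X), x ∈ V → ∃ W ∈ B, x ∈ W ∧ W ≤ V)
    (h : ∀ W ∈ B, Function.Injective (resInf G.1 U W)) (V : Opens X) :
    Function.Injective (resInf G.1 U V) := by
  rw [injective_iff_map_eq_zero]
  intro s hs
  let ι := {W : Opens X // W ∈ B ∧ W ≤ V}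
  refine G.eq_of_locally_eq' (fun W : ι => W.1) V (fun W => homOfLE W.2.2) ?_ s 0 ?_
  · intro x hx
    obtain ⟨W, hW, hxW, hWV⟩ := hB V x hx
    exact Opens.mem_iSup.2 ⟨⟨W, hW, hWV⟩, hxW⟩
  · intro W
    rw [map_zero]
    apply h W.1 W.2.1
    rw [map_zero]
    show G.1.map _ (G.1.map _ s) = 0
    have h1 : G.1.map (homOfLE (inf_le_inf_right U W.2.2 : W.1 ⊓ U ≤ V ⊓ U)).op
        (resInf G.1 U V s) = 0 := by rw [hs, map_zero]
    rw [← h1]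
    show G.1.map _ (G.1.map _ s) = G.1.map _ (G.1.map _ s)
    rw [map_map_apply G.1 _ _ (homOfLE (inf_le_left.trans W.2.2 : W.1 ⊓ U ≤ V)),
      map_map_apply G.1 _ _ (homOfLE (inf_le_left.trans W.2.2 : W.1 ⊓ U ≤ V))]

theorem bijective_of_basis (B : Set (Opens X)) (U : Opens X)
    (hB : ∀ (V : Opens X) (x : X), x ∈ V → ∃ W ∈ B, x ∈ W ∧ W ≤ V)
    (h : ∀ W ∈ B, Function.Bijective (resInf G.1 U W)) (V : Opens X) :
    Function.Bijective (resInf G.1 U V) := by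
  have hinj := injective_of_basis G B U hB (fun W hW => (h W hW).1)
  refine ⟨hinj V, ?_⟩
  intro t
  let ι := {W : Opens X // W ∈ B ∧ W ≤ V}
  have hex : ∀ W : ι, ∃ s : G.1.obj (op W.1), resInf G.1 U W.1 s =
      G.1.map (homOfLE (inf_le_inf_right U W.2.2 : W.1 ⊓ U ≤ V ⊓ U)).op t :=
    fun W => (h W.1 W.2.1).2 _
  choose sf hsf using hex
  have hcomp : TopCat.Presheaf.IsCompatible G.1 (fun W : ι => W.1) sf := by
    intro W W'
    apply hinj (W.1 ⊓ W'.1)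
    show G.1.map _ (G.1.map _ (sf W)) = G.1.map _ (G.1.map _ (sf W'))
    have e1 : G.1.map (homOfLE (inf_le_left : W.1 ⊓ W'.1 ⊓ U ≤ W.1 ⊓ W'.1)).op
        (G.1.map (Opens.infLELeft W.1 W'.1).op (sf W)) =
        G.1.map (homOfLE (le_trans (inf_le_inf_right U inf_le_left) (inf_le_inf_right U W.2.2) :
          W.1 ⊓ W'.1 ⊓ U ≤ V ⊓ U)).op t := by
      rw [map_map_apply G.1 _ _ (homOfLE (inf_le_inf_right U inf_le_left : W.1 ⊓ W'.1 ⊓ U ≤ W.1 ⊓ U) ≫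
        homOfLE (inf_le_left : W.1 ⊓ U ≤ W.1))]
      rw [op_comp, G.1.map_comp, ConcreteCategory.comp_apply]
      erw [hsf W]
      rw [map_map_apply G.1 _ _ (homOfLE (le_trans (inf_le_inf_right U inf_le_left)
        (inf_le_inf_right U W.2.2) : W.1 ⊓ W'.1 ⊓ U ≤ V ⊓ U))]
    have e2 : G.1.map (homOfLE (inf_le_left : W.1 ⊓ W'.1 ⊓ U ≤ W.1 ⊓ W'.1)).op
        (G.1.map (Opens.infLERight W.1 W'.1).op (sf W')) =
        G.1.map (homOfLE (le_trans (inf_le_inf_right U inf_le_left) (inf_le_inf_right U W.2.2) :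
          W.1 ⊓ W'.1 ⊓ U ≤ V ⊓ U)).op t := by
      rw [map_map_apply G.1 _ _ (homOfLE (inf_le_inf_right U inf_le_right : W.1 ⊓ W'.1 ⊓ U ≤ W'.1 ⊓ U) ≫
        homOfLE (inf_le_left : W'.1 ⊓ U ≤ W'.1))]
      rw [op_comp, G.1.map_comp, ConcreteCategory.comp_apply]
      erw [hsf W']
      rw [map_map_apply G.1 _ _ (homOfLE (le_trans (inf_le_inf_right U inf_le_left)
        (inf_le_inf_right U W.2.2) : W.1 ⊓ W'.1 ⊓ U ≤ V ⊓ U))]
    exact e1.trans e2.symm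
  have hcover : V ≤ ⨆ W : ι, W.1 := by
    intro x hx
    obtain ⟨W, hW, hxW, hWV⟩ := hB V x hx
    exact Opens.mem_iSup.2 ⟨⟨W, hW, hWV⟩, hxW⟩
  obtain ⟨s, hs, -⟩ := G.existsUnique_gluing' (fun W : ι => W.1) V (fun W => homOfLE W.2.2) hcover sf hcomp
  refine ⟨s, ?_⟩
  refine G.eq_of_locally_eq' (fun W : ι => W.1 ⊓ U) (V ⊓ U)
    (fun W => homOfLE (inf_le_inf_right U W.2.2)) ?_ _ _ ?_
  · rintro x ⟨hxV, hxU⟩
    obtain ⟨W, hW, hxW, hWV⟩ := hB V x hxV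
    exact Opens.mem_iSup.2 ⟨⟨W, hW, hWV⟩, ⟨hxW, hxU⟩⟩
  · intro W
    rw [← hsf W, ← hs W]
    show G.1.map _ (G.1.map _ s) = G.1.map _ (G.1.map _ s)
    rw [map_map_apply G.1 _ _ (homOfLE (inf_le_left.trans W.2.2 : W.1 ⊓ U ≤ V)),
      map_map_apply G.1 _ _ (homOfLE (inf_le_left.trans W.2.2 : W.1 ⊓ U ≤ V))]

end Groth.Agent.Lib.Helper17.SheafBasis
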