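import Mathlib
import Groth.Prelude.Def_ZClos
import Groth.Agent.Lib.Helper17.ModSiteExact
import Groth.Agent.Lib.Helper17.SheafBasis

open CategoryTheory CategoryTheory.Limits AlgebraicGeometry TopologicalSpace Opposite

universe u

noncomputable section

namespace Groth.Agent.Lib.Helper17.ZClosLib

open ZClos SheafBasis

variable {X Y : Scheme.{u}}

instance hasExactColimits_modules (Λ : Type u) [SmallCategory Λ] [IsFiltered Λ] :
    HasExactColimitsOfShape Λ X.Modules :=
  ModSiteExact.hasExactColimitsOfShape_filtered X.ringCatSheaf Λ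

instance restrictFunctor_isRightAdjoint (f : X ⟶ Y) [IsOpenImmersion f] :
    (Scheme.Modules.restrictFunctor f).IsRightAdjoint := by
  unfold Scheme.Modules.restrictFunctor
  exact inferInstanceAs (SheafOfModules.pushforward.{u} (S := X.ringCatSheaf)
    (R := Y.ringCatSheaf) (F := f.opensFunctor) _).IsRightAdjoint

instance resPush_preservesLimits (U : X.Opens) : PreservesLimits (resPush U) := by
  infer_instance

instance resPush_preservesFiniteLimits (U : X.Opens) : PreservesFiniteLimits (resPush U) := by
  infer_instance

/-- evaluation of the diagram -/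
def diagramEvalIso (Z : Set X) (T : Cl Z) :
    diagram Z ⋙ (evaluation (Cl Z) X.Modules).obj T ≅ resPush T.U :=
  NatIso.ofComponents (fun _ => Iso.refl _) (by intros; simp [diagram])

instance diagram_preservesFiniteLimits (Z : Set X) : PreservesFiniteLimits (diagram Z) := by
  constructor
  intro J _ _
  constructor
  intro K
  apply preservesLimit_of_evaluation
  intro T
  exact preservesLimit_of_natIso K (diagramEvalIso Z T).symm

theorem H0_preservesFiniteLimits (Z : Set X) : PreservesFiniteLimits (H0 Z) := by
  unfold H0
  infer_instance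

/-- the units as a natural transformation from the constant diagram -/
def toDiagramNat (Z : Set X) (F : X.Modules) :
    (Functor.const (Cl Z)).obj F ⟶ (diagram Z).obj F where
  app T := toDiagram Z F T
  naturality T T' f := by
    simp only [Functor.const_obj_obj, Functor.const_obj_map, Category.id_comp]
    exact (toDiagram_map Z F f).symm

attribute [local instance] IsFiltered.isConnected

theorem isZPure_iff (Z : Set X) (F : X.Modules) :
    IsZPure Z F ↔ ∀ T : Cl Z, Mono (toDiagram Z F T) := by
  constructor
  · intro h T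
    have h' : Mono (toDiagram Z F T ≫ colimit.ι ((diagram Z).obj F) T) := by
      rw [← rhoApp_eq]; exact h
    exact mono_of_mono _ (colimit.ι ((diagram Z).obj F) T)
  · intro h
    have : ∀ T, Mono ((toDiagramNat Z F).app T) := h
    have := NatTrans.mono_of_mono_app (toDiagramNat Z F)
    exact colim.map_mono' (toDiagramNat Z F) (isColimitConstCocone (Cl Z) F)
      (colimit.isColimit ((diagram Z).obj F)) (rhoApp Z F) (fun T => by
        simp only [constCocone_ι, NatTrans.id_app]
        exact rhoApp_eq Z F T)


lemma mono_diagram_map (Z : Set X) (F : X.Modules) (h : ∀ T : Cl Z, Mono (toDiagram Z F T))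
    {T T' : Cl Z} (f : T ⟶ T') : Mono (((diagram Z).obj F).map f) := by
  show Mono (resPushMapApp (Cl.U_anti f.le) F)
  unfold resPushMapApp
  have : Mono ((resPushUnit T'.U).app F) := h T'
  have : Mono ((resPush T.U).map ((resPushUnit T'.U).app F)) := inferInstance
  infer_instance

theorem isZClosed_iff (Z : Set X) (F : X.Modules) :
    IsZClosed Z F ↔ ∀ T : Cl Z, IsIso (toDiagram Z F T) := by
  constructor
  · intro h T
    have h' : IsIso (rhoApp Z F) := h
    have hm : ∀ T : Cl Z, Mono (toDiagram Z F T) := (isZPure_iff Z F).1 (by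
      show Mono (rhoApp Z F); infer_instance)
    have : ∀ (j j' : Cl Z) (φ : j ⟶ j'), Mono (((diagram Z).obj F).map φ) :=
      fun j j' φ => mono_diagram_map Z F hm φ
    have hι : Mono (colimit.ι ((diagram Z).obj F) T) :=
      IsColimit.mono_ι_app_of_isFiltered (colimit.isColimit ((diagram Z).obj F)) T
    have he : Epi (colimit.ι ((diagram Z).obj F) T) := by
      have : Epi (toDiagram Z F T ≫ colimit.ι ((diagram Z).obj F) T) := by
        rw [← rhoApp_eq]; exact @IsIso.epi_of_iso _ _ _ _ _ h'
      exact epi_of_epi (toDiagram Z F T) _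
    have hi : IsIso (colimit.ι ((diagram Z).obj F) T) := isIso_of_mono_of_epi _
    have : toDiagram Z F T = rhoApp Z F ≫ @inv _ _ _ _ (colimit.ι ((diagram Z).obj F) T) hi := by
      rw [IsIso.eq_comp_inv]; exact (rhoApp_eq Z F T).symm
    rw [this]
    exact @IsIso.comp_isIso _ _ _ _ _ _ _ h' inferInstance
  · intro h
    have hm : Mono (rhoApp Z F) := (isZPure_iff Z F).2 (fun T => inferInstance)
    have : ∀ T, Epi ((toDiagramNat Z F).app T) := fun T => by
      show Epi (toDiagram Z F T); infer_instance
    have he : Epi (rhoApp Z F) :=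
      colim.map_epi' (toDiagramNat Z F) (constCocone (Cl Z) F)
        (colimit.isColimit ((diagram Z).obj F)) (rhoApp Z F) (fun T => by
          simp only [constCocone_ι, NatTrans.id_app]
          exact rhoApp_eq Z F T)
    exact isIso_of_mono_of_epi _

lemma mono_iff_injective_app {M N : X.Modules} (φ : M ⟶ N) :
    Mono φ ↔ ∀ V : X.Opens, Function.Injective (φ.app V) := by
  constructor
  · intro h V
    have h1 : Mono ((Scheme.Modules.toPresheaf X).map φ) := inferInstance
    have h2 : Mono (((Scheme.Modules.toPresheaf X).map φ).app (op V)) := inferInstance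
    exact (AddCommGrpCat.mono_iff_injective _).1 h2
  · intro h
    have h2 : ∀ V : (Opens X)ᵒᵖ, Mono (((Scheme.Modules.toPresheaf X).map φ).app V) := fun V =>
      (AddCommGrpCat.mono_iff_injective _).2 (h V.unop)
    have h1 : Mono ((Scheme.Modules.toPresheaf X).map φ) := NatTrans.mono_of_mono_app _
    exact (Scheme.Modules.toPresheaf X).mono_of_mono_map h1

lemma isIso_iff_bijective_app {M N : X.Modules} (φ : M ⟶ N) :
    IsIso φ ↔ ∀ V : X.Opens, Function.Bijective (φ.app V) := by
  rw [Scheme.Modules.Hom.isIso_iff_isIso_app]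
  exact forall_congr' fun V => ConcreteCategory.isIso_iff_bijective _

lemma inf_eq_image (U V : X.Opens) : V ⊓ U = U.ι ''ᵁ U.ι ⁻¹ᵁ V := by
  rw [ι_image_preimage, inf_comm]

lemma resInf_eq (U : X.Opens) (F : X.Modules) (V : X.Opens) (s : Γ(F, V)) :
    resInf F.presheaf U V s =
      F.presheaf.map (eqToHom (inf_eq_image U V)).op (((resPushUnit U).app F).app V s) := by
  rw [resPushUnit_app_app]
  exact (map_map_apply F.presheaf _ _ _ s).symm

lemma bijective_map_eqToHom (F : X.Modules) {V W : X.Opens} (e : V = W) :
    Function.Bijective (F.presheaf.map (eqToHom e).op) := by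
  subst e
  simp only [eqToHom_refl, op_id, CategoryTheory.Functor.map_id]
  exact Function.bijective_id

lemma injective_unit_app_iff (U : X.Opens) (F : X.Modules) (V : X.Opens) :
    Function.Injective (((resPushUnit U).app F).app V) ↔
      Function.Injective (resInf F.presheaf U V) := by
  constructor
  · intro h a b hab
    rw [resInf_eq, resInf_eq] at hab
    exact h ((bijective_map_eqToHom F _).1 hab)
  · intro h a b hab
    apply h
    rw [resInf_eq, resInf_eq, hab]

lemma bijective_unit_app_iff (U : X.Opens) (F : X.Modules) (V : X.Opens) :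
    Function.Bijective (((resPushUnit U).app F).app V) ↔
      Function.Bijective (resInf F.presheaf U V) := by
  constructor
  · intro h
    refine ⟨(injective_unit_app_iff U F V).1 h.1, fun t => ?_⟩
    obtain ⟨t', ht'⟩ := (bijective_map_eqToHom F (inf_eq_image U V)).2 t
    obtain ⟨s, hs⟩ := h.2 t'
    exact ⟨s, by rw [resInf_eq, hs, ht']⟩
  · intro h
    refine ⟨(injective_unit_app_iff U F V).2 h.1, fun t => ?_⟩
    obtain ⟨s, hs⟩ := h.2 (F.presheaf.map (eqToHom (inf_eq_image U V)).op t)
    refine ⟨s, (bijective_map_eqToHom F (inf_eq_image U V)).1 ?_⟩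
    rw [← resInf_eq, hs]

/-- affine opens (hence compact opens) form a basis -/
lemma exists_compact_nhd (V : X.Opens) (x : X) (hx : x ∈ V) :
    ∃ W ∈ {W : X.Opens | IsCompact (W : Set X)}, x ∈ W ∧ W ≤ V := by
  obtain ⟨W, hW, hxW, hWV⟩ := (X.isBasis_affineOpens).exists_subset_of_mem_open hx V.2
  obtain ⟨W', hW', rfl⟩ := hW
  exact ⟨W', IsAffineOpen.isCompact hW', hxW, hWV⟩

/-- the sheaf of abelian groups underlying a module -/
def abSheaf (F : X.Modules) : TopCat.Sheaf Ab.{u} X := ⟨F.presheaf, F.isSheaf⟩

theorem mono_unit_iff_compact (U : X.Opens) (F : X.Modules) :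
    Mono ((resPushUnit U).app F) ↔ ∀ V : X.Opens, IsCompact (V : Set X) →
      Function.Injective (resInf F.presheaf U V) := by
  rw [mono_iff_injective_app]
  constructor
  · intro h V _
    exact (injective_unit_app_iff U F V).1 (h V)
  · intro h V
    exact (injective_unit_app_iff U F V).2
      (injective_of_basis (abSheaf F) {W : X.Opens | IsCompact (W : Set X)} U
        exists_compact_nhd h V)

theorem isIso_unit_iff_compact (U : X.Opens) (F : X.Modules) :
    IsIso ((resPushUnit U).app F) ↔ ∀ V : X.Opens, IsCompact (V : Set X) →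
      Function.Bijective (resInf F.presheaf U V) := by
  rw [isIso_iff_bijective_app]
  constructor
  · intro h V _
    exact (bijective_unit_app_iff U F V).1 (h V)
  · intro h V
    exact (bijective_unit_app_iff U F V).2
      (bijective_of_basis (abSheaf F) {W : X.Opens | IsCompact (W : Set X)} U
        exists_compact_nhd h V)

instance isIso_restrict_map_unit (U : X.Opens) (F : X.Modules) :
    IsIso ((Scheme.Modules.restrictFunctor U.ι).map ((resPushUnit U).app F)) := by
  have h := (Scheme.Modules.restrictAdjunction U.ι).left_triangle_components F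
  have : IsIso ((Scheme.Modules.restrictAdjunction U.ι).counit.app
      ((Scheme.Modules.restrictFunctor U.ι).obj F)) := inferInstance
  have h2 : IsIso ((Scheme.Modules.restrictFunctor U.ι).map ((resPushUnit U).app F) ≫
      (Scheme.Modules.restrictAdjunction U.ι).counit.app
      ((Scheme.Modules.restrictFunctor U.ι).obj F)) := by
    rw [h]; infer_instance
  exact IsIso.of_isIso_comp_right _ ((Scheme.Modules.restrictAdjunction U.ι).counit.app
      ((Scheme.Modules.restrictFunctor U.ι).obj F))

lemma unit_cancel (U : X.Opens) (F F' : X.Modules) (hF' : Mono ((resPushUnit U).app F'))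
    (w w' : (resPush U).obj F ⟶ F')
    (h : (resPushUnit U).app F ≫ w = (resPushUnit U).app F ≫ w') : w = w' := by
  have h1 : (Scheme.Modules.restrictFunctor U.ι).map w =
      (Scheme.Modules.restrictFunctor U.ι).map w' := by
    rw [← cancel_epi ((Scheme.Modules.restrictFunctor U.ι).map ((resPushUnit U).app F)),
      ← Functor.map_comp, ← Functor.map_comp, h]
  have h2 : (resPush U).map w = (resPush U).map w' := by
    show (Scheme.Modules.pushforward U.ι).map ((Scheme.Modules.restrictFunctor U.ι).map w) = _
    rw [h1]; rfl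
  rw [← cancel_mono ((resPushUnit U).app F')]
  have n1 := (resPushUnit U).naturality w
  have n2 := (resPushUnit U).naturality w'
  simp only [Functor.id_obj, Functor.id_map] at n1 n2
  rw [n1, n2, h2]

theorem rho_cancel (Z : Set X) (F F' : X.Modules) (hF' : IsZPure Z F')
    (v v' : (H0 Z).obj F ⟶ F') (h : rhoApp Z F ≫ v = rhoApp Z F ≫ v') : v = v' := by
  have hm := (isZPure_iff Z F').1 hF'
  refine colimit.hom_ext (F := (diagram Z).obj F) fun T => ?_
  apply unit_cancel T.U F F' (hm T)
  have e := rhoApp_eq Z F T
  unfold toDiagram at e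
  have e1 : (resPushUnit T.U).app F ≫ colimit.ι ((diagram Z).obj F) T ≫ v = rhoApp Z F ≫ v := by
    rw [e]; exact (Category.assoc _ _ _).symm
  have e2 : (resPushUnit T.U).app F ≫ colimit.ι ((diagram Z).obj F) T ≫ v' = rhoApp Z F ≫ v' := by
    rw [e]; exact (Category.assoc _ _ _).symm
  exact e1.trans (h.trans e2.symm)

theorem existsUnique_fac (Z : Set X) (F F' : X.Modules) (hF' : IsZClosed Z F') (u : F ⟶ F') :
    ∃! v : (H0 Z).obj F ⟶ F', rhoApp Z F ≫ v = u := by
  have hi : IsIso (rhoApp Z F') := hF'
  refine ⟨(H0 Z).map u ≫ inv (rhoApp Z F'), ?_, ?_⟩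
  · have n := (rho Z).naturality u
    simp only [Functor.id_obj, Functor.id_map] at n
    show rhoApp Z F ≫ (H0 Z).map u ≫ inv (rhoApp Z F') = u
    rw [← Category.assoc]
    erw [← n]
    rw [Category.assoc]
    erw [IsIso.hom_inv_id]
    rw [Category.comp_id]
  · intro v hv
    apply rho_cancel Z F F' (by show Mono (rhoApp Z F'); infer_instance)
    rw [hv]
    have n := (rho Z).naturality u
    simp only [Functor.id_obj, Functor.id_map] at n
    rw [← Category.assoc]
    erw [← n]
    rw [Category.assoc]
    erw [IsIso.hom_inv_id]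
    rw [Category.comp_id]

end Groth.Agent.Lib.Helper17.ZClosLib
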