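import Mathlib

open CategoryTheory CategoryTheory.Limits TopologicalSpace Opposite TopCat

universe u

namespace Groth.Agent.Lib.Helper17.NoethColim

variable {X : TopCat.{u}}

/-- finite separatedness of a presheaf of types on opens below `V` -/
def FinSep (P : (Opens X)ᵒᵖ ⥤ Type u) (V : Opens X) : Prop :=
  ∀ (W : Opens X), W ≤ V → ∀ (ι : Type u) [Finite ι] (Wi : ι → Opens X) (hle : ∀ i, Wi i ≤ W),
    (W ≤ ⨆ i, Wi i) → ∀ s s' : P.obj (op W),
      (∀ i, P.map (homOfLE (hle i)).op s = P.map (homOfLE (hle i)).op s') → s = s'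

/-- finite gluing of a presheaf of types on opens below `V` -/
def FinGlue (P : (Opens X)ᵒᵖ ⥤ Type u) (V : Opens X) : Prop :=
  ∀ (W : Opens X), W ≤ V → ∀ (ι : Type u) [Finite ι] (Wi : ι → Opens X) (hle : ∀ i, Wi i ≤ W),
    (W ≤ ⨆ i, Wi i) → ∀ sf : ∀ i, P.obj (op (Wi i)),
      (∀ i j, P.map (homOfLE (inf_le_left : Wi i ⊓ Wi j ≤ Wi i)).op (sf i) =
        P.map (homOfLE (inf_le_right : Wi i ⊓ Wi j ≤ Wi j)).op (sf j)) →
      ∃ s : P.obj (op W), ∀ i, P.map (homOfLE (hle i)).op s = sf i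

lemma map_map' (P : (Opens X)ᵒᵖ ⥤ Type u) {U V W : Opens X} (f : U ⟶ V) (g : V ⟶ W)
    (h : U ⟶ W) (s : P.obj (op W)) : P.map f.op (P.map g.op s) = P.map h.op s := by
  have : P.map h.op = P.map g.op ≫ P.map f.op := by
    rw [← P.map_comp, ← op_comp]; rfl
  rw [this]; rfl

/-- a covering sieve of a compact open has a finite subfamily which covers -/
lemma exists_finite_subcover {W : Opens X} (hW : IsCompact (W : Set X)) (S : Sieve W)
    (hS : S ∈ Opens.grothendieckTopology X W) :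
    ∃ t : Finset {U' : Opens X // ∃ h : U' ≤ W, S (homOfLE h)},
      W ≤ ⨆ i : {i // i ∈ t}, i.1.1 := by
  let ι := {U' : Opens X // ∃ h : U' ≤ W, S (homOfLE h)}
  have hcov : (W : Set X) ⊆ ⋃ i : ι, (i.1 : Set X) := by
    intro x hx
    obtain ⟨U', f, hf, hxU⟩ := hS x hx
    exact Set.mem_iUnion.2 ⟨⟨U', f.le, by rwa [show homOfLE f.le = f from Subsingleton.elim _ _]⟩, hxU⟩
  obtain ⟨t, ht⟩ := hW.elim_finite_subcover (fun i : ι => (i.1 : Set X)) (fun i => i.1.2) hcov
  refine ⟨t, fun x hx => ?_⟩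
  have := ht hx
  simp only [Set.mem_iUnion] at this
  obtain ⟨i, hi, hxi⟩ := this
  simp only [Opens.mem_iSup]
  exact ⟨⟨i, hi⟩, hxi⟩

variable {P Q : (Opens X)ᵒᵖ ⥤ Type u} (η : P ⟶ Q)

theorem injective_app_of_finSep [Presheaf.IsLocallyInjective (Opens.grothendieckTopology X) η]
    (W : Opens X) (hW : IsCompact (W : Set X)) (hsep : FinSep P W) :
    Function.Injective (η.app (op W)) := by
  intro s s' h
  have hS := Presheaf.equalizerSieve_mem (Opens.grothendieckTopology X) η s s' h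
  obtain ⟨t, ht⟩ := exists_finite_subcover hW _ hS
  refine hsep W le_rfl _ (fun i : {i // i ∈ t} => i.1.1) (fun i => i.1.2.choose) ht s s' ?_
  intro i
  exact i.1.2.choose_spec

/-- separatedness of a presheaf of types at `W` -/
def Sep (P : (Opens X)ᵒᵖ ⥤ Type u) (W : Opens X) : Prop :=
  ∀ (ι : Type u) (Wi : ι → Opens X) (hle : ∀ i, Wi i ≤ W),
    (W ≤ ⨆ i, Wi i) → ∀ s s' : P.obj (op W),
      (∀ i, P.map (homOfLE (hle i)).op s = P.map (homOfLE (hle i)).op s') → s = s'

theorem injective_app_of_sep [Presheaf.IsLocallyInjective (Opens.grothendieckTopology X) η]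
    (W : Opens X) (hsep : Sep P W) : Function.Injective (η.app (op W)) := by
  intro s s' h
  have hS := Presheaf.equalizerSieve_mem (Opens.grothendieckTopology X) η s s' h
  let ι := {U' : Opens X // ∃ h : U' ≤ W, (Presheaf.equalizerSieve (F := P) (X := op W) s s') (homOfLE h)}
  refine hsep ι (fun i => i.1) (fun i => i.2.choose) ?_ s s' (fun i => i.2.choose_spec)
  intro x hx
  obtain ⟨U', f, hf, hxU⟩ := hS x hx
  simp only [Opens.mem_iSup]
  exact ⟨⟨U', f.le, by rwa [show homOfLE f.le = f from Subsingleton.elim _ _]⟩, hxU⟩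

/-- every covering sieve contains a finite covering family on whose pairwise intersections `η` is
injective -/
def GoodRef (W : Opens X) : Prop :=
  ∀ S ∈ Opens.grothendieckTopology X W, ∃ (ι : Type u) (_ : Finite ι) (Wi : ι → Opens X)
    (hle : ∀ i, Wi i ≤ W), W ≤ ⨆ i, Wi i ∧ (∀ i, S (homOfLE (hle i))) ∧
      ∀ i j, Function.Injective (η.app (op (Wi i ⊓ Wi j)))

theorem surjective_app_of_finGlue
    [Presheaf.IsLocallySurjective (Opens.grothendieckTopology X) η]
    (hQ : TopCat.Presheaf.IsSheaf Q) (W : Opens X) (hglue : FinGlue P W)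
    (href : GoodRef η W) : Function.Surjective (η.app (op W)) := by
  intro q
  have hS := Presheaf.imageSieve_mem (Opens.grothendieckTopology X) η (U := op W) q
  obtain ⟨ι, _, Wi, hle, hcov, hmem, hinj⟩ := href _ hS
  have hsf : ∀ i : ι, ∃ s : P.obj (op (Wi i)), η.app _ s = Q.map (homOfLE (hle i)).op q :=
    fun i => hmem i
  choose sf hsf' using hsf
  obtain ⟨s, hs⟩ := hglue W le_rfl ι Wi hle hcov sf (by
    intro i j
    apply hinj i j
    have n1 := NatTrans.naturality_apply η (homOfLE (inf_le_left : Wi i ⊓ Wi j ≤ Wi i)).op (sf i)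
    have n2 := NatTrans.naturality_apply η (homOfLE (inf_le_right : Wi i ⊓ Wi j ≤ Wi j)).op (sf j)
    rw [n1, n2, hsf', hsf']
    rw [map_map' Q _ _ (homOfLE (inf_le_left.trans (hle i))),
      map_map' Q _ _ (homOfLE (inf_le_left.trans (hle i)))])
  refine ⟨s, ?_⟩
  let G : TopCat.Sheaf (Type u) X := ⟨Q, hQ⟩
  refine G.eq_of_locally_eq' Wi W (fun i => homOfLE (hle i)) hcov _ _ ?_
  intro i
  have n1 := NatTrans.naturality_apply η (homOfLE (hle i)).op s
  show Q.map _ (η.app _ s) = Q.map _ q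
  rw [← n1, hs i, hsf']

lemma FinSep.mono {P : (Opens X)ᵒᵖ ⥤ Type u} {V V' : Opens X} (h : FinSep P V) (hV : V' ≤ V) :
    FinSep P V' := fun W hW => h W (hW.trans hV)

lemma FinGlue.mono {P : (Opens X)ᵒᵖ ⥤ Type u} {V V' : Opens X} (h : FinGlue P V) (hV : V' ≤ V) :
    FinGlue P V' := fun W hW => h W (hW.trans hV)

/-- compact opens all of whose open subsets are compact admit good refinements -/
lemma goodRef_of_noeth [Presheaf.IsLocallyInjective (Opens.grothendieckTopology X) η]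
    (V : Opens X) (hV : ∀ W : Opens X, W ≤ V → IsCompact (W : Set X)) (hsep : FinSep P V)
    (W : Opens X) (hW : W ≤ V) : GoodRef η W := by
  intro S hS
  obtain ⟨t, ht⟩ := exists_finite_subcover (hV W hW) _ hS
  refine ⟨{i // i ∈ t}, inferInstance, fun i => i.1.1, fun i => i.1.2.choose, ht,
    fun i => i.1.2.choose_spec, fun i j => ?_⟩
  have hle : i.1.1 ⊓ j.1.1 ≤ V := (inf_le_left.trans i.1.2.choose).trans hW
  exact injective_app_of_finSep η _ (hV _ hle) (hsep.mono hle)

theorem bijective_app_of_finSep_finGlue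
    [Presheaf.IsLocallyInjective (Opens.grothendieckTopology X) η]
    [Presheaf.IsLocallySurjective (Opens.grothendieckTopology X) η]
    (hQ : TopCat.Presheaf.IsSheaf Q)
    (V : Opens X) (hV : ∀ W : Opens X, W ≤ V → IsCompact (W : Set X)) (hsep : FinSep P V)
    (hglue : FinGlue P V) (W : Opens X) (hW : W ≤ V) : Function.Bijective (η.app (op W)) :=
  ⟨injective_app_of_finSep η W (hV W hW) (hsep.mono hW),
    surjective_app_of_finGlue η hQ W (hglue.mono hW) (goodRef_of_noeth η V hV hsep W hW)⟩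

section filt

variable {Λ : Type u} [SmallCategory Λ] [IsFiltered Λ]

/-- a property of arrows out of `l` stable under postcomposition which holds eventually for each
member of a finite family holds eventually for all of them -/
lemma exists_common {l : Λ} {ι : Type*} (t : Finset ι) (Q : ι → ∀ m : Λ, (l ⟶ m) → Prop)
    (hQ : ∀ (k : ι) (m : Λ) (f : l ⟶ m) (n : Λ) (g : m ⟶ n), Q k m f → Q k n (f ≫ g))
    (h : ∀ k ∈ t, ∃ (m : Λ) (f : l ⟶ m), Q k m f) :
    ∃ (m : Λ) (f : l ⟶ m), ∀ k ∈ t, Q k m f := by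
  classical
  induction t using Finset.induction_on with
  | empty => exact ⟨l, 𝟙 l, fun k hk => absurd hk (Finset.notMem_empty k)⟩
  | insert a t ha ih =>
    obtain ⟨m₁, f₁, h₁⟩ := ih (fun k hk => h k (Finset.mem_insert_of_mem hk))
    obtain ⟨m₂, f₂, h₂⟩ := h a (Finset.mem_insert_self a t)
    obtain ⟨n, g₁, g₂, hg⟩ := IsFiltered.span f₁ f₂
    refine ⟨n, f₁ ≫ g₁, ?_⟩
    intro k hk
    rcases Finset.mem_insert.1 hk with rfl | hk
    · rw [hg]; exact hQ _ _ _ _ _ h₂
    · exact hQ _ _ _ _ _ (h₁ k hk)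

variable (D : Λ ⥤ (Opens X)ᵒᵖ ⥤ Type u) (c : Cocone D) (hc : IsColimit c)

/-- the evaluated cocone is a colimit -/
noncomputable def evalIsColimit (W : Opens X) :
    IsColimit (((evaluation (Opens X)ᵒᵖ (Type u)).obj (op W)).mapCocone c) :=
  isColimitOfPreserves _ hc

omit [IsFiltered Λ] in
include hc in
lemma exists_rep (W : Opens X) (s : c.pt.obj (op W)) :
    ∃ (l : Λ) (a : (D.obj l).obj (op W)), (c.ι.app l).app (op W) a = s :=
  Types.jointly_surjective_of_isColimit (evalIsColimit D c hc W) s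

include hc in
lemma rep_eq_iff (W : Opens X) {l : Λ} (a a' : (D.obj l).obj (op W)) :
    (c.ι.app l).app (op W) a = (c.ι.app l).app (op W) a' ↔
      ∃ (m : Λ) (f : l ⟶ m), (D.map f).app (op W) a = (D.map f).app (op W) a' :=
  Types.FilteredColimit.isColimit_eq_iff' (F := D ⋙ (evaluation (Opens X)ᵒᵖ (Type u)).obj (op W))
    (evalIsColimit D c hc W) a a'

omit [IsFiltered Λ] in
lemma ι_map (W : Opens X) {l m : Λ} (f : l ⟶ m) (a : (D.obj l).obj (op W)) :
    (c.ι.app m).app (op W) ((D.map f).app (op W) a) = (c.ι.app l).app (op W) a := by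
  have := c.w f
  rw [← this]
  rfl

omit [IsFiltered Λ] in
lemma ι_res {W W' : Opens X} (g : W' ⟶ W) {l : Λ} (a : (D.obj l).obj (op W)) :
    c.pt.map g.op ((c.ι.app l).app (op W) a) = (c.ι.app l).app (op W') ((D.obj l).map g.op a) :=
  (NatTrans.naturality_apply (c.ι.app l) g.op a).symm

omit [IsFiltered Λ] in
lemma D_res {W W' : Opens X} (g : W' ⟶ W) {l m : Λ} (f : l ⟶ m) (a : (D.obj l).obj (op W)) :
    (D.obj m).map g.op ((D.map f).app (op W) a) = (D.map f).app (op W') ((D.obj l).map g.op a) :=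
  (NatTrans.naturality_apply (D.map f) g.op a).symm

variable (hD : ∀ l, TopCat.Presheaf.IsSheaf (D.obj l))

include hc hD in
theorem finSep_colimit (V : Opens X) : FinSep c.pt V := by
  intro W _ ι _ Wi hle hcov s s' h
  have := Fintype.ofFinite ι
  obtain ⟨l, a, a', rfl, rfl⟩ := Types.FilteredColimit.jointly_surjective_of_isColimit₂
    (F := D ⋙ (evaluation (Opens X)ᵒᵖ (Type u)).obj (op W)) (evalIsColimit D c hc W) s s'
  change ∀ i, c.pt.map (homOfLE (hle i)).op ((c.ι.app l).app (op W) a) =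
    c.pt.map (homOfLE (hle i)).op ((c.ι.app l).app (op W) a') at h
  change (c.ι.app l).app (op W) a = (c.ι.app l).app (op W) a'
  have key : ∀ k ∈ (Finset.univ : Finset ι), ∃ (m : Λ) (f : l ⟶ m),
      (D.map f).app (op (Wi k)) ((D.obj l).map (homOfLE (hle k)).op a) =
        (D.map f).app (op (Wi k)) ((D.obj l).map (homOfLE (hle k)).op a') := by
    intro k _
    have := h k
    rw [ι_res, ι_res] at this
    exact (rep_eq_iff D c hc (Wi k) _ _).1 this
  obtain ⟨m, f, hm⟩ := exists_common (Finset.univ : Finset ι)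
    (fun k m f => (D.map f).app (op (Wi k)) ((D.obj l).map (homOfLE (hle k)).op a) =
        (D.map f).app (op (Wi k)) ((D.obj l).map (homOfLE (hle k)).op a'))
    (fun k m f n g hq => by
      simp only [Functor.map_comp, NatTrans.comp_app, types_comp_apply] at hq ⊢
      show (D.map g).app _ ((D.map f).app _ _) = (D.map g).app _ ((D.map f).app _ _)
      rw [hq]) key
  rw [(rep_eq_iff D c hc W a a')]
  refine ⟨m, f, ?_⟩
  let G : TopCat.Sheaf (Type u) X := ⟨D.obj m, hD m⟩
  refine G.eq_of_locally_eq' Wi W (fun i => homOfLE (hle i)) hcov _ _ ?_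
  intro i
  show (D.obj m).map _ ((D.map f).app _ a) = (D.obj m).map _ ((D.map f).app _ a')
  rw [D_res, D_res]
  exact hm i (Finset.mem_univ i)

include hc hD in
theorem finGlue_colimit (V : Opens X) : FinGlue c.pt V := by
  intro W _ ι _ Wi hle hcov sf hcompat
  have := Fintype.ofFinite ι
  classical
  have hrep : ∀ k, ∃ (l : Λ) (a : (D.obj l).obj (op (Wi k))),
      (c.ι.app l).app (op (Wi k)) a = sf k := fun k => exists_rep D c hc (Wi k) (sf k)
  choose lk ak hak using hrep
  obtain ⟨l, hl⟩ := IsFiltered.sup_objs_exists (Finset.univ.image lk)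
  have fk : ∀ k, lk k ⟶ l := fun k => (hl (Finset.mem_image_of_mem lk (Finset.mem_univ k))).some
  obtain ⟨a, ha⟩ : ∃ a : ∀ k, (D.obj l).obj (op (Wi k)),
      ∀ k, (c.ι.app l).app (op (Wi k)) (a k) = sf k :=
    ⟨fun k => (D.map (fk k)).app _ (ak k), fun k => by rw [ι_map]; exact hak k⟩
  have key : ∀ p ∈ (Finset.univ : Finset (ι × ι)), ∃ (m : Λ) (f : l ⟶ m),
      (D.map f).app (op (Wi p.1 ⊓ Wi p.2))
        ((D.obj l).map (homOfLE (inf_le_left : Wi p.1 ⊓ Wi p.2 ≤ Wi p.1)).op (a p.1)) =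
      (D.map f).app (op (Wi p.1 ⊓ Wi p.2))
        ((D.obj l).map (homOfLE (inf_le_right : Wi p.1 ⊓ Wi p.2 ≤ Wi p.2)).op (a p.2)) := by
    intro p _
    have := hcompat p.1 p.2
    rw [← ha, ← ha, ι_res, ι_res] at this
    exact (rep_eq_iff D c hc _ _ _).1 this
  obtain ⟨m, f, hm⟩ := exists_common (Finset.univ : Finset (ι × ι))
    (fun p m f => (D.map f).app (op (Wi p.1 ⊓ Wi p.2))
        ((D.obj l).map (homOfLE (inf_le_left : Wi p.1 ⊓ Wi p.2 ≤ Wi p.1)).op (a p.1)) =
      (D.map f).app (op (Wi p.1 ⊓ Wi p.2))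
        ((D.obj l).map (homOfLE (inf_le_right : Wi p.1 ⊓ Wi p.2 ≤ Wi p.2)).op (a p.2)))
    (fun k m f n g hq => by
      simp only [Functor.map_comp, NatTrans.comp_app, types_comp_apply] at hq ⊢
      show (D.map g).app _ ((D.map f).app _ _) = (D.map g).app _ ((D.map f).app _ _)
      rw [hq]) key
  let G : TopCat.Sheaf (Type u) X := ⟨D.obj m, hD m⟩
  obtain ⟨b, hb, -⟩ := G.existsUnique_gluing' Wi W (fun i => homOfLE (hle i)) hcov
    (fun k => (D.map f).app _ (a k)) (by
      intro i j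
      show (D.obj m).map _ ((D.map f).app _ (a i)) = (D.obj m).map _ ((D.map f).app _ (a j))
      rw [D_res, D_res]
      exact hm (i, j) (Finset.mem_univ _))
  refine ⟨(c.ι.app m).app (op W) b, fun k => ?_⟩
  rw [ι_res]
  have hbk : (D.obj m).map (homOfLE (hle k)).op b = (D.map f).app _ (a k) := hb k
  rw [hbk, ι_map, ha]

include hc hD in
theorem sep_colimit_of_injective
    (hinj : ∀ (l m : Λ) (f : l ⟶ m) (W : Opens X), Function.Injective ((D.map f).app (op W)))
    (W : Opens X) : Sep c.pt W := by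
  intro ι Wi hle hcov s s' h
  obtain ⟨l, a, a', rfl, rfl⟩ := Types.FilteredColimit.jointly_surjective_of_isColimit₂
    (F := D ⋙ (evaluation (Opens X)ᵒᵖ (Type u)).obj (op W)) (evalIsColimit D c hc W) s s'
  change ∀ i, c.pt.map (homOfLE (hle i)).op ((c.ι.app l).app (op W) a) =
    c.pt.map (homOfLE (hle i)).op ((c.ι.app l).app (op W) a') at h
  change (c.ι.app l).app (op W) a = (c.ι.app l).app (op W) a'
  congr 1
  let G : TopCat.Sheaf (Type u) X := ⟨D.obj l, hD l⟩
  refine G.eq_of_locally_eq' Wi W (fun i => homOfLE (hle i)) hcov _ _ ?_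
  intro i
  have := h i
  rw [ι_res, ι_res] at this
  obtain ⟨m, f, hf⟩ := (rep_eq_iff D c hc (Wi i) _ _).1 this
  exact hinj l m f (Wi i) hf

end filt

end Groth.Agent.Lib.Helper17.NoethColim
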