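import Mathlib
import Groth.Agent.Lib.Helper17.NoethColim

open CategoryTheory CategoryTheory.Limits TopologicalSpace Opposite TopCat

universe u

namespace Groth.Agent.Lib.Helper17.NoethColim

variable {X : TopCat.{u}} {Λ : Type u} [SmallCategory Λ] [IsFiltered Λ]
  (F : Λ ⥤ Sheaf (Opens.grothendieckTopology X) (Type u))

/-- the presheaf colimit cocone -/
noncomputable abbrev preCocone : Cocone (F ⋙ sheafToPresheaf _ _) := colimit.cocone _

/-- the sheafification map of the presheaf colimit -/
noncomputable abbrev etaP :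
    (preCocone F).pt ⟶ sheafify (Opens.grothendieckTopology X) (preCocone F).pt :=
  toSheafify _ _

lemma isSheaf_obj (l : Λ) : TopCat.Presheaf.IsSheaf ((F ⋙ sheafToPresheaf _ _).obj l) :=
  (F.obj l).2

theorem finSep_pre (V : Opens X) : FinSep (preCocone F).pt V :=
  finSep_colimit _ _ (colimit.isColimit _) (isSheaf_obj F) V

theorem finGlue_pre (V : Opens X) : FinGlue (preCocone F).pt V :=
  finGlue_colimit _ _ (colimit.isColimit _) (isSheaf_obj F) V

variable (c : Cocone F) (hc : IsColimit c)

/-- comparison iso with the sheafified presheaf colimit -/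
noncomputable def compIso : c.pt ≅ (Sheaf.sheafifyCocone (preCocone F)).pt :=
  hc.coconePointUniqueUpToIso (Sheaf.isColimitSheafifyCocone _ (colimit.isColimit _))

lemma compIso_spec (l : Λ) (W : Opens X) (a : (F.obj l).obj.obj (op W)) :
    (compIso F c hc).hom.hom.app (op W) ((c.ι.app l).hom.app (op W) a) =
      (etaP F).app (op W) (((preCocone F).ι.app l).app (op W) a) := by
  have h1 : c.ι.app l ≫ (compIso F c hc).hom = (Sheaf.sheafifyCocone (preCocone F)).ι.app l :=
    hc.comp_coconePointUniqueUpToIso_hom _ l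
  have h2 := Sheaf.sheafifyCocone_ι_app_val (preCocone F) l
  rw [← h1] at h2
  have h3 := congrArg (fun φ => φ.app (op W) a) h2
  exact h3

lemma compIso_injective (W : Opens X) :
    Function.Injective ((compIso F c hc).hom.hom.app (op W)) := by
  intro x y h
  have := congrArg ((compIso F c hc).inv.hom.app (op W)) h
  have e : ∀ z, (compIso F c hc).inv.hom.app (op W) ((compIso F c hc).hom.hom.app (op W) z) = z := by
    intro z
    have h1 : (compIso F c hc).hom ≫ (compIso F c hc).inv = 𝟙 _ := (compIso F c hc).hom_inv_id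
    have h2 := congrArg (fun φ : c.pt ⟶ c.pt => φ.hom.app (op W) z) h1
    exact h2
  rwa [e, e] at this

include hc in
theorem exists_rep_of_surjective (W : Opens X)
    (hsurj : Function.Surjective ((etaP F).app (op W))) (q : c.pt.obj.obj (op W)) :
    ∃ (l : Λ) (a : (F.obj l).obj.obj (op W)), (c.ι.app l).hom.app (op W) a = q := by
  obtain ⟨p, hp⟩ := hsurj ((compIso F c hc).hom.hom.app (op W) q)
  obtain ⟨l, a, rfl⟩ := exists_rep (F ⋙ sheafToPresheaf _ _) (preCocone F) (colimit.isColimit _) W p
  refine ⟨l, a, compIso_injective F c hc W ?_⟩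
  rw [compIso_spec]
  exact hp

include hc in
theorem eq_iff_of_injective (W : Opens X)
    (hinj : Function.Injective ((etaP F).app (op W))) {l : Λ} (a a' : (F.obj l).obj.obj (op W)) :
    (c.ι.app l).hom.app (op W) a = (c.ι.app l).hom.app (op W) a' ↔
      ∃ (m : Λ) (f : l ⟶ m), (F.map f).hom.app (op W) a = (F.map f).hom.app (op W) a' := by
  constructor
  · intro h
    have h1 := congrArg ((compIso F c hc).hom.hom.app (op W)) h
    rw [compIso_spec, compIso_spec] at h1
    exact (rep_eq_iff (F ⋙ sheafToPresheaf _ _) (preCocone F) (colimit.isColimit _) W a a').1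
      (hinj h1)
  · rintro ⟨m, f, hf⟩
    have w := c.w f
    have e1 : (c.ι.app l).hom.app (op W) a = (c.ι.app m).hom.app (op W) ((F.map f).hom.app (op W) a) := by
      rw [← w]; rfl
    have e2 : (c.ι.app l).hom.app (op W) a' = (c.ι.app m).hom.app (op W) ((F.map f).hom.app (op W) a') := by
      rw [← w]; rfl
    rw [e1, e2, hf]

section psi

variable (U : Opens X)

/-- evaluation at `U` -/
abbrev evU : Sheaf (Opens.grothendieckTopology X) (Type u) ⥤ Type u :=
  TopCat.Sheaf.forget (Type u) X ⋙ (evaluation (Opens X)ᵒᵖ (Type u)).obj (op U)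

/-- the comparison map -/
noncomputable abbrev Psi : colimit (F ⋙ evU U) → (evU U).obj c.pt :=
  colimit.desc (F ⋙ evU U) ((evU U).mapCocone c)

lemma Psi_ι (l : Λ) (a : (F.obj l).obj.obj (op U)) :
    Psi F c U (colimit.ι (F ⋙ evU U) l a) = (c.ι.app l).hom.app (op U) a := by
  have := colimit.ι_desc ((evU U).mapCocone c) l
  exact congrArg (fun φ => φ a) this

include hc in
theorem Psi_injective (hinj : Function.Injective ((etaP F).app (op U))) :
    Function.Injective (Psi F c U) := by
  intro x x' h
  obtain ⟨l, a, a', rfl, rfl⟩ := Types.FilteredColimit.jointly_surjective_of_isColimit₂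
    (colimit.isColimit (F ⋙ evU U)) x x'
  change Psi F c U (colimit.ι (F ⋙ evU U) l a) = Psi F c U (colimit.ι (F ⋙ evU U) l a') at h
  rw [Psi_ι, Psi_ι] at h
  obtain ⟨m, f, hf⟩ := (eq_iff_of_injective F c hc U hinj a a').1 h
  exact (Types.FilteredColimit.isColimit_eq_iff' (colimit.isColimit (F ⋙ evU U)) a a').2 ⟨m, f, hf⟩

include hc in
theorem Psi_surjective (hsurj : Function.Surjective ((etaP F).app (op U))) :
    Function.Surjective (Psi F c U) := by
  intro q
  obtain ⟨l, a, ha⟩ := exists_rep_of_surjective F c hc U hsurj q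
  exact ⟨colimit.ι (F ⋙ evU U) l a, by rw [Psi_ι]; exact ha⟩

instance : Presheaf.IsLocallyInjective (Opens.grothendieckTopology X) (etaP F) := by
  unfold etaP; infer_instance

instance : Presheaf.IsLocallySurjective (Opens.grothendieckTopology X) (etaP F) := by
  unfold etaP; infer_instance

lemma isSheaf_sheafify : TopCat.Presheaf.IsSheaf
    (sheafify (Opens.grothendieckTopology X) (preCocone F).pt) :=
  ((presheafToSheaf (Opens.grothendieckTopology X) (Type u)).obj (preCocone F).pt).2

/-- part (1) -/
theorem eta_injective_of_injective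
    (h : ∀ (i j : Λ) (f : i ⟶ j) (V : Opens X), Function.Injective ((F.map f).hom.app (op V))) :
    Function.Injective ((etaP F).app (op U)) :=
  injective_app_of_sep (etaP F) U
    (sep_colimit_of_injective _ _ (colimit.isColimit _) (isSheaf_obj F) h U)

/-- part (2) -/
theorem eta_injective_of_isCompact (hU : IsCompact (U : Set X)) :
    Function.Injective ((etaP F).app (op U)) :=
  injective_app_of_finSep (etaP F) U hU (finSep_pre F U)

/-- part (3) -/
theorem eta_surjective_of_isCompact_of_injective (hU : IsCompact (U : Set X))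
    (h : ∀ (i j : Λ) (f : i ⟶ j) (V : Opens X), Function.Injective ((F.map f).hom.app (op V))) :
    Function.Surjective ((etaP F).app (op U)) := by
  refine surjective_app_of_finGlue (etaP F) (isSheaf_sheafify F) U (finGlue_pre F U) ?_
  intro S hS
  obtain ⟨t, ht⟩ := exists_finite_subcover hU _ hS
  exact ⟨{i // i ∈ t}, inferInstance, fun i => i.1.1, fun i => i.1.2.choose, ht,
    fun i => i.1.2.choose_spec, fun i j => eta_injective_of_injective F _ h⟩

/-- part (4) -/
theorem eta_bijective_of_refinement
    (h : ∀ 𝒱 : Set (Opens X), (⨆ V ∈ 𝒱, V) = U →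
        ∃ (m : ℕ) (W : Fin m → Opens X), (∀ j, ∃ V ∈ 𝒱, W j ≤ V) ∧ (⨆ j, W j) = U ∧
          ∀ j j', IsCompact ((W j ⊓ W j' : Opens X) : Set X)) :
    Function.Bijective ((etaP F).app (op U)) := by
  have hU : IsCompact (U : Set X) := by
    obtain ⟨m, W, -, hW, hc⟩ := h {U} (by simp)
    rw [← hW]
    have : ((⨆ j, W j : Opens X) : Set X) = ⋃ j, (W j : Set X) := by simp
    rw [this]
    refine isCompact_iUnion fun j => ?_
    have := hc j j
    rwa [inf_idem] at this
  refine ⟨eta_injective_of_isCompact F U hU, ?_⟩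
  refine surjective_app_of_finGlue (etaP F) (isSheaf_sheafify F) U (finGlue_pre F U) ?_
  intro S hS
  let 𝒱 : Set (Opens X) := {V | ∃ hV : V ≤ U, S (homOfLE hV)}
  have h𝒱 : (⨆ V ∈ 𝒱, V) = U := by
    apply le_antisymm
    · exact iSup₂_le fun V hV => hV.1
    · intro x hx
      obtain ⟨U', f, hf, hxU⟩ := hS x hx
      simp only [Opens.mem_iSup]
      exact ⟨U', ⟨f.le, by rwa [show homOfLE f.le = f from Subsingleton.elim _ _]⟩, hxU⟩
  obtain ⟨m, W, hWV, hW, hc⟩ := h 𝒱 h𝒱
  have hle : ∀ j, W j ≤ U := fun j => by rw [← hW]; exact le_iSup W j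
  refine ⟨ULift.{u} (Fin m), inferInstance, fun j => W j.down, fun j => hle j.down, ?_, ?_, ?_⟩
  · rw [← hW]
    exact iSup_le fun j => le_iSup (fun j : ULift.{u} (Fin m) => W j.down) ⟨j⟩
  · intro j
    obtain ⟨V, ⟨hVU, hVS⟩, hWV'⟩ := hWV j.down
    have := S.downward_closed hVS (homOfLE hWV')
    rwa [show homOfLE hWV' ≫ homOfLE hVU = homOfLE (hle j.down) from Subsingleton.elim _ _] at this
  · intro i j
    exact eta_injective_of_isCompact F _ (hc i.down j.down)

end psi

end Groth.Agent.Lib.Helper17.NoethColim
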