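import Mathlib
import Groth.Agent.Lib.Helper17.NoethColim2

open CategoryTheory CategoryTheory.Limits TopologicalSpace Opposite TopCat

universe u

namespace Groth.Agent.Lib.Helper17.NoethColimAb

open NoethColim

variable {X : TopCat.{u}} {Λ : Type u} [SmallCategory Λ] [IsFiltered Λ]
  (F : Λ ⥤ Sheaf (Opens.grothendieckTopology X) Ab.{u})

/-- the presheaf colimit cocone -/
noncomputable abbrev preCocone : Cocone (F ⋙ sheafToPresheaf _ _) := colimit.cocone _

/-- the underlying cocone of presheaves of types -/
noncomputable abbrev typeCocone :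
    Cocone ((F ⋙ sheafToPresheaf _ _) ⋙ (Functor.whiskeringRight (Opens X)ᵒᵖ Ab.{u} (Type u)).obj (forget Ab)) :=
  ((Functor.whiskeringRight (Opens X)ᵒᵖ Ab.{u} (Type u)).obj (forget Ab)).mapCocone (preCocone F)

noncomputable def typeCoconeIsColimit : IsColimit (typeCocone F) :=
  isColimitOfPreserves _ (colimit.isColimit _)

/-- the sheafification map of the presheaf colimit -/
noncomputable abbrev etaP :
    (preCocone F).pt ⟶ sheafify (Opens.grothendieckTopology X) (preCocone F).pt :=
  toSheafify _ _

/-- on underlying types -/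
noncomputable abbrev etaT : (preCocone F).pt ⋙ forget Ab ⟶
    sheafify (Opens.grothendieckTopology X) (preCocone F).pt ⋙ forget Ab :=
  Functor.whiskerRight (etaP F) (forget Ab)

instance : Presheaf.IsLocallyInjective (Opens.grothendieckTopology X) (etaT F) := by
  unfold etaT etaP; infer_instance

instance : Presheaf.IsLocallySurjective (Opens.grothendieckTopology X) (etaT F) := by
  unfold etaT etaP; infer_instance

lemma isSheaf_obj (l : Λ) : TopCat.Presheaf.IsSheaf
    (((F ⋙ sheafToPresheaf _ _) ⋙ (Functor.whiskeringRight (Opens X)ᵒᵖ Ab.{u} (Type u)).obj (forget Ab)).obj l) :=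
  (Presheaf.isSheaf_iff_isSheaf_forget _ _ (forget Ab)).1 (F.obj l).2

lemma isSheaf_sheafify : TopCat.Presheaf.IsSheaf
    (sheafify (Opens.grothendieckTopology X) (preCocone F).pt ⋙ forget Ab) :=
  (Presheaf.isSheaf_iff_isSheaf_forget _ _ (forget Ab)).1
    ((presheafToSheaf (Opens.grothendieckTopology X) Ab.{u}).obj (preCocone F).pt).2

theorem finSep_pre (V : Opens X) : FinSep ((preCocone F).pt ⋙ forget Ab) V :=
  finSep_colimit _ (typeCocone F) (typeCoconeIsColimit F) (isSheaf_obj F) V

theorem finGlue_pre (V : Opens X) : FinGlue ((preCocone F).pt ⋙ forget Ab) V :=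
  finGlue_colimit _ (typeCocone F) (typeCoconeIsColimit F) (isSheaf_obj F) V

theorem eta_bijective (V : Opens X) (hV : ∀ W : Opens X, W ≤ V → IsCompact (W : Set X))
    (W : Opens X) (hW : W ≤ V) : Function.Bijective ((etaP F).app (op W)) :=
  bijective_app_of_finSep_finGlue (etaT F) (isSheaf_sheafify F) V hV (finSep_pre F V)
    (finGlue_pre F V) W hW

variable (c : Cocone F) (hc : IsColimit c)

/-- comparison iso with the sheafified presheaf colimit -/
noncomputable def compIso : c.pt ≅ (Sheaf.sheafifyCocone (preCocone F)).pt :=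
  hc.coconePointUniqueUpToIso (Sheaf.isColimitSheafifyCocone _ (colimit.isColimit _))

lemma compIso_spec (l : Λ) (W : Opens X) (a : (F.obj l).obj.obj (op W)) :
    (compIso F c hc).hom.hom.app (op W) ((c.ι.app l).hom.app (op W) a) =
      (etaP F).app (op W) (((preCocone F).ι.app l).app (op W) a) := by
  have h1 : c.ι.app l ≫ (compIso F c hc).hom = (Sheaf.sheafifyCocone (preCocone F)).ι.app l :=
    hc.comp_coconePointUniqueUpToIso_hom _ l
  have h2 := Sheaf.sheafifyCocone_ι_app_val (preCocone F) l
  rw [← h1] at h2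
  have h3 := congrArg (fun φ => φ.app (op W) a) h2
  exact h3

lemma compIso_injective (W : Opens X) :
    Function.Injective ((compIso F c hc).hom.hom.app (op W)) := by
  intro x y h
  have := congrArg ((compIso F c hc).inv.hom.app (op W)) h
  have e : ∀ z, (compIso F c hc).inv.hom.app (op W) ((compIso F c hc).hom.hom.app (op W) z) = z := by
    intro z
    have h1 : (compIso F c hc).hom ≫ (compIso F c hc).inv = 𝟙 _ := (compIso F c hc).hom_inv_id
    have h2 := congrArg (fun φ : c.pt ⟶ c.pt => φ.hom.app (op W) z) h1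
    exact h2
  rwa [e, e] at this

include hc in
theorem exists_rep_of_surjective (W : Opens X)
    (hsurj : Function.Surjective ((etaP F).app (op W))) (q : c.pt.obj.obj (op W)) :
    ∃ (l : Λ) (a : (F.obj l).obj.obj (op W)), (c.ι.app l).hom.app (op W) a = q := by
  obtain ⟨p, hp⟩ := hsurj ((compIso F c hc).hom.hom.app (op W) q)
  obtain ⟨l, a, ha⟩ := exists_rep _ (typeCocone F) (typeCoconeIsColimit F) W p
  refine ⟨l, a, compIso_injective F c hc W ?_⟩
  rw [compIso_spec]
  rw [← hp]
  exact congrArg _ ha

include hc in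
theorem eq_iff_of_injective (W : Opens X)
    (hinj : Function.Injective ((etaP F).app (op W))) {l : Λ} (a a' : (F.obj l).obj.obj (op W)) :
    (c.ι.app l).hom.app (op W) a = (c.ι.app l).hom.app (op W) a' ↔
      ∃ (m : Λ) (f : l ⟶ m), (F.map f).hom.app (op W) a = (F.map f).hom.app (op W) a' := by
  constructor
  · intro h
    have h1 := congrArg ((compIso F c hc).hom.hom.app (op W)) h
    rw [compIso_spec, compIso_spec] at h1
    exact (rep_eq_iff _ (typeCocone F) (typeCoconeIsColimit F) W a a').1 (hinj h1)
  · rintro ⟨m, f, hf⟩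
    have w := c.w f
    have e1 : (c.ι.app l).hom.app (op W) a = (c.ι.app m).hom.app (op W) ((F.map f).hom.app (op W) a) := by
      rw [← w]; rfl
    have e2 : (c.ι.app l).hom.app (op W) a' = (c.ι.app m).hom.app (op W) ((F.map f).hom.app (op W) a') := by
      rw [← w]; rfl
    rw [e1, e2, hf]

end Groth.Agent.Lib.Helper17.NoethColimAb
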