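import Mathlib
import Groth.Agent.Lib.Helper17.NoethColimAb
import Groth.Agent.Lib.Helper17.ModSiteColim

open CategoryTheory CategoryTheory.Limits TopologicalSpace Opposite AlgebraicGeometry

universe u

namespace Groth.Agent.Lib.Helper17.NoethColimMod

variable {X : Scheme.{u}}

/-- In a locally Noetherian scheme, every open inside a compact open is compact. -/
theorem isCompact_of_le [IsLocallyNoetherian X] (V : X.Opens) (hV : IsCompact (V : Set X))
    (W : X.Opens) (hW : W ≤ V) : IsCompact (W : Set X) := by
  have : CompactSpace V := isCompact_iff_compactSpace.1 hV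
  have : IsNoetherian V.toScheme := { }
  have hN : NoetherianSpace V.toScheme := inferInstance
  have h1 : IsCompact ((Subtype.val : V → X) ⁻¹' (W : Set X)) :=
    @NoetherianSpace.isCompact _ _ hN _
  have h2 := h1.image continuous_subtype_val
  rw [Set.image_preimage_eq_inter_range, Subtype.range_coe] at h2
  have : (W : Set X) ∩ (V : Set X) = W := Set.inter_eq_left.2 hW
  rw [← this]; exact h2

variable {Λ : Type u} [SmallCategory Λ] [IsFiltered Λ] (D : Λ ⥤ X.Modules)
  (c : Cocone D) (hc : IsColimit c)

/-- the underlying sheaf of abelian groups -/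
noncomputable abbrev toAb : X.Modules ⥤ Sheaf (Opens.grothendieckTopology X) Ab.{u} :=
  SheafOfModules.toSheaf X.ringCatSheaf

include hc in
theorem isColimitAb : Nonempty (IsColimit ((toAb (X := X)).mapCocone c)) := by
  have h := ModSiteColim.toSheaf_preservesColimits X.ringCatSheaf
  have : PreservesColimit D (toAb (X := X)) := h.preservesColimitsOfShape.preservesColimit
  exact ⟨isColimitOfPreserves (toAb (X := X)) hc⟩

include hc in
theorem exists_rep (V : X.Opens) (hV : ∀ W : X.Opens, W ≤ V → IsCompact (W : Set X))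
    (W : X.Opens) (hW : W ≤ V) (q : Γ(c.pt, W)) :
    ∃ (l : Λ) (a : Γ(D.obj l, W)), (c.ι.app l).app W a = q := by
  obtain ⟨h⟩ := isColimitAb D c hc
  exact NoethColimAb.exists_rep_of_surjective (D ⋙ toAb) _ h W
    (NoethColimAb.eta_bijective (D ⋙ toAb) V hV W hW).2 q

include hc in
theorem eq_iff (V : X.Opens) (hV : ∀ W : X.Opens, W ≤ V → IsCompact (W : Set X))
    (W : X.Opens) (hW : W ≤ V) {l : Λ} (a a' : Γ(D.obj l, W)) :
    (c.ι.app l).app W a = (c.ι.app l).app W a' ↔
      ∃ (m : Λ) (f : l ⟶ m), (D.map f).app W a = (D.map f).app W a' := by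
  obtain ⟨h⟩ := isColimitAb D c hc
  exact NoethColimAb.eq_iff_of_injective (D ⋙ toAb) _ h W
    (NoethColimAb.eta_bijective (D ⋙ toAb) V hV W hW).1 a a'

end Groth.Agent.Lib.Helper17.NoethColimMod
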