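import Mathlib
import Groth.Prelude.Def_ZClos
import Groth.Agent.Lib.Helper17.ZClosLib
import Groth.Agent.Lib.Helper17.NoethColimMod

open CategoryTheory CategoryTheory.Limits TopologicalSpace Opposite AlgebraicGeometry

universe u

namespace Groth.Agent.Lib.Helper17.ZClosSec

open ZClos SheafBasis

variable {X : Scheme.{u}} (Z : Set X) (F : X.Modules)

/-- `U ∩ W` in the image-preimage form used by `resPush` -/
abbrev cap (U W : X.Opens) : X.Opens := U.ι ''ᵁ U.ι ⁻¹ᵁ W

lemma cap_eq (U W : X.Opens) : cap U W = U ⊓ W := ι_image_preimage U W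

lemma cap_mono {U U' W W' : X.Opens} (h : U' ≤ U) (h' : W' ≤ W) : cap U' W' ≤ cap U W := by
  rw [cap_eq, cap_eq]; exact inf_le_inf h h'

/-- the class in `H⁰_{X/Z}(F)(W)` of a section of `F` over `(X ∖ T) ∩ W` -/
noncomputable def cls (T : Cl Z) (W : X.Opens) (a : Γ(F, cap T.U W)) : Γ((H0 Z).obj F, W) :=
  (colimit.ι ((diagram Z).obj F) T).app W a

/-- restriction of classes -/
lemma cls_res (T : Cl Z) {W W' : X.Opens} (i : W' ⟶ W) (a : Γ(F, cap T.U W)) :
    ((H0 Z).obj F).presheaf.map i.op (cls Z F T W a) =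
      cls Z F T W' (F.presheaf.map (homOfLE (cap_mono le_rfl i.le)).op a) := by
  have h := (colimit.ι ((diagram Z).obj F) T).mapPresheaf.naturality i.op
  have h2 := congrArg (fun φ => φ a) h
  exact h2.symm

/-- change of index -/
lemma cls_trans {T T' : Cl Z} (h : T ≤ T') (W : X.Opens) (a : Γ(F, cap T.U W)) :
    cls Z F T W a =
      cls Z F T' W (F.presheaf.map (homOfLE (cap_mono (Cl.U_anti h) le_rfl)).op a) := by
  have h1 := colimit.w ((diagram Z).obj F) (homOfLE h)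
  have h2 : (colimit.ι ((diagram Z).obj F) T).app W a =
      (colimit.ι ((diagram Z).obj F) T').app W ((((diagram Z).obj F).map (homOfLE h)).app W a) := by
    rw [← h1]; rfl
  refine h2.trans ?_
  have h3 : (((diagram Z).obj F).map (homOfLE h)).app W =
      F.presheaf.map (trIncl (Cl.U_anti h) W).op := resPushMapApp_app _ F W
  rw [h3]; rfl

/-- `ρ` on sections -/
lemma rho_app_eq (T : Cl Z) (W : X.Opens) (s : Γ(F, W)) :
    (rhoApp Z F).app W s =
      cls Z F T W (F.presheaf.map (homOfLE (T.U.ι.image_preimage_le W)).op s) := by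
  rw [rhoApp_eq Z F T]
  rfl

variable (V : X.Opens) (hV : ∀ W : X.Opens, W ≤ V → IsCompact (W : Set X))

include hV in
lemma exists_cls (W : X.Opens) (hW : W ≤ V) (q : Γ((H0 Z).obj F, W)) :
    ∃ (T : Cl Z) (a : Γ(F, cap T.U W)), cls Z F T W a = q :=
  NoethColimMod.exists_rep ((diagram Z).obj F) (colimit.cocone _) (colimit.isColimit _) V hV W hW q

include hV in
lemma cls_eq_iff (W : X.Opens) (hW : W ≤ V) (T : Cl Z) (a a' : Γ(F, cap T.U W)) :
    cls Z F T W a = cls Z F T W a' ↔ ∃ (T' : Cl Z) (h : T ≤ T'),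
      F.presheaf.map (homOfLE (cap_mono (Cl.U_anti h) le_rfl : cap T'.U W ≤ cap T.U W)).op a =
      F.presheaf.map (homOfLE (cap_mono (Cl.U_anti h) le_rfl : cap T'.U W ≤ cap T.U W)).op a' := by
  have h := NoethColimMod.eq_iff ((diagram Z).obj F) (colimit.cocone _) (colimit.isColimit _) V hV W hW
    (l := T) a a'
  refine h.trans ?_
  constructor
  · rintro ⟨T', f, hf⟩
    refine ⟨T', f.le, ?_⟩
    have h3 : (((diagram Z).obj F).map f).app W =
      F.presheaf.map (trIncl (Cl.U_anti f.le) W).op := resPushMapApp_app _ F W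
    rw [h3] at hf
    exact hf
  · rintro ⟨T', h', hf⟩
    refine ⟨T', homOfLE h', ?_⟩
    have h3 : (((diagram Z).obj F).map (homOfLE h')).app W =
      F.presheaf.map (trIncl (Cl.U_anti h') W).op := resPushMapApp_app _ F W
    rw [h3]
    exact hf

omit hV in
lemma cap_inf_eq {T T' : Cl Z} (h : T ≤ T') (V : X.Opens) :
    cap T'.U (V ⊓ T.U) = cap T'.U V := by
  rw [cap_eq, cap_eq]
  apply le_antisymm
  · exact inf_le_inf le_rfl inf_le_left
  · exact le_inf inf_le_left (le_inf inf_le_right (inf_le_left.trans (Cl.U_anti h)))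

omit hV in
theorem isZClosed_H0 [IsLocallyNoetherian X] : IsZClosed Z ((H0 Z).obj F) := by
  rw [ZClosLib.isZClosed_iff]
  intro T
  show IsIso ((resPushUnit T.U).app ((H0 Z).obj F))
  rw [ZClosLib.isIso_unit_iff_compact]
  intro V hVc
  have hV := NoethColimMod.isCompact_of_le V hVc
  constructor
  · intro q q' hqq
    obtain ⟨T1, a, rfl⟩ := exists_cls Z F V hV V le_rfl q
    obtain ⟨T2, a', rfl⟩ := exists_cls Z F V hV V le_rfl q'
    have h13 : T1 ≤ T1 ⊔ T2 ⊔ T := le_sup_left.trans le_sup_left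
    have h23 : T2 ≤ T1 ⊔ T2 ⊔ T := le_sup_right.trans le_sup_left
    have h03 : T ≤ T1 ⊔ T2 ⊔ T := le_sup_right
    rw [cls_trans Z F h13, cls_trans Z F h23] at hqq ⊢
    generalize F.presheaf.map (homOfLE (cap_mono (Cl.U_anti h13) le_rfl : cap (T1 ⊔ T2 ⊔ T).U V ≤ _)).op a = b at hqq ⊢
    generalize F.presheaf.map (homOfLE (cap_mono (Cl.U_anti h23) le_rfl : cap (T1 ⊔ T2 ⊔ T).U V ≤ _)).op a' = b' at hqq ⊢
    generalize T1 ⊔ T2 ⊔ T = T3 at h03 b b' hqq ⊢
    unfold resInf at hqq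
    rw [cls_res, cls_res] at hqq
    obtain ⟨T4, h34, h4⟩ := (cls_eq_iff Z F V hV (V ⊓ T.U) inf_le_left T3 _ _).1 hqq
    rw [map_map_apply F.presheaf _ _ (homOfLE ((cap_mono (Cl.U_anti h34) inf_le_left)) : cap T4.U (V ⊓ T.U) ⟶ cap T3.U V),
      map_map_apply F.presheaf _ _ (homOfLE ((cap_mono (Cl.U_anti h34) inf_le_left)) : cap T4.U (V ⊓ T.U) ⟶ cap T3.U V)] at h4
    have e : cap T4.U (V ⊓ T.U) = cap T4.U V := cap_inf_eq Z (h03.trans h34) V
    rw [cls_trans Z F h34 V b, cls_trans Z F h34 V b']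
    congr 1
    apply (ZClosLib.bijective_map_eqToHom F e).1
    rw [map_map_apply F.presheaf _ _ (homOfLE ((cap_mono (Cl.U_anti h34) inf_le_left)) : cap T4.U (V ⊓ T.U) ⟶ cap T3.U V),
      map_map_apply F.presheaf _ _ (homOfLE ((cap_mono (Cl.U_anti h34) inf_le_left)) : cap T4.U (V ⊓ T.U) ⟶ cap T3.U V)]
    exact h4
  · intro p
    obtain ⟨T1, a, rfl⟩ := exists_cls Z F V hV (V ⊓ T.U) inf_le_left p
    have h12 : T1 ≤ T1 ⊔ T := le_sup_left
    have h02 : T ≤ T1 ⊔ T := le_sup_right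
    rw [cls_trans Z F h12]
    generalize F.presheaf.map (homOfLE (cap_mono (Cl.U_anti h12) le_rfl : cap (T1 ⊔ T).U (V ⊓ T.U) ≤ _)).op a = a2
    generalize T1 ⊔ T = T2 at h02 a2
    have e : cap T2.U (V ⊓ T.U) = cap T2.U V := cap_inf_eq Z h02 V
    refine ⟨cls Z F T2 V (F.presheaf.map (eqToHom e.symm).op a2), ?_⟩
    unfold resInf
    rw [cls_res]
    congr 1
    rw [map_map_apply F.presheaf _ _ (𝟙 _)]
    simp

omit hV in
lemma cls_zero (T : Cl Z) (W : X.Opens) : cls Z F T W 0 = 0 := by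
  unfold cls; exact map_zero _

omit hV in
lemma mem_cap {U W : X.Opens} {x : X} (hU : x ∈ U) (hW : x ∈ W) : x ∈ cap U W := by
  rw [cap_eq]; exact ⟨hU, hW⟩

omit hV in
lemma mem_U_of_not_mem {x : X} (hx : x ∉ Z) (T : Cl Z) : x ∈ T.U := fun h => hx (T.2 h)

omit hV in
theorem isZClosedAt_of_not_mem [IsLocallyNoetherian X] (x : X) (hx : x ∉ Z) :
    IsZClosedAt Z F x := by
  constructor
  · refine (injective_iff_map_eq_zero (rhoStalk Z F x).hom).2 fun t ht => ?_
    obtain ⟨U, hxU, s, rfl⟩ := TopCat.Presheaf.exists_germ_eq F.presheaf t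
    change (TopCat.Presheaf.stalkFunctor (C := Ab.{u}) x).map (rhoApp Z F).mapPresheaf
      (F.presheaf.germ U x hxU s) = 0 at ht
    rw [TopCat.Presheaf.stalkFunctor_map_germ_apply] at ht
    have ht' : ((H0 Z).obj F).presheaf.germ U x hxU ((rhoApp Z F).app U s) =
        ((H0 Z).obj F).presheaf.germ U x hxU 0 := by
      rw [map_zero]; exact ht
    obtain ⟨W, hxW, iU, iV, hW⟩ := TopCat.Presheaf.germ_eq _ x hxU hxU _ _ ht'
    obtain ⟨W', hW'c, hxW', hW'W⟩ := ZClosLib.exists_compact_nhd W x hxW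
    have hV := NoethColimMod.isCompact_of_le W' hW'c
    have i' : W' ⟶ U := homOfLE hW'W ≫ iU
    have h1 : (rhoApp Z F).app W' (F.presheaf.map i'.op s) = 0 := by
      have n := (rhoApp Z F).mapPresheaf.naturality i'.op
      have n2 := congrArg (fun φ => φ s) n
      refine n2.trans ?_
      show ((H0 Z).obj F).presheaf.map i'.op ((rhoApp Z F).app U s) = 0
      have : ((H0 Z).obj F).presheaf.map i'.op ((rhoApp Z F).app U s) =
          ((H0 Z).obj F).presheaf.map (homOfLE hW'W).op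
            (((H0 Z).obj F).presheaf.map iU.op ((rhoApp Z F).app U s)) :=
        (map_map_apply _ _ _ _ _).symm
      rw [this]
      erw [hW]
      rw [map_zero, map_zero]
    rw [rho_app_eq Z F ⊥, ← cls_zero Z F ⊥ W'] at h1
    obtain ⟨T', h', h2⟩ := (cls_eq_iff Z F W' hV W' le_rfl ⊥ _ _).1 h1
    rw [map_zero, map_map_apply F.presheaf _ _ (homOfLE (cap_mono (Cl.U_anti h') le_rfl) ≫
      homOfLE ((⊥ : Cl Z).U.ι.image_preimage_le W')), map_map_apply F.presheaf _ _
      ((homOfLE (cap_mono (Cl.U_anti h') le_rfl) ≫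
      homOfLE ((⊥ : Cl Z).U.ι.image_preimage_le W')) ≫ i')] at h2
    have hx' : x ∈ cap T'.U W' := mem_cap (mem_U_of_not_mem Z hx T') hxW'
    rw [← TopCat.Presheaf.germ_res_apply F.presheaf ((homOfLE (cap_mono (Cl.U_anti h') le_rfl) ≫
      homOfLE ((⊥ : Cl Z).U.ι.image_preimage_le W')) ≫ i') x hx' s, h2, map_zero]
  · intro t
    obtain ⟨U, hxU, q, rfl⟩ := TopCat.Presheaf.exists_germ_eq ((H0 Z).obj F).presheaf t
    obtain ⟨W, hWc, hxW, hWU⟩ := ZClosLib.exists_compact_nhd U x hxU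
    have hV := NoethColimMod.isCompact_of_le W hWc
    obtain ⟨T, a, ha⟩ := exists_cls Z F W hV W le_rfl (((H0 Z).obj F).presheaf.map (homOfLE hWU).op q)
    have hx' : x ∈ cap T.U W := mem_cap (mem_U_of_not_mem Z hx T) hxW
    refine ⟨F.presheaf.germ (cap T.U W) x hx' a, ?_⟩
    change (TopCat.Presheaf.stalkFunctor (C := Ab.{u}) x).map (rhoApp Z F).mapPresheaf
      (F.presheaf.germ (cap T.U W) x hx' a) = _
    rw [TopCat.Presheaf.stalkFunctor_map_germ_apply]
    show ((H0 Z).obj F).presheaf.germ (cap T.U W) x hx' ((rhoApp Z F).app (cap T.U W) a) = _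
    rw [rho_app_eq Z F T]
    have hle : cap T.U W ≤ W := T.U.ι.image_preimage_le W
    rw [← TopCat.Presheaf.germ_res_apply ((H0 Z).obj F).presheaf (homOfLE (hle.trans hWU)) x hx' q,
      ← map_map_apply ((H0 Z).obj F).presheaf (homOfLE hle) (homOfLE hWU) _ q, ← ha, cls_res]

end Groth.Agent.Lib.Helper17.ZClosSec
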