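import Mathlib
import Groth.Prelude.Def_ZClos
import Groth.Agent.Lib.Helper17.ZClosSec

open CategoryTheory CategoryTheory.Limits TopologicalSpace Opposite AlgebraicGeometry

universe u

namespace Groth.Agent.Lib.Helper17.ZClosTop

open ZClos SheafBasis ZClosSec

theorem closure_subset_aux {α : Type*} [TopologicalSpace α] {Z : Set α}
    (hZ : StableUnderSpecialization Z) (s : Set α) [hN : NoetherianSpace s] [hQ : QuasiSober s]
    (S : Set α) (hSW : S ⊆ s) (hS : IsOpen (s \ S)) (hSZ : S ⊆ Z) : closure S ⊆ Z := by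
  have hcl : IsClosed ((Subtype.val : s → α) ⁻¹' S) := by
    rw [← isOpen_compl_iff]
    have : ((Subtype.val : s → α) ⁻¹' S)ᶜ = (Subtype.val : s → α) ⁻¹' (s \ S) := by
      ext w; simp
    rw [this]
    exact hS.preimage continuous_subtype_val
  obtain ⟨𝒮, hfin, hcl', hirr, hU⟩ :=
    NoetherianSpace.exists_finite_set_isClosed_irreducible hcl
  have hSeq : S = ⋃ t ∈ 𝒮, (Subtype.val : s → α) '' t := by
    have h1 : S = (Subtype.val : s → α) '' ((Subtype.val : s → α) ⁻¹' S) := by
      rw [Subtype.image_preimage_coe]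
      exact (Set.inter_eq_right.2 hSW).symm
    rw [h1, hU, Set.sUnion_eq_biUnion, Set.image_iUnion₂]
  intro y hy
  rw [hSeq, hfin.closure_biUnion] at hy
  obtain ⟨t, ht, hyt⟩ := Set.mem_iUnion₂.1 hy
  obtain ⟨η, hη⟩ := QuasiSober.sober (hirr t ht) (hcl' t ht)
  have hη' : closure ({η} : Set s) = t := hη
  rw [← hη', closure_image_closure continuous_subtype_val, Set.image_singleton] at hyt
  have hsp : (η : α) ⤳ y := specializes_iff_mem_closure.2 hyt
  have hηS : (η : α) ∈ S := by
    have : η ∈ (Subtype.val : s → α) ⁻¹' S := by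
      rw [hU]; exact Set.mem_sUnion.2 ⟨t, ht, hη' ▸ subset_closure rfl⟩
    exact this
  exact hZ hsp (hSZ hηS)

variable {X : Scheme.{u}}

/-- In a locally Noetherian scheme, a subset `S` of `Z` (stable under specialization) that is closed in
a compact open `W` has its closure contained in `Z`. -/
theorem closure_subset_of_stable [IsLocallyNoetherian X] {Z : Set X}
    (hZ : StableUnderSpecialization Z) (W : X.Opens) (hW : IsCompact (W : Set X)) (S : Set X)
    (hSW : S ⊆ W) (hS : IsOpen ((W : Set X) \ S)) (hSZ : S ⊆ Z) : closure S ⊆ Z := by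
  have : CompactSpace W := isCompact_iff_compactSpace.1 hW
  have : IsNoetherian W.toScheme := { }
  have hN : NoetherianSpace ((W : Set X) : Type u) := (inferInstance : NoetherianSpace W.toScheme)
  have hQ : QuasiSober ((W : Set X) : Type u) := W.2.isOpenEmbedding_subtypeVal.quasiSober
  exact closure_subset_aux hZ (W : Set X) S hSW hS hSZ

/-- a section over a compact open whose germs vanish off `Z` vanishes off some closed `T ⊆ Z`. -/
theorem exists_vanish [IsLocallyNoetherian X] {Z : Set X} (hZ : StableUnderSpecialization Z)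
    (F : X.Modules) (W : X.Opens) (hW : IsCompact (W : Set X)) (a : Γ(F, W))
    (h : ∀ (x : X) (hx : x ∈ W), x ∉ Z → F.presheaf.germ W x hx a = 0) :
    ∃ T : Cl Z, ∀ (W' : X.Opens) (i : W' ⟶ W), W' ≤ T.U → F.presheaf.map i.op a = 0 := by
  let S : Set X := {x | ∃ hx : x ∈ W, F.presheaf.germ W x hx a ≠ 0}
  have hSW : S ⊆ W := fun x hx => hx.1
  have hSZ : S ⊆ Z := fun x hx => by
    by_contra hxZ
    exact hx.2 (h x hx.1 hxZ)
  have hopen : IsOpen ((W : Set X) \ S) := by
    rw [isOpen_iff_forall_mem_open]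
    intro x hx
    have hxW : x ∈ W := hx.1
    have h0 : F.presheaf.germ W x hxW a = 0 := by
      by_contra hne
      exact hx.2 ⟨hxW, hne⟩
    have h0' : F.presheaf.germ W x hxW a = F.presheaf.germ W x hxW 0 := by
      rw [map_zero]; exact h0
    obtain ⟨N, hxN, i1, i2, hN⟩ := TopCat.Presheaf.germ_eq _ x hxW hxW _ _ h0'
    refine ⟨N, ?_, N.2, hxN⟩
    intro y hy
    refine ⟨i1.le hy, ?_⟩
    rintro ⟨hyW, hne⟩
    apply hne
    rw [← TopCat.Presheaf.germ_res_apply F.presheaf i1 y hy a]
    erw [hN]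
    rw [map_zero, map_zero]
  have hcl := closure_subset_of_stable hZ W hW S hSW hopen hSZ
  refine ⟨⟨⟨closure S, isClosed_closure⟩, hcl⟩, ?_⟩
  intro W' i hW'
  apply TopCat.Presheaf.section_ext (ZClosLib.abSheaf F) W'
  intro x hx
  have hxS : x ∉ S := fun hxS => hW' hx (subset_closure hxS)
  have h0 : F.presheaf.germ W x (i.le hx) a = 0 := by
    by_contra hne
    exact hxS ⟨i.le hx, hne⟩
  show F.presheaf.germ W' x hx (F.presheaf.map i.op a) = F.presheaf.germ W' x hx 0
  rw [map_zero]
  exact (TopCat.Presheaf.germ_res_apply F.presheaf i x hx a).trans h0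

/-- a module all of whose sections over compact opens vanish is zero -/
theorem isZero_of_compact (M : X.Modules)
    (h : ∀ (W : X.Opens), IsCompact (W : Set X) → ∀ q : Γ(M, W), q = 0) : IsZero M := by
  rw [IsZero.iff_id_eq_zero]
  ext U q
  show q = 0
  apply TopCat.Presheaf.section_ext (ZClosLib.abSheaf M) U
  intro x hx
  obtain ⟨W, hWc, hxW, hWU⟩ := ZClosLib.exists_compact_nhd U x hx
  show M.presheaf.germ U x hx q = M.presheaf.germ U x hx 0
  rw [← TopCat.Presheaf.germ_res_apply M.presheaf (homOfLE hWU) x hxW q,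
    h W hWc (M.presheaf.map (homOfLE hWU).op q), map_zero, map_zero]

theorem subsingleton_stalk_of_isZero (M : X.Modules) (h : IsZero M) (x : X) :
    Subsingleton (M.presheaf.stalk x) := by
  rw [IsZero.iff_id_eq_zero] at h
  refine ⟨fun t t' => ?_⟩
  have key : ∀ t : M.presheaf.stalk x, t = 0 := by
    intro t
    obtain ⟨U, hxU, q, rfl⟩ := TopCat.Presheaf.exists_germ_eq M.presheaf t
    have : q = 0 := by
      have h1 : (𝟙 M : M ⟶ M).app U q = (0 : M ⟶ M).app U q := by rw [h]
      exact h1
    rw [this, map_zero]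
  rw [key t, key t']

theorem isZero_H0_iff [IsLocallyNoetherian X] {Z : Set X} (hZ : StableUnderSpecialization Z)
    (F : X.Modules) :
    IsZero ((H0 Z).obj F) ↔ ∀ x : X, x ∉ Z → Subsingleton (F.presheaf.stalk x) := by
  constructor
  · intro h x hx
    have h1 := subsingleton_stalk_of_isZero _ h x
    have h2 := (isZClosedAt_of_not_mem Z F x hx).1
    exact h2.subsingleton
  · intro h
    apply isZero_of_compact
    intro W hWc q
    have hV := NoethColimMod.isCompact_of_le W hWc
    obtain ⟨T, a, rfl⟩ := exists_cls Z F W hV W le_rfl q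
    have hc : IsCompact ((cap T.U W : X.Opens) : Set X) := hV _ (T.U.ι.image_preimage_le W)
    obtain ⟨T', hT'⟩ := exists_vanish hZ F (cap T.U W) hc a (fun x hx hxZ => by
      have := h x hxZ
      exact Subsingleton.elim _ _)
    rw [cls_trans Z F (le_sup_left : T ≤ T ⊔ T') W a, hT' _ _ ?_, cls_zero]
    rw [cap_eq]
    exact inf_le_left.trans (Cl.U_anti (le_sup_right : T' ≤ T ⊔ T'))

end Groth.Agent.Lib.Helper17.ZClosTop
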