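import Mathlib
import Groth.Prelude.Def_ZClos
import Groth.Prelude.Def_FDesc
import Groth.Agent.Lib.Helper17.ZClosTop
import Groth.Agent.Lib.Helper29.QCohAss2
import Groth.Agent.Lib.Helper29.QCohFinite
import Groth.Agent.Lib.Helper18.CM1
import Groth.Prelude.Def_CAlg

open CategoryTheory CategoryTheory.Limits TopologicalSpace Opposite AlgebraicGeometry

universe u

namespace Groth.Agent.Lib.Helper17.ZClosDepth

open ZClos SheafBasis ZClosSec ZClosTop Groth.Agent.Lib.Helper29.QCoh

variable {X : Scheme.{u}}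

theorem isZPureAt_iff_ass [IsLocallyNoetherian X] {Z : Set X} (hZ : StableUnderSpecialization Z)
    (F : X.Modules) [F.IsQuasicoherent] (x : X) :
    IsZPureAt Z F x ↔ ∀ x' : X, x' ⤳ x → x' ∈ Z → ¬ Curv2.IsAssPoint F x' := by
  constructor
  · intro hpure x' hsp hx'Z hass
    obtain ⟨W, hW, hxW, -⟩ := exists_isAffineOpen_mem_and_subset (x := x) (U := ⊤) trivial
    have hx'W : x' ∈ W := hsp.mem_open W.2 hxW
    have hN : IsNoetherianRing Γ(X, W) := IsLocallyNoetherian.component_noetherian ⟨W, hW⟩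
    have h1 := primeIdealOf_mem_associatedPrimes F hW x' hx'W
      ((isAssPoint_iff_isWeakAssPoint F x').1 hass)
    obtain ⟨-, m, hm⟩ := (isAssociatedPrime_iff).1 h1
    have e : (⊥ : Submodule Γ(X, W) Γ(F, W)).colon {m} = annSection F m := by
      ext r
      rw [Submodule.mem_colon_singleton, Submodule.mem_bot, mem_annSection]
    rw [e] at hm
    -- germs of m vanish off Z
    have hvan : ∀ (y : X) (hy : y ∈ W), y ∉ Z → F.presheaf.germ W y hy m = 0 := by
      intro y hy hyZ
      by_contra hne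
      have h2 := annSection_le_primeIdealOf F hW m y hy hne
      rw [← hm] at h2
      exact hyZ (hZ (specializes_of_primeIdealOf_le hW y x' hy hx'W h2) hx'Z)
    obtain ⟨T, hT⟩ := exists_vanish hZ F W hW.isCompact m hvan
    have h3 : (rhoApp Z F).app W m = 0 := by
      rw [rho_app_eq Z F T, hT _ _ (by
        show cap T.U W ≤ T.U
        rw [cap_eq]; exact inf_le_left), cls_zero]
    have h4 : rhoStalk Z F x (F.presheaf.germ W x hxW m) = 0 := by
      change (TopCat.Presheaf.stalkFunctor (C := Ab.{u}) x).map (rhoApp Z F).mapPresheaf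
        (F.presheaf.germ W x hxW m) = 0
      rw [TopCat.Presheaf.stalkFunctor_map_germ_apply]
      show ((H0 Z).obj F).presheaf.germ W x hxW ((rhoApp Z F).app W m) = 0
      rw [h3, map_zero]
    have h5 : F.presheaf.germ W x hxW m = 0 := hpure (h4.trans (map_zero _).symm)
    have h5' : F.presheaf.germ W x hxW m = F.presheaf.germ W x hxW 0 := by
      rw [map_zero]; exact h5
    obtain ⟨N, hxN, i1, i2, hN'⟩ := TopCat.Presheaf.germ_eq _ x hxW hxW _ _ h5'
    have hx'N : x' ∈ N := hsp.mem_open N.2 hxN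
    have h6 : F.presheaf.germ W x' hx'W m = 0 := by
      rw [← TopCat.Presheaf.germ_res_apply F.presheaf i1 x' hx'N m]
      erw [hN']
      rw [map_zero, map_zero]
    exact germ_ne_zero_of_annSection_le F hW m x' hx'W (le_of_eq hm.symm) h6
  · intro h
    refine (injective_iff_map_eq_zero (rhoStalk Z F x).hom).2 fun t ht => ?_
    obtain ⟨U, hxU, s, rfl⟩ := TopCat.Presheaf.exists_germ_eq F.presheaf t
    change (TopCat.Presheaf.stalkFunctor (C := Ab.{u}) x).map (rhoApp Z F).mapPresheaf
      (F.presheaf.germ U x hxU s) = 0 at ht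
    rw [TopCat.Presheaf.stalkFunctor_map_germ_apply] at ht
    have ht' : ((H0 Z).obj F).presheaf.germ U x hxU ((rhoApp Z F).app U s) =
        ((H0 Z).obj F).presheaf.germ U x hxU 0 := by
      rw [map_zero]; exact ht
    obtain ⟨W, hxW, iU, iV, hW⟩ := TopCat.Presheaf.germ_eq _ x hxU hxU _ _ ht'
    obtain ⟨W', hW'aff, hxW', hW'W⟩ := exists_isAffineOpen_mem_and_subset (x := x) (U := W) hxW
    have hW'W' : W' ≤ W := hW'W
    have hW'c : IsCompact (W' : Set X) := hW'aff.isCompact
    have hV := NoethColimMod.isCompact_of_le W' hW'c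
    have i' : W' ⟶ U := homOfLE hW'W' ≫ iU
    have h1 : (rhoApp Z F).app W' (F.presheaf.map i'.op s) = 0 := by
      have n := (rhoApp Z F).mapPresheaf.naturality i'.op
      have n2 := congrArg (fun φ => φ s) n
      refine n2.trans ?_
      show ((H0 Z).obj F).presheaf.map i'.op ((rhoApp Z F).app U s) = 0
      have : ((H0 Z).obj F).presheaf.map i'.op ((rhoApp Z F).app U s) =
          ((H0 Z).obj F).presheaf.map (homOfLE hW'W').op
            (((H0 Z).obj F).presheaf.map iU.op ((rhoApp Z F).app U s)) :=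
        (map_map_apply _ _ _ _ _).symm
      rw [this]
      erw [hW]
      rw [map_zero, map_zero]
    rw [rho_app_eq Z F ⊥, ← cls_zero Z F ⊥ W'] at h1
    obtain ⟨T', h', h2⟩ := (cls_eq_iff Z F W' hV W' le_rfl ⊥ _ _).1 h1
    rw [map_zero, map_map_apply F.presheaf _ _ (homOfLE (cap_mono (Cl.U_anti h') le_rfl) ≫
      homOfLE ((⊥ : Cl Z).U.ι.image_preimage_le W'))] at h2
    -- now the germ
    rw [← TopCat.Presheaf.germ_res_apply F.presheaf i' x hxW' s]
    by_contra hne
    obtain ⟨y, hyW', hyx, hyass, hyne⟩ :=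
      exists_isWeakAssPoint_specializes F hW'aff (F.presheaf.map i'.op s) x hxW' hne
    have hyT : y ∈ (T'.1 : Set X) := by
      by_contra hyT
      have hy' : y ∈ cap T'.U W' := mem_cap hyT hyW'
      apply hyne
      rw [← TopCat.Presheaf.germ_res_apply F.presheaf (homOfLE (cap_mono (Cl.U_anti h') le_rfl) ≫
        homOfLE ((⊥ : Cl Z).U.ι.image_preimage_le W')) y hy' (F.presheaf.map i'.op s), h2, map_zero]
    exact h y hyx (T'.2 hyT) ((isAssPoint_iff_isWeakAssPoint F y).2 hyass)

theorem module_finite_stalk (M : X.Modules) [M.IsQuasicoherent] [M.IsFiniteType] (x : X) :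
    Module.Finite (X.presheaf.stalk x) (M.presheaf.stalk x) := by
  obtain ⟨V, hV, hx, -⟩ := exists_isAffineOpen_mem_and_subset (x := x) (U := ⊤) trivial
  let _ := stalkModule M V x hx
  let _ : Algebra Γ(X, V) (X.presheaf.stalk x) :=
    TopCat.Presheaf.algebra_section_stalk X.presheaf ⟨x, hx⟩
  have hloc := hV.isLocalization_stalk ⟨x, hx⟩
  have : IsScalarTower Γ(X, V) (X.presheaf.stalk x) (M.presheaf.stalk x) :=
    IsScalarTower.of_algebraMap_smul fun a m => rfl
  have := isLocalizedModule_germ M hV x hx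
  have : Module.Finite Γ(X, V) Γ(M, V) := module_finite_of_isFiniteType M hV
  exact Module.Finite.of_isLocalizedModule (hV.primeIdealOf ⟨x, hx⟩).asIdeal.primeCompl
      (germₗ M V x hx)

theorem one_le_depth_iff [IsLocallyNoetherian X] (M : X.Modules) [M.IsQuasicoherent]
    [M.IsFiniteType] (x : X) :
    (1 : ℕ∞) ≤ LocCoh.depth (X.presheaf.stalk x) (M.presheaf.stalk x) ↔
      ¬ Curv2.IsAssPoint M x := by
  have := module_finite_stalk M x
  rw [Order.one_le_iff_ne_zero, Ne, Groth.Agent.Lib.Helper18.CM.depth_eq_zero_iff]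
  rfl

theorem isZPureAt_iff_depth [IsLocallyNoetherian X] {Z : Set X}
    (hZ : StableUnderSpecialization Z) (F : X.Modules) (hF : Coh.IsCoh F) (x : X) :
    IsZPureAt Z F x ↔ ∀ x' : X, x' ⤳ x → x' ∈ Z →
      (1 : ℕ∞) ≤ LocCoh.depth (X.presheaf.stalk x') (F.presheaf.stalk x') := by
  have h1 : F.IsQuasicoherent := hF.1
  have h2 : F.IsFiniteType := hF.2
  rw [isZPureAt_iff_ass hZ F x]
  exact forall_congr' fun x' => forall_congr' fun _ => forall_congr' fun _ =>
    (one_le_depth_iff F x').symm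

end Groth.Agent.Lib.Helper17.ZClosDepth
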