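import Mathlib

open CategoryTheory CategoryTheory.Limits

universe v u

noncomputable section

namespace Groth.Agent.Lib.Helper17.FlatCalc

variable {A : Type u} [Category.{v} A] [Abelian A] (T : A ⥤ A ⥤ A)

/-- both partial functors of `T` are additive and right exact -/
class RightExactBi : Prop where
  obj_add : ∀ X, (T.obj X).Additive
  obj_colim : ∀ X, PreservesFiniteColimits (T.obj X)
  flip_add : ∀ Y, (T.flip.obj Y).Additive
  flip_colim : ∀ Y, PreservesFiniteColimits (T.flip.obj Y)

attribute [instance] RightExactBi.obj_add RightExactBi.obj_colim RightExactBi.flip_add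
  RightExactBi.flip_colim

variable [RightExactBi T]

/-- the snake input -/
def snakeInput (S : ShortComplex A) (hS : S.ShortExact) {K P G : A} (ι : K ⟶ P) (π : P ⟶ G)
    (w : ι ≫ π = 0) (hπ : IsColimit (CokernelCofork.ofπ π w))
    [(T.flip.obj P).PreservesMonomorphisms] : ShortComplex.SnakeInput A where
  L₀ := kernel (S.mapNatTrans (T.flip.map ι))
  L₁ := S.map (T.flip.obj K)
  L₂ := S.map (T.flip.obj P)
  L₃ := S.map (T.flip.obj G)
  v₀₁ := kernel.ι _
  v₁₂ := S.mapNatTrans (T.flip.map ι)
  v₂₃ := S.mapNatTrans (T.flip.map π)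
  w₀₂ := kernel.condition _
  w₁₃ := by
    ext
    · exact ((T.obj S.X₁).map_comp ι π).symm.trans (by rw [w, Functor.map_zero]; rfl)
    · exact ((T.obj S.X₂).map_comp ι π).symm.trans (by rw [w, Functor.map_zero]; rfl)
    · exact ((T.obj S.X₃).map_comp ι π).symm.trans (by rw [w, Functor.map_zero]; rfl)
  h₀ := kernelIsKernel _
  h₃ := by
    apply ShortComplex.isColimitOfIsColimitπ <;>
      apply (CokernelCofork.isColimitMapCoconeEquiv _ _).2
    · exact CokernelCofork.mapIsColimit _ hπ (T.obj S.X₁)
    · exact CokernelCofork.mapIsColimit _ hπ (T.obj S.X₂)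
    · exact CokernelCofork.mapIsColimit _ hπ (T.obj S.X₃)
  L₁_exact := hS.exact.map_of_epi_of_preservesCokernel _ hS.epi_g inferInstance
  epi_L₁_g := by
    have := hS.epi_g
    exact inferInstanceAs (Epi ((T.flip.obj K).map S.g))
  L₂_exact := hS.exact.map_of_epi_of_preservesCokernel _ hS.epi_g inferInstance
  mono_L₂_f := by
    have := hS.mono_f
    exact inferInstanceAs (Mono ((T.flip.obj P).map S.f))

theorem mono_of_snake (S : ShortComplex A) (hS : S.ShortExact) {K P G : A} (ι : K ⟶ P) (π : P ⟶ G)
    (w : ι ≫ π = 0) (hπ : IsColimit (CokernelCofork.ofπ π w))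
    [(T.flip.obj P).PreservesMonomorphisms] (hm : Mono ((T.obj S.X₃).map ι)) :
    Mono ((T.flip.obj G).map S.f) := by
  let I := snakeInput T S hS ι π w hπ
  have h1 : I.v₀₁.τ₃ = 0 := by
    have : Mono I.v₁₂.τ₃ := hm
    rw [← cancel_mono I.v₁₂.τ₃]
    simp
  have h2 : IsZero I.L₀.X₃ := by
    rw [IsZero.iff_id_eq_zero, ← cancel_mono I.v₀₁.τ₃, h1]
    simp
  have h3 := I.L₂'_exact
  have h4 : I.L₂'.f = 0 := h2.eq_of_src _ _
  exact h3.mono_g h4

/-- Theorem A: tensoring a short exact sequence with flat right-hand term with anything stays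
short exact, provided the thing admits a flat cover. -/
theorem shortExact_map_flip (S : ShortComplex A) (hS : S.ShortExact)
    (hF : (T.obj S.X₃).PreservesMonomorphisms) {P G : A} (π : P ⟶ G) [Epi π]
    [(T.flip.obj P).PreservesMonomorphisms] :
    (S.map (T.flip.obj G)).ShortExact := by
  have := hS.epi_g
  have hm : Mono ((T.flip.obj G).map S.f) :=
    mono_of_snake T S hS (kernel.ι π) π (kernel.condition π)
      (Abelian.epiIsCokernelOfKernel _ (limit.isLimit _)) inferInstance
  exact
    { exact := hS.exact.map_of_epi_of_preservesCokernel _ hS.epi_g inferInstance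
      mono_f := hm
      epi_g := inferInstanceAs (Epi ((T.flip.obj G).map S.g)) }

/-- every object admits an epi from an object `P` with `- ⊗ P` preserving monos -/
def EnoughFlat : Prop :=
  ∀ G : A, ∃ (P : A) (π : P ⟶ G), (T.flip.obj P).PreservesMonomorphisms ∧ Epi π

variable {T}

theorem shortExact_map_flip' (he : EnoughFlat T) (S : ShortComplex A) (hS : S.ShortExact)
    (hF : (T.obj S.X₃).PreservesMonomorphisms) (G : A) :
    (S.map (T.flip.obj G)).ShortExact := by
  obtain ⟨P, π, hP, hπ⟩ := he G
  exact shortExact_map_flip T S hS hF π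

/-- Theorem B -/
theorem preservesMono_mid (he : EnoughFlat T) (S : ShortComplex A) (hS : S.ShortExact)
    (h₁ : (T.obj S.X₁).PreservesMonomorphisms) (h₃ : (T.obj S.X₃).PreservesMonomorphisms) :
    (T.obj S.X₂).PreservesMonomorphisms := by
  constructor
  intro G' G f hf
  have e1 := shortExact_map_flip' he S hS h₃ G'
  have e2 := shortExact_map_flip' he S hS h₃ G
  let φ : S.map (T.flip.obj G') ⟶ S.map (T.flip.obj G) := S.mapNatTrans (T.flip.map f)
  have := e1.mono_f
  have := e2.mono_f
  have : Mono φ.τ₁ := inferInstanceAs (Mono ((T.obj S.X₁).map f))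
  have : Mono φ.τ₃ := inferInstanceAs (Mono ((T.obj S.X₃).map f))
  exact ShortComplex.mono_τ₂_of_exact_of_mono φ e1.exact

/-- Theorem C -/
theorem preservesMono_left (he : EnoughFlat T) (S : ShortComplex A) (hS : S.ShortExact)
    (h₂ : (T.obj S.X₂).PreservesMonomorphisms) (h₃ : (T.obj S.X₃).PreservesMonomorphisms) :
    (T.obj S.X₁).PreservesMonomorphisms := by
  constructor
  intro G' G f hf
  have e1 := shortExact_map_flip' he S hS h₃ G'
  have : Mono ((T.flip.obj G').map S.f) := e1.mono_f
  have h : (T.obj S.X₁).map f ≫ (T.flip.obj G).map S.f =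
      (T.flip.obj G').map S.f ≫ (T.obj S.X₂).map f := ((T.map S.f).naturality f)
  have : Mono ((T.obj S.X₁).map f ≫ (T.flip.obj G).map S.f) := by
    rw [h]; infer_instance
  exact mono_of_mono _ ((T.flip.obj G).map S.f)

end Groth.Agent.Lib.Helper17.FlatCalc
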