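import Mathlib
import Groth.Agent.Lib.Helper17.FlatCalc
import Groth.Agent.S9110

open CategoryTheory CategoryTheory.Limits Opposite MonoidalCategory

universe u

noncomputable section

namespace Groth.Agent.Lib.Helper17.PresheafFlat

open Groth.Agent.Lib.Helper17.FlatCalc

variable {C : Type u} [SmallCategory C] (O : Cᵒᵖ ⥤ CommRingCat.{u})

abbrev PM : Type (u+1) := PresheafOfModules.{u} (O ⋙ forget₂ CommRingCat.{u} RingCat.{u})

abbrev TT : PM O ⥤ PM O ⥤ PM O := curriedTensor (PM O)

instance tensorLeft_additive (X : PM O) : (tensorLeft X).Additive :=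
  haveI : PreservesFiniteColimits (tensorLeft X) :=
    PreservesColimitsOfSize.preservesFiniteColimits _
  haveI := preservesBinaryBiproducts_of_preservesBinaryCoproducts (tensorLeft X)
  Functor.additive_of_preservesBinaryBiproducts _

instance tensorRight_additive (X : PM O) : (tensorRight X).Additive :=
  haveI : PreservesFiniteColimits (tensorRight X) :=
    PreservesColimitsOfSize.preservesFiniteColimits _
  haveI := preservesBinaryBiproducts_of_preservesBinaryCoproducts (tensorRight X)
  Functor.additive_of_preservesBinaryBiproducts _

instance : RightExactBi (TT O) where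
  obj_add := fun X => tensorLeft_additive O X
  obj_colim := fun X => PreservesColimitsOfSize.preservesFiniteColimits (tensorLeft X)
  flip_add := fun X => tensorRight_additive O X
  flip_colim := fun X => PreservesColimitsOfSize.preservesFiniteColimits (tensorRight X)


theorem flat_freeObj (F : Cᵒᵖ ⥤ Type u) (X : Cᵒᵖ) :
    Module.Flat (O.obj X)
      ((PresheafOfModules.freeObj (R := O ⋙ forget₂ CommRingCat.{u} RingCat.{u}) F).obj X) := by
  change Module.Flat (O.obj X) (F.obj X →₀ O.obj X)
  infer_instance

theorem enoughFlat : EnoughFlat (TT O) := by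
  intro G
  refine ⟨_, (PresheafOfModules.freeAdjunction (O ⋙ forget₂ CommRingCat.{u} RingCat.{u})).counit.app G,
    ?_, ?_⟩
  · have h : PreservesFiniteLimits (tensorRight
        (PresheafOfModules.freeObj (R := O ⋙ forget₂ CommRingCat.{u} RingCat.{u})
          (G.presheaf ⋙ forget Ab))) :=
      (Groth.Agent.S9110.result O _ (flat_freeObj O (G.presheaf ⋙ forget Ab))).1
    exact inferInstanceAs (Functor.PreservesMonomorphisms (tensorRight
        (PresheafOfModules.freeObj (R := O ⋙ forget₂ CommRingCat.{u} RingCat.{u})
          (G.presheaf ⋙ forget Ab))))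
  · have : (PresheafOfModules.toPresheaf (O ⋙ forget₂ CommRingCat.{u} RingCat.{u}) ⋙
        (Functor.whiskeringRight _ _ _).obj (forget Ab)).Faithful := by
      infer_instance
    infer_instance


theorem tensor_shortExact_of_flat (S : ShortComplex (PM O)) (hS : S.ShortExact)
    (hF : PreservesFiniteLimits (tensorRight S.X₃)) (G : PM O)
    [(tensorRight G).PreservesZeroMorphisms] :
    (S.map (tensorRight G)).ShortExact := by
  have h1 : (tensorRight S.X₃).PreservesMonomorphisms := inferInstance
  have h2 : (tensorLeft S.X₃).PreservesMonomorphisms :=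
    Functor.PreservesMonomorphisms.of_iso (BraidedCategory.tensorLeftIsoTensorRight S.X₃).symm
  exact shortExact_map_flip' (enoughFlat O) S hS h2 G

end Groth.Agent.Lib.Helper17.PresheafFlat
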