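import Mathlib
import Groth.Prelude.Def_ModSite
import Groth.Prelude.Def_ModSite2
import Groth.Prelude.Def_ExtSupp
import Groth.Agent.Lib.Helper17.IHom
import Groth.Agent.Lib.Helper17.Tensor
import Groth.Agent.Lib.Helper17.ProjFormula
import Groth.Agent.Lib.Helper5.SheafHomSeq

/-!
# The internal Hom out of a finite free module

`ℋom(-, G)` as an additive contravariant functor; `ℋom(O, G) ≅ G`; `ℋom(⊕ P_i, G)` is a biproduct
of the `ℋom(P_i, G)`.
-/

set_option autoImplicit false

universe u

open CategoryTheory Limits Opposite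

namespace Groth.Agent.Lib.Helper17.HomFree

open Groth.Agent.Lib.Helper17.IHom Groth.Agent.Lib.Helper17.Tensor
  Groth.Agent.Lib.Helper17.ProjFormula Groth.Agent.Lib.Helper5.SheafHomSeq

variable {C : Type u} [SmallCategory C] {J : GrothendieckTopology C} {O : Sheaf J CommRingCat.{u}}

attribute [local instance] hasSheafHom

lemma sheafHomMap_id (M : ModSite.Mod O) :
    ExtSupp.sheafHomMap (𝟙 M) = 𝟙 (ModSite.sheafHom M) := by
  dsimp only [ExtSupp.sheafHomMap]
  rw [CategoryTheory.Functor.map_id]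
  exact conjugateEquiv_id _

lemma sheafHomMap_add_app {M M' : ModSite.Mod O} (f g : M' ⟶ M) (N : ModSite.Mod O) :
    (ExtSupp.sheafHomMap (f + g)).app N =
      (ExtSupp.sheafHomMap f).app N + (ExtSupp.sheafHomMap g).app N := by
  dsimp only [ExtSupp.sheafHomMap]
  rw [conjugateEquiv_apply_app, conjugateEquiv_apply_app, conjugateEquiv_apply_app]
  rw [Functor.flip_map_app, Functor.flip_map_app, Functor.flip_map_app]
  rw [Functor.map_add, Functor.map_add, Preadditive.add_comp, Preadditive.comp_add]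

/-- `ℋom(-, G)` as a contravariant functor -/
noncomputable def homOp (G : ModSite.Mod O) : (ModSite.Mod O)ᵒᵖ ⥤ ModSite.Mod O where
  obj P := (ModSite.sheafHom P.unop).obj G
  map g := (ExtSupp.sheafHomMap g.unop).app G
  map_id P := by
    rw [unop_id, sheafHomMap_id]
    rfl
  map_comp f g := by
    rw [unop_comp, ← sheafHomMap_comp]
    rfl

instance (G : ModSite.Mod O) : (homOp G).Additive where
  map_add {P Q} {f g} := by
    change (ExtSupp.sheafHomMap (f + g).unop).app G = _
    rw [unop_add, sheafHomMap_add_app]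
    rfl

/-- `- ⊗ O ≅ 𝟭` -/
noncomputable def flipUnitIso : (ModSite.tensorBi O).flip.obj (ModSite.unit O) ≅ 𝟭 (ModSite.Mod O) :=
  (objIsoFlipObj (ModSite.unit O)).symm ≪≫ leftUnitNatIso

/-- `ℋom(O, -) ≅ 𝟭` -/
noncomputable def sheafHomUnitIso : ModSite.sheafHom (ModSite.unit O) ≅ 𝟭 (ModSite.Mod O) :=
  (ModSite.sheafHomAdj (ModSite.unit O)).rightAdjointUniq
    (Adjunction.id.ofNatIsoLeft (flipUnitIso (O := O)).symm)

end Groth.Agent.Lib.Helper17.HomFree
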