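import Mathlib

set_option autoImplicit false

open CategoryTheory Limits Opposite

namespace Groth.Agent.Lib.Helper17.HomFreeAbs

variable {C D : Type*} [Category C] [Category D] [Preadditive C] [Preadditive D]
  (Φ : Cᵒᵖ ⥤ D) [Φ.Additive] {I : Type*} [Fintype I] [DecidableEq I]
  {E U : C} (ι : I → (U ⟶ E)) (π : I → (E ⟶ U))
  (hιπ : ∀ i j, ι j ≫ π i = if j = i then 𝟙 U else 0)
  (hsum : ∑ i, π i ≫ ι i = 𝟙 E)

/-- the bicone exhibiting `Φ(E)` as a biproduct of copies of `Φ(U)` -/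
def bicone : Bicone (fun _ : I => Φ.obj (op U)) where
  pt := Φ.obj (op E)
  π i := Φ.map (ι i).op
  ι i := Φ.map (π i).op
  ι_π i j := by
    rw [← Φ.map_comp, ← op_comp, hιπ]
    by_cases h : j = i
    · subst h
      simp
    · have h' : ¬ i = j := fun e => h e.symm
      rw [if_neg h, dif_neg h']
      simp

include hsum in
lemma bicone_total : ∑ i, (bicone Φ ι π hιπ).π i ≫ (bicone Φ ι π hιπ).ι i =
    𝟙 (bicone Φ ι π hιπ).pt := by
  change ∑ i, Φ.map (ι i).op ≫ Φ.map (π i).op = 𝟙 (Φ.obj (op E))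
  have h1 : ∀ i, Φ.map (ι i).op ≫ Φ.map (π i).op = Φ.map (π i ≫ ι i).op := fun i => by
    rw [← Φ.map_comp, ← op_comp]
  simp_rw [h1]
  rw [← Φ.map_sum, ← op_sum, hsum, op_id, Φ.map_id]

/-- `Φ(E)` is the biproduct of copies of `Φ(U)` -/
noncomputable def isoBiproduct [HasFiniteBiproducts D] :
    Φ.obj (op E) ≅ ⨁ (fun _ : I => Φ.obj (op U)) :=
  biproduct.uniqueUpToIso _ (isBilimitOfTotal (bicone Φ ι π hιπ) (bicone_total Φ ι π hιπ hsum))

end Groth.Agent.Lib.Helper17.HomFreeAbs
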