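import Mathlib
import Groth.Prelude.Def_ModSite
import Groth.Agent.Lib.Helper17.Tensor
import Groth.Agent.Lib.Helper17.ModSiteExact
import Groth.Agent.Lib.Helper17.ProjFormula

open CategoryTheory CategoryTheory.Limits Opposite MonoidalCategory

universe u

noncomputable section

namespace Groth.Agent.Lib.Helper17.LocInj

open Groth.Agent.Lib.Helper17.IHom Groth.Agent.Lib.Helper17.Tensor

variable {C : Type u} [SmallCategory C] {J : GrothendieckTopology C} {O : Sheaf J CommRingCat.{u}}

/-- the underlying morphism of abelian presheaves -/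
abbrev ab {P Q : PMod O} (α : P ⟶ Q) : P.presheaf ⟶ Q.presheaf :=
  (PresheafOfModules.toPresheaf _).map α

instance (P : PMod O) : Presheaf.IsLocallyInjective J (ab (un P)) :=
  (W_toPresheaf_sheafifyUnit P).isLocallyInjective

instance (P : PMod O) : Presheaf.IsLocallySurjective J (ab (un P)) :=
  (W_toPresheaf_sheafifyUnit P).isLocallySurjective

lemma ab_comp {P Q T : PMod O} (α : P ⟶ Q) (β : Q ⟶ T) : ab (α ≫ β) = ab α ≫ ab β :=
  Functor.map_comp _ _ _

theorem mono_toSheaf_map_iff {M N : ModSite.Mod O} (φ : M ⟶ N) :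
    Mono φ ↔ Mono ((SheafOfModules.toSheaf (ModSite.ringSh O)).map φ) := by
  have := ModSiteExact.toSheaf_preservesFiniteLimits (ModSite.ringSh O)
  constructor
  · intro h
    infer_instance
  · intro h
    exact (SheafOfModules.toSheaf (ModSite.ringSh O)).mono_of_mono_map h

theorem mono_iff_locallyInjective {M N : ModSite.Mod O} (φ : M ⟶ N) :
    Mono φ ↔ Presheaf.IsLocallyInjective J (ab (pv φ)) := by
  rw [mono_toSheaf_map_iff]
  constructor
  · intro h
    have h1 : Mono ((sheafToPresheaf J AddCommGrpCat.{u}).map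
        ((SheafOfModules.toSheaf (ModSite.ringSh O)).map φ)) := inferInstance
    have h2 : ∀ X, Mono (((sheafToPresheaf J AddCommGrpCat.{u}).map
        ((SheafOfModules.toSheaf (ModSite.ringSh O)).map φ)).app X) := fun X => inferInstance
    apply Presheaf.isLocallyInjective_of_injective
    intro X
    exact (AddCommGrpCat.mono_iff_injective _).1 (h2 X)
  · intro h
    have : Sheaf.IsLocallyInjective ((SheafOfModules.toSheaf (ModSite.ringSh O)).map φ) := h
    exact Sheaf.mono_of_isLocallyInjective _

theorem mono_sheafify_map_iff {P Q : PMod O} (α : P ⟶ Q) :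
    Mono ((shF O).map α) ↔ Presheaf.IsLocallyInjective J (ab α) := by
  rw [mono_iff_locallyInjective]
  have fac : ab α ≫ ab (un Q) = ab (un P) ≫ ab (pv ((shF O).map α)) := by
    rw [← ab_comp, ← ab_comp, un_naturality]
  rw [← Presheaf.comp_isLocallyInjective_iff J (ab (un P)) (ab (pv ((shF O).map α))), ← fac,
    Presheaf.isLocallyInjective_comp_iff]

/-- elementwise criterion -/
theorem locallyInjective_iff_zero {P Q : PMod O} (α : P ⟶ Q) :
    Presheaf.IsLocallyInjective J (ab α) ↔
      ∀ (V : C) (x : P.obj (op V)), α.app (op V) x = 0 →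
        ∃ S ∈ J V, ∀ ⦃W : C⦄ (g : W ⟶ V), S g → P.map g.op x = 0 := by
  constructor
  · intro h V x hx
    have := h.equalizerSieve_mem (X := op V) (x : P.presheaf.obj (op V)) 0 (by
      change α.app (op V) x = (ab α).app (op V) 0
      rw [hx, map_zero]
      rfl)
    refine ⟨_, this, ?_⟩
    intro W g hg
    have : P.presheaf.map g.op x = P.presheaf.map g.op 0 := hg
    rw [map_zero] at this
    exact this
  · intro h
    constructor
    intro X x y hxy
    obtain ⟨S, hS, hS'⟩ := h X.unop (x - y) (by
      have : (ab α).app X (x - y) = 0 := by rw [map_sub, hxy, sub_self]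
      exact this)
    refine J.superset_covering ?_ hS
    intro W g hg
    have h1 : P.presheaf.map g.op (x - y) = 0 := hS' g hg
    rw [map_sub, sub_eq_zero] at h1
    exact h1

open Groth.Agent.Lib.Helper17.ProjFormula in
theorem locInj_whiskerRight_of_isFlat (F : ModSite.Mod O) (hF : ModSite.IsFlat F) {P' P : PMod O}
    (α : P' ⟶ P) (hα : Presheaf.IsLocallyInjective J (ab α)) :
    Presheaf.IsLocallyInjective J (ab (α ▷ toPMod F)) := by
  rw [← mono_sheafify_map_iff] at hα ⊢
  have := preservesMonomorphisms_of_isFlat F hF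
  have h1 : Mono (tensR ((shF O).map α) F) :=
    inferInstanceAs (Mono (((ModSite.tensorBi O).flip.obj F).map ((shF O).map α)))
  have sq : (α ▷ toPMod F) ≫ (un P ▷ toPMod F) =
      (un P' ▷ toPMod F) ≫ (pv ((shF O).map α) ▷ toPMod F) := by
    rw [← comp_whiskerRight, ← comp_whiskerRight, un_naturality]
  have sq' : (shF O).map (α ▷ toPMod F) ≫ (shF O).map (un P ▷ toPMod F) =
      (shF O).map (un P' ▷ toPMod F) ≫ tensR ((shF O).map α) F := by
    rw [tensR, ← Functor.map_comp, ← Functor.map_comp, sq]
  have i1 : IsIso ((shF O).map (un P' ▷ toPMod F)) :=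
    isIso_shF_map_of_isLocalIso ((isLocalIso_un P').whiskerRight (toPMod F))
  have : Mono ((shF O).map (α ▷ toPMod F) ≫ (shF O).map (un P ▷ toPMod F)) := by
    rw [sq']; infer_instance
  exact mono_of_mono _ ((shF O).map (un P ▷ toPMod F))

open Groth.Agent.Lib.Helper17.ProjFormula in
theorem isFlat_of_locInj (F : ModSite.Mod O)
    (h : ∀ (G' G : ModSite.Mod O) (ι : G' ⟶ G), Mono ι →
      Presheaf.IsLocallyInjective J (ab (pv ι ▷ toPMod F))) : ModSite.IsFlat F := by
  apply isFlat_of_preservesMonomorphisms
  constructor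
  intro G' G ι hι
  change Mono (tensR ι F)
  rw [tensR, mono_sheafify_map_iff]
  exact h G' G ι hι

end Groth.Agent.Lib.Helper17.LocInj
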