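import Mathlib
import Groth.Agent.Lib.Helper17.IHom

open CategoryTheory CategoryTheory.Limits Opposite MonoidalCategory

universe u

noncomputable section

namespace Groth.Agent.Lib.Helper17.SubPreLib

open Groth.Agent.Lib.Helper17.IHom

variable {C : Type u} [SmallCategory C] {R : Cᵒᵖ ⥤ CommRingCat.{u}}

/-- a sub-presheaf of modules, given by submodules of sections stable under restriction -/
structure SubPre (M : PresheafOfModules.{u} (R ⋙ forget₂ CommRingCat RingCat)) where
  carrier : ∀ X : Cᵒᵖ, Submodule (R.obj X) (M.obj X)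
  map_mem : ∀ {X Y : Cᵒᵖ} (f : X ⟶ Y) (m : M.obj X), m ∈ carrier X → M.map f m ∈ carrier Y

variable {M : PresheafOfModules.{u} (R ⋙ forget₂ CommRingCat RingCat)} (N : SubPre M)

/-- sections of the sub-presheaf -/
def SubPre.obj (X : Cᵒᵖ) : ModuleCat.{u} ((R ⋙ forget₂ CommRingCat RingCat).obj X) :=
  ModuleCat.of (R.obj X) (N.carrier X)

/-- restriction maps -/
def SubPre.map {X Y : Cᵒᵖ} (f : X ⟶ Y) :
    N.obj X ⟶ (ModuleCat.restrictScalars ((R ⋙ forget₂ CommRingCat RingCat).map f).hom).obj
      (N.obj Y) :=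
  ModuleCat.ofHom (Y := (ModuleCat.restrictScalars
      ((R ⋙ forget₂ CommRingCat RingCat).map f).hom).obj (N.obj Y))
    { toFun := fun m => (⟨M.map f m.1, N.map_mem f m.1 m.2⟩ : N.carrier Y)
      map_add' := fun a b => Subtype.ext (by
        change M.map f (a.1 + b.1) = M.map f a.1 + M.map f b.1
        exact map_add _ _ _)
      map_smul' := fun r a => Subtype.ext (by
        change M.map f (r • a.1) = _
        exact M.map_smul f r a.1) }

/-- the sub-presheaf as a presheaf of modules -/
def SubPre.toPre : PresheafOfModules.{u} (R ⋙ forget₂ CommRingCat RingCat) where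
  obj := N.obj
  map f := N.map f
  map_id X := by
    ext m
    apply Subtype.ext
    change M.map (𝟙 X) m.1 = m.1
    rw [M.map_id]
    rfl
  map_comp {X Y Z} f g := by
    ext m
    apply Subtype.ext
    change M.map (f ≫ g) m.1 = M.map g (M.map f m.1)
    rw [M.map_comp_apply]

/-- the inclusion -/
def SubPre.ι : N.toPre ⟶ M where
  app X := ModuleCat.ofHom (N.carrier X).subtype
  naturality {X Y} f := by
    ext m
    rfl

lemma SubPre.ι_app_apply (X : Cᵒᵖ) (m : N.carrier X) : (N.ι.app X).hom m = m.1 := rfl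

lemma SubPre.toPre_map_apply {X Y : Cᵒᵖ} (f : X ⟶ Y) (m : N.carrier X) :
    ((N.toPre.map f).hom m : N.carrier Y).1 = M.map f m.1 := rfl

lemma SubPre.ι_injective (X : Cᵒᵖ) : Function.Injective (N.ι.app X).hom :=
  Subtype.val_injective

end Groth.Agent.Lib.Helper17.SubPreLib
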