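import Mathlib
import Groth.Agent.Lib.Helper17.IHom
import Groth.Agent.Lib.Helper17.SubPre
import Groth.Agent.Lib.Helper17.LocInj
import Groth.Agent.Lib.Helper17.ProjFormula

open CategoryTheory CategoryTheory.Limits Opposite MonoidalCategory

universe u

noncomputable section

namespace Groth.Agent.Lib.Helper17.EqCrit

variable {C : Type u} [SmallCategory C] {R : Cᵒᵖ ⥤ CommRingCat.{u}}

variable (P Q : PresheafOfModules.{u} (R ⋙ forget₂ CommRingCat RingCat))

/-- sections of the tensor presheaf as a tensor product -/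
def toTP (X : Cᵒᵖ) :
    (P ⊗ Q).obj X ≃ₗ[R.obj X] TensorProduct (R.obj X) (P.obj X) (Q.obj X) :=
  LinearEquiv.refl _ _

variable {P Q}

/-- pure tensors -/
def tm {X : Cᵒᵖ} (p : P.obj X) (q : Q.obj X) : (P ⊗ Q).obj X := (toTP P Q X).symm (p ⊗ₜ[R.obj X] q)

lemma toTP_tm {X : Cᵒᵖ} (p : P.obj X) (q : Q.obj X) : toTP P Q X (tm p q) = p ⊗ₜ[R.obj X] q := rfl

lemma map_tm {X Y : Cᵒᵖ} (f : X ⟶ Y) (p : P.obj X) (q : Q.obj X) :
    (P ⊗ Q).map f (tm p q) = tm (P.map f p) (Q.map f q) := rfl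

lemma whiskerRight_tm {P' : PresheafOfModules.{u} (R ⋙ forget₂ CommRingCat RingCat)}
    (α : P ⟶ P') {X : Cᵒᵖ} (p : P.obj X) (q : Q.obj X) :
    (α ▷ Q).app X (tm p q) = tm (α.app X p) q := rfl

lemma whiskerRight_symm {P' : PresheafOfModules.{u} (R ⋙ forget₂ CommRingCat RingCat)}
    (α : P ⟶ P') {X : Cᵒᵖ} (t : TensorProduct (R.obj X) (P.obj X) (Q.obj X)) :
    (α ▷ Q).app X ((toTP P Q X).symm t) =
      (toTP P' Q X).symm (LinearMap.rTensor (Q.obj X) (α.app X).hom t) := by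
  induction t using TensorProduct.induction_on with
  | zero => simp
  | tmul p q => rfl
  | add a b ha hb => simp only [map_add, ha, hb]

lemma toTP_whiskerRight {P' : PresheafOfModules.{u} (R ⋙ forget₂ CommRingCat RingCat)}
    (α : P ⟶ P') {X : Cᵒᵖ} (x : (P ⊗ Q).obj X) :
    toTP P' Q X ((α ▷ Q).app X x) = LinearMap.rTensor (Q.obj X) (α.app X).hom (toTP P Q X x) := by
  have := whiskerRight_symm (Q := Q) α (toTP P Q X x)
  rw [LinearEquiv.symm_apply_apply] at this
  rw [this, LinearEquiv.apply_symm_apply]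

lemma map_symm {X Y : Cᵒᵖ} (f : X ⟶ Y) (ι : Type*) (s : Finset ι) (p : ι → P.obj X)
    (q : ι → Q.obj X) :
    (P ⊗ Q).map f (∑ i ∈ s, tm (p i) (q i)) = ∑ i ∈ s, tm (P.map f (p i)) (Q.map f (q i)) := by
  rw [map_sum]
  rfl


section ideal

open Groth.Agent.Lib.Helper17.SubPreLib

variable {n : ℕ} (fam : Fin n → ∀ X : Cᵒᵖ, R.obj X)
  (hfam : ∀ (j : Fin n) {X Y : Cᵒᵖ} (f : X ⟶ Y), (R.map f).hom (fam j X) = fam j Y)

/-- the unit presheaf of modules -/
abbrev Pu (R : Cᵒᵖ ⥤ CommRingCat.{u}) : PresheafOfModules.{u} (R ⋙ forget₂ CommRingCat RingCat) :=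
  PresheafOfModules.unit _

/-- generators as sections of the unit presheaf -/
def gen (j : Fin n) (X : Cᵒᵖ) : (Pu R).obj X := fam j X

lemma unit_map_gen (j : Fin n) {X Y : Cᵒᵖ} (f : X ⟶ Y)
    (hfam : ∀ (j : Fin n) {X Y : Cᵒᵖ} (f : X ⟶ Y), (R.map f).hom (fam j X) = fam j Y) :
    (Pu R).map f (gen fam j X) = gen fam j Y := hfam j f

include hfam in
/-- the presheaf of ideals generated by a family of global sections -/
def idealPre : SubPre (Pu R) where
  carrier X := Submodule.span (R.obj X) (Set.range (fun j => gen fam j X))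
  map_mem {X Y} f m hm := by
    induction hm using Submodule.span_induction with
    | mem x hx =>
      obtain ⟨j, rfl⟩ := hx
      rw [unit_map_gen fam j f hfam]
      exact Submodule.subset_span ⟨j, rfl⟩
    | zero =>
      rw [map_zero]
      exact Submodule.zero_mem _
    | add x y _ _ hx hy =>
      rw [map_add]
      exact Submodule.add_mem _ hx hy
    | smul r x _ hx =>
      rw [(Pu R).map_smul]
      exact Submodule.smul_mem _ _ hx

end ideal


/-- an element of the ring as a section of the unit presheaf -/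
def uEl {X : Cᵒᵖ} (r : R.obj X) : (Pu R).obj X := r

lemma sum_tm_unit_eq_zero {Q : PresheafOfModules.{u} (R ⋙ forget₂ CommRingCat RingCat)}
    {X : Cᵒᵖ} {n : ℕ} (r : Fin n → R.obj X) (q : Fin n → Q.obj X) (h : ∑ j, r j • q j = 0) :
    ∑ j, tm (P := Pu R) (Q := Q) (uEl (r j)) (q j) = 0 := by
  apply (toTP (Pu R) Q X).injective
  rw [map_sum, map_zero]
  simp only [toTP_tm]
  have key : ∀ j, (uEl (r j) : (Pu R).obj X) ⊗ₜ[R.obj X] q j =
      (uEl (1 : R.obj X) : (Pu R).obj X) ⊗ₜ[R.obj X] (r j • q j) := fun j => by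
    have : (uEl (r j) : (Pu R).obj X) = r j • (uEl (1 : R.obj X) : (Pu R).obj X) :=
      (mul_one (r j)).symm
    rw [this, TensorProduct.smul_tmul]
  simp only [key]
  rw [← TensorProduct.tmul_sum, h, TensorProduct.tmul_zero]

section ec1

open Groth.Agent.Lib.Helper17.SubPreLib Groth.Agent.Lib.Helper17.IHom Groth.Agent.Lib.Helper17.LocInj

variable {J : GrothendieckTopology C} {O : Sheaf J CommRingCat.{u}}

/-- generators as elements of the ideal presheaf -/
def genI {n : ℕ} (fam : Fin n → ∀ X : Cᵒᵖ, O.obj.obj X)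
    (hfam : ∀ (j : Fin n) {X Y : Cᵒᵖ} (f : X ⟶ Y), (O.obj.map f).hom (fam j X) = fam j Y)
    (j : Fin n) (X : Cᵒᵖ) : (idealPre fam hfam).carrier X :=
  ⟨gen fam j X, Submodule.subset_span ⟨j, rfl⟩⟩

lemma span_genI {n : ℕ} (fam : Fin n → ∀ X : Cᵒᵖ, O.obj.obj X)
    (hfam : ∀ (j : Fin n) {X Y : Cᵒᵖ} (f : X ⟶ Y), (O.obj.map f).hom (fam j X) = fam j Y)
    (X : Cᵒᵖ) : Submodule.span (O.obj.obj X) (Set.range (fun j => genI fam hfam j X)) = ⊤ := by
  have h := Submodule.span_span_coe_preimage (R := O.obj.obj X)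
    (s := Set.range (fun j => gen fam j X))
  refine Eq.trans ?_ h
  congr 1
  ext ⟨x, hx⟩
  simp only [Set.mem_range]
  constructor
  · rintro ⟨j, hj⟩
    exact ⟨j, congrArg Subtype.val hj⟩
  · rintro ⟨j, hj⟩
    exact ⟨j, Subtype.ext hj⟩

theorem ec1 (F : ModSite.Mod O) (hF : ModSite.IsFlat F) {n : ℕ}
    (fam : Fin n → ∀ X : Cᵒᵖ, O.obj.obj X)
    (hfam : ∀ (j : Fin n) {X Y : Cᵒᵖ} (f : X ⟶ Y), (O.obj.map f).hom (fam j X) = fam j Y)
    (X : C) (s : Fin n → F.val.obj (op X)) (hs : ∑ j, fam j (op X) • s j = 0) :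
    ∃ S ∈ J X, ∀ ⦃V : C⦄ (g : V ⟶ X), S g →
      ∃ (l : ℕ) (t : Fin l → F.val.obj (op V)) (a : Fin n → Fin l → O.obj.obj (op V)),
        (∀ j, F.val.map g.op (s j) = ∑ k, a j k • t k) ∧
          (∀ k, ∑ j, a j k * fam j (op V) = 0) := by
  let I := idealPre fam hfam
  let α : I.toPre ⟶ Pu O.obj := I.ι
  have hα : Presheaf.IsLocallyInjective J (ab (O := O) α) :=
    Presheaf.isLocallyInjective_of_injective _ _ (fun X => I.ι_injective X)
  have h1 := locInj_whiskerRight_of_isFlat F hF (P' := I.toPre) (P := Pu O.obj) α hα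
  let ξ : (I.toPre ⊗ toPMod F : PMod O).obj (op X) :=
    ∑ j, tm (P := I.toPre) (Q := toPMod F) (genI fam hfam j (op X)) (s j)
  have hξ : (α ▷ toPMod F).app (op X) ξ = 0 := by
    have e1 : (α ▷ toPMod F).app (op X) ξ =
        ∑ j, tm (P := Pu O.obj) (Q := toPMod F) (uEl (fam j (op X))) (s j) := by
      rw [map_sum]; rfl
    rw [e1]
    exact sum_tm_unit_eq_zero (Q := toPMod F) (fun j => fam j (op X)) s hs
  obtain ⟨S, hS, hS'⟩ := (locallyInjective_iff_zero (O := O) (α ▷ toPMod F)).1 h1 X ξ hξ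
  refine ⟨S, hS, ?_⟩
  intro V g hg
  have h2 := hS' g hg
  have h3 : ∑ j, (genI fam hfam j (op V)) ⊗ₜ[O.obj.obj (op V)] (rs (toPMod F) g (s j)) = 0 := by
    have : (I.toPre ⊗ toPMod F : PMod O).map g.op ξ =
        ∑ j, tm (P := I.toPre) (Q := toPMod F) (genI fam hfam j (op V))
          (rs (toPMod F) g (s j)) := by
      rw [map_sum]
      refine Finset.sum_congr rfl (fun j _ => ?_)
      rw [map_tm]
      congr 1
      exact Subtype.ext (unit_map_gen fam j g.op hfam)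
    rw [this] at h2
    exact h2
  obtain ⟨l, a, t, h4, h5⟩ := TensorProduct.vanishesTrivially_of_sum_tmul_eq_zero
    (R := O.obj.obj (op V)) (span_genI fam hfam (op V)) h3
  refine ⟨l, t, a, h4, ?_⟩
  intro k
  have h6 : ((∑ j, a j k • genI fam hfam j (op V) : (idealPre fam hfam).carrier (op V)) :
      (Pu O.obj).obj (op V)) = 0 := congrArg Subtype.val (h5 k)
  rw [AddSubmonoidClass.coe_finsetSum] at h6
  exact h6


open Groth.Agent.Lib.Helper17.ProjFormula in
/-- equational criterion, forward direction -/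
theorem ec_of_isFlat (F : ModSite.Mod O) (hF : ModSite.IsFlat F) (U : C) (n : ℕ)
    (f : Fin n → O.obj.obj (op U)) (s : Fin n → ModSite.sect F U) (hs : ∑ j, f j • s j = 0) :
    ∃ S ∈ J U, ∀ ⦃V : C⦄ (g : V ⟶ U), S g →
      ∃ (l : ℕ) (t : Fin l → ModSite.sect F V) (a : Fin n → Fin l → O.obj.obj (op V)),
        (∀ j, (F.val.map g.op).hom (s j) = ∑ k, a j k • t k) ∧
        (∀ k, ∑ j, a j k * (O.obj.map g.op).hom (f j) = 0) := by
  have hF' := isFlat_restr F hF U
  let fam : Fin n → ∀ Y : (Over U)ᵒᵖ, (O.over U).obj.obj Y :=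
    fun j Y => (O.obj.map Y.unop.hom.op).hom (f j)
  have hfam : ∀ (j : Fin n) {Y Y' : (Over U)ᵒᵖ} (k : Y ⟶ Y'),
      ((O.over U).obj.map k).hom (fam j Y) = fam j Y' := by
    intro j Y Y' k
    change (O.obj.map k.unop.left.op).hom ((O.obj.map Y.unop.hom.op).hom (f j)) =
      (O.obj.map Y'.unop.hom.op).hom (f j)
    rw [← Over.w k.unop, op_comp, O.obj.map_comp]
    rfl
  have hs' : ∑ j, fam j (op (Over.mk (𝟙 U))) •
      (show ((ModSite.restr O U).obj F).val.obj (op (Over.mk (𝟙 U))) from s j) = 0 := by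
    have : ∀ j, fam j (op (Over.mk (𝟙 U))) = f j := fun j => by
      change (O.obj.map (𝟙 U).op).hom (f j) = f j
      rw [op_id, O.obj.map_id]
      rfl
    simp only [this]
    exact hs
  obtain ⟨S', hS', h⟩ := ec1 ((ModSite.restr O U).obj F) hF' fam hfam (Over.mk (𝟙 U))
    (fun j => s j) hs'
  refine ⟨Sieve.overEquiv _ S', (J.mem_over_iff S').1 hS', ?_⟩
  intro V g hg
  rw [Sieve.overEquiv_iff] at hg
  obtain ⟨l, t, a, h1, h2⟩ := h _ hg
  refine ⟨l, t, a, h1, ?_⟩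
  intro k
  have h3 := h2 k
  have : ∀ j, fam j (op (Over.mk (g ≫ (Over.mk (𝟙 U)).hom))) = (O.obj.map g.op).hom (f j) := by
    intro j
    change (O.obj.map (g ≫ 𝟙 U).op).hom (f j) = _
    rw [Category.comp_id]
  simp only [this] at h3
  exact h3

end ec1

end Groth.Agent.Lib.Helper17.EqCrit
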