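import Mathlib

open TensorProduct

universe u

namespace Groth.Agent.Lib.Helper17.EqCritAlg

variable {R : Type u} [CommRing R] {M' M N : Type u} [AddCommGroup M'] [Module R M']
  [AddCommGroup M] [Module R M] [AddCommGroup N] [Module R N]

theorem exists_relations_of_rTensor_eq_zero (ι : M' →ₗ[R] M) (x : M' ⊗[R] N)
    (hx : (ι.rTensor N) x = 0) :
    ∃ (m : ℕ) (x' : Fin m → M') (s : Fin m → N) (q : ℕ) (y : Fin q → M) (l : ℕ) (z : Fin l → N)
      (a : Fin m → Fin l → R) (b : Fin q → Fin l → R),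
      x = ∑ i, x' i ⊗ₜ[R] s i ∧ (∀ i, s i = ∑ k, a i k • z k) ∧ (∀ j, ∑ k, b j k • z k = 0) ∧
        (∀ k, ∑ i, a i k • ι (x' i) + ∑ j, b j k • y j = 0) := by
  obtain ⟨m, x', s, rfl⟩ := TensorProduct.exists_sum_tmul_eq x
  let P : Submodule R M := Submodule.span R (Set.range (fun i => ι (x' i)))
  have hP : P.FG := Submodule.fg_span (Set.finite_range _)
  let p : Fin m → P := fun i => ⟨ι (x' i), Submodule.subset_span ⟨i, rfl⟩⟩
  let t : P ⊗[R] N := ∑ i, p i ⊗ₜ[R] s i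
  have ht : LinearMap.rTensor N P.subtype t = 0 := by
    rw [← hx, map_sum, map_sum]
    rfl
  obtain ⟨Q, hPQ, hQ, hQt⟩ := TensorProduct.eq_zero_of_fg_of_subtype_eq_zero hP ht
  obtain ⟨q, y, hy⟩ := Submodule.fg_iff_exists_fin_generating_family.1 hQ
  have hyQ : ∀ j, y j ∈ Q := fun j => hy ▸ Submodule.subset_span ⟨j, rfl⟩
  let w : Fin m ⊕ Fin q → Q := Sum.elim (fun i => Submodule.inclusion hPQ (p i))
    (fun j => ⟨y j, hyQ j⟩)
  let n' : Fin m ⊕ Fin q → N := Sum.elim s (fun _ => 0)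
  have hw : Submodule.span R (Set.range w) = ⊤ := by
    rw [eq_top_iff]
    rintro ⟨v, hv⟩ -
    have hv' : v ∈ Submodule.span R (Set.range y) := hy ▸ hv
    induction hv' using Submodule.span_induction with
    | mem v hv'' =>
      obtain ⟨j, rfl⟩ := hv''
      exact Submodule.subset_span ⟨Sum.inr j, rfl⟩
    | zero => exact Submodule.zero_mem _
    | add v₁ v₂ h₁ h₂ ih₁ ih₂ =>
      have e : (⟨v₁ + v₂, hv⟩ : Q) = ⟨v₁, hy ▸ h₁⟩ + ⟨v₂, hy ▸ h₂⟩ := rfl
      rw [e]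
      exact Submodule.add_mem _ (ih₁ _) (ih₂ _)
    | smul r v₁ h₁ ih₁ =>
      have e : (⟨r • v₁, hv⟩ : Q) = r • ⟨v₁, hy ▸ h₁⟩ := rfl
      rw [e]
      exact Submodule.smul_mem _ _ (ih₁ _)
  have hwn : ∑ i, w i ⊗ₜ[R] n' i = (0 : Q ⊗[R] N) := by
    rw [Fintype.sum_sum_type]
    simp only [w, n', Sum.elim_inl, Sum.elim_inr, tmul_zero, Finset.sum_const_zero, add_zero]
    rw [← hQt, map_sum]
    rfl
  obtain ⟨l, a, z, h1, h2⟩ := TensorProduct.vanishesTrivially_of_sum_tmul_eq_zero R hw hwn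
  refine ⟨m, x', s, q, y, l, z, fun i k => a (Sum.inl i) k, fun j k => a (Sum.inr j) k, rfl,
    fun i => h1 (Sum.inl i), fun j => (h1 (Sum.inr j)).symm, ?_⟩
  intro k
  have h3 := congrArg (fun v : Q => (v : M)) (h2 k)
  simp only [Fintype.sum_sum_type] at h3
  simpa [w, p] using h3

end Groth.Agent.Lib.Helper17.EqCritAlg
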