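import Mathlib
import Groth.Agent.Lib.Helper17.EqCrit
import Groth.Agent.Lib.Helper17.EqCritAlg

open CategoryTheory CategoryTheory.Limits Opposite MonoidalCategory

universe u

noncomputable section

namespace Groth.Agent.Lib.Helper17.EqCrit

open Groth.Agent.Lib.Helper17.IHom Groth.Agent.Lib.Helper17.LocInj

variable {C : Type u} [SmallCategory C] {J : GrothendieckTopology C} {O : Sheaf J CommRingCat.{u}}

lemma rs_sum (M : PMod O) {U V : C} (g : V ⟶ U) {ι : Type*} (s : Finset ι)
    (m : ι → M.obj (op U)) : rs M g (∑ i ∈ s, m i) = ∑ i ∈ s, rs M g (m i) :=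
  map_sum (M.map g.op).hom m s

variable (F : ModSite.Mod O)

/-- the equational criterion -/
def EC : Prop :=
  ∀ (U : C) (n : ℕ) (f : Fin n → O.obj.obj (op U)) (s : Fin n → (toPMod F).obj (op U)),
    ∑ j, f j • s j = 0 → ∃ S ∈ J U, ∀ ⦃V : C⦄ (g : V ⟶ U), S g →
      ∃ (l : ℕ) (t : Fin l → (toPMod F).obj (op V)) (a : Fin n → Fin l → O.obj.obj (op V)),
        (∀ j, rs (toPMod F) g (s j) = ∑ k, a j k • t k) ∧
          (∀ k, ∑ j, a j k * rmap (R := O.obj) g (f j) = 0)

variable {F}

theorem ec_multi (h : EC F) : ∀ (q : ℕ) (U : C) (n : ℕ) (b : Fin q → Fin n → O.obj.obj (op U))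
    (z : Fin n → (toPMod F).obj (op U)), (∀ i, ∑ j, b i j • z j = 0) →
    ∃ S ∈ J U, ∀ ⦃V : C⦄ (g : V ⟶ U), S g →
      ∃ (l : ℕ) (v : Fin l → (toPMod F).obj (op V)) (e : Fin n → Fin l → O.obj.obj (op V)),
        (∀ j, rs (toPMod F) g (z j) = ∑ p, e j p • v p) ∧
          (∀ i p, ∑ j, e j p * rmap (R := O.obj) g (b i j) = 0) := by
  intro q
  induction q with
  | zero =>
    intro U n b z _
    refine ⟨⊤, J.top_mem U, ?_⟩
    intro V g _
    refine ⟨n, fun p => rs (toPMod F) g (z p), fun j p => if j = p then 1 else 0, ?_, ?_⟩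
    · intro j
      simp [ite_smul]
    · intro i
      exact Fin.elim0 i
  | succ q IH =>
    intro U n b z hb
    obtain ⟨S₀, hS₀, H⟩ := h U n (b 0) z (hb 0)
    have key : ∀ ⦃V : C⦄ (g : V ⟶ U) (_ : S₀ g), ∃ S' ∈ J V, ∀ ⦃W : C⦄ (h' : W ⟶ V), S' h' →
        ∃ (l : ℕ) (v : Fin l → (toPMod F).obj (op W)) (e : Fin n → Fin l → O.obj.obj (op W)),
          (∀ j, rs (toPMod F) (h' ≫ g) (z j) = ∑ p, e j p • v p) ∧
            (∀ i p, ∑ j, e j p * rmap (R := O.obj) (h' ≫ g) (b i j) = 0) := by
      intro V g hg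
      obtain ⟨l₀, t, c, hz, hc⟩ := H g hg
      let b' : Fin q → Fin l₀ → O.obj.obj (op V) :=
        fun i k => ∑ j, rmap (R := O.obj) g (b i.succ j) * c j k
      have rel : ∀ i, ∑ k, b' i k • t k = 0 := by
        intro i
        have e1 : ∑ k, b' i k • t k = ∑ j, rmap (R := O.obj) g (b i.succ j) • rs (toPMod F) g (z j) := by
          simp only [b', Finset.sum_smul, hz, Finset.smul_sum, mul_smul]
          exact Finset.sum_comm
        rw [e1]
        have e2 : ∑ j, rmap (R := O.obj) g (b i.succ j) • rs (toPMod F) g (z j) =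
            rs (toPMod F) g (∑ j, b i.succ j • z j) := by
          rw [rs_sum]
          exact Finset.sum_congr rfl (fun j _ => (rs_smul _ _ _ _).symm)
        rw [e2, hb, rs_zero]
      obtain ⟨S', hS', H'⟩ := IH V l₀ b' t rel
      refine ⟨S', hS', ?_⟩
      intro W h' hh'
      obtain ⟨l, v, e', ht, he'⟩ := H' h' hh'
      refine ⟨l, v, fun j p => ∑ k, rmap (R := O.obj) h' (c j k) * e' k p, ?_, ?_⟩
      · intro j
        rw [rs_comp, hz, rs_sum]
        simp only [rs_smul, ht, Finset.smul_sum, Finset.sum_smul, mul_smul]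
        exact Finset.sum_comm
      · intro i p
        have e3 : ∀ j, rmap (R := O.obj) (h' ≫ g) (b i j) =
            rmap (R := O.obj) h' (rmap (R := O.obj) g (b i j)) := fun j => rmap_comp g h' _
        simp only [e3]
        induction i using Fin.cases with
        | zero =>
          have e4 : ∑ j, (∑ k, rmap (R := O.obj) h' (c j k) * e' k p) *
              rmap (R := O.obj) h' (rmap (R := O.obj) g (b 0 j)) =
              ∑ k, e' k p * rmap (R := O.obj) h' (∑ j, c j k * rmap (R := O.obj) g (b 0 j)) := by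
            simp only [Finset.sum_mul, Finset.mul_sum, map_sum, map_mul]
            rw [Finset.sum_comm]
            refine Finset.sum_congr rfl (fun k _ => Finset.sum_congr rfl (fun j _ => ?_))
            ring
          rw [e4]
          simp only [hc, map_zero, mul_zero, Finset.sum_const_zero]
        | succ i =>
          have e4 : ∑ j, (∑ k, rmap (R := O.obj) h' (c j k) * e' k p) *
              rmap (R := O.obj) h' (rmap (R := O.obj) g (b i.succ j)) =
              ∑ k, e' k p * rmap (R := O.obj) h' (b' i k) := by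
            simp only [b', Finset.sum_mul, Finset.mul_sum, map_sum, map_mul]
            rw [Finset.sum_comm]
            refine Finset.sum_congr rfl (fun k _ => Finset.sum_congr rfl (fun j _ => ?_))
            ring
          rw [e4]
          exact he' i p
    choose S' hS' H' using key
    refine ⟨Sieve.bind S₀ (fun V g hg => S' g hg), J.bind_covering hS₀ (fun V g hg => hS' g hg), ?_⟩
    rintro W f ⟨V, h', g, hg, hh', rfl⟩
    exact H' g hg h' hh'


theorem injective_of_mono {M N : ModSite.Mod O} (φ : M ⟶ N) (hφ : Mono φ) (X : Cᵒᵖ) :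
    Function.Injective ((Tensor.pv φ).app X).hom := by
  have h := (mono_iff_locallyInjective φ).1 hφ
  have : Sheaf.IsLocallyInjective ((SheafOfModules.toSheaf (ModSite.ringSh O)).map φ) := h
  exact (Sheaf.isLocallyInjective_iff_injective _).1 this X

open Groth.Agent.Lib.Helper17.EqCritAlg Groth.Agent.Lib.Helper17.Tensor in
theorem isFlat_of_EC (h : EC F) : ModSite.IsFlat F := by
  apply isFlat_of_locInj
  intro G' G ι hι
  rw [locallyInjective_iff_zero]
  intro V x hx
  let ιV : (toPMod G').obj (op V) →ₗ[O.obj.obj (op V)] (toPMod G).obj (op V) :=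
    ((pv ι).app (op V)).hom
  have hx₀ : (LinearMap.rTensor ((toPMod F).obj (op V)) ιV)
      (toTP (toPMod G') (toPMod F) (op V) x) = 0 := by
    have := toTP_whiskerRight (Q := toPMod F) (pv ι) x
    rw [hx, map_zero] at this
    exact this.symm
  obtain ⟨m, x', s, q, y, l, z, a, b, hx', hs, hb, hab⟩ :=
    exists_relations_of_rTensor_eq_zero (R := O.obj.obj (op V)) ιV _ hx₀
  obtain ⟨S, hS, H⟩ := ec_multi h q V l b z hb
  refine ⟨S, hS, ?_⟩
  intro W g hg
  obtain ⟨l', v, e, hz, he⟩ := H g hg
  have e1 : x = ∑ i, tm (P := toPMod G') (Q := toPMod F) (x' i) (s i) := by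
    apply (toTP (toPMod G') (toPMod F) (op V)).injective
    rw [map_sum]
    exact hx'
  change rs (toPMod G' ⊗ toPMod F : PMod O) g x = 0
  have e2 : rs (toPMod G' ⊗ toPMod F : PMod O) g x =
      ∑ i, tm (P := toPMod G') (Q := toPMod F) (rs (toPMod G') g (x' i))
        (rs (toPMod F) g (s i)) := by
    rw [e1, rs_sum]
    rfl
  rw [e2]
  apply (toTP (toPMod G') (toPMod F) (op W)).injective
  rw [map_sum, map_zero]
  simp only [toTP_tm]
  apply TensorProduct.sum_tmul_eq_zero_of_vanishesTrivially
  refine ⟨l', fun i p => ∑ k, rmap (R := O.obj) g (a i k) * e k p, v, ?_, ?_⟩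
  · intro i
    change rs (toPMod F) g (s i) = ∑ j, (∑ k, rmap (R := O.obj) g (a i k) * e k j) • v j
    rw [hs, rs_sum]
    simp only [rs_smul, hz, Finset.smul_sum, Finset.sum_smul, mul_smul]
    exact Finset.sum_comm
  · intro p
    change ∑ i, (∑ k, rmap (R := O.obj) g (a i k) * e k p) • rs (toPMod G') g (x' i) = 0
    apply injective_of_mono ι hι (op W)
    rw [map_zero, map_sum]
    simp only [map_smul]
    have nat : ∀ i, ((pv ι).app (op W)).hom (rs (toPMod G') g (x' i)) =
        rs (toPMod G) g (((pv ι).app (op V)).hom (x' i)) := fun i => hom_rs (pv ι) g (x' i)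
    simp only [nat, Finset.sum_smul, mul_smul]
    rw [Finset.sum_comm]
    have e3 : ∀ k, ∑ i, rmap (R := O.obj) g (a i k) • rs (toPMod G) g (((pv ι).app (op V)).hom (x' i))
        = - ∑ j, rmap (R := O.obj) g (b j k) • rs (toPMod G) g (y j) := by
      intro k
      have := congrArg (rs (toPMod G) g) (hab k)
      rw [rs_add, rs_sum, rs_sum, rs_zero] at this
      simp only [rs_smul] at this
      exact eq_neg_of_add_eq_zero_left this
    have e4 : ∀ k, ∑ i, e k p • rmap (R := O.obj) g (a i k) •
        rs (toPMod G) g (((pv ι).app (op V)).hom (x' i)) =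
        e k p • (- ∑ j, rmap (R := O.obj) g (b j k) • rs (toPMod G) g (y j)) := by
      intro k
      rw [← e3 k, Finset.smul_sum]
    have e5 : ∀ k i, rmap (R := O.obj) g (a i k) • e k p •
        rs (toPMod G) g (((pv ι).app (op V)).hom (x' i)) =
        e k p • rmap (R := O.obj) g (a i k) •
        rs (toPMod G) g (((pv ι).app (op V)).hom (x' i)) := fun k i => smul_comm _ _ _
    simp only [e5, e4]
    simp only [smul_neg, Finset.smul_sum, Finset.sum_neg_distrib, neg_eq_zero]
    rw [Finset.sum_comm]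
    have e6 : ∀ j, ∑ k, e k p • rmap (R := O.obj) g (b j k) • rs (toPMod G) g (y j) =
        (∑ k, e k p * rmap (R := O.obj) g (b j k)) • rs (toPMod G) g (y j) := by
      intro j
      rw [Finset.sum_smul]
      exact Finset.sum_congr rfl (fun k _ => (mul_smul _ _ _).symm)
    simp only [e6, he, zero_smul, Finset.sum_const_zero]

end Groth.Agent.Lib.Helper17.EqCrit
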