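import Mathlib
import Groth.Prelude.Def_ModSite2
import Groth.Agent.Lib.Helper17.EqCrit2

open CategoryTheory CategoryTheory.Limits Opposite

universe u

noncomputable section

namespace Groth.Agent.Lib.Helper17.StalkFlat

variable {C : Type u} [SmallCategory C] {J : GrothendieckTopology C}

section general

variable (p : GrothendieckTopology.Point.{u} J) {A : Type (u+1)} [Category.{u} A]
  [HasColimitsOfSize.{u, u} A] {FA : A → A → Type u} {CA : A → Type u}
  [∀ X Y, FunLike (FA X Y) (CA X) (CA Y)] [ConcreteCategory.{u} A FA]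
  [PreservesFilteredColimitsOfSize.{u, u} (forget A)] (P : Cᵒᵖ ⥤ A)

/-- finitely many elements of the fibre are germs on a common neighbourhood -/
lemma exists_common (n : ℕ) (q : Fin n → ToType (p.presheafFiber.obj P)) :
    ∃ (X : C) (x : p.fiber.obj X) (z : Fin n → ToType (P.obj (op X))),
      ∀ i, p.toPresheafFiber X x P (z i) = q i := by
  induction n with
  | zero =>
    obtain ⟨⟨X, x⟩⟩ := (IsCofiltered.nonempty : Nonempty p.fiber.Elements)
    exact ⟨X, x, Fin.elim0, fun i => Fin.elim0 i⟩
  | succ n ih =>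
    obtain ⟨X, x, z, hz⟩ := ih (fun i => q i.succ)
    obtain ⟨Y, y, z₀, hz₀⟩ := p.toPresheafFiber_jointly_surjective (q 0)
    let W := IsCofiltered.min (Functor.elementsMk p.fiber X x) (Functor.elementsMk p.fiber Y y)
    let gX := IsCofiltered.minToLeft (Functor.elementsMk p.fiber X x)
      (Functor.elementsMk p.fiber Y y)
    let gY := IsCofiltered.minToRight (Functor.elementsMk p.fiber X x)
      (Functor.elementsMk p.fiber Y y)
    refine ⟨W.1, W.2, Fin.cons (P.map gY.1.op z₀) (fun i => P.map gX.1.op (z i)), ?_⟩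
    intro i
    induction i using Fin.cases with
    | zero =>
      rw [Fin.cons_zero, p.toPresheafFiber_w_apply, ← hz₀]
      exact congrArg (fun t => p.toPresheafFiber Y t P z₀) gY.2
    | succ i =>
      rw [Fin.cons_succ, p.toPresheafFiber_w_apply, ← hz i]
      exact congrArg (fun t => p.toPresheafFiber X t P (z i)) gX.2

end general


variable {O : Sheaf J CommRingCat.{u}} (p : GrothendieckTopology.Point.{u} J) (F : ModSite.Mod O)

open ModSite

lemma germ_res {X Y : C} (g : Y ⟶ X) (y : p.fiber.obj Y) (s : sect F X) :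
    germ p F Y y ((F.val.map g.op).hom s) = germ p F X (p.fiber.map g y) s :=
  p.toPresheafFiber_w_apply g y (toAb F).obj s

lemma germRing_res {X Y : C} (g : Y ⟶ X) (y : p.fiber.obj Y) (r : O.obj.obj (op X)) :
    germRing p Y y ((O.obj.map g.op).hom r) = germRing p X (p.fiber.map g y) r :=
  p.toPresheafFiber_w_apply g y O.obj r

lemma germ_sum (X : C) (x : p.fiber.obj X) {ι : Type*} (s : Finset ι) (m : ι → sect F X) :
    germ p F X x (∑ i ∈ s, m i) = ∑ i ∈ s, germ p F X x (m i) :=
  map_sum (p.toPresheafFiber X x (toAb F).obj).hom m s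

lemma germRing_sum (X : C) (x : p.fiber.obj X) {ι : Type*} (s : Finset ι)
    (r : ι → O.obj.obj (op X)) :
    germRing p X x (∑ i ∈ s, r i) = ∑ i ∈ s, germRing p X x (r i) :=
  map_sum (p.toPresheafFiber X x O.obj).hom r s

lemma germRing_mul (X : C) (x : p.fiber.obj X) (r r' : O.obj.obj (op X)) :
    germRing p X x (r * r') = germRing p X x r * germRing p X x r' :=
  map_mul (p.toPresheafFiber X x O.obj).hom r r'

lemma germ_zero (X : C) (x : p.fiber.obj X) : germ p F X x 0 = 0 :=
  map_zero (p.toPresheafFiber X x (toAb F).obj).hom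

lemma germRing_zero (X : C) (x : p.fiber.obj X) : germRing (O := O) p X x 0 = 0 :=
  map_zero (p.toPresheafFiber X x O.obj).hom

open Groth.Agent.Lib.Helper17.EqCrit in
theorem flat_stalkMod (hF : ModSite.IsFlat F) :
    Module.Flat (stalkRing p O) (stalkMod p F) := by
  apply Module.Flat.of_forall_isTrivialRelation
  intro n f x hfx
  obtain ⟨X₁, x₁, r, hr⟩ := exists_common p O.obj n f
  obtain ⟨X₂, x₂, m, hm⟩ := exists_common p (toAb F).obj n x
  let W := IsCofiltered.min (Functor.elementsMk p.fiber X₁ x₁) (Functor.elementsMk p.fiber X₂ x₂)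
  let gX := IsCofiltered.minToLeft (Functor.elementsMk p.fiber X₁ x₁)
    (Functor.elementsMk p.fiber X₂ x₂)
  let gY := IsCofiltered.minToRight (Functor.elementsMk p.fiber X₁ x₁)
    (Functor.elementsMk p.fiber X₂ x₂)
  let r' : Fin n → O.obj.obj (op W.1) := fun i => (O.obj.map gX.1.op).hom (r i)
  let m' : Fin n → sect F W.1 := fun i => (F.val.map gY.1.op).hom (m i)
  have hr' : ∀ i, germRing p W.1 W.2 (r' i) = f i := fun i => by
    rw [germRing_res, ← hr i]
    exact congrArg (fun t => germRing p X₁ t (r i)) gX.2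
  have hm' : ∀ i, germ p F W.1 W.2 (m' i) = x i := fun i => by
    rw [germ_res, ← hm i]
    exact congrArg (fun t => germ p F X₂ t (m i)) gY.2
  have h0 : germ p F W.1 W.2 (∑ i, r' i • m' i) = germ p F W.1 W.2 0 := by
    rw [germ_sum, germ_zero]
    simp only [germ_smul, hr', hm']
    exact hfx
  obtain ⟨Y, g, y, hy, hrel⟩ := (p.toPresheafFiber_eq_iff' W.1 W.2 _ _).1 h0
  let r'' : Fin n → O.obj.obj (op Y) := fun i => (O.obj.map g.op).hom (r' i)
  let m'' : Fin n → sect F Y := fun i => (F.val.map g.op).hom (m' i)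
  have rel : ∑ i, r'' i • m'' i = 0 := by
    have e1 : (F.val.map g.op).hom (∑ i, r' i • m' i) = ∑ i, r'' i • m'' i := by
      rw [map_sum]
      exact Finset.sum_congr rfl (fun i _ => F.val.map_smul g.op (r' i) (m' i))
    rw [← e1]
    have e2 : (F.val.map g.op).hom (0 : sect F W.1) = 0 := map_zero _
    exact Eq.trans hrel e2
  obtain ⟨S, hS, H⟩ := ec_of_isFlat F hF Y n r'' m'' rel
  obtain ⟨V, g', hg', v, hv⟩ := p.jointly_surjective S hS y
  obtain ⟨l, t, a, h1, h2⟩ := H g' hg'
  have hf : ∀ i, f i = germRing p V v ((O.obj.map g'.op).hom (r'' i)) := fun i => by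
    rw [germRing_res, hv, germRing_res, hy, hr']
  have hx : ∀ i, x i = germ p F V v ((F.val.map g'.op).hom (m'' i)) := fun i => by
    rw [germ_res, hv, germ_res, hy, hm']
  refine ⟨l, fun i k => germRing p V v (a i k), fun k => germ p F V v (t k), ?_, ?_⟩
  · intro i
    rw [hx, h1, germ_sum]
    exact Finset.sum_congr rfl (fun k _ => germ_smul p F V v _ _)
  · intro k
    simp only [hf, ← germRing_mul, ← germRing_sum]
    rw [← germRing_zero p V v, ← h2 k]
    congr 1
    exact Finset.sum_congr rfl (fun i _ => mul_comm _ _)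

end Groth.Agent.Lib.Helper17.StalkFlat
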