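import Mathlib
import Groth.Prelude.Def_ModSite2
import Groth.Agent.Lib.Helper17.StalkFlat

open CategoryTheory CategoryTheory.Limits Opposite

universe u

noncomputable section

namespace Groth.Agent.Lib.Helper17.StalkFlat

variable {C : Type u} [SmallCategory C] {J : GrothendieckTopology C}

section general

variable (p : GrothendieckTopology.Point.{u} J) {A : Type (u+1)} [Category.{u} A]
  [HasColimitsOfSize.{u, u} A] {FA : A → A → Type u} {CA : A → Type u}
  [∀ X Y, FunLike (FA X Y) (CA X) (CA Y)] [ConcreteCategory.{u} A FA]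
  [PreservesFilteredColimitsOfSize.{u, u} (forget A)] (P : Cᵒᵖ ⥤ A)

/-- finitely many equalities of germs hold on a common smaller neighbourhood -/
lemma exists_common_eq (X : C) (x : p.fiber.obj X) (n : ℕ)
    (z₁ z₂ : Fin n → ToType (P.obj (op X)))
    (h : ∀ i, p.toPresheafFiber X x P (z₁ i) = p.toPresheafFiber X x P (z₂ i)) :
    ∃ (Y : C) (g : Y ⟶ X) (y : p.fiber.obj Y), p.fiber.map g y = x ∧
      ∀ i, P.map g.op (z₁ i) = P.map g.op (z₂ i) := by
  induction n with
  | zero => exact ⟨X, 𝟙 X, x, by simp, fun i => Fin.elim0 i⟩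
  | succ n ih =>
    obtain ⟨Y, g, y, hy, hg⟩ := ih (fun i => z₁ i.succ) (fun i => z₂ i.succ) (fun i => h i.succ)
    obtain ⟨Y', g', y', hy', hg'⟩ := (p.toPresheafFiber_eq_iff' X x (z₁ 0) (z₂ 0)).1 (h 0)
    let eX : p.fiber.Elements := Functor.elementsMk p.fiber X x
    let eY : p.fiber.Elements := Functor.elementsMk p.fiber Y y
    let eY' : p.fiber.Elements := Functor.elementsMk p.fiber Y' y'
    let a : eY ⟶ eX := ⟨g, hy⟩
    let b : eY' ⟶ eX := ⟨g', hy'⟩
    let W := IsCofiltered.min eY eY'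
    let l : W ⟶ eY := IsCofiltered.minToLeft eY eY'
    let r : W ⟶ eY' := IsCofiltered.minToRight eY eY'
    let E := IsCofiltered.eq (l ≫ a) (r ≫ b)
    let e : E ⟶ W := IsCofiltered.eqHom (l ≫ a) (r ≫ b)
    have cond : e ≫ l ≫ a = e ≫ r ≫ b := IsCofiltered.eq_condition _ _
    have cond' : (e ≫ l).1 ≫ g = (e ≫ r).1 ≫ g' := by
      have := congrArg Subtype.val cond
      simpa [a, b, Category.assoc] using this
    refine ⟨E.1, (e ≫ l).1 ≫ g, E.2, ?_, ?_⟩
    · have := (e ≫ l ≫ a).2
      simpa [a, Category.assoc] using this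
    · intro i
      induction i using Fin.cases with
      | zero =>
        rw [cond', op_comp, P.map_comp, ConcreteCategory.comp_apply, ConcreteCategory.comp_apply]
        exact congrArg (P.map (e ≫ r).1.op) hg'
      | succ i =>
        rw [op_comp, P.map_comp, ConcreteCategory.comp_apply, ConcreteCategory.comp_apply]
        exact congrArg (P.map (e ≫ l).1.op) (hg i)

/-- variant of `exists_common` for a finite index type -/
lemma exists_common' {ι : Type*} [Finite ι] (q : ι → ToType (p.presheafFiber.obj P)) :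
    ∃ (X : C) (x : p.fiber.obj X) (z : ι → ToType (P.obj (op X))),
      ∀ i, p.toPresheafFiber X x P (z i) = q i := by
  obtain ⟨n, ⟨e⟩⟩ := Finite.exists_equiv_fin ι
  obtain ⟨X, x, z, hz⟩ := exists_common p P n (fun i => q (e.symm i))
  exact ⟨X, x, fun i => z (e i), fun i => by rw [hz, Equiv.symm_apply_apply]⟩

end general


variable {O : Sheaf J CommRingCat.{u}} (F : ModSite.Mod O)

open ModSite Groth.Agent.Lib.Helper17.EqCrit Groth.Agent.Lib.Helper17.IHom

/-- restriction of sections -/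
def resF {U V : C} (g : V ⟶ U) (s : sect F U) : sect F V := (F.val.map g.op).hom s

/-- restriction of functions -/
def resO {U V : C} (g : V ⟶ U) (r : O.obj.obj (op U)) : O.obj.obj (op V) := (O.obj.map g.op).hom r

lemma resF_comp {U V W : C} (g : V ⟶ U) (h : W ⟶ V) (s : sect F U) :
    resF F (h ≫ g) s = resF F h (resF F g s) := rs_comp (toPMod F) g h s

lemma resF_sum {U V : C} (g : V ⟶ U) {ι : Type*} (t : Finset ι) (m : ι → sect F U) :
    resF F g (∑ i ∈ t, m i) = ∑ i ∈ t, resF F g (m i) := rs_sum (toPMod F) g t m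

lemma resF_smul {U V : C} (g : V ⟶ U) (r : O.obj.obj (op U)) (s : sect F U) :
    resF F g (r • s) = resO g r • resF F g s := rs_smul (toPMod F) g r s

lemma resO_comp {U V W : C} (g : V ⟶ U) (h : W ⟶ V) (r : O.obj.obj (op U)) :
    resO (O := O) (h ≫ g) r = resO h (resO g r) := rmap_comp (R := O.obj) g h r

lemma resO_sum {U V : C} (g : V ⟶ U) {ι : Type*} (t : Finset ι) (m : ι → O.obj.obj (op U)) :
    resO (O := O) g (∑ i ∈ t, m i) = ∑ i ∈ t, resO g (m i) := map_sum (O.obj.map g.op).hom m t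

lemma resO_mul {U V : C} (g : V ⟶ U) (r r' : O.obj.obj (op U)) :
    resO (O := O) g (r * r') = resO g r * resO g r' := map_mul (O.obj.map g.op).hom r r'

lemma resO_zero {U V : C} (g : V ⟶ U) : resO (O := O) g 0 = 0 := map_zero (O.obj.map g.op).hom

lemma germ_resF (p : GrothendieckTopology.Point.{u} J) {X Y : C} (g : Y ⟶ X) (y : p.fiber.obj Y) (s : sect F X) :
    germ p F Y y (resF F g s) = germ p F X (p.fiber.map g y) s := germ_res p F g y s

lemma germRing_resO (p : GrothendieckTopology.Point.{u} J) {X Y : C} (g : Y ⟶ X) (y : p.fiber.obj Y) (r : O.obj.obj (op X)) :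
    germRing p Y y (resO g r) = germRing p X (p.fiber.map g y) r := germRing_res p g y r

/-- the sieve of arrows along which a relation becomes trivial -/
def trivSieve {U : C} {n : ℕ} (f : Fin n → O.obj.obj (op U)) (s : Fin n → sect F U) :
    Sieve U where
  arrows V g := ∃ (l : ℕ) (t : Fin l → sect F V) (a : Fin n → Fin l → O.obj.obj (op V)),
    (∀ j, resF F g (s j) = ∑ k, a j k • t k) ∧ (∀ k, ∑ j, a j k * resO g (f j) = 0)
  downward_closed := by
    rintro V W g ⟨l, t, a, h1, h2⟩ h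
    refine ⟨l, fun k => resF F h (t k), fun j k => resO h (a j k), ?_, ?_⟩
    · intro j
      rw [resF_comp, h1, resF_sum]
      exact Finset.sum_congr rfl (fun k _ => resF_smul F _ _ _)
    · intro k
      have := congrArg (resO (O := O) h) (h2 k)
      rw [resO_zero, resO_sum] at this
      rw [← this]
      refine Finset.sum_congr rfl (fun j _ => ?_)
      rw [resO_mul, resO_comp]

theorem EC_of_trivSieve_mem
    (h : ∀ (U : C) (n : ℕ) (f : Fin n → O.obj.obj (op U)) (s : Fin n → sect F U),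
      ∑ j, f j • s j = 0 → trivSieve F f s ∈ J U) : EC F := by
  intro U n f s hs
  exact ⟨trivSieve F f s, h U n f s hs, fun V g hg => hg⟩

theorem exists_mem_trivSieve (p : GrothendieckTopology.Point.{u} J)
    (hp : Module.Flat (stalkRing p O) (stalkMod p F)) {U : C} {n : ℕ}
    (f : Fin n → O.obj.obj (op U)) (s : Fin n → sect F U)
    (hs : ∑ j, f j • s j = 0) (x : p.fiber.obj U) :
    ∃ (V : C) (g : V ⟶ U) (_ : trivSieve F f s g) (y : p.fiber.obj V), p.fiber.map g y = x := by
  have rel : ∑ j, germRing p U x (f j) • (show stalkMod p F from germ p F U x (s j)) = 0 := by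
    have e : germ p F U x (∑ j, f j • s j) = 0 := by rw [hs]; exact germ_zero p F U x
    rw [germ_sum] at e
    simp only [germ_smul] at e
    exact e
  obtain ⟨k, a, y, h1, h2⟩ := Module.Flat.isTrivialRelation_of_sum_smul_eq_zero rel
  obtain ⟨X₁, x₁, a₀, ha₀⟩ := exists_common' p O.obj (fun jk : Fin n × Fin k => a jk.1 jk.2)
  obtain ⟨X₂, x₂, y₀, hy₀⟩ := exists_common p (toAb F).obj k y
  let e₁ : p.fiber.Elements := Functor.elementsMk p.fiber X₁ x₁
  let e₂ : p.fiber.Elements := Functor.elementsMk p.fiber X₂ x₂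
  let eU : p.fiber.Elements := Functor.elementsMk p.fiber U x
  let W₁ := IsCofiltered.min e₁ e₂
  let W := IsCofiltered.min W₁ eU
  let c₁ : W ⟶ e₁ := IsCofiltered.minToLeft W₁ eU ≫ IsCofiltered.minToLeft e₁ e₂
  let c₂ : W ⟶ e₂ := IsCofiltered.minToLeft W₁ eU ≫ IsCofiltered.minToRight e₁ e₂
  let c₀ : W ⟶ eU := IsCofiltered.minToRight W₁ eU
  let g₀ : W.1 ⟶ U := c₀.1
  let a' : Fin n → Fin k → O.obj.obj (op W.1) := fun j k => resO c₁.1 (a₀ (j, k))
  let y' : Fin k → sect F W.1 := fun k => resF F c₂.1 (y₀ k)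
  have ha' : ∀ j k, germRing p W.1 W.2 (a' j k) = a j k := fun j k => by
    change germRing p W.1 W.2 (resO c₁.1 (a₀ (j, k))) = _
    rw [germRing_resO p, ← ha₀ (j, k)]
    exact congrArg (fun t => germRing p X₁ t (a₀ (j, k))) c₁.2
  have hy' : ∀ k, germ p F W.1 W.2 (y' k) = y k := fun k => by
    change germ p F W.1 W.2 (resF F c₂.1 (y₀ k)) = _
    rw [germ_resF F p, ← hy₀ k]
    exact congrArg (fun t => germ p F X₂ t (y₀ k)) c₂.2
  have hs' : ∀ j, germ p F W.1 W.2 (resF F g₀ (s j)) = germ p F U x (s j) := fun j => by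
    rw [germ_resF F p]
    exact congrArg (fun t => germ p F U t (s j)) c₀.2
  have hf' : ∀ j, germRing p W.1 W.2 (resO g₀ (f j)) = germRing p U x (f j) := fun j => by
    rw [germRing_resO p]
    exact congrArg (fun t => germRing p U t (f j)) c₀.2
  let z₁ : Fin n → sect F W.1 := fun j => resF F g₀ (s j)
  let z₂ : Fin n → sect F W.1 := fun j => ∑ k, a' j k • y' k
  have hz : ∀ j, germ p F W.1 W.2 (z₁ j) = germ p F W.1 W.2 (z₂ j) := fun j => by
    change germ p F W.1 W.2 (resF F g₀ (s j)) = germ p F W.1 W.2 (∑ k, a' j k • y' k)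
    rw [hs', germ_sum]
    simp only [germ_smul, ha', hy']
    exact h1 j
  obtain ⟨Y₁, g₁, y₁, hy₁, hg₁⟩ := exists_common_eq p (toAb F).obj W.1 W.2 n z₁ z₂ hz
  let w₁ : Fin k → O.obj.obj (op Y₁) := fun k => resO g₁ (∑ j, a' j k * resO g₀ (f j))
  have hw : ∀ k', germRing p Y₁ y₁ (w₁ k') = germRing p Y₁ y₁ 0 := fun k' => by
    change germRing p Y₁ y₁ (resO g₁ (∑ j, a' j k' * resO g₀ (f j))) = _
    rw [germRing_resO p, hy₁, germRing_zero, germRing_sum]
    simp only [germRing_mul, ha', hf']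
    rw [← h2 k']
    exact Finset.sum_congr rfl (fun j _ => mul_comm _ _)
  obtain ⟨Y₂, g₂, y₂, hy₂, hg₂⟩ := exists_common_eq p O.obj Y₁ y₁ k w₁ (fun _ => 0) hw
  refine ⟨Y₂, g₂ ≫ g₁ ≫ g₀, ?_, y₂, ?_⟩
  · refine ⟨k, fun k' => resF F g₂ (resF F g₁ (y' k')),
      fun j k' => resO g₂ (resO g₁ (a' j k')), ?_, ?_⟩
    · intro j
      rw [resF_comp, resF_comp]
      have e1 : resF F g₁ (resF F g₀ (s j)) = resF F g₁ (z₂ j) := hg₁ j
      rw [e1]
      change resF F g₂ (resF F g₁ (∑ k, a' j k • y' k)) = _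
      rw [resF_sum, resF_sum]
      simp only [resF_smul]
    · intro k'
      have e2 : resO g₂ (w₁ k') = resO (O := O) g₂ 0 := hg₂ k'
      rw [resO_zero] at e2
      rw [← e2]
      change _ = resO g₂ (resO g₁ (∑ j, a' j k' * resO g₀ (f j)))
      rw [resO_sum, resO_sum]
      refine Finset.sum_congr rfl (fun j _ => ?_)
      rw [resO_mul, resO_mul, resO_comp, resO_comp]
  · rw [Functor.map_comp, Functor.map_comp]
    change p.fiber.map g₀ (p.fiber.map g₁ (p.fiber.map g₂ y₂)) = x
    rw [hy₂, hy₁]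
    exact c₀.2


theorem isFlat_of_flat_stalks (P : ObjectProperty (GrothendieckTopology.Point.{u} J))
    (hP : P.IsConservativeFamilyOfPoints)
    (h : ∀ p : GrothendieckTopology.Point.{u} J, P p →
      Module.Flat (stalkRing p O) (stalkMod p F)) : ModSite.IsFlat F := by
  apply isFlat_of_EC
  apply EC_of_trivSieve_mem
  intro U n f s hs
  let ι : Type u := Σ V : C, {g : V ⟶ U // trivSieve F f s g}
  have h1 : Sieve.ofArrows (fun i : ι => i.1) (fun i => i.2.1) ∈ J U := by
    rw [hP.jointly_reflect_ofArrows_mem]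
    intro Φ x
    obtain ⟨V, g, hg, y, hy⟩ := exists_mem_trivSieve F Φ.obj (h _ Φ.property) f s hs x
    exact ⟨⟨V, g, hg⟩, y, hy⟩
  refine J.superset_covering ?_ h1
  rw [Sieve.ofArrows, Sieve.generate_le_iff]
  rintro V g ⟨i⟩
  exact i.2.2

theorem isFlat_iff_flat_stalks (P : ObjectProperty (GrothendieckTopology.Point.{u} J))
    (hP : P.IsConservativeFamilyOfPoints) :
    ModSite.IsFlat F ↔ ∀ p : GrothendieckTopology.Point.{u} J, P p →
      Module.Flat (stalkRing p O) (stalkMod p F) :=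
  ⟨fun hF p _ => flat_stalkMod p F hF, isFlat_of_flat_stalks F P hP⟩

end Groth.Agent.Lib.Helper17.StalkFlat
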