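import Mathlib
import Groth.Prelude.Def_ModSite2
import Groth.Prelude.Def_FlatMod2
import Groth.Agent.Lib.Helper17.StalkFlat2

set_option autoImplicit false
set_option linter.style.haveILetI false
set_option linter.unusedSectionVars false

open CategoryTheory CategoryTheory.Limits Opposite TopologicalSpace

universe u v w

namespace Groth.Agent.Lib.Helper17.FlatBridge

section General

variable {X : TopCat.{u}} (x : X) {A : Type w} [Category.{u} A] [HasColimits A]

/-- fibre at the site-point `x` → stalk at `x` -/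
noncomputable def fiberToStalk (P : (Opens X)ᵒᵖ ⥤ A) :
    (Opens.pointGrothendieckTopology x).presheafFiber.obj P ⟶ TopCat.Presheaf.stalk P x :=
  (Opens.pointGrothendieckTopology x).presheafFiberDesc
    (fun U hU => TopCat.Presheaf.germ P U x hU.down.down)
    (by
      intro U V f hU
      exact TopCat.Presheaf.germ_res P f x _)

@[reassoc (attr := simp)]
lemma toPresheafFiber_fiberToStalk (P : (Opens X)ᵒᵖ ⥤ A) (U : Opens X)
    (hU : (Opens.pointGrothendieckTopology x).fiber.obj U) :
    (Opens.pointGrothendieckTopology x).toPresheafFiber U hU P ≫ fiberToStalk x P =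
      TopCat.Presheaf.germ P U x hU.down.down :=
  (Opens.pointGrothendieckTopology x).toPresheafFiber_presheafFiberDesc _ _ _ _

/-- stalk at `x` → fibre at the site-point `x` -/
noncomputable def stalkToFiber (P : (Opens X)ᵒᵖ ⥤ A) :
    TopCat.Presheaf.stalk P x ⟶ (Opens.pointGrothendieckTopology x).presheafFiber.obj P :=
  colimit.desc ((OpenNhds.inclusion x).op ⋙ P)
    { pt := _
      ι :=
        { app := fun U => (Opens.pointGrothendieckTopology x).toPresheafFiber U.unop.1
            ⟨⟨U.unop.2⟩⟩ P
          naturality := by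
            intro U V f
            dsimp
            rw [Category.comp_id]
            exact (Opens.pointGrothendieckTopology x).toPresheafFiber_w
              (X := V.unop.1) (Y := U.unop.1) f.unop ⟨⟨V.unop.2⟩⟩ P } }

@[reassoc (attr := simp)]
lemma germ_stalkToFiber (P : (Opens X)ᵒᵖ ⥤ A) (U : Opens X) (hx : x ∈ U) :
    TopCat.Presheaf.germ P U x hx ≫ stalkToFiber x P =
      (Opens.pointGrothendieckTopology x).toPresheafFiber U ⟨⟨hx⟩⟩ P :=
  colimit.ι_desc _ _

/-- the comparison isomorphism -/
noncomputable def fiberIsoStalk (P : (Opens X)ᵒᵖ ⥤ A) :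
    (Opens.pointGrothendieckTopology x).presheafFiber.obj P ≅ TopCat.Presheaf.stalk P x where
  hom := fiberToStalk x P
  inv := stalkToFiber x P
  hom_inv_id := by
    apply (Opens.pointGrothendieckTopology x).presheafFiber_hom_ext
    intro U hU
    rw [toPresheafFiber_fiberToStalk_assoc, germ_stalkToFiber, Category.comp_id]
    rfl
  inv_hom_id := by
    apply TopCat.Presheaf.stalk_hom_ext
    intro U hx
    rw [germ_stalkToFiber_assoc, toPresheafFiber_fiberToStalk, Category.comp_id]

end General

section Transfer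

/-- flatness transfers along a ring isomorphism and a compatible additive isomorphism -/
theorem flat_of_semilinearEquiv {R S : Type*} [CommRing R] [CommRing S] {M N : Type*}
    [AddCommGroup M] [AddCommGroup N] [Module R M] [Module S N] (e : R ≃+* S) (φ : M ≃+ N)
    (h : ∀ (r : R) (m : M), φ (r • m) = e r • φ m) (hM : Module.Flat R M) : Module.Flat S N := by
  have hsymm : ∀ (s : S) (n : N), φ.symm (s • n) = e.symm s • φ.symm n := by
    intro s n
    apply φ.injective
    rw [h, AddEquiv.apply_symm_apply, AddEquiv.apply_symm_apply, RingEquiv.apply_symm_apply]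
  rw [Module.Flat.iff_forall_isTrivialRelation] at hM ⊢
  intro l g y hgy
  have h0 : ∑ i, (e.symm (g i)) • φ.symm (y i) = 0 := by
    have := congrArg φ.symm hgy
    rw [map_sum, map_zero] at this
    rw [← this]
    exact Finset.sum_congr rfl (fun i _ => (hsymm _ _).symm)
  obtain ⟨k, a, z, hz, ha⟩ := hM h0
  refine ⟨k, fun i j => e (a i j), fun j => φ (z j), fun i => ?_, fun j => ?_⟩
  · have := congrArg φ (hz i)
    rw [AddEquiv.apply_symm_apply, map_sum] at this
    rw [this]
    exact Finset.sum_congr rfl (fun j _ => h _ _)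
  · have := congrArg e (ha j)
    rw [map_sum, map_zero] at this
    rw [← this]
    refine Finset.sum_congr rfl (fun i _ => ?_)
    rw [map_mul, RingEquiv.apply_symm_apply]

end Transfer

section Scheme

open AlgebraicGeometry

variable {X : Scheme.{u}} (M : X.Modules) (x : X)

/-- the site-point attached to `x : X` -/
abbrev pt : GrothendieckTopology.Point.{u} (Opens.grothendieckTopology X) :=
  Opens.pointGrothendieckTopology x

/-- `O_p ≅ O_{X,x}` -/
noncomputable def ringIso : ModSite.stalkRing (pt x) X.sheaf ≅ X.presheaf.stalk x :=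
  fiberIsoStalk x X.presheaf

/-- `M_p ≅ M_x` as abelian groups -/
noncomputable def abIso :
    ModSite.stalkAb (pt x) (O := X.sheaf) M ≅ TopCat.Presheaf.stalk M.presheaf x :=
  fiberIsoStalk x M.presheaf

lemma ringIso_germ (U : X.Opens) (hU : x ∈ U) (r : X.presheaf.obj (op U)) :
    (ringIso x).hom (ModSite.germRing (O := X.sheaf) (pt x) U ⟨⟨hU⟩⟩ r) =
      X.presheaf.germ U x hU r := by
  have := toPresheafFiber_fiberToStalk x X.presheaf U ⟨⟨hU⟩⟩
  exact congrArg (fun f => f.hom r) this

lemma abIso_germ (U : X.Opens) (hU : x ∈ U) (m : M.presheaf.obj (op U)) :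
    (abIso M x).hom (ModSite.germ (O := X.sheaf) (pt x) M U ⟨⟨hU⟩⟩ m) =
      M.presheaf.germ U x hU m := by
  have := toPresheafFiber_fiberToStalk x M.presheaf U ⟨⟨hU⟩⟩
  exact congrArg (fun f => f.hom m) this

lemma top_germ_smul (U : X.Opens) (hx : x ∈ U) (r : X.presheaf.obj (op U))
    (m : M.presheaf.obj (op U)) :
    M.presheaf.germ U x hx (r • (show M.val.obj (op U) from m)) =
      X.presheaf.germ U x hx r • M.presheaf.germ U x hx m :=
  PresheafOfModules.germ_smul (R := X.presheaf) M.val x U hx r m

lemma abIso_smul (r : ModSite.stalkRing (pt x) X.sheaf)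
    (m : ModSite.stalkAb (pt x) (O := X.sheaf) M) :
    (abIso M x).hom (r • m) = (ringIso x).hom r • (abIso M x).hom m := by
  obtain ⟨U, hU, r0, rfl⟩ := (pt x).toPresheafFiber_jointly_surjective (P := X.sheaf.obj) r
  obtain ⟨V, hV, m0, rfl⟩ := (pt x).toPresheafFiber_jointly_surjective
    (P := (ModSite.toAb (O := X.sheaf) M).obj) m
  have hW : x ∈ U ⊓ V := ⟨hU.down.down, hV.down.down⟩
  have e1 : (pt x).toPresheafFiber U hU X.sheaf.obj r0 =
      ModSite.germRing (O := X.sheaf) (pt x) (U ⊓ V) ⟨⟨hW⟩⟩
        ((X.presheaf.map (homOfLE inf_le_left : U ⊓ V ⟶ U).op).hom r0) :=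
    ((pt x).toPresheafFiber_w_apply (homOfLE inf_le_left : U ⊓ V ⟶ U) ⟨⟨hW⟩⟩ X.sheaf.obj r0).symm
  have e2 : (pt x).toPresheafFiber V hV (ModSite.toAb (O := X.sheaf) M).obj m0 =
      ModSite.germ (O := X.sheaf) (pt x) M (U ⊓ V) ⟨⟨hW⟩⟩
        ((M.presheaf.map (homOfLE inf_le_right : U ⊓ V ⟶ V).op).hom m0) :=
    ((pt x).toPresheafFiber_w_apply (homOfLE inf_le_right : U ⊓ V ⟶ V) ⟨⟨hW⟩⟩
      (ModSite.toAb (O := X.sheaf) M).obj m0).symm
  rw [e1, e2, ← ModSite.germ_smul, ringIso_germ, abIso_germ, abIso_germ]
  exact top_germ_smul M x (U ⊓ V) hW _ _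

/-- flatness of the stalk at the site-point `x` iff flatness of the topological stalk -/
theorem flat_stalk_iff :
    Module.Flat (ModSite.stalkRing (pt x) X.sheaf) (ModSite.stalkMod (pt x) (O := X.sheaf) M) ↔
      Module.Flat (X.presheaf.stalk x) (M.presheaf.stalk x) := by
  let e : ModSite.stalkRing (pt x) X.sheaf ≃+* X.presheaf.stalk x :=
    (ringIso x).commRingCatIsoToRingEquiv
  let φ : ModSite.stalkAb (pt x) (O := X.sheaf) M ≃+ M.presheaf.stalk x :=
    (abIso M x).addCommGroupIsoToAddEquiv
  have h : ∀ r m, φ (r • m) = e r • φ m := fun r m => abIso_smul M x r m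
  constructor
  · intro hF
    exact flat_of_semilinearEquiv e φ h hF
  · intro hF
    refine flat_of_semilinearEquiv e.symm φ.symm (fun r m => ?_) hF
    apply φ.injective
    rw [h, AddEquiv.apply_symm_apply, AddEquiv.apply_symm_apply, RingEquiv.apply_symm_apply]

/-- **Bridge**: stalkwise flatness of an `O_X`-module is flatness in the sense of the site. -/
theorem isFlat_iff : FlatMod.IsFlat M ↔ ModSite.IsFlat (O := X.sheaf) M := by
  rw [Groth.Agent.Lib.Helper17.StalkFlat.isFlat_iff_flat_stalks (O := X.sheaf) M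
    (Opens.pointsGrothendieckTopology X)
    (Opens.isConservativeFamilyOfPoints_pointsGrothendieckTopology X)]
  constructor
  · intro h p hp
    obtain ⟨y⟩ := hp
    exact (flat_stalk_iff M y).mpr (h y)
  · intro h y
    exact (flat_stalk_iff M y).mp (h _ ⟨y⟩)

end Scheme

end Groth.Agent.Lib.Helper17.FlatBridge
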