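import Mathlib
import Groth.Prelude.Def_ModSite

open CategoryTheory CategoryTheory.Limits Opposite

universe u

noncomputable section

namespace Groth.Agent.Lib.Helper17.FreeOn

section types

variable {C : Type u} [SmallCategory C] {J : GrothendieckTopology C}

/-- A set of objects is topologically generating. -/
def TopGen (J : GrothendieckTopology C) (G : Set C) : Prop :=
  ∀ X : C, ∃ (ι : Type u) (Y : ι → C) (f : ∀ i, Y i ⟶ X), Sieve.ofArrows Y f ∈ J X ∧ ∀ i, Y i ∈ G

variable {P P' : Cᵒᵖ ⥤ Type u}

theorem injective_of_topGen (hP : Presieve.IsSeparated J P) (ψ : P ⟶ P') {G : Set C}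
    (hG : TopGen J G) (h : ∀ X ∈ G, Function.Injective (ψ.app (op X))) (X : C) :
    Function.Injective (ψ.app (op X)) := by
  intro s s' hs
  obtain ⟨ι, Y, f, hcov, hY⟩ := hG X
  apply (hP _ hcov).ext
  intro W g hg
  obtain ⟨i, k, rfl⟩ := (Sieve.mem_ofArrows_iff _ _ _).mp hg
  rw [op_comp, Functor.map_comp_apply, Functor.map_comp_apply]
  congr 1
  apply h _ (hY i)
  rw [NatTrans.naturality_apply, NatTrans.naturality_apply, hs]

theorem surjective_of_topGen (hP : Presieve.IsSheaf J P) (hP' : Presieve.IsSeparated J P')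
    (ψ : P ⟶ P') {G : Set C}
    (hG : TopGen J G) (h : ∀ X ∈ G, Function.Bijective (ψ.app (op X))) (X : C) :
    Function.Surjective (ψ.app (op X)) := by
  have hinj := injective_of_topGen hP.isSeparated ψ hG (fun X hX => (h X hX).1)
  intro t
  obtain ⟨ι, Y, f, hcov, hY⟩ := hG X
  -- local preimages
  have hloc : ∀ (W : C) (g : W ⟶ X), Sieve.ofArrows Y f g →
      ∃ x : P.obj (op W), ψ.app (op W) x = P'.map g.op t := by
    intro W g hg
    obtain ⟨i, k, rfl⟩ := (Sieve.mem_ofArrows_iff _ _ _).mp hg
    obtain ⟨s, hs⟩ := (h _ (hY i)).2 (P'.map (f i).op t)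
    refine ⟨P.map k.op s, ?_⟩
    rw [NatTrans.naturality_apply, hs, op_comp, Functor.map_comp_apply]
  choose x hx using hloc
  let fam : Presieve.FamilyOfElements P (Sieve.ofArrows Y f).arrows := fun W g hg => x W g hg
  have hcompat : fam.Compatible := by
    rw [Presieve.compatible_iff_sieveCompatible]
    intro W W' g k hg
    apply hinj W'
    show ψ.app (op W') (x W' (k ≫ g) _) = ψ.app (op W') (P.map k.op (x W g hg))
    rw [hx, NatTrans.naturality_apply, hx, op_comp, Functor.map_comp_apply]
  have hs := (hP _ hcov).isAmalgamation hcompat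
  set s := (hP _ hcov).amalgamate fam hcompat with hs_def
  refine ⟨s, ?_⟩
  apply (hP' _ hcov).ext
  intro W g hg
  rw [← NatTrans.naturality_apply, hs g hg]
  exact hx W g hg

theorem bijective_of_topGen (hP : Presieve.IsSheaf J P) (hP' : Presieve.IsSheaf J P')
    (ψ : P ⟶ P') {G : Set C}
    (hG : TopGen J G) (h : ∀ X ∈ G, Function.Bijective (ψ.app (op X))) (X : C) :
    Function.Bijective (ψ.app (op X)) :=
  ⟨injective_of_topGen hP.isSeparated ψ hG (fun X hX => (h X hX).1) X,
    surjective_of_topGen hP hP'.isSeparated ψ hG h X⟩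

end types



section mods

variable {C : Type u} [SmallCategory C] {J : GrothendieckTopology C} {O : Sheaf J CommRingCat.{u}}

/-- sections of a presheaf of modules on a category with a terminal object -/
def sectionsEquivOfIsTerminal {D : Type u} [SmallCategory D] {R : Dᵒᵖ ⥤ RingCat.{u}}
    (M : PresheafOfModules.{u} R) {T : D} (hT : IsTerminal T) : M.sections ≃ M.obj (op T) where
  toFun s := s.1 (op T)
  invFun x := PresheafOfModules.sectionsMk (fun Y => M.map (hT.from Y.unop).op x) (by
    intro Y Y' f
    rw [← PresheafOfModules.map_comp_apply]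
    exact PresheafOfModules.congr_map_apply M
      (show (hT.from Y.unop).op ≫ f = (hT.from Y'.unop).op from
        congrArg Quiver.Hom.op (hT.hom_ext _ _)) x)
  left_inv s := by
    apply PresheafOfModules.sections_ext
    intro Y
    exact PresheafOfModules.sections_property s (hT.from Y.unop).op
  right_inv x := by
    show M.map (hT.from T).op x = x
    have : hT.from T = 𝟙 T := hT.hom_ext _ _
    rw [this, op_id, M.map_id]
    rfl

/-- morphisms out of the free module on `X` are sections over `X` -/
def freeOnHomEquiv (F : ModSite.Mod O) (X : C) : (ModSite.freeOn O X ⟶ F) ≃ F.val.obj (op X) :=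
  ((ModSite.extZeroAdj O X).homEquiv _ F).trans
    ((SheafOfModules.unitHomEquiv _).trans
      (sectionsEquivOfIsTerminal ((ModSite.restr O X).obj F).val (Over.mkIdTerminal (X := X))))

lemma freeOnHomEquiv_comp {F F' : ModSite.Mod O} (X : C) (h : ModSite.freeOn O X ⟶ F)
    (φ : F ⟶ F') :
    freeOnHomEquiv F' X (h ≫ φ) = (φ.val.app (op X)).hom (freeOnHomEquiv F X h) := by
  have h1 : (ModSite.extZeroAdj O X).homEquiv _ F' (h ≫ φ) =
      (ModSite.extZeroAdj O X).homEquiv _ F h ≫ (ModSite.restr O X).map φ :=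
    Adjunction.homEquiv_naturality_right _ _ _
  show sectionsEquivOfIsTerminal ((ModSite.restr O X).obj F').val (Over.mkIdTerminal (X := X))
    (SheafOfModules.unitHomEquiv _ ((ModSite.extZeroAdj O X).homEquiv _ F' (h ≫ φ))) = _
  rw [h1]
  rfl

lemma isIso_of_bijective {F F' : ModSite.Mod O} (φ : F ⟶ F')
    (h : ∀ X : C, Function.Bijective (φ.val.app (op X)).hom) : IsIso φ := by
  have h1 : ∀ X : Cᵒᵖ, IsIso (φ.val.app X) := fun X => by
    rw [ConcreteCategory.isIso_iff_bijective]; exact h X.unop
  have h2 : IsIso φ.val := by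
    let e : F.val ≅ F'.val := PresheafOfModules.isoMk (fun X => asIso (φ.val.app X))
      (fun X Y f => by simp)
    have he : e.hom = φ.val := by ext X x; rfl
    rw [← he]; infer_instance
  have h3 : IsIso ((SheafOfModules.forget _).map φ) := h2
  exact isIso_of_reflects_iso φ (SheafOfModules.forget _)

lemma isSheaf_types (F : ModSite.Mod O) :
    Presieve.IsSheaf J (F.val.presheaf ⋙ forget Ab) :=
  (isSheaf_iff_isSheaf_of_type _ _).1 ((Presheaf.isSheaf_iff_isSheaf_forget _ _ (forget Ab)).1 F.isSheaf)

theorem freeOn_isDetecting (O : Sheaf J CommRingCat.{u}) (G : Set C) (hG : TopGen J G) :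
    (ObjectProperty.ofObj fun X : G => ModSite.freeOn O (X : C)).IsDetecting := by
  intro F F' φ hφ
  apply isIso_of_bijective
  let ψ : (F.val.presheaf ⋙ forget Ab) ⟶ (F'.val.presheaf ⋙ forget Ab) :=
    Functor.whiskerRight ((PresheafOfModules.toPresheaf _).map φ.val) (forget Ab)
  have hb : ∀ X ∈ G, Function.Bijective (ψ.app (op X)) := by
    intro X hX
    have hφX := hφ (ModSite.freeOn O X) (ObjectProperty.ofObj_apply _ (⟨X, hX⟩ : G))
    show Function.Bijective (φ.val.app (op X)).hom
    constructor
    · intro s s' hs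
      have e1 := freeOnHomEquiv_comp X ((freeOnHomEquiv F X).symm s) φ
      have e2 := freeOnHomEquiv_comp X ((freeOnHomEquiv F X).symm s') φ
      rw [Equiv.apply_symm_apply] at e1 e2
      have e3 : (freeOnHomEquiv F X).symm s ≫ φ = (freeOnHomEquiv F X).symm s' ≫ φ := by
        apply (freeOnHomEquiv F' X).injective
        rw [e1, e2, hs]
      obtain ⟨h', -, hu⟩ := hφX ((freeOnHomEquiv F X).symm s ≫ φ)
      have := (hu _ rfl).trans (hu _ e3.symm).symm
      exact (freeOnHomEquiv F X).symm.injective this
    · intro t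
      obtain ⟨h', hh', -⟩ := hφX ((freeOnHomEquiv F' X).symm t)
      refine ⟨freeOnHomEquiv F X h', ?_⟩
      rw [← freeOnHomEquiv_comp, hh', Equiv.apply_symm_apply]
  exact bijective_of_topGen (isSheaf_types F) (isSheaf_types F') ψ hG hb

theorem freeOn_isSeparating (O : Sheaf J CommRingCat.{u}) (G : Set C) (hG : TopGen J G) :
    (ObjectProperty.ofObj fun X : G => ModSite.freeOn O (X : C)).IsSeparating :=
  (freeOn_isDetecting O G hG).isSeparating

end mods

end Groth.Agent.Lib.Helper17.FreeOn
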