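import Mathlib
import Groth.Prelude.Def_ModSite
import Groth.Agent.Lib.Helper17.ProjFormula
import Groth.Agent.Lib.Helper17.ModSiteExact
import Groth.Agent.Lib.Helper17.FreeOn

open CategoryTheory CategoryTheory.Limits Opposite

universe u

noncomputable section

namespace Groth.Agent.Lib.Helper17.FlatColim

open Groth.Agent.Lib.Helper17.Tensor Groth.Agent.Lib.Helper17.ProjFormula

variable {C : Type u} [SmallCategory C] {J : GrothendieckTopology C} {O : Sheaf J CommRingCat.{u}}

/-- a colimit of flat modules along a shape with exact colimits is flat -/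
theorem isFlat_of_isColimit {K : Type u} [SmallCategory K]
    [HasExactColimitsOfShape K (ModSite.Mod O)] (D : K ⥤ ModSite.Mod O)
    (hD : ∀ k, ModSite.IsFlat (D.obj k)) (c : Cocone D) (hc : IsColimit c) :
    ModSite.IsFlat c.pt := by
  apply isFlat_of_preservesMonomorphisms
  constructor
  intro X Y f hf
  have hX : IsColimit (((ModSite.tensorBi O).obj X).mapCocone c) := isColimitOfPreserves _ hc
  have hY : IsColimit (((ModSite.tensorBi O).obj Y).mapCocone c) := isColimitOfPreserves _ hc
  let φ : D ⋙ (ModSite.tensorBi O).obj X ⟶ D ⋙ (ModSite.tensorBi O).obj Y :=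
    Functor.whiskerLeft D ((ModSite.tensorBi O).map f)
  have h1 : ∀ k, Mono (φ.app k) := fun k => by
    have := preservesMonomorphisms_of_isFlat (D.obj k) (hD k)
    exact inferInstanceAs (Mono (((ModSite.tensorBi O).flip.obj (D.obj k)).map f))
  have h2 : Mono φ := NatTrans.mono_of_mono_app φ
  exact colim.map_mono' φ hX hY _ (fun k => ((ModSite.tensorBi O).map f).naturality (c.ι.app k))

theorem isFlat_of_isColimit_cofan {ι : Type u} (F : ι → ModSite.Mod O)
    (hF : ∀ i, ModSite.IsFlat (F i)) (c : Cofan F) (hc : IsColimit c) : ModSite.IsFlat c.pt := by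
  have := ModSiteExact.hasExactColimitsOfShape_discrete (ModSite.ringSh O) ι
  exact isFlat_of_isColimit (Discrete.functor F) (fun k => hF k.as) c hc

theorem isFlat_sigmaObj {ι : Type u} (F : ι → ModSite.Mod O)
    (hF : ∀ i, ModSite.IsFlat (F i)) : ModSite.IsFlat (∐ F) :=
  isFlat_of_isColimit_cofan F hF _ (coproductIsCoproduct F)

theorem isFlat_of_isColimit_filtered {I : Type u} [SmallCategory I] [IsFiltered I]
    (D : I ⥤ ModSite.Mod O) (hD : ∀ i, ModSite.IsFlat (D.obj i)) (c : Cocone D)
    (hc : IsColimit c) : ModSite.IsFlat c.pt := by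
  have := ModSiteExact.hasExactColimitsOfShape_filtered (ModSite.ringSh O) I
  exact isFlat_of_isColimit D hD c hc

theorem exists_epi_of_isFlat (F : ModSite.Mod O) :
    ∃ (G : ModSite.Mod O) (π : G ⟶ F), ModSite.IsFlat G ∧ Epi π := by
  let ι : Type u := Σ X : C, (ModSite.freeOn O X ⟶ F)
  let fam : ι → ModSite.Mod O := fun i => ModSite.freeOn O i.1
  refine ⟨∐ fam, Sigma.desc (fun i => i.2), isFlat_sigmaObj fam (fun i => isFlat_freeOn i.1), ?_⟩
  constructor
  intro H a b hab
  have hsep := FreeOn.freeOn_isSeparating O (Set.univ : Set C) (by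
    intro X
    refine ⟨PUnit, fun _ => X, fun _ => 𝟙 X, ?_, fun _ => trivial⟩
    convert J.top_mem X
    ext V g
    simp only [Sieve.top_apply, iff_true]
    exact ⟨X, g, 𝟙 X, Presieve.ofArrows.mk PUnit.unit, by simp⟩)
  apply hsep
  intro T hT h
  obtain ⟨⟨X, _⟩⟩ := hT
  have := (Sigma.ι fam ⟨X, h⟩) ≫= hab
  simpa using this

end Groth.Agent.Lib.Helper17.FlatColim
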