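import Mathlib
import Groth.Prelude.Def_ModSite
import Groth.Agent.Lib.Helper17.FlatColim
import Groth.Agent.Lib.Helper17.FlatCalc

open CategoryTheory CategoryTheory.Limits Opposite

universe u

noncomputable section

namespace Groth.Agent.Lib.Helper17.FlatSES

open Groth.Agent.Lib.Helper17.Tensor Groth.Agent.Lib.Helper17.ProjFormula
  Groth.Agent.Lib.Helper17.FlatCalc

variable {C : Type u} [SmallCategory C] {J : GrothendieckTopology C} {O : Sheaf J CommRingCat.{u}}

instance : RightExactBi (ModSite.tensorBi O) where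
  obj_add := fun _ => inferInstance
  obj_colim := fun _ => inferInstance
  flip_add := fun _ => inferInstance
  flip_colim := fun _ => inferInstance

theorem enoughFlat : EnoughFlat (ModSite.tensorBi O) := by
  intro G
  obtain ⟨P, π, hP, hπ⟩ := FlatColim.exists_epi_of_isFlat G
  exact ⟨P, π, preservesMonomorphisms_of_isFlat P hP, hπ⟩

theorem isFlat_iff_obj_preservesMono (F : ModSite.Mod O) :
    ModSite.IsFlat F ↔ ((ModSite.tensorBi O).obj F).PreservesMonomorphisms := by
  constructor
  · intro h
    rw [isFlat_iff'] at h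
    infer_instance
  · intro h
    rw [isFlat_iff']
    have : ((ModSite.tensorBi O).obj F).PreservesHomology :=
      Functor.preservesHomology_of_preservesMonos_and_cokernels _
    exact Functor.preservesFiniteLimits_of_preservesHomology _

theorem tensor_shortExact_of_isFlat (S : ShortComplex (ModSite.Mod O)) (hS : S.ShortExact)
    (hF : ModSite.IsFlat S.X₃) (G : ModSite.Mod O)
    [((ModSite.tensorBi O).flip.obj G).PreservesZeroMorphisms] :
    (S.map ((ModSite.tensorBi O).flip.obj G)).ShortExact :=
  shortExact_map_flip' enoughFlat S hS ((isFlat_iff_obj_preservesMono _).1 hF) G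

theorem isFlat_mid (S : ShortComplex (ModSite.Mod O)) (hS : S.ShortExact)
    (h₂ : ModSite.IsFlat S.X₁) (h₀ : ModSite.IsFlat S.X₃) : ModSite.IsFlat S.X₂ :=
  (isFlat_iff_obj_preservesMono _).2 (preservesMono_mid enoughFlat S hS
    ((isFlat_iff_obj_preservesMono _).1 h₂) ((isFlat_iff_obj_preservesMono _).1 h₀))

theorem isFlat_left (S : ShortComplex (ModSite.Mod O)) (hS : S.ShortExact)
    (h₁ : ModSite.IsFlat S.X₂) (h₀ : ModSite.IsFlat S.X₃) : ModSite.IsFlat S.X₁ :=
  (isFlat_iff_obj_preservesMono _).2 (preservesMono_left enoughFlat S hS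
    ((isFlat_iff_obj_preservesMono _).1 h₁) ((isFlat_iff_obj_preservesMono _).1 h₀))

end Groth.Agent.Lib.Helper17.FlatSES
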