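import Mathlib

/-!
# Sequential colimits of complexes and quasi-isomorphisms

In an abelian category with exact `ℕ`-indexed colimits: if the legs of a cocone over a sequence of
complexes are eventually quasi-isomorphisms in degree `i`, then the induced map out of the colimit
is a quasi-isomorphism in degree `i`.
-/

set_option autoImplicit false
set_option linter.style.haveILetI false
set_option linter.unusedSectionVars false

open CategoryTheory CategoryTheory.Limits HomologicalComplex

namespace Groth.Agent.Lib.Helper17.ColimQuasiIso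

universe u v w

variable {C : Type u} [Category.{v} C] [Abelian C] [HasColimitsOfShape ℕ C]
  [HasExactColimitsOfShape ℕ C] {ι : Type w} {c : ComplexShape ι}
  (K : ℕ ⥤ HomologicalComplex C c)

/-- the differential as a natural transformation of `ℕ`-diagrams -/
noncomputable def dNat (i j : ι) : K ⋙ eval C c i ⟶ K ⋙ eval C c j where
  app n := (K.obj n).d i j
  naturality m n f := by
    dsimp
    exact ((K.map f).comm i j)

/-- the short complex of `ℕ`-diagrams in degree `i` -/
noncomputable def shat (i : ι) : ShortComplex (ℕ ⥤ C) :=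
  ShortComplex.mk (dNat K (c.prev i) i) (dNat K i (c.next i)) (by
    ext n
    exact (K.obj n).d_comp_d _ _ _)

/-- the inclusion of the `n`-th term into the colimit, as a natural transformation -/
noncomputable def τ (n : ℕ) : (evaluation ℕ C).obj n ⟶ (colim : (ℕ ⥤ C) ⥤ C) where
  app F := colimit.ι F n
  naturality F G α := by
    dsimp
    rw [ι_colimMap]

/-- the homology diagram -/
noncomputable def D (i : ι) : ℕ ⥤ C := (shat K i).homology

lemma θ_comm (i j : ι) :
    (preservesColimitIso (eval C c i) K).hom ≫ colimMap (dNat K i j) =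
      (colimit K).d i j ≫ (preservesColimitIso (eval C c j) K).hom := by
  rw [← Iso.eq_inv_comp]
  apply colimit.hom_ext
  intro n
  rw [ι_colimMap, ι_preservesColimitIso_inv_assoc]
  change (K.obj n).d i j ≫ _ = (colimit.ι K n).f i ≫ _
  rw [(colimit.ι K n).comm_assoc]
  congr 1
  exact (ι_preservesColimitIso_hom (eval C c j) K n).symm

/-- the comparison of short complexes -/
noncomputable def θ (i : ι) :
    (colimit K).sc i ≅ (shat K i).map (colim : (ℕ ⥤ C) ⥤ C) :=
  ShortComplex.isoMk (preservesColimitIso (eval C c (c.prev i)) K)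
    (preservesColimitIso (eval C c i) K) (preservesColimitIso (eval C c (c.next i)) K)
    (θ_comm K (c.prev i) i) (θ_comm K i (c.next i))

lemma map_ι_θ (i : ι) (n : ℕ) :
    (shortComplexFunctor C c i).map (colimit.ι K n) ≫ (θ K i).hom =
      (shat K i).mapNatTrans (τ n) := by
  ext
  · exact ι_preservesColimitIso_hom (eval C c (c.prev i)) K n
  · exact ι_preservesColimitIso_hom (eval C c i) K n
  · exact ι_preservesColimitIso_hom (eval C c (c.next i)) K n

lemma map_map_eq (i : ι) {m n : ℕ} (f : m ⟶ n) :
    (shortComplexFunctor C c i).map (K.map f) =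
      (shat K i).mapNatTrans ((evaluation ℕ C).map f) := by
  ext <;> rfl

lemma homologyMap_K_map (i : ι) {m n : ℕ} (f : m ⟶ n) :
    homologyMap (K.map f) i =
      ((shat K i).mapHomologyIso ((evaluation ℕ C).obj m)).hom ≫ (D K i).map f ≫
        ((shat K i).mapHomologyIso ((evaluation ℕ C).obj n)).inv := by
  have := (shat K i).homologyMap_mapNatTrans ((evaluation ℕ C).map f)
  rw [← map_map_eq] at this
  exact this

lemma homologyMap_ι_θ (i : ι) (n : ℕ) :
    homologyMap (colimit.ι K n) i ≫ ShortComplex.homologyMap (θ K i).hom =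
      ((shat K i).mapHomologyIso ((evaluation ℕ C).obj n)).hom ≫ colimit.ι (D K i) n ≫
        ((shat K i).mapHomologyIso (colim : (ℕ ⥤ C) ⥤ C)).inv := by
  have := (shat K i).homologyMap_mapNatTrans (τ n)
  rw [← map_ι_θ] at this
  exact (ShortComplex.homologyMap_comp _ _).symm.trans this

/-- if the transition maps are eventually isomorphisms on `H^i`, so is the map to the colimit -/
theorem isIso_homologyMap_ι (i : ι) (N : ℕ)
    (h : ∀ (n : ℕ) (f : N ⟶ n), IsIso (homologyMap (K.map f) i)) :
    IsIso (homologyMap (colimit.ι K N) i) := by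
  have hD : (D K i).IsEventuallyConstantFrom N := by
    intro n f
    have h1 := homologyMap_K_map K i f
    let H' : ((shat K i).map ((evaluation ℕ C).obj N)).homology ⟶
        ((shat K i).map ((evaluation ℕ C).obj n)).homology := homologyMap (K.map f) i
    haveI : IsIso H' := h n f
    have h2 : (D K i).map f =
        (((shat K i).mapHomologyIso ((evaluation ℕ C).obj N)).symm ≪≫ asIso H' ≪≫
          ((shat K i).mapHomologyIso ((evaluation ℕ C).obj n))).hom :=
      (Iso.comp_inv_eq _).mp ((Iso.inv_comp_eq _).mpr h1).symm |>.trans (Category.assoc _ _ _)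
    rw [h2]
    exact Iso.isIso_hom _
  haveI h3 : IsIso (colimit.ι (D K i) N) := hD.isIso_ι_of_isColimit (colimit.isColimit (D K i))
  have h4 := homologyMap_ι_θ K i N
  haveI h6 : IsIso (ShortComplex.homologyMap (θ K i).hom) :=
    ShortComplex.isIso_homologyMap_of_iso _
  have h5 : IsIso (homologyMap (colimit.ι K N) i ≫ ShortComplex.homologyMap (θ K i).hom) := by
    rw [h4]
    exact Iso.isIso_hom (((shat K i).mapHomologyIso ((evaluation ℕ C).obj N)) ≪≫
      @asIso _ _ _ _ (colimit.ι (D K i) N) h3 ≪≫
        ((shat K i).mapHomologyIso (colim : (ℕ ⥤ C) ⥤ C)).symm)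
  exact @IsIso.of_isIso_comp_right _ _ _ _ _ _ _ h6 h5

/-- **Colimit of eventually-quasi-isomorphisms.** -/
theorem quasiIsoAt_desc (a : Cocone K) (i : ι) (N : ℕ)
    (h : ∀ n, N ≤ n → QuasiIsoAt (a.ι.app n) i) : QuasiIsoAt (colimit.desc K a) i := by
  rw [quasiIsoAt_iff_isIso_homologyMap]
  have h1 : ∀ (n : ℕ) (f : N ⟶ n), IsIso (homologyMap (K.map f) i) := by
    intro n f
    have e : K.map f ≫ a.ι.app n = a.ι.app N := a.w f
    have e' := congrArg (fun φ => homologyMap φ i) e
    simp only [homologyMap_comp] at e'
    have hn := (quasiIsoAt_iff_isIso_homologyMap _ _).mp (h n (leOfHom f))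
    have hN := (quasiIsoAt_iff_isIso_homologyMap _ _).mp (h N le_rfl)
    rw [← e'] at hN
    exact IsIso.of_isIso_comp_right _ (homologyMap (a.ι.app n) i)
  have h2 := isIso_homologyMap_ι K i N h1
  have e : colimit.ι K N ≫ colimit.desc K a = a.ι.app N := colimit.ι_desc _ _
  have e' := congrArg (fun φ => homologyMap φ i) e
  simp only [homologyMap_comp] at e'
  have hN := (quasiIsoAt_iff_isIso_homologyMap _ _).mp (h N le_rfl)
  rw [← e'] at hN
  exact IsIso.of_isIso_comp_left (homologyMap (colimit.ι K N) i) _

end Groth.Agent.Lib.Helper17.ColimQuasiIso
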