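import Mathlib

/-!
# Relative left resolutions by a class of objects (chain-complex form)

`A` abelian, `P` a class of objects such that every object is a quotient of an object of `P`.
Given a morphism `φ₀ : Q₀ ⟶ L` of `ℕ`-indexed chain complexes, we build a factorization
`Q₀ ⟶ Q₁ ⟶ L` with `Q₁.X n = Q₀.X n ⊞ R n`, `P (R n)`, the first map the coprojection and the second
a termwise epimorphic quasi-isomorphism (Stacks 13.15.4 / 13.29.1, relative form).
-/

set_option autoImplicit false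
set_option linter.style.haveILetI false
set_option linter.unusedSectionVars false

open CategoryTheory CategoryTheory.Limits

namespace Groth.Agent.Lib.Helper17.PRes

universe u v

variable {A : Type u} [Category.{v} A] [Abelian A]

/-- chosen covers by objects of `P` -/
structure Cover (P : A → Prop) where
  obj : A → A
  π : ∀ X, obj X ⟶ X
  epi : ∀ X, Epi (π X)
  mem : ∀ X, P (obj X)

/-- covers from existence -/
noncomputable def Cover.ofExists {P : A → Prop}
    (hP : ∀ X : A, ∃ (Y : A) (π : Y ⟶ X), P Y ∧ Epi π) : Cover P where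
  obj X := (hP X).choose
  π X := (hP X).choose_spec.choose
  epi X := (hP X).choose_spec.choose_spec.2
  mem X := (hP X).choose_spec.choose_spec.1

section Core

variable {P : A → Prop} (cv : Cover P) {L Q₀ : ChainComplex A ℕ} (φ₀ : Q₀ ⟶ L)

/-- the state of the construction in degree `n` -/
structure St (L Q₀ : ChainComplex A ℕ) (n : ℕ) where
  R : A
  toL : Q₀.X n ⊞ R ⟶ L.X n
  Z : A
  iZ : Z ⟶ Q₀.X n ⊞ R

variable {n : ℕ}

/-- the fibre product used to choose the next term -/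
noncomputable abbrev nextF (s : St L Q₀ n) : A := pullback (L.d (n + 1) n) (s.iZ ≫ s.toL)

/-- the next differential -/
noncomputable def nextD (s : St L Q₀ n) :
    Q₀.X (n + 1) ⊞ cv.obj (nextF s) ⟶ Q₀.X n ⊞ s.R :=
  biprod.desc (Q₀.d (n + 1) n ≫ biprod.inl)
    (cv.π (nextF s) ≫ pullback.snd (L.d (n + 1) n) (s.iZ ≫ s.toL) ≫ s.iZ)

/-- the next state -/
noncomputable abbrev next (s : St L Q₀ n) : St L Q₀ (n + 1) where
  R := cv.obj (nextF s)
  toL := biprod.desc (φ₀.f (n + 1))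
    (cv.π (nextF s) ≫ pullback.fst (L.d (n + 1) n) (s.iZ ≫ s.toL))
  Z := kernel (nextD cv s)
  iZ := kernel.ι (nextD cv s)

lemma inl_nextD (s : St L Q₀ n) :
    (biprod.inl : Q₀.X (n + 1) ⟶ Q₀.X (n + 1) ⊞ (next cv φ₀ s).R) ≫ nextD cv s =
      Q₀.d (n + 1) n ≫ biprod.inl :=
  biprod.inl_desc _ _

lemma inr_nextD (s : St L Q₀ n) :
    (biprod.inr : (next cv φ₀ s).R ⟶ Q₀.X (n + 1) ⊞ (next cv φ₀ s).R) ≫ nextD cv s =
      cv.π (nextF s) ≫ pullback.snd (L.d (n + 1) n) (s.iZ ≫ s.toL) ≫ s.iZ :=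
  biprod.inr_desc _ _

lemma inl_next_toL (s : St L Q₀ n) :
    (biprod.inl : Q₀.X (n + 1) ⟶ Q₀.X (n + 1) ⊞ (next cv φ₀ s).R) ≫ (next cv φ₀ s).toL =
      φ₀.f (n + 1) :=
  biprod.inl_desc _ _

lemma inr_next_toL (s : St L Q₀ n) :
    (biprod.inr : (next cv φ₀ s).R ⟶ Q₀.X (n + 1) ⊞ (next cv φ₀ s).R) ≫ (next cv φ₀ s).toL =
      cv.π (nextF s) ≫ pullback.fst (L.d (n + 1) n) (s.iZ ≫ s.toL) :=
  biprod.inr_desc _ _

lemma next_iZ_nextD (s : St L Q₀ n) : (next cv φ₀ s).iZ ≫ nextD cv s = 0 :=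
  kernel.condition _

lemma nextD_next (s : St L Q₀ n) :
    (nextD cv (next cv φ₀ s) : Q₀.X (n + 1 + 1) ⊞ (next cv φ₀ (next cv φ₀ s)).R ⟶ _) ≫
      (nextD cv s : Q₀.X (n + 1) ⊞ (next cv φ₀ s).R ⟶ _) = 0 := by
  apply biprod.hom_ext'
  · rw [← Category.assoc, inl_nextD cv φ₀, Category.assoc, inl_nextD cv φ₀, ← Category.assoc,
      HomologicalComplex.d_comp_d, zero_comp, comp_zero]
  · rw [← Category.assoc, inr_nextD cv φ₀, Category.assoc, Category.assoc, next_iZ_nextD cv φ₀,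
      comp_zero, comp_zero, comp_zero]

/-- the initial state -/
noncomputable abbrev init : St L Q₀ 0 where
  R := cv.obj (L.X 0)
  toL := biprod.desc (φ₀.f 0) (cv.π (L.X 0))
  Z := Q₀.X 0 ⊞ cv.obj (L.X 0)
  iZ := 𝟙 _

/-- the sequence of states -/
noncomputable def seq : ∀ n : ℕ, St L Q₀ n
  | 0 => init cv φ₀
  | n + 1 => next cv φ₀ (seq n)

lemma inl_toL (n : ℕ) :
    (biprod.inl : Q₀.X n ⟶ Q₀.X n ⊞ (seq cv φ₀ n).R) ≫ (seq cv φ₀ n).toL = φ₀.f n := by
  cases n with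
  | zero => exact biprod.inl_desc _ _
  | succ n => exact inl_next_toL cv φ₀ _

lemma mem_R (n : ℕ) : P (seq cv φ₀ n).R := by
  cases n with
  | zero => exact cv.mem _
  | succ n => exact cv.mem _

/-- the resolving complex -/
noncomputable def Q₁ : ChainComplex A ℕ :=
  ChainComplex.of (fun n => Q₀.X n ⊞ (seq cv φ₀ n).R) (fun n => nextD cv (seq cv φ₀ n))
    (fun n => nextD_next cv φ₀ (seq cv φ₀ n))

lemma Q₁_d (n : ℕ) : (Q₁ cv φ₀).d (n + 1) n = nextD cv (seq cv φ₀ n) :=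
  ChainComplex.of_d (fun n => Q₀.X n ⊞ (seq cv φ₀ n).R) (fun n => nextD cv (seq cv φ₀ n)) n

/-- the coprojection `Q₀ ⟶ Q₁` -/
noncomputable def ι : Q₀ ⟶ Q₁ cv φ₀ where
  f n := (biprod.inl : Q₀.X n ⟶ Q₀.X n ⊞ (seq cv φ₀ n).R)
  comm' := by
    rintro i j (rfl : j + 1 = i)
    rw [Q₁_d]
    exact inl_nextD cv φ₀ (seq cv φ₀ j)

/-- the resolution map `Q₁ ⟶ L` -/
noncomputable def φ₁ : Q₁ cv φ₀ ⟶ L where
  f n := (seq cv φ₀ n).toL
  comm' := by
    rintro i j (rfl : j + 1 = i)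
    rw [Q₁_d]
    change (next cv φ₀ (seq cv φ₀ j)).toL ≫ L.d (j + 1) j =
      nextD cv (seq cv φ₀ j) ≫ (seq cv φ₀ j).toL
    apply biprod.hom_ext'
    · rw [← Category.assoc, inl_next_toL cv φ₀, ← Category.assoc, inl_nextD cv φ₀, Category.assoc,
        inl_toL, φ₀.comm]
    · rw [← Category.assoc, inr_next_toL cv φ₀, ← Category.assoc, inr_nextD cv φ₀]
      simp only [Category.assoc]
      rw [pullback.condition]

@[reassoc (attr := simp)]
lemma ι_φ₁ : ι cv φ₀ ≫ φ₁ cv φ₀ = φ₀ := by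
  ext n
  exact inl_toL cv φ₀ n

/-- cycles of `L` lift to the cycles `Z` of `Q₁`, up to refinements -/
lemma exists_lift_cycle (m : ℕ) {T : A} (y : T ⟶ L.X m)
    (hy : y ≫ L.d m ((ComplexShape.down ℕ).next m) = 0) :
    ∃ (T' : A) (π : T' ⟶ T) (_ : Epi π) (x : T' ⟶ (seq cv φ₀ m).Z),
      π ≫ y = x ≫ (seq cv φ₀ m).iZ ≫ (seq cv φ₀ m).toL := by
  cases m with
  | zero =>
    haveI := cv.epi (L.X 0)
    obtain ⟨T', π, hπ, r, hr⟩ := surjective_up_to_refinements_of_epi (cv.π (L.X 0)) y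
    refine ⟨T', π, hπ, r ≫ biprod.inr, ?_⟩
    change π ≫ y = (r ≫ biprod.inr) ≫ 𝟙 _ ≫ biprod.desc (φ₀.f 0) (cv.π (L.X 0))
    rw [Category.id_comp, Category.assoc, biprod.inr_desc, hr]
  | succ k =>
    rw [ChainComplex.next_nat_succ] at hy
    haveI := cv.epi (nextF (seq cv φ₀ k))
    obtain ⟨T', π, hπ, r, hr⟩ := surjective_up_to_refinements_of_epi
      (cv.π (nextF (seq cv φ₀ k)))
      (pullback.lift y (0 : T ⟶ (seq cv φ₀ k).Z) (by rw [hy, zero_comp]))
    have h0 : (r ≫ (biprod.inr : (next cv φ₀ (seq cv φ₀ k)).R ⟶ _)) ≫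
        nextD cv (seq cv φ₀ k) = 0 := by
      rw [Category.assoc, inr_nextD cv φ₀, ← Category.assoc, ← hr, Category.assoc,
        pullback.lift_snd_assoc, zero_comp, comp_zero]
    refine ⟨T', π, hπ, kernel.lift _ _ h0, ?_⟩
    change π ≫ y = kernel.lift _ _ h0 ≫ kernel.ι (nextD cv (seq cv φ₀ k)) ≫
      (next cv φ₀ (seq cv φ₀ k)).toL
    rw [kernel.lift_ι_assoc, Category.assoc, inr_next_toL cv φ₀, ← Category.assoc, ← hr,
      Category.assoc, pullback.lift_fst]

/-- `Z` consists of cycles -/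
lemma iZ_d (m : ℕ) :
    (seq cv φ₀ m).iZ ≫ (Q₁ cv φ₀).d m ((ComplexShape.down ℕ).next m) = 0 := by
  cases m with
  | zero =>
    rw [ChainComplex.next_nat_zero, HomologicalComplex.shape _ _ _ (by simp)]
    exact comp_zero
  | succ k =>
    rw [ChainComplex.next_nat_succ, Q₁_d]
    exact next_iZ_nextD cv φ₀ (seq cv φ₀ k)

/-- cycles of `Q₁` factor through `Z` -/
lemma exists_factor_iZ (m : ℕ) {T : A} (x : T ⟶ (Q₁ cv φ₀).X m)
    (hx : x ≫ (Q₁ cv φ₀).d m ((ComplexShape.down ℕ).next m) = 0) :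
    ∃ z : T ⟶ (seq cv φ₀ m).Z, z ≫ (seq cv φ₀ m).iZ = x := by
  cases m with
  | zero => exact ⟨x, Category.comp_id _⟩
  | succ k =>
    rw [ChainComplex.next_nat_succ, Q₁_d] at hx
    exact ⟨kernel.lift _ x hx, kernel.lift_ι _ _ _⟩

/-- the resolution map is a termwise epimorphism -/
lemma epi_φ₁_f (m : ℕ) : Epi ((φ₁ cv φ₀).f m) := by
  cases m with
  | zero =>
    haveI := cv.epi (L.X 0)
    exact epi_of_epi_fac (biprod.inr_desc (φ₀.f 0) (cv.π (L.X 0)))
  | succ k =>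
    rw [epi_iff_surjective_up_to_refinements]
    intro T y
    obtain ⟨T', π, hπ, x, hx⟩ := exists_lift_cycle cv φ₀ k (y ≫ L.d (k + 1) k) (by
      rw [Category.assoc, HomologicalComplex.d_comp_d, comp_zero])
    haveI := cv.epi (nextF (seq cv φ₀ k))
    obtain ⟨T'', π', hπ', r, hr⟩ := surjective_up_to_refinements_of_epi
      (cv.π (nextF (seq cv φ₀ k)))
      (pullback.lift (π ≫ y) x (by rw [Category.assoc, hx]))
    refine ⟨T'', π' ≫ π, epi_comp _ _, r ≫ (biprod.inr : (next cv φ₀ (seq cv φ₀ k)).R ⟶ _), ?_⟩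
    change (π' ≫ π) ≫ y = (r ≫ biprod.inr) ≫ (next cv φ₀ (seq cv φ₀ k)).toL
    rw [Category.assoc, Category.assoc, inr_next_toL cv φ₀, ← Category.assoc r, ← hr,
      Category.assoc, pullback.lift_fst]

lemma mono_homologyMap_φ₁ (j : ℕ) : Mono (HomologicalComplex.homologyMap (φ₁ cv φ₀) j) := by
  rw [HomologicalComplex.mono_homologyMap_iff_up_to_refinements (φ₁ cv φ₀) (j + 1) j
    ((ComplexShape.down ℕ).next j) (ChainComplex.prev ℕ j) rfl]
  intro T x₂ hx₂ y₁ hy₁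
  obtain ⟨z, hz⟩ := exists_factor_iZ cv φ₀ j x₂ hx₂
  haveI := cv.epi (nextF (seq cv φ₀ j))
  obtain ⟨T', π, hπ, r, hr⟩ := surjective_up_to_refinements_of_epi
    (cv.π (nextF (seq cv φ₀ j)))
    (pullback.lift y₁ z (by
      rw [← Category.assoc, hz]
      exact hy₁.symm))
  refine ⟨T', π, hπ, r ≫ (biprod.inr : (next cv φ₀ (seq cv φ₀ j)).R ⟶ _), ?_⟩
  rw [Q₁_d]
  change π ≫ x₂ = (r ≫ biprod.inr) ≫ nextD cv (seq cv φ₀ j)
  rw [Category.assoc, inr_nextD cv φ₀, ← Category.assoc, ← hr, Category.assoc,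
    pullback.lift_snd_assoc, hz]
  rfl

lemma epi_homologyMap_φ₁ (j : ℕ) : Epi (HomologicalComplex.homologyMap (φ₁ cv φ₀) j) := by
  rw [HomologicalComplex.epi_homologyMap_iff_up_to_refinements (φ₁ cv φ₀) (j + 1) j
    ((ComplexShape.down ℕ).next j) (ChainComplex.prev ℕ j) rfl]
  intro T y₂ hy₂
  obtain ⟨T', π, hπ, x, hx⟩ := exists_lift_cycle cv φ₀ j y₂ hy₂
  refine ⟨T', π, hπ, x ≫ (seq cv φ₀ j).iZ, ?_, 0, ?_⟩
  · rw [Category.assoc]
    erw [iZ_d cv φ₀ j]
    exact comp_zero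
  · rw [zero_comp, add_zero, hx, Category.assoc]
    rfl

instance quasiIso_φ₁ : QuasiIso (φ₁ cv φ₀) := by
  rw [quasiIso_iff]
  intro j
  rw [quasiIsoAt_iff_isIso_homologyMap]
  haveI := mono_homologyMap_φ₁ cv φ₀ j
  haveI := epi_homologyMap_φ₁ cv φ₀ j
  exact isIso_of_mono_of_epi _

include cv in
/-- **Relative resolution, chain-complex form.** -/
theorem exists_factorization :
    ∃ (Q : ChainComplex A ℕ) (i : Q₀ ⟶ Q) (p : Q ⟶ L), i ≫ p = φ₀ ∧ QuasiIso p ∧
      (∀ n, Epi (p.f n)) ∧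
      ∀ n, ∃ (R : A) (e : Q.X n ≅ Q₀.X n ⊞ R), P R ∧ i.f n ≫ e.hom = biprod.inl :=
  ⟨Q₁ cv φ₀, ι cv φ₀, φ₁ cv φ₀, ι_φ₁ cv φ₀, inferInstance, epi_φ₁_f cv φ₀,
    fun n => ⟨(seq cv φ₀ n).R, Iso.refl _, mem_R cv φ₀ n, Category.comp_id _⟩⟩

end Core

section Unit

open HomologicalComplex ComplexShape

variable {ι ι' : Type*} {c : ComplexShape ι} {c' : ComplexShape ι'} (e : c.Embedding c')
  [e.IsRelIff] {C : Type*} [Category C] [HasZeroMorphisms C] [HasZeroObject C]

lemma hasLift_id (K : HomologicalComplex C c') [K.IsStrictlySupported e] :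
    e.HasLift (𝟙 (K.restriction e)) := by
  intro j hj i' hij'
  have h0 : IsZero (K.X i') := K.isZero_X_of_isStrictlySupported e i' (hj.notMem hij')
  rw [h0.eq_of_src (K.d i' (e.f j)) 0, zero_comp]

/-- the comparison `K ⟶ (K.restriction e).extend e` for a strictly supported complex -/
noncomputable def unitRE (K : HomologicalComplex C c') [K.IsStrictlySupported e] :
    K ⟶ (K.restriction e).extend e :=
  e.liftExtend (𝟙 _) (hasLift_id e K)

instance isIso_unitRE (K : HomologicalComplex C c') [K.IsStrictlySupported e] :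
    IsIso (unitRE e K) := by
  haveI : ∀ i', IsIso ((unitRE e K).f i') := by
    intro i'
    by_cases hi' : ∃ i, e.f i = i'
    · obtain ⟨i, hi⟩ := hi'
      rw [unitRE, e.isIso_liftExtend_f_iff _ _ hi]
      infer_instance
    · have h1 : IsZero (K.X i') :=
        K.isZero_X_of_isStrictlySupported e i' (by simpa using hi')
      have h2 : IsZero (((K.restriction e).extend e).X i') :=
        isZero_extend_X _ _ _ (by simpa using hi')
      exact ⟨⟨0, h1.eq_of_src _ _, h2.eq_of_src _ _⟩⟩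
  exact HomologicalComplex.Hom.isIso_of_components _

@[reassoc]
lemma unitRE_naturality {K L : HomologicalComplex C c'} [K.IsStrictlySupported e]
    [L.IsStrictlySupported e] (φ : K ⟶ L) :
    unitRE e K ≫ extendMap (restrictionMap φ e) e = φ ≫ unitRE e L := by
  apply (e.homEquiv K (L.restriction e)).injective
  apply Subtype.ext
  change e.homRestrict _ = e.homRestrict _
  rw [e.homRestrict_comp_extendMap, e.homRestrict_precomp, unitRE, unitRE,
    e.homRestrict_liftExtend, e.homRestrict_liftExtend, Category.id_comp, Category.comp_id]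

lemma unitRE_f (K : HomologicalComplex C c') [K.IsStrictlySupported e] (i : ι) :
    (unitRE e K).f (e.f i) = ((K.restriction e).extendXIso e rfl).inv := by
  rw [unitRE, e.liftExtend_f _ _ rfl]
  simp only [restrictionXIso, HomologicalComplex.id_f, Category.id_comp]
  exact Category.id_comp _

end Unit

end Groth.Agent.Lib.Helper17.PRes
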