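import Mathlib
import Groth.Agent.Lib.Helper17.PRes

/-!
# Relative left resolutions by a class of objects (bounded-above cochain complexes)
-/

set_option autoImplicit false
set_option linter.style.haveILetI false
set_option linter.unusedSectionVars false

open CategoryTheory CategoryTheory.Limits HomologicalComplex

namespace Groth.Agent.Lib.Helper17.PRes

universe u v

variable {A : Type u} [Category.{v} A] [Abelian A]

lemma isZero_biprod {X Y : A} (hX : IsZero X) (hY : IsZero Y) : IsZero (X ⊞ Y) := by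
  rw [IsZero.iff_id_eq_zero]
  exact biprod.hom_ext _ _ (hX.eq_of_tgt _ _) (hY.eq_of_tgt _ _)

/-- **Relative resolution, bounded-above cochain complexes.** -/
theorem relZ {P : A → Prop} (hP0 : ∃ Z : A, IsZero Z ∧ P Z) (cv : Cover P) (b : ℤ)
    {L Q₀ : CochainComplex A ℤ} [L.IsStrictlyLE b] [Q₀.IsStrictlyLE b] (φ₀ : Q₀ ⟶ L) :
    ∃ (Q₁ : CochainComplex A ℤ) (_ : Q₁.IsStrictlyLE b) (i : Q₀ ⟶ Q₁) (p : Q₁ ⟶ L),
      i ≫ p = φ₀ ∧ QuasiIso p ∧ (∀ k, Epi (p.f k)) ∧
      ∀ k, ∃ (R : A) (e : Q₁.X k ≅ Q₀.X k ⊞ R), P R ∧ i.f k ≫ e.hom = biprod.inl := by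
  let e := ComplexShape.embeddingUpIntLE b
  obtain ⟨Q', i', p', hip, hqi, hepi, hstr⟩ := exists_factorization cv (restrictionMap φ₀ e)
  refine ⟨Q'.extend e, inferInstance, unitRE e Q₀ ≫ extendMap i' e,
    extendMap p' e ≫ inv (unitRE e L), ?_, ?_, ?_, ?_⟩
  · rw [Category.assoc, ← extendMap_comp_assoc, hip, unitRE_naturality_assoc, IsIso.hom_inv_id,
      Category.comp_id]
  · haveI : QuasiIso (extendMap p' e) := (quasiIso_extendMap_iff p' e).mpr hqi
    infer_instance
  · intro k
    rw [HomologicalComplex.comp_f]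
    haveI : Epi ((extendMap p' e).f k) := by
      by_cases hk : ∃ n, e.f n = k
      · obtain ⟨n, hn⟩ := hk
        rw [extendMap_f p' e hn]
        haveI := hepi n
        infer_instance
      · have hz : IsZero (((L.restriction e).extend e).X k) :=
          isZero_extend_X _ _ _ (by simpa using hk)
        exact ⟨fun g h _ => hz.eq_of_src g h⟩
    infer_instance
  · intro k
    by_cases hk : ∃ n, e.f n = k
    · obtain ⟨n, rfl⟩ := hk
      obtain ⟨R, eR, hR, heR⟩ := hstr n
      refine ⟨R, Q'.extendXIso e rfl ≪≫ eR, hR, ?_⟩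
      rw [HomologicalComplex.comp_f, unitRE_f, extendMap_f i' e rfl]
      simp only [Iso.trans_hom, Category.assoc, Iso.inv_hom_id_assoc]
      erw [Iso.inv_hom_id_assoc]
      exact heR
    · obtain ⟨Z, hZ, hPZ⟩ := hP0
      have h1 : IsZero ((Q'.extend e).X k) := isZero_extend_X _ _ _ (by simpa using hk)
      have h2 : IsZero (Q₀.X k) :=
        Q₀.isZero_X_of_isStrictlySupported e k (by simpa using hk)
      exact ⟨Z, h1.iso (isZero_biprod h2 hZ), hPZ, h2.eq_of_src _ _⟩

section Transport

variable {ι : Type*} {c : ComplexShape ι}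

/-- replace the terms of a complex by isomorphic objects -/
noncomputable def transport (K : HomologicalComplex A c) (Y : ι → A) (e : ∀ i, K.X i ≅ Y i) :
    HomologicalComplex A c where
  X := Y
  d i j := (e i).inv ≫ K.d i j ≫ (e j).hom
  shape i j h := by rw [K.shape i j h, zero_comp, comp_zero]
  d_comp_d' i j k _ _ := by simp

/-- the transported complex is isomorphic to the original one -/
noncomputable def transportIso (K : HomologicalComplex A c) (Y : ι → A) (e : ∀ i, K.X i ≅ Y i) :
    K ≅ transport K Y e :=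
  HomologicalComplex.Hom.isoOfComponents e (by
    intro i j _
    simp [transport])

lemma transportIso_hom_f (K : HomologicalComplex A c) (Y : ι → A) (e : ∀ i, K.X i ≅ Y i) (i : ι) :
    (transportIso K Y e).hom.f i = (e i).hom := rfl

lemma transportIso_inv_f (K : HomologicalComplex A c) (Y : ι → A) (e : ∀ i, K.X i ≅ Y i) (i : ι) :
    (transportIso K Y e).inv.f i = (e i).inv := rfl

end Transport

/-- `X ⊞ R ≅ R` when `X` is zero -/
noncomputable def zeroBiprodIso {X R : A} (hX : IsZero X) : X ⊞ R ≅ R where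
  hom := biprod.snd
  inv := biprod.inr
  hom_inv_id := by
    apply biprod.hom_ext
    · exact hX.eq_of_tgt _ _
    · simp
  inv_hom_id := biprod.inr_snd

/-- **Absolute resolution** (Stacks 13.15.4): a strictly bounded above complex receives a termwise
epimorphic quasi-isomorphism from a complex with the same bound and all terms in `P`. -/
theorem exists_resolution {P : A → Prop} (hP0 : ∃ Z : A, IsZero Z ∧ P Z) (cv : Cover P) (a : ℤ)
    (K : CochainComplex A ℤ) [K.IsStrictlyLE a] :
    ∃ (Q : CochainComplex A ℤ) (α : Q ⟶ K), Q.IsStrictlyLE a ∧ (∀ n, P (Q.X n)) ∧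
      (∀ n, Epi (α.f n)) ∧ QuasiIso α := by
  haveI : CochainComplex.IsStrictlyLE (HomologicalComplex.zero : CochainComplex A ℤ) a :=
    ⟨fun i _ => isZero_zero A⟩
  obtain ⟨Q₁, hQ₁, i, p, -, hqi, hepi, hstr⟩ :=
    relZ hP0 cv a (0 : (HomologicalComplex.zero : CochainComplex A ℤ) ⟶ K)
  choose R e hR _ using hstr
  have hz : ∀ k, IsZero ((HomologicalComplex.zero : CochainComplex A ℤ).X k) :=
    fun k => isZero_zero A
  let E := transportIso Q₁ R (fun k => e k ≪≫ zeroBiprodIso (hz k))
  refine ⟨transport Q₁ R (fun k => e k ≪≫ zeroBiprodIso (hz k)), E.inv ≫ p, ?_, hR, ?_, ?_⟩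
  · exact CochainComplex.isStrictlyLE_of_iso E a
  · intro n
    rw [HomologicalComplex.comp_f]
    haveI := hepi n
    infer_instance
  · infer_instance

end Groth.Agent.Lib.Helper17.PRes
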