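import Mathlib
import Groth.Agent.Lib.Helper17.PResZ

/-!
# Special direct systems of left resolutions (Stacks 13.29.1)
-/

set_option autoImplicit false
set_option linter.style.haveILetI false
set_option linter.unusedSectionVars false

open CategoryTheory CategoryTheory.Limits HomologicalComplex

namespace Groth.Agent.Lib.Helper17.PRes

universe u v

variable {A : Type u} [Category.{v} A] [Abelian A]

section TruncMap

variable (K : CochainComplex A ℤ)

/-- transition map between canonical truncations -/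
noncomputable def truncLEle (a b : ℤ) (h : a ≤ b) : K.truncLE a ⟶ K.truncLE b :=
  haveI := (K.truncLE a).isStrictlyLE_of_le a b h
  inv ((K.truncLE a).ιTruncLE b) ≫ CochainComplex.truncLEMap (K.ιTruncLE a) b

@[reassoc (attr := simp)]
lemma truncLEle_ι (a b : ℤ) (h : a ≤ b) : truncLEle K a b h ≫ K.ιTruncLE b = K.ιTruncLE a := by
  haveI := (K.truncLE a).isStrictlyLE_of_le a b h
  rw [truncLEle, Category.assoc, CochainComplex.ιTruncLE_naturality, IsIso.inv_hom_id_assoc]

end TruncMap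

section Split

variable {X Y R : A} (i : X ⟶ Y) (e : Y ≅ X ⊞ R) (he : i ≫ e.hom = biprod.inl)
include he

lemma exists_retraction : ∃ r : Y ⟶ X, i ≫ r = 𝟙 X :=
  ⟨e.hom ≫ biprod.fst, by rw [← Category.assoc, he, biprod.inl_fst]⟩

/-- the cokernel of a split injection with complement `R` -/
noncomputable def cokernelIsoOfSplit : cokernel i ≅ R :=
  cokernelIsoOfEq (show i = biprod.inl ≫ e.inv by rw [← he, Category.assoc, e.hom_inv_id,
    Category.comp_id]) ≪≫ cokernelCompIsIso _ _ ≪≫ cokernelBiprodInlIso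

end Split

section Tower

/-- a stage of the tower -/
structure Stage (P : ObjectProperty A) (K : CochainComplex A ℤ) (n : ℕ) where
  Q : CochainComplex A ℤ
  hQ : Q.IsStrictlyLE n
  π : Q ⟶ K.truncLE n
  qi : QuasiIso π
  epi : ∀ i, Epi (π.f i)
  mem : ∀ i, P (Q.X i)

/-- the hypotheses on the class `P` -/
structure Hyp (P : ObjectProperty A) : Prop where
  iso : P.IsClosedUnderIsomorphisms
  zero : ∃ Z : A, IsZero Z ∧ P Z
  sum : ∀ X Y : A, P X → P Y → P (X ⊞ Y)

variable {P : ObjectProperty A} (hP : Hyp P) (cv : Cover P) (K : CochainComplex A ℤ)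

include hP cv in
lemma exists_stage_zero : Nonempty (Stage P K 0) := by
  obtain ⟨Q, α, hQ, hmem, hepi, hqi⟩ :=
    exists_resolution hP.zero cv ((0 : ℕ) : ℤ) (K.truncLE (0 : ℕ))
  exact ⟨⟨Q, hQ, α, hqi, hepi, hmem⟩⟩

include hP cv in
lemma exists_next {n : ℕ} (s : Stage P K n) :
    ∃ (s' : Stage P K (n + 1)) (ι : s.Q ⟶ s'.Q),
      ι ≫ s'.π = s.π ≫ truncLEle K n ((n + 1 : ℕ) : ℤ) (by push_cast; omega) ∧
      ∀ i, (∃ r : s'.Q.X i ⟶ s.Q.X i, ι.f i ≫ r = 𝟙 _) ∧ P (cokernel (ι.f i)) := by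
  haveI := hP.iso
  haveI := s.hQ
  haveI : s.Q.IsStrictlyLE ((n + 1 : ℕ) : ℤ) :=
    s.Q.isStrictlyLE_of_le n _ (by push_cast; omega)
  obtain ⟨Q₁, hQ₁, i, p, hip, hqi, hepi, hstr⟩ := relZ hP.zero cv ((n + 1 : ℕ) : ℤ)
    (s.π ≫ truncLEle K n ((n + 1 : ℕ) : ℤ) (by push_cast; omega))
  refine ⟨⟨Q₁, hQ₁, p, hqi, hepi, fun k => ?_⟩, i, hip, fun k => ?_⟩
  · obtain ⟨R, e, hR, -⟩ := hstr k
    exact P.prop_of_iso e.symm (hP.sum _ _ (s.mem k) hR)
  · obtain ⟨R, e, hR, he⟩ := hstr k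
    exact ⟨exists_retraction (i.f k) e he,
      P.prop_of_iso (cokernelIsoOfSplit (i.f k) e he).symm hR⟩

/-- the stages, chosen recursively -/
noncomputable def stages (hP : Hyp P) (cv : Cover P) (K : CochainComplex A ℤ) :
    ∀ n : ℕ, Stage P K n
  | 0 => (exists_stage_zero hP cv K).some
  | n + 1 => (exists_next hP cv K (stages hP cv K n)).choose

/-- the transition maps -/
noncomputable def stageι (n : ℕ) :
    (stages hP cv K n).Q ⟶ (stages hP cv K (n + 1)).Q :=
  (exists_next hP cv K (stages hP cv K n)).choose_spec.choose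

lemma stageι_spec (n : ℕ) :
    stageι hP cv K n ≫ (stages hP cv K (n + 1)).π =
        (stages hP cv K n).π ≫ truncLEle K n ((n + 1 : ℕ) : ℤ) (by push_cast; omega) ∧
      ∀ i, (∃ r : (stages hP cv K (n + 1)).Q.X i ⟶ (stages hP cv K n).Q.X i,
        (stageι hP cv K n).f i ≫ r = 𝟙 _) ∧ P (cokernel ((stageι hP cv K n).f i)) :=
  (exists_next hP cv K (stages hP cv K n)).choose_spec.choose_spec

include hP cv in
/-- **Special direct system of left resolutions** (Stacks 13.29.1). -/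
theorem exists_tower :
    ∃ (Q : ℕ → CochainComplex A ℤ) (ι : ∀ n, Q n ⟶ Q (n + 1))
      (π : ∀ n : ℕ, Q n ⟶ K.truncLE (n : ℤ)),
      (∀ n, QuasiIso (π n) ∧ ∀ i, Epi ((π n).f i)) ∧
      (∀ n, (Q n).IsStrictlyLE n) ∧ (∀ n i, P ((Q n).X i)) ∧
      (∀ n i, (∃ r : (Q (n + 1)).X i ⟶ (Q n).X i, (ι n).f i ≫ r = 𝟙 _) ∧
        P (cokernel ((ι n).f i))) ∧
      (∀ n : ℕ, π n ≫ K.ιTruncLE (n : ℤ) =
        ι n ≫ π (n + 1) ≫ K.ιTruncLE ((n + 1 : ℕ) : ℤ)) := by
  refine ⟨fun n => (stages hP cv K n).Q, stageι hP cv K,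
    fun n => (stages hP cv K n).π, fun n => ⟨(stages hP cv K n).qi,
      (stages hP cv K n).epi⟩, fun n => (stages hP cv K n).hQ,
    fun n => (stages hP cv K n).mem, fun n => (stageι_spec hP cv K n).2,
    fun n => ?_⟩
  rw [← Category.assoc, (stageι_spec hP cv K n).1, Category.assoc, truncLEle_ι]

end Tower

end Groth.Agent.Lib.Helper17.PRes
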