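import Mathlib
import Groth.Agent.Lib.Helper17.PResTower

/-!
# Special direct systems of left resolutions over an arbitrary increasing sequence of truncations
-/

set_option autoImplicit false
set_option linter.style.haveILetI false
set_option linter.unusedSectionVars false

open CategoryTheory CategoryTheory.Limits HomologicalComplex

namespace Groth.Agent.Lib.Helper17.PRes

universe u v

variable {A : Type u} [Category.{v} A] [Abelian A]

section Tower2

/-- a stage of the tower over `τ_{≤ b} K` -/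
structure StageZ (P : ObjectProperty A) (K : CochainComplex A ℤ) (b : ℤ) where
  Q : CochainComplex A ℤ
  hQ : Q.IsStrictlyLE b
  π : Q ⟶ K.truncLE b
  qi : QuasiIso π
  epi : ∀ i, Epi (π.f i)
  mem : ∀ i, P (Q.X i)

variable {P : ObjectProperty A} (hP : Hyp P) (cv : Cover P) (K : CochainComplex A ℤ)

include hP cv in
lemma exists_stageZ (b : ℤ) : Nonempty (StageZ P K b) := by
  obtain ⟨Q, α, hQ, hmem, hepi, hqi⟩ := exists_resolution hP.zero cv b (K.truncLE b)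
  exact ⟨⟨Q, hQ, α, hqi, hepi, hmem⟩⟩

include hP cv in
lemma exists_nextZ {b b' : ℤ} (hbb' : b ≤ b') (s : StageZ P K b) :
    ∃ (s' : StageZ P K b') (ι : s.Q ⟶ s'.Q),
      ι ≫ s'.π = s.π ≫ truncLEle K b b' hbb' ∧
      ∀ i, (∃ r : s'.Q.X i ⟶ s.Q.X i, ι.f i ≫ r = 𝟙 _) ∧ P (cokernel (ι.f i)) := by
  haveI := hP.iso
  haveI := s.hQ
  haveI : s.Q.IsStrictlyLE b' := s.Q.isStrictlyLE_of_le b _ hbb'
  obtain ⟨Q₁, hQ₁, i, p, hip, hqi, hepi, hstr⟩ := relZ hP.zero cv b'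
    (s.π ≫ truncLEle K b b' hbb')
  refine ⟨⟨Q₁, hQ₁, p, hqi, hepi, fun k => ?_⟩, i, hip, fun k => ?_⟩
  · obtain ⟨R, e, hR, -⟩ := hstr k
    exact P.prop_of_iso e.symm (hP.sum _ _ (s.mem k) hR)
  · obtain ⟨R, e, hR, he⟩ := hstr k
    exact ⟨exists_retraction (i.f k) e he,
      P.prop_of_iso (cokernelIsoOfSplit (i.f k) e he).symm hR⟩

variable (bs : ℕ → ℤ) (hbs : ∀ n, bs n ≤ bs (n + 1))

/-- the stages, chosen recursively -/
noncomputable def stagesZ (hP : Hyp P) (cv : Cover P) (K : CochainComplex A ℤ) (bs : ℕ → ℤ)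
    (hbs : ∀ n, bs n ≤ bs (n + 1)) : ∀ n : ℕ, StageZ P K (bs n)
  | 0 => (exists_stageZ hP cv K (bs 0)).some
  | n + 1 => (exists_nextZ hP cv K (hbs n) (stagesZ hP cv K bs hbs n)).choose

/-- the transition maps -/
noncomputable def stageZι (n : ℕ) :
    (stagesZ hP cv K bs hbs n).Q ⟶ (stagesZ hP cv K bs hbs (n + 1)).Q :=
  (exists_nextZ hP cv K (hbs n) (stagesZ hP cv K bs hbs n)).choose_spec.choose

lemma stageZι_spec (n : ℕ) :
    stageZι hP cv K bs hbs n ≫ (stagesZ hP cv K bs hbs (n + 1)).π =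
        (stagesZ hP cv K bs hbs n).π ≫ truncLEle K (bs n) (bs (n + 1)) (hbs n) ∧
      ∀ i, (∃ r : (stagesZ hP cv K bs hbs (n + 1)).Q.X i ⟶ (stagesZ hP cv K bs hbs n).Q.X i,
        (stageZι hP cv K bs hbs n).f i ≫ r = 𝟙 _) ∧
          P (cokernel ((stageZι hP cv K bs hbs n).f i)) :=
  (exists_nextZ hP cv K (hbs n) (stagesZ hP cv K bs hbs n)).choose_spec.choose_spec

include hP cv hbs in
/-- **Special direct system of left resolutions** over the truncations `τ_{≤ bs n} K`. -/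
theorem exists_towerZ :
    ∃ (Q : ℕ → CochainComplex A ℤ) (ι : ∀ n, Q n ⟶ Q (n + 1))
      (π : ∀ n : ℕ, Q n ⟶ K.truncLE (bs n)),
      (∀ n, QuasiIso (π n) ∧ ∀ i, Epi ((π n).f i)) ∧
      (∀ n, (Q n).IsStrictlyLE (bs n)) ∧ (∀ n i, P ((Q n).X i)) ∧
      (∀ n i, (∃ r : (Q (n + 1)).X i ⟶ (Q n).X i, (ι n).f i ≫ r = 𝟙 _) ∧
        P (cokernel ((ι n).f i))) ∧
      (∀ n : ℕ, ι n ≫ π (n + 1) = π n ≫ truncLEle K (bs n) (bs (n + 1)) (hbs n)) ∧
      (∀ n : ℕ, ι n ≫ π (n + 1) ≫ K.ιTruncLE (bs (n + 1)) = π n ≫ K.ιTruncLE (bs n)) := by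
  refine ⟨fun n => (stagesZ hP cv K bs hbs n).Q, stageZι hP cv K bs hbs,
    fun n => (stagesZ hP cv K bs hbs n).π, fun n => ⟨(stagesZ hP cv K bs hbs n).qi,
      (stagesZ hP cv K bs hbs n).epi⟩, fun n => (stagesZ hP cv K bs hbs n).hQ,
    fun n => (stagesZ hP cv K bs hbs n).mem, fun n => (stageZι_spec hP cv K bs hbs n).2,
    fun n => (stageZι_spec hP cv K bs hbs n).1, fun n => ?_⟩
  rw [← Category.assoc, (stageZι_spec hP cv K bs hbs n).1, Category.assoc, truncLEle_ι]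

end Tower2

end Groth.Agent.Lib.Helper17.PRes
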