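import Mathlib
import Groth.Prelude.Def_ModSite
import Groth.Agent.Lib.Helper17.FreeOn
import Groth.Agent.Lib.Helper17.ModSiteExact
import Groth.Agent.Lib.Helper17.PResTower2
import Groth.Agent.Lib.Helper17.ColimQuasiIso

/-!
# Resolutions of complexes of modules on a ringed site by sums of modules `j_{U!} O_U`
-/

set_option autoImplicit false
set_option linter.style.haveILetI false
set_option linter.unusedSectionVars false

open CategoryTheory CategoryTheory.Limits Opposite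

namespace Groth.Agent.Lib.Helper17.FreeSum

universe u v w

section General

variable {A : Type v} [Category.{w} A] [Abelian A]

lemma isZero_sigma_empty {ι : Type u} [IsEmpty ι] (f : ι → A) [HasCoproduct f] :
    IsZero (∐ f) := by
  rw [IsZero.iff_id_eq_zero]
  apply Sigma.hom_ext
  intro j
  exact isEmptyElim j

/-- binary biproduct of two coproducts as a coproduct over the sum type -/
noncomputable def sumIso {ι₁ ι₂ : Type u} (f₁ : ι₁ → A) (f₂ : ι₂ → A) [HasCoproduct f₁]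
    [HasCoproduct f₂] [HasCoproduct (Sum.elim f₁ f₂)] : (∐ f₁) ⊞ (∐ f₂) ≅ ∐ (Sum.elim f₁ f₂) :=
  (Cofan.combPairIsColimit (coproductIsCoproduct f₁) (coproductIsCoproduct f₂)
    (BinaryBiproduct.isColimit (∐ f₁) (∐ f₂))).coconePointUniqueUpToIso
      (coproductIsCoproduct (Sum.elim f₁ f₂))

end General

variable {C : Type u} [SmallCategory C] {J : GrothendieckTopology C} (O : Sheaf J CommRingCat.{u})

/-- coproducts of modules `j_{U!} O_U` -/
def PF : ObjectProperty (ModSite.Mod O) := fun X =>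
  ∃ (ι : Type u) (U : ι → C), Nonempty (X ≅ ∐ fun j => ModSite.freeOn O (U j))

lemma hyp_PF : PRes.Hyp (PF O) where
  iso := ⟨fun e ⟨ι, U, ⟨f⟩⟩ => ⟨ι, U, ⟨e.symm ≪≫ f⟩⟩⟩
  zero := ⟨∐ fun j : PEmpty.{u + 1} => ModSite.freeOn O (PEmpty.elim j),
    isZero_sigma_empty _, PEmpty, fun j => PEmpty.elim j, ⟨Iso.refl _⟩⟩
  sum := by
    rintro X Y ⟨ι₁, U₁, ⟨e₁⟩⟩ ⟨ι₂, U₂, ⟨e₂⟩⟩
    refine ⟨ι₁ ⊕ ι₂, Sum.elim U₁ U₂, ⟨biprod.mapIso e₁ e₂ ≪≫ sumIso _ _ ≪≫
      Sigma.mapIso (fun j => ?_)⟩⟩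
    cases j
    · exact Iso.refl _
    · exact Iso.refl _

/-- every module is a quotient of a sum of modules `j_{U!} O_U` -/
theorem exists_epi_PF (F : ModSite.Mod O) :
    ∃ (G : ModSite.Mod O) (π : G ⟶ F), PF O G ∧ Epi π := by
  let ι : Type u := Σ X : C, (ModSite.freeOn O X ⟶ F)
  let fam : ι → ModSite.Mod O := fun i => ModSite.freeOn O i.1
  refine ⟨∐ fam, Sigma.desc (fun i => i.2), ⟨ι, fun i => i.1, ⟨Iso.refl _⟩⟩, ?_⟩
  constructor
  intro H a b hab
  have hsep := FreeOn.freeOn_isSeparating O (Set.univ : Set C) (by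
    intro X
    refine ⟨PUnit, fun _ => X, fun _ => 𝟙 X, ?_, fun _ => trivial⟩
    convert J.top_mem X
    ext V g
    simp only [Sieve.top_apply, iff_true]
    exact ⟨X, g, 𝟙 X, Presieve.ofArrows.mk PUnit.unit, by simp⟩)
  apply hsep
  intro T hT h
  obtain ⟨⟨X, _⟩⟩ := hT
  have := (Sigma.ι fam ⟨X, h⟩) ≫= hab
  simpa using this

/-- chosen covers -/
noncomputable def coverPF : PRes.Cover (PF O) := PRes.Cover.ofExists (exists_epi_PF O)

/-- sequential colimits are exact in `Mod O` -/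
theorem hasExactColimitsOfShape_nat : HasExactColimitsOfShape ℕ (ModSite.Mod O) := by
  haveI : IsFiltered (ULiftHom.{u} (ULift.{u} ℕ)) :=
    IsFiltered.of_equivalence (ULiftHomULiftCategory.equiv.{u, u} ℕ)
  haveI := ModSiteExact.hasExactColimitsOfShape_filtered (ModSite.ringSh O)
    (ULiftHom.{u} (ULift.{u} ℕ))
  exact HasExactColimitsOfShape.of_domain_equivalence (ModSite.Mod O)
    (ULiftHomULiftCategory.equiv.{u, u} ℕ).symm

attribute [local instance] HasDerivedCategory.standard in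
/-- **Resolution system by sums of modules `j_{U!} O_U`** (Stacks 06YF-type). -/
theorem main (G : CochainComplex (ModSite.Mod O) ℤ) :
    ∃ (Kc : ℕ ⥤ CochainComplex (ModSite.Mod O) ℤ)
      (π : ∀ n : ℕ, Kc.obj n ⟶ G.truncLE ((n : ℤ) + 1)),
      (∀ n : ℕ, Kc.map (homOfLE (Nat.le_succ n)) ≫ π (n + 1) ≫
          G.ιTruncLE (((n + 1 : ℕ) : ℤ) + 1) = π n ≫ G.ιTruncLE ((n : ℤ) + 1)) ∧
      (∀ n : ℕ, QuasiIso (π n) ∧ ∀ i : ℤ, Epi ((π n).f i)) ∧
      (∀ n : ℕ, ∃ b : ℤ, (Kc.obj n).IsStrictlyLE b) ∧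
      (∀ (n : ℕ) (i : ℤ), ∃ (ι : Type u) (U : ι → C),
        Nonempty ((Kc.obj n).X i ≅ ∐ fun j => ModSite.freeOn O (U j))) ∧
      (∀ (n : ℕ) (i : ℤ), ∃ r : (Kc.obj (n + 1)).X i ⟶ (Kc.obj n).X i,
        (Kc.map (homOfLE (Nat.le_succ n))).f i ≫ r = 𝟙 _ ∧
        ∃ (ι : Type u) (U : ι → C),
          Nonempty (cokernel ((Kc.map (homOfLE (Nat.le_succ n))).f i) ≅
            ∐ fun j => ModSite.freeOn O (U j))) ∧
      ∃ c : colimit Kc ⟶ G,
        (∀ n : ℕ, colimit.ι Kc n ≫ c = π n ≫ G.ιTruncLE ((n : ℤ) + 1)) ∧ QuasiIso c := by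
  obtain ⟨Q, ι, π, h1, h2, h3, h4, -, h6⟩ := PRes.exists_towerZ (hyp_PF O) (coverPF O) G
    (fun n : ℕ => (n : ℤ) + 1) (fun n => by push_cast; omega)
  have hmap : ∀ n, (Functor.ofSequence ι).map (homOfLE (Nat.le_succ n)) = ι n :=
    fun n => Functor.ofSequence_map_homOfLE_succ ι n
  refine ⟨Functor.ofSequence ι, π, ?_, h1, fun n => ⟨_, h2 n⟩, h3, ?_, ?_⟩
  · intro n
    rw [hmap]
    exact h6 n
  · intro n i
    obtain ⟨⟨r, hr⟩, hc⟩ := h4 n i
    refine ⟨r, ?_, ?_⟩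
    · rw [hmap]
      exact hr
    · rw [hmap]
      exact hc
  · haveI := hasExactColimitsOfShape_nat O
    let a : Cocone (Functor.ofSequence ι) :=
      ⟨G, NatTrans.ofSequence (fun n => π n ≫ G.ιTruncLE ((n : ℤ) + 1)) (fun n => by
        dsimp
        rw [Category.comp_id]
        exact (hmap n ▸ h6 n : _))⟩
    refine ⟨colimit.desc _ a, fun n => colimit.ι_desc _ _, ?_⟩
    rw [quasiIso_iff]
    intro i
    apply ColimQuasiIso.quasiIsoAt_desc (Functor.ofSequence ι) a i (i - 1).toNat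
    intro n hn
    change QuasiIsoAt (π n ≫ G.ιTruncLE ((n : ℤ) + 1)) i
    have hq1 : QuasiIsoAt (π n) i := (h1 n).1.quasiIsoAt i
    haveI hq2 : QuasiIsoAt (G.ιTruncLE ((n : ℤ) + 1)) i :=
      G.quasiIsoAt_ιTruncLE _ _ (by
        have := Int.self_le_toNat (i - 1)
        omega)
    exact @quasiIsoAt_comp _ _ _ _ _ _ _ _ (π n) (G.ιTruncLE ((n : ℤ) + 1)) i _ _ _ hq1 hq2

end Groth.Agent.Lib.Helper17.FreeSum
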