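import Mathlib
import Groth.Prelude.Def_Coh
import Groth.Agent.Lib.Helper28.FlatPull2
import Groth.Agent.Lib.Helper29.QCohCrit
import Groth.Agent.Lib.Helper29.QCohQcqs
import Groth.Agent.Lib.Helper29.QCohGen
import Groth.Agent.Lib.Helper29.QCohDescent
import Groth.Agent.Lib.Helper29.QCohPullback

open CategoryTheory CategoryTheory.Limits AlgebraicGeometry

universe u

namespace Groth.Agent.Lib.Helper17.CapCoh

open Groth.Agent.Lib.Helper29.QCoh

variable {X Y : Scheme.{u}}

theorem isQuasicoherent_biprod (A B : X.Modules) [A.IsQuasicoherent] [B.IsQuasicoherent] :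
    (A ⊞ B).IsQuasicoherent := by
  have h : (colimit (pair A B)).IsQuasicoherent := by
    apply isQuasicoherent_colimit_aux (pair A B)
    rintro ⟨_ | _⟩
    · exact inferInstanceAs A.IsQuasicoherent
    · exact inferInstanceAs B.IsQuasicoherent
  exact isQuasicoherent_of_iso (hM := h) (biprod.isoCoprod A B).symm

theorem isQuasicoherent_pullbackObj {A B C : X.Modules} (a : A ⟶ C) (b : B ⟶ C)
    [A.IsQuasicoherent] [B.IsQuasicoherent] [C.IsQuasicoherent] :
    (Limits.pullback a b).IsQuasicoherent := by
  haveI := isQuasicoherent_biprod A B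
  have h : (kernel (biprod.desc a (-b))).IsQuasicoherent := inferInstance
  let e : Limits.pullback a b ≅ kernel (biprod.desc a (-b)) :=
    (Abelian.PullbackToBiproductIsKernel.isLimitPullbackToBiproduct a b).conePointUniqueUpToIso
      (limit.isLimit _)
  exact isQuasicoherent_of_iso (hM := h) e.symm

theorem main (f : Y ⟶ X) [QuasiCompact f] [QuasiSeparated f] [Flat f] [Surjective f]
    [IsLocallyNoetherian Y] (F : X.Modules) [F.IsQuasicoherent] (G : Y.Modules)
    [G.IsQuasicoherent] [G.IsFiniteType] (φ : G ⟶ (Scheme.Modules.pullback f).obj F) [Mono φ] :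
    Coh.IsCoh (Limits.pullback ((Scheme.Modules.pullbackPushforwardAdjunction f).unit.app F)
      ((Scheme.Modules.pushforward f).map φ)) := by
  set adj := Scheme.Modules.pullbackPushforwardAdjunction f with hadj
  haveI : ((Scheme.Modules.pushforward f).obj G).IsQuasicoherent :=
    isQuasicoherent_pushforward_of_qcqs f G
  haveI : ((Scheme.Modules.pushforward f).obj ((Scheme.Modules.pullback f).obj F)).IsQuasicoherent :=
    isQuasicoherent_pushforward_of_qcqs f _
  set P := Limits.pullback (adj.unit.app F) ((Scheme.Modules.pushforward f).map φ) with hP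
  haveI : ((𝟭 X.Modules).obj F).IsQuasicoherent := ‹F.IsQuasicoherent›
  haveI : ((Scheme.Modules.pullback f ⋙ Scheme.Modules.pushforward f).obj F).IsQuasicoherent :=
    isQuasicoherent_pushforward_of_qcqs f _
  haveI hPq : P.IsQuasicoherent := isQuasicoherent_pullbackObj _ _
  refine ⟨hPq, ?_⟩
  haveI : Mono ((Scheme.Modules.pushforward f).map φ) := inferInstance
  let p1 : P ⟶ F := pullback.fst (adj.unit.app F) ((Scheme.Modules.pushforward f).map φ)
  let p2 : P ⟶ (Scheme.Modules.pushforward f).obj G :=
    pullback.snd (adj.unit.app F) ((Scheme.Modules.pushforward f).map φ)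
  haveI : Mono p1 := inferInstance
  haveI : Mono ((Scheme.Modules.pullback f).map p1) :=
    Groth.Agent.Lib.Helper28.FlatPull.mono_pullback_map_of_flat f p1
  let ψ : (Scheme.Modules.pullback f).obj P ⟶ G :=
    (Scheme.Modules.pullback f).map p2 ≫ adj.counit.app G
  have hc : p1 ≫ adj.unit.app F = p2 ≫ (Scheme.Modules.pushforward f).map φ := pullback.condition
  have hψ : ψ ≫ φ = (Scheme.Modules.pullback f).map p1 := by
    have h1 : (Scheme.Modules.pullback f).map (p1 ≫ adj.unit.app F) ≫
        adj.counit.app ((Scheme.Modules.pullback f).obj F) = (Scheme.Modules.pullback f).map p1 := by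
      rw [Functor.map_comp, Category.assoc, adj.left_triangle_components, Category.comp_id]
    have h2 : (Scheme.Modules.pullback f).map (p2 ≫ (Scheme.Modules.pushforward f).map φ) ≫
        adj.counit.app ((Scheme.Modules.pullback f).obj F) = ψ ≫ φ := by
      have hn : (Scheme.Modules.pullback f).map ((Scheme.Modules.pushforward f).map φ) ≫
          adj.counit.app ((Scheme.Modules.pullback f).obj F) = adj.counit.app G ≫ φ :=
        adj.counit.naturality φ
      rw [Functor.map_comp, Category.assoc, hn, ← Category.assoc]
    rw [← h2, ← hc, h1]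
  haveI : Mono ψ := by
    haveI : Mono (ψ ≫ φ) := by rw [hψ]; infer_instance
    exact mono_of_mono ψ φ
  haveI : ((Scheme.Modules.pullback f).obj P).IsQuasicoherent := inferInstance
  haveI : ((Scheme.Modules.pullback f).obj P).IsFiniteType := isFiniteType_of_mono ψ
  exact isFiniteType_of_pullback f P

end Groth.Agent.Lib.Helper17.CapCoh
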