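import Mathlib
import Groth.Prelude.Def_QCohCat
import Groth.Agent.Lib.Helper29.QCohCrit
import Groth.Agent.Lib.Helper29.QCohPullback
import Groth.Agent.Lib.Helper17.CapCoh

/-!
# The category `QCoh(X)` is abelian and cocomplete (helper17)
-/

set_option autoImplicit false

universe u

open CategoryTheory Limits AlgebraicGeometry

namespace Groth.Agent.Lib.Helper17.QCohAb

open Groth.Agent.Lib.Helper29.QCoh

variable (X : Scheme.{u})

instance isClosedUnderIsomorphisms : (QCohCat.isQCoh X).IsClosedUnderIsomorphisms where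
  of_iso e h := isQuasicoherent_of_iso e (hM := h)

variable {X}

lemma isQCoh_kernel {A B : X.Modules} (f : A ⟶ B) (hA : QCohCat.isQCoh X A)
    (hB : QCohCat.isQCoh X B) : QCohCat.isQCoh X (kernel f) := by
  haveI : A.IsQuasicoherent := hA
  haveI : B.IsQuasicoherent := hB
  exact (inferInstance : (kernel f).IsQuasicoherent)

lemma isQCoh_cokernel {A B : X.Modules} (f : A ⟶ B) (hA : QCohCat.isQCoh X A)
    (hB : QCohCat.isQCoh X B) : QCohCat.isQCoh X (cokernel f) := by
  haveI : A.IsQuasicoherent := hA
  haveI : B.IsQuasicoherent := hB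
  exact (inferInstance : (cokernel f).IsQuasicoherent)

lemma isQCoh_biprod (A B : X.Modules) (hA : QCohCat.isQCoh X A)
    (hB : QCohCat.isQCoh X B) : QCohCat.isQCoh X (A ⊞ B) := by
  haveI : A.IsQuasicoherent := hA
  haveI : B.IsQuasicoherent := hB
  exact Groth.Agent.Lib.Helper17.CapCoh.isQuasicoherent_biprod A B

variable (X)

lemma isQCoh_unit : QCohCat.isQCoh X (SheafOfModules.unit X.ringCatSheaf) :=
  (inferInstance : (SheafOfModules.unit X.ringCatSheaf).IsQuasicoherent)

instance containsZero : (QCohCat.isQCoh X).ContainsZero where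
  exists_zero :=
    ⟨kernel (𝟙 (SheafOfModules.unit X.ringCatSheaf : X.Modules)), isZero_kernel_of_mono _,
      isQCoh_kernel _ (isQCoh_unit X) (isQCoh_unit X)⟩

instance isClosedUnderKernels : (QCohCat.isQCoh X).IsClosedUnderKernels where
  kernels_le := by
    rintro _ ⟨f, k, hk, ⟨h1, h2⟩⟩
    have e : kernel f ≅ k.pt := (kernelIsKernel f).conePointUniqueUpToIso hk
    exact (QCohCat.isQCoh X).prop_of_iso e (isQCoh_kernel f h1 h2)

instance isClosedUnderCokernels : (QCohCat.isQCoh X).IsClosedUnderCokernels where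
  cokernels_le := by
    rintro _ ⟨f, k, hk, ⟨h1, h2⟩⟩
    have e : cokernel f ≅ k.pt := (cokernelIsCokernel f).coconePointUniqueUpToIso hk
    exact (QCohCat.isQCoh X).prop_of_iso e (isQCoh_cokernel f h1 h2)

instance isClosedUnderColimitsOfShape (J : Type u) [SmallCategory J] :
    (QCohCat.isQCoh X).IsClosedUnderColimitsOfShape J := by
  apply ObjectProperty.IsClosedUnderColimitsOfShape.mk'
  rintro _ ⟨F, hF⟩
  exact isQuasicoherent_colimit F hF

instance hasColimits : HasColimitsOfSize.{u, u} (QCohCat.QCoh X) where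
  has_colimits_of_shape J _ := by
    change HasColimitsOfShape J (QCohCat.isQCoh X).FullSubcategory
    infer_instance

instance isClosedUnderBinaryProducts : (QCohCat.isQCoh X).IsClosedUnderBinaryProducts := by
  apply ObjectProperty.IsClosedUnderLimitsOfShape.mk'
  rintro _ ⟨F, hF⟩
  have e : limit F ≅ F.obj ⟨WalkingPair.left⟩ ⊞ F.obj ⟨WalkingPair.right⟩ :=
    HasLimit.isoOfNatIso (diagramIsoPair F) ≪≫ (biprod.isoProd _ _).symm
  exact (QCohCat.isQCoh X).prop_of_iso e.symm (isQCoh_biprod _ _ (hF _) (hF _))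

instance isClosedUnderFiniteProducts : (QCohCat.isQCoh X).IsClosedUnderFiniteProducts :=
  ObjectProperty.IsClosedUnderFiniteProducts.mk'

noncomputable instance abelian : Abelian (QCohCat.QCoh X) := by
  change Abelian (QCohCat.isQCoh X).FullSubcategory
  infer_instance

end Groth.Agent.Lib.Helper17.QCohAb
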