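import Mathlib
import Groth.Agent.Lib.Helper17.HomFree
import Groth.Agent.Lib.Helper17.HomFreeAbs
import Groth.Agent.Lib.Helper17.QCohAb
import Groth.Agent.Lib.Helper29.QCohGen
import Groth.Agent.Lib.Helper29.QCohFinite
import Groth.Agent.Lib.Helper12.Dev2

/-!
# `ℋom(O^I, G)` for a finite free module on a scheme
-/

set_option autoImplicit false

universe u

open CategoryTheory Limits Opposite AlgebraicGeometry

namespace Groth.Agent.Lib.Helper17.HomFreeSch

open Groth.Agent.Lib.Helper17.IHom Groth.Agent.Lib.Helper17.HomFree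
  Groth.Agent.Lib.Helper29.QCoh

variable {X : Scheme.{u}}

attribute [local instance] hasSheafHom

/-- a module that is a finite "sum of retracts" of modules of finite type is of finite type -/
theorem isFiniteType_of_sum {I : Type*} [Fintype I] (M : X.Modules) [M.IsQuasicoherent]
    (N : I → X.Modules) [∀ i, (N i).IsQuasicoherent] [∀ i, (N i).IsFiniteType]
    (a : ∀ i, M ⟶ N i) (b : ∀ i, N i ⟶ M) (h : ∑ i, a i ≫ b i = 𝟙 M) : M.IsFiniteType := by
  rw [isFiniteType_iff_forall_module_finite]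
  intro U hU
  haveI : ∀ i, Module.Finite Γ(X, U) Γ(N i, U) := fun i => module_finite_of_isFiniteType (N i) hU
  let f : (∀ i, Γ(N i, U)) →ₗ[Γ(X, U)] Γ(M, U) :=
    ∑ i, (appₗ (b i) U).comp (LinearMap.proj i)
  have hf : Function.Surjective f := by
    intro s
    refine ⟨fun i => (a i).app U s, ?_⟩
    let ev : (M ⟶ M) →+ Γ(M, U) :=
      { toFun := fun φ => φ.app U s
        map_zero' := rfl
        map_add' := fun φ ψ => rfl }
    have h2 := congrArg ev h
    rw [map_sum] at h2
    change _ = s at h2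
    have h3 : f (fun i => (a i).app U s) = ∑ i, ev (a i ≫ b i) := by
      change (∑ i, (appₗ (b i) U).comp (LinearMap.proj i)) (fun i => (a i).app U s) = _
      rw [LinearMap.sum_apply]
      rfl
    exact h3.trans h2
  exact Module.Finite.of_surjective f hf

/-- the internal Hom functor, typed on `X.Modules` -/
noncomputable abbrev SH (P : X.Modules) : X.Modules ⥤ X.Modules :=
  ModSite.sheafHom (O := X.sheaf) P

/-- the contravariant internal Hom functor, typed on `X.Modules` -/
noncomputable abbrev HO (G : X.Modules) : (X.Modules)ᵒᵖ ⥤ X.Modules := homOp (O := X.sheaf) G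

instance (G : X.Modules) : (HO G).Additive :=
  inferInstanceAs ((homOp (O := X.sheaf) G).Additive)

/-- `ℋom(O, G) ≅ G` -/
noncomputable def homUnitIso (G : X.Modules) : (SH (unitM X)).obj G ≅ G :=
  (sheafHomUnitIso (O := X.sheaf)).app G

section

variable (I : Type u) [Fintype I] [DecidableEq I] (G : X.Modules)

lemma hιπ (i j : I) : ιFreeM X j ≫ πFreeM X i = if j = i then 𝟙 (unitM X) else 0 := by
  rw [ιFreeM_πFreeM]
  by_cases h : j = i
  · rw [if_pos h, if_pos h]
  · rw [if_neg h, if_neg h]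

/-- `ℋom(O^I, G) ≅ ⨁_I ℋom(O, G)` -/
noncomputable def homFreeIso :
    (SH (freeM X I)).obj G ≅ ⨁ (fun _ : I => (SH (unitM X)).obj G) :=
  HomFreeAbs.isoBiproduct (HO G) (ιFreeM X) (πFreeM X) (hιπ I) (sum_πFreeM_ιFreeM X)

theorem isQuasicoherent_homUnit [G.IsQuasicoherent] : ((SH (unitM X)).obj G).IsQuasicoherent :=
  (QCohCat.isQCoh X).prop_of_iso (homUnitIso G).symm
    (show QCohCat.isQCoh X G from ‹G.IsQuasicoherent›)

theorem isQuasicoherent_homFree [G.IsQuasicoherent] :
    ((SH (freeM X I)).obj G).IsQuasicoherent := by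
  have h1 : ∀ _ : I, QCohCat.isQCoh X ((SH (unitM X)).obj G) :=
    fun _ => isQuasicoherent_homUnit G
  have h2 : QCohCat.isQCoh X (⨁ (fun _ : I => (SH (unitM X)).obj G)) :=
    (QCohCat.isQCoh X).prop_of_isLimit_fan (biproduct.isLimit _) h1
  exact (QCohCat.isQCoh X).prop_of_iso (homFreeIso I G).symm h2

theorem isFiniteType_homFree [G.IsQuasicoherent] [G.IsFiniteType] :
    ((SH (freeM X I)).obj G).IsFiniteType := by
  haveI := isQuasicoherent_homFree I G
  haveI : ((SH (unitM X)).obj G).IsQuasicoherent := isQuasicoherent_homUnit G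
  haveI : ((SH (unitM X)).obj G).IsFiniteType := isFiniteType_of_epi (homUnitIso G).inv
  let a : ∀ _ : I, (SH (freeM X I)).obj G ⟶ (SH (unitM X)).obj G :=
    fun i => (ExtSupp.sheafHomMap (O := X.sheaf) (ιFreeM X i)).app G
  let b : ∀ _ : I, (SH (unitM X)).obj G ⟶ (SH (freeM X I)).obj G :=
    fun i => (ExtSupp.sheafHomMap (O := X.sheaf) (πFreeM X i)).app G
  have hab : ∑ i, a i ≫ b i = 𝟙 ((SH (freeM X I)).obj G) :=
    HomFreeAbs.bicone_total (HO G) (ιFreeM X) (πFreeM X) (hιπ I) (sum_πFreeM_ιFreeM X)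
  exact isFiniteType_of_sum ((SH (freeM X I)).obj G) (fun _ : I => (SH (unitM X)).obj G) a b hab

theorem isCoh_homFree (hG : Coh.IsCoh G) : Coh.IsCoh ((SH (freeM X I)).obj G) := by
  haveI := hG.1
  haveI := hG.2
  exact ⟨isQuasicoherent_homFree I G, isFiniteType_homFree I G⟩

end

end Groth.Agent.Lib.Helper17.HomFreeSch
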