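import Mathlib
import Groth.Prelude.Def_CxOX
import Groth.Prelude.Def_DCoh4
import Groth.Agent.Lib.Helper28.TotMap
import Groth.Agent.Lib.Helper28.PerfTensor1

/-!
# Restriction to an open commutes with the tensor product of complexes, naturally (helper17)
-/

set_option autoImplicit false

universe u

open CategoryTheory Limits AlgebraicGeometry HomologicalComplex

namespace Groth.Agent.Lib.Helper17.ShriekPF

noncomputable section

section totmap

open Groth.Agent.Lib.Helper28.TotMap

variable {C₁ C₂ D' B₁ B₂ D : Type*} [Category C₁] [Category C₂] [Category D'] [Category B₁]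
  [Category B₂] [Category D]
  [Preadditive C₁] [Preadditive C₂] [Preadditive D'] [Preadditive B₁] [Preadditive B₂]
  [Preadditive D]
  (T' : C₁ ⥤ C₂ ⥤ D') (T : B₁ ⥤ B₂ ⥤ D) (G₁ : C₁ ⥤ B₁) (G₂ : C₂ ⥤ B₂) (G : D' ⥤ D)
  [T'.Additive] [∀ X, (T'.obj X).Additive] [T.Additive] [∀ X, (T.obj X).Additive]
  [G₁.Additive] [G₂.Additive] [G.Additive]
  (φ : ∀ X Y, G.obj ((T'.obj X).obj Y) ≅ (T.obj (G₁.obj X)).obj (G₂.obj Y))
  (K₁ K₁' : CochainComplex C₁ ℤ) (K₂ : CochainComplex C₂ ℤ)
  [HasMapBifunctor K₁ K₂ T' (ComplexShape.up ℤ)]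
  [HasMapBifunctor K₁' K₂ T' (ComplexShape.up ℤ)]
  [HasMapBifunctor ((G₁.mapHomologicalComplex (ComplexShape.up ℤ)).obj K₁)
    ((G₂.mapHomologicalComplex (ComplexShape.up ℤ)).obj K₂) T (ComplexShape.up ℤ)]
  [HasMapBifunctor ((G₁.mapHomologicalComplex (ComplexShape.up ℤ)).obj K₁')
    ((G₂.mapHomologicalComplex (ComplexShape.up ℤ)).obj K₂) T (ComplexShape.up ℤ)]
  [∀ (J : Type), PreservesColimitsOfShape (Discrete J) G]
  (nat₁ : ∀ {X X' : C₁} (f : X ⟶ X') (Y : C₂), G.map ((T'.map f).app Y) ≫ (φ X' Y).hom =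
    (φ X Y).hom ≫ (T.map (G₁.map f)).app (G₂.obj Y))
  (nat₂ : ∀ (X : C₁) {Y Y' : C₂} (g : Y ⟶ Y'), G.map ((T'.obj X).map g) ≫ (φ X Y').hom =
    (φ X Y).hom ≫ (T.obj (G₁.obj X)).map (G₂.map g))

include nat₁ in
lemma ψinv_naturality₁ (f : K₁ ⟶ K₁') (n : ℤ) :
    G.map ((mapBifunctorMap f (𝟙 K₂) T' (ComplexShape.up ℤ)).f n) ≫
        ψinv T' T G₁ G₂ G φ K₁' K₂ n =
      ψinv T' T G₁ G₂ G φ K₁ K₂ n ≫
        (mapBifunctorMap ((G₁.mapHomologicalComplex (ComplexShape.up ℤ)).map f)
          (𝟙 ((G₂.mapHomologicalComplex (ComplexShape.up ℤ)).obj K₂)) T (ComplexShape.up ℤ)).f n := by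
  apply map_hom_ext T' G K₁ K₂
  intro p q h
  have hL : ιA T' K₁ K₂ p q n h ≫ (mapBifunctorMap f (𝟙 K₂) T' (ComplexShape.up ℤ)).f n =
      (T'.map (f.f p)).app (K₂.X q) ≫ ιA T' K₁' K₂ p q n h := by
    unfold ιA
    rw [ι_mapBifunctorMap]
    simp
  have hR : ιB T G₁ G₂ K₁ K₂ p q n h ≫
      (mapBifunctorMap ((G₁.mapHomologicalComplex (ComplexShape.up ℤ)).map f)
        (𝟙 ((G₂.mapHomologicalComplex (ComplexShape.up ℤ)).obj K₂)) T (ComplexShape.up ℤ)).f n =
      (T.map (G₁.map (f.f p))).app (G₂.obj (K₂.X q)) ≫ ιB T G₁ G₂ K₁' K₂ p q n h := by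
    unfold ιB
    refine (ι_mapBifunctorMap ((G₁.mapHomologicalComplex (ComplexShape.up ℤ)).map f)
        (𝟙 ((G₂.mapHomologicalComplex (ComplexShape.up ℤ)).obj K₂)) T (ComplexShape.up ℤ)
        p q n h).trans ?_
    simp
    rfl
  rw [map_ι_ψinv_assoc, ← G.map_comp_assoc, hL, G.map_comp, Category.assoc, map_ι_ψinv, hR,
    ← Category.assoc, nat₁, Category.assoc]

include nat₁ nat₂ in
lemma mapTotIso_hom_naturality₁ (f : K₁ ⟶ K₁') :
    (G.mapHomologicalComplex (ComplexShape.up ℤ)).map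
        (mapBifunctorMap f (𝟙 K₂) T' (ComplexShape.up ℤ)) ≫
        (mapTotIso T' T G₁ G₂ G φ K₁' K₂ nat₁ nat₂).hom =
      (mapTotIso T' T G₁ G₂ G φ K₁ K₂ nat₁ nat₂).hom ≫
        mapBifunctorMap ((G₁.mapHomologicalComplex (ComplexShape.up ℤ)).map f)
          (𝟙 ((G₂.mapHomologicalComplex (ComplexShape.up ℤ)).obj K₂)) T (ComplexShape.up ℤ) := by
  ext n
  exact ψinv_naturality₁ T' T G₁ G₂ G φ K₁ K₁' K₂ nat₁ f n

end totmap

section restr

open Groth.Agent.Lib.Helper28.StalkTensor Groth.Agent.Lib.Helper28.PerfTensor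

variable {X U : Scheme.{u}} (j : U ⟶ X) [IsOpenImmersion j]

lemma restrictTensorIso'_nat₁ {A A' : X.Modules} (g : A ⟶ A') (B : X.Modules) :
    (Scheme.Modules.restrictFunctor j).map (((DCoh.tensorBi (X := X)).map g).app B) ≫
        (restrictTensorIso' j A' B).hom =
      (restrictTensorIso' j A B).hom ≫
        ((DCoh.tensorBi (X := U)).map ((Scheme.Modules.restrictFunctor j).map g)).app
          ((Scheme.Modules.restrictFunctor j).obj B) := by
  unfold restrictTensorIso'
  simp only [Iso.trans_hom, Iso.app_hom, Iso.app_inv, Functor.mapIso_hom, Iso.symm_hom, Category.assoc]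
  have h1 := (Scheme.Modules.restrictFunctorIsoPullback j).hom.naturality
    (((DCoh.tensorBi (X := X)).map g).app B)
  have h2 := pullTensorIso_nat₁ j g B
  have h3 : (Scheme.Modules.pullback j).map g ≫
      (Scheme.Modules.restrictFunctorIsoPullback j).inv.app A' =
      (Scheme.Modules.restrictFunctorIsoPullback j).inv.app A ≫
        (Scheme.Modules.restrictFunctor j).map g :=
    (Scheme.Modules.restrictFunctorIsoPullback j).inv.naturality g
  rw [reassoc_of% h1, reassoc_of% h2]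
  congr 2
  rw [← NatTrans.comp_app_assoc, ← Functor.map_comp, h3, Functor.map_comp,
    NatTrans.comp_app_assoc]
  congr 1
  exact (((DCoh.tensorBi (X := U)).map ((Scheme.Modules.restrictFunctor j).map g)).naturality
    ((Scheme.Modules.restrictFunctorIsoPullback j).inv.app B)).symm

lemma restrictTensorIso'_nat₂ (A : X.Modules) {B B' : X.Modules} (g : B ⟶ B') :
    (Scheme.Modules.restrictFunctor j).map (((DCoh.tensorBi (X := X)).obj A).map g) ≫
        (restrictTensorIso' j A B').hom =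
      (restrictTensorIso' j A B).hom ≫
        ((DCoh.tensorBi (X := U)).obj ((Scheme.Modules.restrictFunctor j).obj A)).map
          ((Scheme.Modules.restrictFunctor j).map g) := by
  unfold restrictTensorIso'
  simp only [Iso.trans_hom, Iso.app_hom, Iso.app_inv, Functor.mapIso_hom, Iso.symm_hom, Category.assoc]
  have h1 := (Scheme.Modules.restrictFunctorIsoPullback j).hom.naturality
    (((DCoh.tensorBi (X := X)).obj A).map g)
  have h2 := pullTensorIso_nat₂ j A g
  have h3 : (Scheme.Modules.pullback j).map g ≫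
      (Scheme.Modules.restrictFunctorIsoPullback j).inv.app B' =
      (Scheme.Modules.restrictFunctorIsoPullback j).inv.app B ≫
        (Scheme.Modules.restrictFunctor j).map g :=
    (Scheme.Modules.restrictFunctorIsoPullback j).inv.naturality g
  rw [reassoc_of% h1, reassoc_of% h2]
  congr 2
  rw [(((DCoh.tensorBi (X := U)).map
    ((Scheme.Modules.restrictFunctorIsoPullback j).inv.app A)).naturality_assoc
      ((Scheme.Modules.pullback j).map g)), ← Functor.map_comp, h3, Functor.map_comp]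

instance preservesColimitsOfShape_restrictFunctor (J' : Type) :
    PreservesColimitsOfShape (Discrete J') (Scheme.Modules.restrictFunctor j) :=
  (Scheme.Modules.restrictAdjunction j).leftAdjoint_preservesColimits.preservesColimitsOfShape

/-- restriction of complexes to an open subscheme -/
abbrev rCx : CochainComplex X.Modules ℤ ⥤ CochainComplex U.Modules ℤ :=
  (Scheme.Modules.restrictFunctor j).mapHomologicalComplex (ComplexShape.up ℤ)

/-- `(L ⊗ K)|_U ≅ L|_U ⊗ K|_U` for complexes -/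
def resTensorCxIso (L K : CochainComplex X.Modules ℤ) :
    (rCx j).obj ((DCoh.tensorCx.obj L).obj K) ≅
      (DCoh.tensorCx.obj ((rCx j).obj L)).obj ((rCx j).obj K) :=
  Groth.Agent.Lib.Helper28.TotMap.mapTotIso (DCoh.tensorBi (X := X)) (DCoh.tensorBi (X := U))
    (Scheme.Modules.restrictFunctor j) (Scheme.Modules.restrictFunctor j)
    (Scheme.Modules.restrictFunctor j)
    (fun A B => restrictTensorIso' j A B) L K
    (fun g B => restrictTensorIso'_nat₁ j g B) (fun A _ _ g => restrictTensorIso'_nat₂ j A g)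

/-- `(- ⊗ K)|_U ≅ (-)|_U ⊗ K|_U` as functors on complexes -/
def resTensorCxNatIso (K : CochainComplex X.Modules ℤ) :
    (DCoh.tensorCx (X := X)).flip.obj K ⋙ rCx j ≅
      rCx j ⋙ (DCoh.tensorCx (X := U)).flip.obj ((rCx j).obj K) :=
  NatIso.ofComponents (fun L => resTensorCxIso j L K) (fun {L L'} f =>
    mapTotIso_hom_naturality₁ (DCoh.tensorBi (X := X)) (DCoh.tensorBi (X := U))
      (Scheme.Modules.restrictFunctor j) (Scheme.Modules.restrictFunctor j)
      (Scheme.Modules.restrictFunctor j)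
      (fun A B => restrictTensorIso' j A B) L L' K
      (fun g B => restrictTensorIso'_nat₁ j g B) (fun A _ _ g => restrictTensorIso'_nat₂ j A g) f)

end restr

end

end Groth.Agent.Lib.Helper17.ShriekPF
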