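import Groth.Prelude.Def_CxOX
import Groth.Agent.Lib.Helper17.ExtZero
import Groth.Agent.Lib.Helper5.KInjAdj

/-!
# Restriction to an open subscheme preserves injectives and K-injectives
-/

set_option autoImplicit false
universe u

open CategoryTheory Limits AlgebraicGeometry

namespace Groth.Agent.Lib.Helper17.RestrKInj

variable {X : Scheme.{u}} (V : X.Opens)

/-- extension by zero along an open subscheme is exact. -/
instance preservesFiniteLimits_extZero : PreservesFiniteLimits (CxOX.extZero V.ι) := by
  haveI h0 : PreservesFiniteLimits (ModSite.extZero X.sheaf V) :=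
    Groth.Agent.Lib.Helper17.ExtZero.extZero_preservesFiniteLimits X.sheaf V
  haveI : (Scheme.Modules.overEquiv V).inverse.IsEquivalence := inferInstance
  haveI : PreservesFiniteLimits (Scheme.Modules.overEquiv V).inverse := inferInstance
  have h1 : PreservesFiniteLimits
      ((Scheme.Modules.overEquiv V).inverse ⋙ ModSite.extZero X.sheaf V) :=
    @comp_preservesFiniteLimits _ _ _ _ _ _ _ _ _ h0
  exact @preservesFiniteLimits_of_natIso _ _ _ _ _ _ (CxOX.extZeroIsoSite V).symm h1

instance preservesHomology_extZero : (CxOX.extZero V.ι).PreservesHomology := inferInstance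

/-- restriction to an open subscheme preserves K-injective complexes. -/
instance isKInjective_restrict (I : CochainComplex X.Modules ℤ) [I.IsKInjective] :
    CochainComplex.IsKInjective
      (((Scheme.Modules.restrictFunctor V.ι).mapHomologicalComplex (ComplexShape.up ℤ)).obj I) :=
  Groth.Agent.Lib.Helper5.KInjAdj.isKInjective_map (CxOX.extZeroAdj V.ι) I

/-- restriction to an open subscheme preserves injective modules. -/
instance injective_restrict (M : X.Modules) [Injective M] :
    Injective ((Scheme.Modules.restrictFunctor V.ι).obj M) :=
  Injective.injective_of_adjoint (CxOX.extZeroAdj V.ι) M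

end Groth.Agent.Lib.Helper17.RestrKInj
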