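import Mathlib
import Groth.Prelude.Def_CxOX
import Groth.Prelude.Def_DCoh4
import Groth.Agent.Lib.Helper17.RestrKInj

/-!
# Extension by zero on derived categories: the adjunction `j_! ⊣ j^*` and its unit (helper17)
-/

set_option autoImplicit false

universe u

open CategoryTheory Limits AlgebraicGeometry

attribute [local instance] HasDerivedCategory.standard

namespace Groth.Agent.Lib.Helper17.ShriekPF

noncomputable section

section general
universe u₁ v₁ u₂ v₂ w₁ w₂
variable {C₁ : Type u₁} [Category.{v₁} C₁] [Preadditive C₁]
  {C₂ : Type u₂} [Category.{v₂} C₂] [Preadditive C₂]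
  {F : C₁ ⥤ C₂} {G : C₂ ⥤ C₁} [F.Additive] [G.Additive]

/-- An adjunction between additive functors induces an adjunction on homological complexes. -/
def mapHomologicalComplexAdj (adj : F ⊣ G) {ι : Type*} (c : ComplexShape ι) :
    F.mapHomologicalComplex c ⊣ G.mapHomologicalComplex c :=
  Adjunction.mkOfUnitCounit
    { unit :=
        { app := fun K =>
            { f := fun i => adj.unit.app (K.X i)
              comm' := fun i j _ => by
                dsimp
                exact (adj.unit.naturality (K.d i j)).symm }
          naturality := fun K L φ => by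
            ext i
            dsimp
            exact adj.unit.naturality (φ.f i) }
      counit :=
        { app := fun L =>
            { f := fun i => adj.counit.app (L.X i)
              comm' := fun i j _ => by
                dsimp
                exact (adj.counit.naturality (L.d i j)).symm }
          naturality := fun K L φ => by
            ext i
            dsimp
            exact adj.counit.naturality (φ.f i) }
      left_triangle := by
        ext K i
        dsimp
        rw [Category.id_comp]
        exact adj.left_triangle_components (K.X i)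
      right_triangle := by
        ext L i
        dsimp
        rw [Category.id_comp]
        exact adj.right_triangle_components (L.X i) }

@[simp]
lemma mapHomologicalComplexAdj_unit_app_f (adj : F ⊣ G) {ι : Type*} (c : ComplexShape ι)
    (K : HomologicalComplex C₁ c) (i : ι) :
    ((mapHomologicalComplexAdj adj c).unit.app K).f i = adj.unit.app (K.X i) := rfl

@[simp]
lemma mapHomologicalComplexAdj_counit_app_f (adj : F ⊣ G) {ι : Type*} (c : ComplexShape ι)
    (L : HomologicalComplex C₂ c) (i : ι) :
    ((mapHomologicalComplexAdj adj c).counit.app L).f i = adj.counit.app (L.X i) := rfl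

end general

section derived
universe u₁ v₁ u₂ v₂ w₁ w₂
variable {C₁ : Type u₁} [Category.{v₁} C₁] [Abelian C₁] [HasDerivedCategory.{w₁} C₁]
  {C₂ : Type u₂} [Category.{v₂} C₂] [Abelian C₂] [HasDerivedCategory.{w₂} C₂]
  (F : C₁ ⥤ C₂) (G : C₂ ⥤ C₁) [F.Additive] [G.Additive]
  [PreservesFiniteLimits F] [PreservesFiniteColimits F]
  [PreservesFiniteLimits G] [PreservesFiniteColimits G]

/-- Adjoint exact functors induce adjoint functors on derived categories. -/
def mapDerivedCategoryAdj (adj : F ⊣ G) :
    F.mapDerivedCategory ⊣ G.mapDerivedCategory := by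
  letI : CatCommSq (F.mapHomologicalComplex (ComplexShape.up ℤ)) DerivedCategory.Q DerivedCategory.Q
      F.mapDerivedCategory := ⟨F.mapDerivedCategoryFactors.symm⟩
  letI : CatCommSq (G.mapHomologicalComplex (ComplexShape.up ℤ)) DerivedCategory.Q DerivedCategory.Q
      G.mapDerivedCategory := ⟨G.mapDerivedCategoryFactors.symm⟩
  exact (mapHomologicalComplexAdj adj (ComplexShape.up ℤ)).localization
    DerivedCategory.Q (HomologicalComplex.quasiIso C₁ (ComplexShape.up ℤ))
    DerivedCategory.Q (HomologicalComplex.quasiIso C₂ (ComplexShape.up ℤ))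
    F.mapDerivedCategory G.mapDerivedCategory

lemma mapDerivedCategoryAdj_unit_app (adj : F ⊣ G) (K : CochainComplex C₁ ℤ) :
    (mapDerivedCategoryAdj F G adj).unit.app (DerivedCategory.Q.obj K) =
      DerivedCategory.Q.map ((mapHomologicalComplexAdj adj (ComplexShape.up ℤ)).unit.app K) ≫
        G.mapDerivedCategoryFactors.inv.app _ ≫
        G.mapDerivedCategory.map (F.mapDerivedCategoryFactors.inv.app K) := by
  letI : CatCommSq (F.mapHomologicalComplex (ComplexShape.up ℤ)) DerivedCategory.Q DerivedCategory.Q
      F.mapDerivedCategory := ⟨F.mapDerivedCategoryFactors.symm⟩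
  letI : CatCommSq (G.mapHomologicalComplex (ComplexShape.up ℤ)) DerivedCategory.Q DerivedCategory.Q
      G.mapDerivedCategory := ⟨G.mapDerivedCategoryFactors.symm⟩
  exact Adjunction.localization_unit_app (mapHomologicalComplexAdj adj (ComplexShape.up ℤ))
    DerivedCategory.Q (HomologicalComplex.quasiIso C₁ (ComplexShape.up ℤ))
    DerivedCategory.Q (HomologicalComplex.quasiIso C₂ (ComplexShape.up ℤ))
    F.mapDerivedCategory G.mapDerivedCategory K

lemma mapDerivedCategoryAdj_counit_app (adj : F ⊣ G) (L : CochainComplex C₂ ℤ) :
    (mapDerivedCategoryAdj F G adj).counit.app (DerivedCategory.Q.obj L) =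
      F.mapDerivedCategory.map (G.mapDerivedCategoryFactors.hom.app L) ≫
        F.mapDerivedCategoryFactors.hom.app _ ≫
        DerivedCategory.Q.map ((mapHomologicalComplexAdj adj (ComplexShape.up ℤ)).counit.app L) := by
  letI : CatCommSq (F.mapHomologicalComplex (ComplexShape.up ℤ)) DerivedCategory.Q DerivedCategory.Q
      F.mapDerivedCategory := ⟨F.mapDerivedCategoryFactors.symm⟩
  letI : CatCommSq (G.mapHomologicalComplex (ComplexShape.up ℤ)) DerivedCategory.Q DerivedCategory.Q
      G.mapDerivedCategory := ⟨G.mapDerivedCategoryFactors.symm⟩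
  exact Adjunction.localization_counit_app (mapHomologicalComplexAdj adj (ComplexShape.up ℤ))
    DerivedCategory.Q (HomologicalComplex.quasiIso C₁ (ComplexShape.up ℤ))
    DerivedCategory.Q (HomologicalComplex.quasiIso C₂ (ComplexShape.up ℤ))
    F.mapDerivedCategory G.mapDerivedCategory L

/-- if the unit of the adjunction is an isomorphism, so is the unit of the derived adjunction -/
lemma isIso_mapDerivedCategoryAdj_unit (adj : F ⊣ G) [IsIso adj.unit] :
    IsIso (mapDerivedCategoryAdj F G adj).unit := by
  have key : ∀ K : CochainComplex C₁ ℤ,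
      IsIso ((mapDerivedCategoryAdj F G adj).unit.app (DerivedCategory.Q.obj K)) := by
    intro K
    rw [mapDerivedCategoryAdj_unit_app]
    have : IsIso ((mapHomologicalComplexAdj adj (ComplexShape.up ℤ)).unit.app K) := by
      have : ∀ i, IsIso (((mapHomologicalComplexAdj adj (ComplexShape.up ℤ)).unit.app K).f i) := by
        intro i
        rw [mapHomologicalComplexAdj_unit_app_f]
        exact (NatIso.isIso_app_of_isIso adj.unit (K.X i))
      exact HomologicalComplex.Hom.isIso_of_components _
    infer_instance
  have : ∀ Y : DerivedCategory C₁, IsIso ((mapDerivedCategoryAdj F G adj).unit.app Y) := by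
    intro Y
    exact (NatTrans.isIso_app_iff_of_iso (mapDerivedCategoryAdj F G adj).unit
      (DerivedCategory.Q.objObjPreimageIso Y)).1 (key _)
  exact NatIso.isIso_of_isIso_app _

end derived

end

end Groth.Agent.Lib.Helper17.ShriekPF
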