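import Mathlib
import Groth.Prelude.Def_CxOX
import Groth.Prelude.Def_DCoh4
import Groth.Agent.Lib.Helper17.RestrKInj
import Groth.Agent.Lib.Helper17.ProjFormula
import Groth.Agent.Lib.Helper17.ShriekPF1

/-!
# The essential image of extension by zero is stable under tensor products (helper17)
-/

set_option autoImplicit false

universe u

open CategoryTheory Limits AlgebraicGeometry HomologicalComplex

namespace Groth.Agent.Lib.Helper17.ShriekPF

noncomputable section

section abstract

variable {C D : Type*} [Category C] [Category D] {L : C ⥤ D} {R : D ⥤ C} (adj : L ⊣ R)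

lemma isIso_counit_app_obj [IsIso adj.unit] (N : C) : IsIso (adj.counit.app (L.obj N)) := by
  have h := adj.left_triangle_components N
  have : IsIso (L.map (adj.unit.app N)) := by
    have : IsIso (adj.unit.app N) := NatIso.isIso_app_of_isIso adj.unit N
    infer_instance
  have h2 : adj.counit.app (L.obj N) = inv (L.map (adj.unit.app N)) := by
    rw [← cancel_epi (L.map (adj.unit.app N)), h, IsIso.hom_inv_id]
    rfl
  rw [h2]
  infer_instance

lemma isIso_counit_app_of_iso [IsIso adj.unit] {M : D} {N : C} (i : M ≅ L.obj N) :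
    IsIso (adj.counit.app M) :=
  (NatTrans.isIso_app_iff_of_iso adj.counit i).2 (isIso_counit_app_obj adj N)

lemma isIso_counit_app_sigma {J : Type*} (M : J → D) [HasCoproductsOfShape J D]
    [PreservesColimit (Discrete.functor M) (R ⋙ L)]
    (h : ∀ i, IsIso (adj.counit.app (M i))) : IsIso (adj.counit.app (∐ M)) := by
  let c : ∀ i, (R ⋙ L).obj (M i) ⟶ M i := fun i => adj.counit.app (M i)
  have hc : ∀ i, IsIso (c i) := h
  have h1 : sigmaComparison (R ⋙ L) M ≫ adj.counit.app (∐ M) = Limits.Sigma.map c := by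
    apply Sigma.hom_ext
    intro i
    rw [ι_comp_sigmaComparison_assoc, Sigma.ι_map]
    exact adj.counit.naturality (Sigma.ι M i)
  have h2 : IsIso (Limits.Sigma.map c) := inferInstance
  have h3 : adj.counit.app (∐ M) = inv (sigmaComparison (R ⋙ L) M) ≫ Limits.Sigma.map c := by
    rw [IsIso.eq_inv_comp, h1]
  rw [h3]
  infer_instance

end abstract

variable {X : Scheme.{u}} (V : X.Opens)

instance isIso_unit_extZeroAdj : IsIso (CxOX.extZeroAdj V.ι).unit := by
  let t : Adjunction.Triple (CxOX.extZero V.ι) (Scheme.Modules.restrictFunctor V.ι)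
      (Scheme.Modules.pushforward V.ι) :=
    { adj₁ := CxOX.extZeroAdj V.ι
      adj₂ := Scheme.Modules.restrictAdjunction V.ι }
  exact t.isIso_unit_iff_isIso_counit.2 inferInstance

/-- `j_!` of a module on the site `Opens(X)/V` is `j_!` of a module on the scheme `V` -/
def extSiteIso (G : ModSite.Mod (X.sheaf.over V)) :
    (ModSite.extZero X.sheaf V).obj G ≅
      (CxOX.extZero V.ι).obj ((Scheme.Modules.overEquiv V).functor.obj G) :=
  (ModSite.extZero X.sheaf V).mapIso ((Scheme.Modules.overEquiv V).unitIso.app G) ≪≫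
    ((CxOX.extZeroIsoSite V).app ((Scheme.Modules.overEquiv V).functor.obj G)).symm

/-- `j_!N ⊗ F` is in the essential image of `j_!` -/
lemma exists_iso_tensor_extZero (N : (V : Scheme.{u}).Modules) (F : X.Modules) :
    ∃ N' : (V : Scheme.{u}).Modules, Nonempty
      (((DCoh.tensorBi (X := X)).obj ((CxOX.extZero V.ι).obj N)).obj F ≅
        (CxOX.extZero V.ι).obj N') := by
  let G : ModSite.Mod (X.sheaf.over V) := (Scheme.Modules.overEquiv V).inverse.obj N
  let i1 : (CxOX.extZero V.ι).obj N ≅ (ModSite.extZero X.sheaf V).obj G :=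
    (CxOX.extZeroIsoSite V).app N
  let i2 : ((DCoh.tensorBi (X := X)).obj ((CxOX.extZero V.ι).obj N)).obj F ≅
      ((ModSite.tensorBi X.sheaf).obj ((ModSite.extZero X.sheaf V).obj G)).obj F :=
    ((DCoh.tensorBi (X := X)).mapIso i1).app F
  let i3 := ((ProjFormula.pf (O := X.sheaf) F V).app G).symm
  exact ⟨_, ⟨i2 ≪≫ i3 ≪≫ extSiteIso V _⟩⟩

lemma isIso_counit_tensor_extZero (N : (V : Scheme.{u}).Modules) (F : X.Modules) :
    IsIso ((CxOX.extZeroAdj V.ι).counit.app
      (((DCoh.tensorBi (X := X)).obj ((CxOX.extZero V.ι).obj N)).obj F)) := by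
  obtain ⟨N', ⟨i⟩⟩ := exists_iso_tensor_extZero V N F
  exact isIso_counit_app_of_iso (CxOX.extZeroAdj V.ι) i

lemma isIso_counit_tensor_extZero' (F : X.Modules) (N : (V : Scheme.{u}).Modules) :
    IsIso ((CxOX.extZeroAdj V.ι).counit.app
      (((DCoh.tensorBi (X := X)).obj F).obj ((CxOX.extZero V.ι).obj N))) := by
  obtain ⟨N', ⟨i⟩⟩ := exists_iso_tensor_extZero V N F
  let b : ((DCoh.tensorBi (X := X)).obj F).obj ((CxOX.extZero V.ι).obj N) ≅
      ((DCoh.tensorBi (X := X)).obj ((CxOX.extZero V.ι).obj N)).obj F :=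
    Tensor.braidIso (O := X.sheaf) F ((CxOX.extZero V.ι).obj N)
  exact isIso_counit_app_of_iso (CxOX.extZeroAdj V.ι) (b ≪≫ i)

end

end Groth.Agent.Lib.Helper17.ShriekPF
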