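import Mathlib
import Groth.Prelude.Def_CxOX
import Groth.Prelude.Def_DCoh4
import Groth.Prelude.Def_ModSite2
import Groth.Agent.Lib.Helper17.ShriekPF3
import Groth.Agent.Lib.Helper17.ShriekPF2
import Groth.Agent.Lib.Helper5.RDPost
import Groth.Agent.Lib.Helper5.RightDerivedComp
import Groth.Agent.Lib.Helper22.RightDerivedExact

/-!
# Restriction to an open subscheme commutes with the internal Hom and with the Ext sheaves
-/

set_option autoImplicit false

universe u

open CategoryTheory Limits AlgebraicGeometry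

namespace Groth.Agent.Lib.Helper17.SheafHomRestr

open Groth.Agent.Lib.Helper17.ShriekPF Groth.Agent.Lib.Helper28.PerfTensor

noncomputable section

variable {X : Scheme.{u}} (V : X.Opens) (F : X.Modules)

/-- `- ⊗ F` -/
abbrev TF : X.Modules ⥤ X.Modules := (ModSite.tensorBi X.sheaf).flip.obj F

/-- `- ⊗ F|_V` -/
abbrev TF' : (V : Scheme.{u}).Modules ⥤ (V : Scheme.{u}).Modules :=
  (ModSite.tensorBi (V : Scheme.{u}).sheaf).flip.obj ((Scheme.Modules.restrictFunctor V.ι).obj F)

/-- the projection formula morphism `j_!(N ⊗ F|_V) ⟶ j_!N ⊗ F` -/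
def pfHom (N : (V : Scheme.{u}).Modules) :
    (CxOX.extZero V.ι).obj ((TF' V F).obj N) ⟶ (TF F).obj ((CxOX.extZero V.ι).obj N) :=
  ((CxOX.extZeroAdj V.ι).homEquiv _ _).symm
    ((TF' V F).map ((CxOX.extZeroAdj V.ι).unit.app N) ≫
      (restrictTensorIso' V.ι ((CxOX.extZero V.ι).obj N) F).inv)

instance isIso_pfHom (N : (V : Scheme.{u}).Modules) : IsIso (pfHom V F N) := by
  unfold pfHom
  rw [Adjunction.homEquiv_counit]
  haveI : IsIso ((CxOX.extZeroAdj V.ι).unit.app N) := inferInstance
  haveI : IsIso ((CxOX.extZeroAdj V.ι).counit.app ((TF F).obj ((CxOX.extZero V.ι).obj N))) :=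
    isIso_counit_tensor_extZero V N F
  infer_instance

lemma pfHom_naturality {N N' : (V : Scheme.{u}).Modules} (g : N ⟶ N') :
    (CxOX.extZero V.ι).map ((TF' V F).map g) ≫ pfHom V F N' =
      pfHom V F N ≫ (TF F).map ((CxOX.extZero V.ι).map g) := by
  unfold pfHom
  rw [← Adjunction.homEquiv_naturality_left_symm, ← Adjunction.homEquiv_naturality_right_symm]
  congr 1
  have h1 := (CxOX.extZeroAdj V.ι).unit.naturality g
  have h2 := restrictTensorIso'_nat₁ V.ι ((CxOX.extZero V.ι).map g) F
  rw [← Category.assoc, ← Functor.map_comp]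
  have h1' : g ≫ (CxOX.extZeroAdj V.ι).unit.app N' = (CxOX.extZeroAdj V.ι).unit.app N ≫
      (Scheme.Modules.restrictFunctor V.ι).map ((CxOX.extZero V.ι).map g) := h1
  rw [h1', Functor.map_comp, Category.assoc, Category.assoc]
  congr 1
  rw [Iso.comp_inv_eq, Category.assoc]
  rw [Iso.eq_inv_comp]
  exact h2.symm

/-- the projection formula, as an isomorphism of functors -/
def pf : TF' V F ⋙ CxOX.extZero V.ι ≅ CxOX.extZero V.ι ⋙ TF F :=
  NatIso.ofComponents (fun N => asIso (pfHom V F N)) (fun g => pfHom_naturality V F g)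

variable [ModSite.HasSheafHom (O := X.sheaf) F]
  [ModSite.HasSheafHom (O := (V : Scheme.{u}).sheaf) ((Scheme.Modules.restrictFunctor V.ι).obj F)]

def adj1 : CxOX.extZero V.ι ⋙ TF F ⊣
    ModSite.sheafHom (O := X.sheaf) F ⋙ Scheme.Modules.restrictFunctor V.ι :=
  (CxOX.extZeroAdj V.ι).comp (ModSite.sheafHomAdj (O := X.sheaf) F)

def adj2 : TF' V F ⋙ CxOX.extZero V.ι ⊣ Scheme.Modules.restrictFunctor V.ι ⋙
    ModSite.sheafHom (O := (V : Scheme.{u}).sheaf) ((Scheme.Modules.restrictFunctor V.ι).obj F) :=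
  (ModSite.sheafHomAdj (O := (V : Scheme.{u}).sheaf)
    ((Scheme.Modules.restrictFunctor V.ι).obj F)).comp (CxOX.extZeroAdj V.ι)

/-- restriction to an open subscheme commutes with the internal Hom -/
def sheafHomRestrIso :
    ModSite.sheafHom (O := X.sheaf) F ⋙ Scheme.Modules.restrictFunctor V.ι ≅
      Scheme.Modules.restrictFunctor V.ι ⋙
        ModSite.sheafHom (O := (V : Scheme.{u}).sheaf)
          ((Scheme.Modules.restrictFunctor V.ι).obj F) :=
  conjugateIsoEquiv (adj1 V F) (adj2 V F) (pf V F)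

/-- restriction to an open subscheme commutes with the Ext sheaves -/
theorem extShRestrIso [HasInjectiveResolutions (ModSite.Mod X.sheaf)]
    [HasInjectiveResolutions (ModSite.Mod (V : Scheme.{u}).sheaf)] (G : X.Modules) (i : ℕ) :
    Nonempty
    ((Scheme.Modules.restrictFunctor V.ι).obj ((ModSite.extSh (O := X.sheaf) F i).obj G) ≅
      (ModSite.extSh (O := (V : Scheme.{u}).sheaf)
        ((Scheme.Modules.restrictFunctor V.ι).obj F) i).obj
          ((Scheme.Modules.restrictFunctor V.ι).obj G)) := by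
  let R : X.Modules ⥤ (V : Scheme.{u}).Modules := Scheme.Modules.restrictFunctor V.ι
  let T : X.Modules ⥤ X.Modules := ModSite.sheafHom (O := X.sheaf) F
  let T' : (V : Scheme.{u}).Modules ⥤ (V : Scheme.{u}).Modules :=
    ModSite.sheafHom (O := (V : Scheme.{u}).sheaf) (R.obj F)
  haveI : T.Additive := ModSite.sheafHom_additive (O := X.sheaf) F
  haveI : T'.Additive := ModSite.sheafHom_additive (O := (V : Scheme.{u}).sheaf) (R.obj F)
  haveI : R.Additive := (Scheme.Modules.restrictAdjunction V.ι).left_adjoint_additive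
  haveI : HasInjectiveResolutions X.Modules := ‹HasInjectiveResolutions (ModSite.Mod X.sheaf)›
  haveI : HasInjectiveResolutions (V : Scheme.{u}).Modules :=
    ‹HasInjectiveResolutions (ModSite.Mod (V : Scheme.{u}).sheaf)›
  haveI : R.PreservesInjectiveObjects :=
    Functor.preservesInjectiveObjects_of_adjunction_of_preservesMonomorphisms
      (CxOX.extZeroAdj V.ι)
  let e : T ⋙ R ≅ R ⋙ T' := sheafHomRestrIso V F
  exact ⟨((Groth.Agent.Lib.Helper5.RDPost.rightDerivedPostIso T R i).symm.app G) ≪≫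
    ((Groth.Agent.Lib.Helper22.DimShift.rightDerivedIsoOfNatIso e i).app G) ≪≫
    ((Groth.Agent.Lib.Helper5.RDComp.rightDerivedCompIso R T' i).app G)⟩

end

end Groth.Agent.Lib.Helper17.SheafHomRestr
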