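import Groth.Agent.Lib.Helper17.Baer5
import Groth.Agent.Lib.Helper29.QCohCrit

set_option autoImplicit false
universe u
open CategoryTheory CategoryTheory.Limits AlgebraicGeometry Opposite

namespace Groth.Agent.Lib.Helper17.QCohSubMax

open Groth.Agent.Lib.Helper29.QCoh Groth.Agent.Lib.Helper17.BaerMod

variable {X : Scheme.{u}}

lemma isQuasicoherent_of_iso' {M N : X.Modules} (e : M ≅ N) (h : M.IsQuasicoherent) :
    N.IsQuasicoherent :=
  (SheafOfModules.isQuasicoherent X.ringCatSheaf).prop_of_iso e h

lemma isQuasicoherent_image {M N : X.Modules} (φ : M ⟶ N) [M.IsQuasicoherent]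
    [N.IsQuasicoherent] : (Limits.image φ).IsQuasicoherent := by
  have h : (Abelian.image φ).IsQuasicoherent :=
    inferInstanceAs (kernel (cokernel.π φ)).IsQuasicoherent
  exact isQuasicoherent_of_iso' (Abelian.imageIsoImage φ) h

lemma isQuasicoherent_sigma {ι : Type u} (f : ι → X.Modules) (h : ∀ i, (f i).IsQuasicoherent) :
    (∐ f).IsQuasicoherent :=
  isQuasicoherent_colimit (Discrete.functor f) (fun i => h i.as)

theorem main (F G : X.Modules) (hF : F.IsQuasicoherent) (j : G ⟶ F) [Mono j] :
    ∃ (G' : X.Modules) (k : G' ⟶ G), G'.IsQuasicoherent ∧ Mono k ∧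
      ∀ H : X.Modules, H.IsQuasicoherent → Function.Bijective (fun φ : H ⟶ G' => φ ≫ k) := by
  let S : Set (Subobject F) := {A | (A : X.Modules).IsQuasicoherent ∧ A ≤ Subobject.mk j}
  let T : Subobject F := Subobject.sSup S
  have hT : T ≤ Subobject.mk j := Subobject.sSup_le S _ (fun A hA => hA.2)
  have hq : (T : X.Modules).IsQuasicoherent := by
    have h1 : (∐ fun i : equivShrink (Subobject F) '' S =>
        (((equivShrink (Subobject F)).symm i : Subobject F) : X.Modules)).IsQuasicoherent := by
      apply isQuasicoherent_sigma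
      rintro ⟨i, A, hA, rfl⟩
      have : (equivShrink (Subobject F)).symm (equivShrink (Subobject F) A) = A :=
        Equiv.symm_apply_apply _ _
      show (((equivShrink (Subobject F)).symm (equivShrink (Subobject F) A) : Subobject F) :
        X.Modules).IsQuasicoherent
      rw [this]
      exact hA.1
    have h2 : (Limits.image (Subobject.smallCoproductDesc S)).IsQuasicoherent :=
      @isQuasicoherent_image _ _ _ (Subobject.smallCoproductDesc S) h1 hF
    exact isQuasicoherent_of_iso' (Subobject.underlyingIso _).symm h2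
  let k : (T : X.Modules) ⟶ G := Subobject.ofLEMk T j hT
  have hk : k ≫ j = T.arrow := Subobject.ofLEMk_comp hT
  haveI : Mono (k ≫ j) := by rw [hk]; infer_instance
  have hkm : Mono k := mono_of_mono k j
  refine ⟨(T : X.Modules), k, hq, hkm, fun H hH => ⟨fun a b hab => ?_, fun ψ => ?_⟩⟩
  · exact (cancel_mono k).1 hab
  · let B : Subobject F := Subobject.mk (image.ι (ψ ≫ j))
    have hBq : (B : X.Modules).IsQuasicoherent :=
      isQuasicoherent_of_iso' (Subobject.underlyingIso _).symm
        (@isQuasicoherent_image _ _ _ (ψ ≫ j) hH hF)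
    have hBle : B ≤ Subobject.mk j := by
      let MF : MonoFactorisation (ψ ≫ j) := ⟨G, j, ψ, rfl⟩
      exact Subobject.mk_le_mk_of_comm (image.lift MF) (image.lift_fac MF)
    have hBT : B ≤ T := Subobject.le_sSup S B ⟨hBq, hBle⟩
    refine ⟨factorThruImage (ψ ≫ j) ≫ (Subobject.underlyingIso _).inv ≫ Subobject.ofLE B T hBT, ?_⟩
    show (factorThruImage (ψ ≫ j) ≫ (Subobject.underlyingIso _).inv ≫ Subobject.ofLE B T hBT) ≫ k = ψ
    rw [← cancel_mono j]
    simp only [Category.assoc, hk, Subobject.ofLE_arrow]
    rw [Subobject.underlyingIso_arrow, image.fac]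

end Groth.Agent.Lib.Helper17.QCohSubMax
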