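import Mathlib

/-!
# A lifting lemma in abelian categories with a separator

Given an epimorphism `π : M ⟶ N`, a subobject `K` of a fixed object `V` and a map `e : K ⟶ N`,
there is a map `ℓ` from a fixed coproduct of copies of the separator (depending only on `V`)
to `M` such that the image of `ℓ ≫ π` contains the image of `e`.
-/

set_option autoImplicit false
set_option linter.unusedSectionVars false
set_option linter.style.haveILetI false

open CategoryTheory CategoryTheory.Limits

universe w u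

namespace Groth.Agent.Lib.Helper17.KInjLift

variable {D : Type u} [Category.{w} D] [Abelian D] [HasCoproducts.{w} D] [WellPowered.{w} D]

/-- the coproduct of copies of `G` indexed by the subobjects of `V` -/
noncomputable abbrev LiftObj (G V : D) : D := ∐ (fun _ : Shrink.{w} (Subobject V) => G)

omit [HasCoproducts.{w} D] [WellPowered.{w} D] in
lemma comp_eq_zero_of_image_le {G K V W : D} (x x' : G ⟶ K) (k : K ⟶ V) [Mono k] (w : K ⟶ W)
    (hle : imageSubobject (x ≫ k) ≤ imageSubobject (x' ≫ k)) (hx' : x' ≫ w = 0) :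
    x ≫ w = 0 := by
  have h1 : imageSubobject (x' ≫ k) ≤ Subobject.mk (kernel.ι w ≫ k) :=
    imageSubobject_le_mk _ _ (kernel.lift w x' hx') (by simp)
  have h2 : (imageSubobject (x ≫ k)).Factors (x ≫ k) := by
    simpa using imageSubobject_factors_comp_self (f := x ≫ k) (𝟙 G)
  have h3 := Subobject.factors_of_le (x ≫ k) (hle.trans h1) h2
  rw [Subobject.mk_factors_iff] at h3
  obtain ⟨g', hg'⟩ := h3
  obtain ⟨g, hg⟩ : ∃ g : G ⟶ kernel w, g ≫ (kernel.ι w ≫ k) = x ≫ k := ⟨g', hg'⟩
  have h4 : x = g ≫ kernel.ι w := by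
    rw [← cancel_mono k, Category.assoc, hg]
  rw [h4, Category.assoc, kernel.condition, comp_zero]

open scoped Classical in
theorem exists_lift {G : D} (hG : IsSeparator G) {V K N M : D} (k : K ⟶ V) [Mono k] (e : K ⟶ N)
    (π : M ⟶ N) [Epi π] :
    ∃ ℓ : LiftObj G V ⟶ M, ∀ ⦃W : D⦄ (v : N ⟶ W), ℓ ≫ π ≫ v = 0 → e ≫ v = 0 := by
  let pr₁ : pullback π e ⟶ M := pullback.fst π e
  let pr₂ : pullback π e ⟶ K := pullback.snd π e
  let P : Subobject V → Prop := fun S => ∃ h : G ⟶ pullback π e, imageSubobject (h ≫ pr₂ ≫ k) = S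
  let hS : Subobject V → (G ⟶ pullback π e) := fun S => if hP : P S then hP.choose else 0
  have hS_spec : ∀ S, P S → imageSubobject (hS S ≫ pr₂ ≫ k) = S := by
    intro S hP
    have : hS S = hP.choose := dif_pos hP
    rw [this]
    exact hP.choose_spec
  refine ⟨Sigma.desc (fun S' => hS ((equivShrink.{w} _).symm S') ≫ pr₁), ?_⟩
  intro W v hv
  rw [← cancel_epi pr₂, comp_zero]
  apply hG.def
  intro h
  rw [comp_zero]
  let S := imageSubobject (h ≫ pr₂ ≫ k)
  have hP : P S := ⟨h, rfl⟩
  have h1 := hS_spec S hP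
  have h2 : (hS ((equivShrink.{w} _).symm (equivShrink.{w} _ S)) ≫ pr₁) ≫ π ≫ v = 0 := by
    have := Sigma.ι (fun _ : Shrink.{w} (Subobject V) => G) (equivShrink.{w} _ S) ≫= hv
    rw [Limits.comp_zero, Sigma.ι_desc_assoc] at this
    exact this
  rw [Equiv.symm_apply_apply, Category.assoc] at h2
  have h3 : pr₁ ≫ π = pr₂ ≫ e := pullback.condition
  rw [reassoc_of% h3] at h2
  have h4 := comp_eq_zero_of_image_le (h ≫ pr₂) (hS S ≫ pr₂) k (e ≫ v)
    (by simp only [Category.assoc]; rw [h1]) (by simpa using h2)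
  simpa using h4

/-- variant: when `e` is an epimorphism, `ℓ ≫ π` is an epimorphism -/
theorem exists_lift_epi {G : D} (hG : IsSeparator G) {V N M : D} (e : V ⟶ N) [Epi e]
    (π : M ⟶ N) [Epi π] :
    ∃ ℓ : LiftObj G V ⟶ M, Epi (ℓ ≫ π) := by
  obtain ⟨ℓ, hℓ⟩ := exists_lift hG (𝟙 V) e π
  refine ⟨ℓ, ?_⟩
  apply Preadditive.epi_of_cancel_zero
  intro W v hv
  rw [← cancel_epi e, comp_zero]
  exact hℓ v (by simpa using hv)

end Groth.Agent.Lib.Helper17.KInjLift
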