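import Mathlib

/-!
# Monomorphisms of cochain complexes that are quasi-isomorphisms

Closure properties of the class `W` of monomorphisms which are quasi-isomorphisms in
`CochainComplex A ℤ`: cobase change, colimits of shapes for which colimits in `A` are exact.
-/

set_option autoImplicit false
set_option linter.unusedSectionVars false
set_option linter.style.haveILetI false

open CategoryTheory CategoryTheory.Limits HomologicalComplex

universe w' w v u

namespace Groth.Agent.Lib.Helper17.KInjW

variable {A : Type u} [Category.{v} A] [Abelian A]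

/-- monomorphisms that are quasi-isomorphisms -/
def W : MorphismProperty (CochainComplex A ℤ) :=
  MorphismProperty.monomorphisms _ ⊓ HomologicalComplex.quasiIso A (ComplexShape.up ℤ)

lemma W_iff {K L : CochainComplex A ℤ} (f : K ⟶ L) : W f ↔ Mono f ∧ QuasiIso f := by
  dsimp only [W]
  rw [MorphismProperty.inf_iff, MorphismProperty.monomorphisms.iff, mem_quasiIso_iff]

instance : (W (A := A)).IsMultiplicative := by unfold W; infer_instance
instance : (W (A := A)).RespectsIso := by unfold W; infer_instance
instance : (W (A := A)).IsStableUnderRetracts := by unfold W; infer_instance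

lemma W_le_monomorphisms : W (A := A) ≤ MorphismProperty.monomorphisms _ := inf_le_left

section ShortExact

variable {S : ShortComplex (CochainComplex A ℤ)}

lemma quasiIso_f_of_shortExact (hS : S.ShortExact) (h₃ : S.X₃.Acyclic) : QuasiIso S.f := by
  rw [quasiIso_iff]
  intro i
  rw [quasiIsoAt_iff_isIso_homologyMap]
  have hz : ∀ j, IsZero (S.X₃.homology j) := fun j => (exactAt_iff_isZero_homology _ _).1 (h₃ j)
  haveI : Mono (homologyMap S.f i) :=
    (hS.homology_exact₁ (i - 1) i (by simp)).mono_g ((hz _).eq_of_src _ _)
  haveI : Epi (homologyMap S.f i) :=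
    (hS.homology_exact₂ i).epi_f ((hz _).eq_of_tgt _ _)
  exact isIso_of_mono_of_epi _

lemma W_f_of_shortExact (hS : S.ShortExact) (h₃ : S.X₃.Acyclic) : W S.f := by
  rw [W_iff]
  exact ⟨hS.mono_f, quasiIso_f_of_shortExact hS h₃⟩

end ShortExact

lemma shortExact_cokernel {K L : CochainComplex A ℤ} (f : K ⟶ L) [Mono f] :
    (ShortComplex.mk f (cokernel.π f) (cokernel.condition f)).ShortExact :=
  { exact := ShortComplex.exact_cokernel f }

lemma acyclic_cokernel_of_W {K L : CochainComplex A ℤ} (f : K ⟶ L) (hf : W f) :
    (cokernel f).Acyclic := by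
  rw [W_iff] at hf
  obtain ⟨_, _⟩ := hf
  exact (shortExact_cokernel f).acyclic_X₃ (by dsimp; infer_instance)

lemma W_of_mono_of_acyclic_cokernel {K L : CochainComplex A ℤ} (f : K ⟶ L) [Mono f]
    (h : (cokernel f).Acyclic) : W f :=
  W_f_of_shortExact (shortExact_cokernel f) h

/-- a map between acyclic complexes is a quasi-isomorphism -/
lemma quasiIso_of_acyclic {K L : CochainComplex A ℤ} (f : K ⟶ L) (hK : K.Acyclic)
    (hL : L.Acyclic) : QuasiIso f := by
  rw [quasiIso_iff]
  intro i
  rw [quasiIsoAt_iff_isIso_homologyMap]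
  have h1 : IsZero (K.homology i) := (exactAt_iff_isZero_homology _ _).1 (hK i)
  have h2 : IsZero (L.homology i) := (exactAt_iff_isZero_homology _ _).1 (hL i)
  exact ⟨0, h1.eq_of_src _ _, h2.eq_of_src _ _⟩

section Cobase

instance : (W (A := A)).IsStableUnderCobaseChange where
  of_isPushout {K K' L L'} {f g f' g'} sq hf := by
    -- sq : IsPushout g f f' g', f : K ⟶ K' in W, f' : L ⟶ L'
    have hmono : Mono f' :=
      MorphismProperty.of_isPushout (P := MorphismProperty.monomorphisms _) sq
        (W_le_monomorphisms _ hf)
    have hf2 := hf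
    rw [W_iff] at hf2
    obtain ⟨_, _⟩ := hf2
    -- the map L' ⟶ cokernel f
    let q : L' ⟶ cokernel f := sq.desc 0 (cokernel.π f) (by simp)
    have hq₁ : f' ≫ q = 0 := sq.inl_desc _ _ _
    have hq₂ : g' ≫ q = cokernel.π f := sq.inr_desc _ _ _
    haveI : Epi q := epi_of_epi_fac hq₂
    have hcok : IsColimit (CokernelCofork.ofπ q hq₁) :=
      CokernelCofork.IsColimit.ofπ _ _
        (fun {Z} (v : L' ⟶ Z) hv => cokernel.desc f (g' ≫ v) (by
          rw [← sq.w_assoc, hv, comp_zero]))
        (fun {Z} v hv => by
          apply sq.hom_ext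
          · rw [reassoc_of% hq₁, zero_comp, hv]
          · rw [reassoc_of% hq₂, cokernel.π_desc])
        (fun {Z} v hv m hm => by
          rw [← cancel_epi q, hm]
          apply sq.hom_ext
          · rw [reassoc_of% hq₁, zero_comp, hv]
          · rw [reassoc_of% hq₂, cokernel.π_desc])
    have hS : (ShortComplex.mk f' q hq₁).ShortExact :=
      { exact := ShortComplex.exact_of_g_is_cokernel _ hcok }
    exact W_f_of_shortExact hS (acyclic_cokernel_of_W f hf)

end Cobase


section Colim

variable {J : Type w} [Category.{w'} J] [HasColimitsOfShape J A] [HasExactColimitsOfShape J A]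
  (K : J ⥤ CochainComplex A ℤ)

/-- the differential as a natural transformation of `J`-diagrams -/
noncomputable def dNat (i j : ℤ) : K ⋙ eval A _ i ⟶ K ⋙ eval A _ j where
  app n := (K.obj n).d i j
  naturality m n f := by
    dsimp
    exact ((K.map f).comm i j)

/-- the short complex of `J`-diagrams in degree `i` -/
noncomputable def shat (i : ℤ) : ShortComplex (J ⥤ A) :=
  ShortComplex.mk (dNat K ((ComplexShape.up ℤ).prev i) i) (dNat K i ((ComplexShape.up ℤ).next i))
    (by
      ext n
      exact (K.obj n).d_comp_d _ _ _)

omit [HasColimitsOfShape J A] [HasExactColimitsOfShape J A] in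
lemma exact_shat (i : ℤ) (h : ∀ j, (K.obj j).ExactAt i) : (shat K i).Exact := by
  rw [ShortComplex.exact_iff_isZero_homology, Functor.isZero_iff]
  intro j
  refine IsZero.of_iso ?_ ((shat K i).mapHomologyIso ((evaluation J A).obj j)).symm
  exact (ShortComplex.exact_iff_isZero_homology _).1 (h j)

/-- a colimit of acyclic complexes is acyclic when colimits of this shape are exact -/
lemma acyclic_of_isColimit {c : Cocone K} (hc : IsColimit c) (h : ∀ j, (K.obj j).Acyclic) :
    c.pt.Acyclic := by
  intro i
  have hS := exact_shat K i (fun j => h j i)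
  have h₁ := isColimitOfPreserves (eval A (ComplexShape.up ℤ) ((ComplexShape.up ℤ).prev i)) hc
  have h₂ := isColimitOfPreserves (eval A (ComplexShape.up ℤ) i) hc
  have h₃ := isColimitOfPreserves (eval A (ComplexShape.up ℤ) ((ComplexShape.up ℤ).next i)) hc
  exact colim.exact_mapShortComplex (S := shat K i) hS h₁ h₂ h₃
    (c.pt.d _ _) (c.pt.d _ _)
    (fun j => by
      have := (c.ι.app j).comm ((ComplexShape.up ℤ).prev i) i
      dsimp [shat, dNat] at this ⊢
      exact this)
    (fun j => by
      have := (c.ι.app j).comm i ((ComplexShape.up ℤ).next i)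
      dsimp [shat, dNat] at this ⊢
      exact this)

instance : (W (A := A)).IsStableUnderColimitsOfShape J where
  condition X₁ X₂ c₁ c₂ hc₁ hc₂ f hf φ hφ := by
    have hf' : ∀ j, Mono (f.app j) ∧ QuasiIso (f.app j) := fun j => (W_iff _).1 (hf j)
    haveI : ∀ j, Mono (f.app j) := fun j => (hf' j).1
    haveI : ∀ j, QuasiIso (f.app j) := fun j => (hf' j).2
    haveI : Mono f := NatTrans.mono_of_mono_app f
    have hmono : Mono φ :=
      (inferInstance : (MorphismProperty.monomorphisms
        (CochainComplex A ℤ)).IsStableUnderColimitsOfShape J).condition X₁ X₂ c₁ c₂ hc₁ hc₂ f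
          (fun j => MorphismProperty.monomorphisms.infer_property _) φ hφ
    let S : ShortComplex (J ⥤ CochainComplex A ℤ) :=
      ShortComplex.mk f (cokernel.π f) (cokernel.condition f)
    have hS : S.ShortExact := { exact := ShortComplex.exact_cokernel f }
    let g : c₂.pt ⟶ colimit S.X₃ :=
      hc₂.desc ⟨colimit S.X₃, S.g ≫ (colimit.cocone S.X₃).ι⟩
    have hg : ∀ j, c₂.ι.app j ≫ g = S.g.app j ≫ (colimit.cocone S.X₃).ι.app j :=
      fun j => hc₂.fac _ j
    have hex := colim.exact_mapShortComplex (S := S) hS.exact hc₁ hc₂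
      (colimit.isColimit S.X₃) φ g hφ hg
    haveI : ∀ j, Epi (S.g.app j) := fun j => by
      dsimp [S]
      infer_instance
    haveI : Epi g := colim.map_epi' S.g c₂ (colimit.isColimit S.X₃) g hg
    have hT : (colim.mapShortComplex S hc₁ c₂ (colimit.cocone S.X₃) φ g hφ hg).ShortExact :=
      { exact := hex
        mono_f := hmono
        epi_g := inferInstanceAs (Epi g) }
    have hacyc : (colimit S.X₃).Acyclic := by
      apply acyclic_of_isColimit S.X₃ (colimit.isColimit S.X₃)
      intro j
      have hSj : (S.map ((evaluation J (CochainComplex A ℤ)).obj j)).ShortExact :=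
        hS.map_of_exact _
      exact hSj.acyclic_X₃ (inferInstanceAs (QuasiIso (f.app j)))
    exact W_f_of_shortExact hT hacyc

end Colim

section Groth

variable [IsGrothendieckAbelian.{v} A]

instance : MorphismProperty.IsStableUnderFilteredColimits.{v, v} (W (A := A)) where
  isStableUnderColimitsOfShape _ _ _ := inferInstance

instance : MorphismProperty.IsStableUnderCoproducts.{v} (W (A := A)) where
  isStableUnderCoproductsOfShape J := by
    haveI : HasExactColimitsOfShape (Discrete J) A := inferInstance
    infer_instance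

instance : MorphismProperty.IsStableUnderTransfiniteComposition.{v} (W (A := A)) := inferInstance

end Groth

end Groth.Agent.Lib.Helper17.KInjW
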