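import Mathlib
import Groth.Agent.Lib.Helper17.KInjLift
import Groth.Agent.Lib.Helper17.KInjW
import Groth.Agent.Lib.Helper17.ColimQuasiIso

/-!
# Small acyclic subcomplexes of acyclic complexes in a Grothendieck abelian category
-/

set_option autoImplicit false
set_option linter.unusedSectionVars false
set_option linter.style.haveILetI false

open CategoryTheory CategoryTheory.Limits HomologicalComplex

universe v u

namespace Groth.Agent.Lib.Helper17.KInjStep

open Groth.Agent.Lib.Helper17.KInjLift Groth.Agent.Lib.Helper17.KInjW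

variable {A : Type u} [Category.{v} A] [Abelian A]

/-- disk: `X` in degrees `j`, `j+1` with identity differential -/
noncomputable abbrev disk (X : A) (j : ℤ) : CochainComplex A ℤ :=
  HomologicalComplex.double (𝟙 X) (show (ComplexShape.up ℤ).Rel j (j + 1) by simp)

/-- map out of a disk -/
noncomputable def diskDesc {X : A} {j : ℤ} {K : CochainComplex A ℤ} (a : X ⟶ K.X j) :
    disk X j ⟶ K :=
  HomologicalComplex.mkHomFromDouble _ (by omega : j ≠ j + 1) a (a ≫ K.d j (j + 1))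
    (by simp) (by simp)

lemma diskDesc_f₀ {X : A} {j : ℤ} {K : CochainComplex A ℤ} (a : X ⟶ K.X j) :
    (diskDesc a).f j = (doubleXIso₀ (𝟙 X) _).hom ≫ a := by
  dsimp only [diskDesc]
  exact mkHomFromDouble_f₀ _ _ _ _ _ _

lemma epi_pullback_snd_of_exactAt (Z : CochainComplex A ℤ) (j : ℤ) (hZ : Z.ExactAt (j + 1))
    {X : A} (c : X ⟶ Z.X (j + 1)) (hc : c ≫ Z.d (j + 1) (j + 2) = 0) :
    Epi (pullback.snd (Z.d j (j + 1)) c) := by
  rw [Z.exactAt_iff' j (j + 1) (j + 2) (by simp) (by simp; omega)] at hZ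
  obtain ⟨A', π, hπ, x₁, hx₁⟩ := hZ.exact_up_to_refinements c hc
  have : pullback.lift x₁ π hx₁.symm ≫ pullback.snd (Z.d j (j + 1)) c = π :=
    pullback.lift_snd _ _ _
  exact epi_of_epi_fac this


section Step

variable [IsGrothendieckAbelian.{v} A] (U : A)

/-- the object bounding the next stage -/
noncomputable abbrev Psi (R : CochainComplex A ℤ) : CochainComplex A ℤ :=
  R ⊞ ∐ (fun j : ℤ => disk (LiftObj U (R.X (j + 1))) j)

variable {U}

theorem exists_step (hU : IsSeparator U) {Z N R : CochainComplex A ℤ} (hZ : Z.Acyclic)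
    (n : N ⟶ Z) [Mono n] (e : R ⟶ N) [Epi e] :
    ∃ (N' : CochainComplex A ℤ) (n' : N' ⟶ Z) (jj : N ⟶ N') (e' : Psi U R ⟶ N'),
      Mono n' ∧ Epi e' ∧ jj ≫ n' = n ∧ ∀ k, homologyMap jj k = 0 := by
  -- data in each degree
  let κ₁ : ∀ j : ℤ, pullback (e.f (j + 1)) (N.iCycles (j + 1)) ⟶ R.X (j + 1) :=
    fun j => pullback.fst _ _
  let κ₂ : ∀ j : ℤ, pullback (e.f (j + 1)) (N.iCycles (j + 1)) ⟶ N.cycles (j + 1) :=
    fun j => pullback.snd _ _
  haveI : ∀ j, Mono (κ₁ j) := fun j => by dsimp only [κ₁]; infer_instance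
  haveI : ∀ j, Epi (κ₂ j) := fun j => by dsimp only [κ₂]; infer_instance
  let c : ∀ j : ℤ, pullback (e.f (j + 1)) (N.iCycles (j + 1)) ⟶ Z.X (j + 1) :=
    fun j => κ₂ j ≫ N.iCycles (j + 1) ≫ n.f (j + 1)
  have hc : ∀ j, c j ≫ Z.d (j + 1) (j + 2) = 0 := by
    intro j
    dsimp only [c]
    rw [Category.assoc, Category.assoc, n.comm, N.iCycles_d_assoc, zero_comp, comp_zero]
  haveI : ∀ j, Epi (pullback.snd (Z.d j (j + 1)) (c j)) :=
    fun j => epi_pullback_snd_of_exactAt Z j (hZ _) (c j) (hc j)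
  have hℓ : ∀ j : ℤ, ∃ ℓ : LiftObj U (R.X (j + 1)) ⟶ pullback (Z.d j (j + 1)) (c j),
      Epi (ℓ ≫ pullback.snd (Z.d j (j + 1)) (c j)) := by
    intro j
    obtain ⟨ℓ, h⟩ := exists_lift hU (κ₁ j) (𝟙 _) (pullback.snd (Z.d j (j + 1)) (c j))
    refine ⟨ℓ, Preadditive.epi_of_cancel_zero _ ?_⟩
    intro W v hv
    have := h v (by simpa using hv)
    simpa using this
  choose ℓ hℓ' using hℓ
  let a : ∀ j : ℤ, LiftObj U (R.X (j + 1)) ⟶ Z.X j := fun j => ℓ j ≫ pullback.fst _ _
  let δ : ∀ j : ℤ, disk (LiftObj U (R.X (j + 1))) j ⟶ Z := fun j => diskDesc (a j)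
  let Φ : Psi U R ⟶ Z := biprod.desc (e ≫ n) (Sigma.desc δ)
  let N' := Abelian.image Φ
  let n' : N' ⟶ Z := Abelian.image.ι Φ
  let e' : Psi U R ⟶ N' := Abelian.factorThruImage Φ
  have he'n' : e' ≫ n' = Φ := Abelian.image.fac Φ
  have h0 : kernel.ι e ≫ biprod.inl ≫ e' = 0 := by
    rw [← cancel_mono n', Category.assoc, Category.assoc, he'n', zero_comp]
    dsimp only [Φ]
    rw [biprod.inl_desc, kernel.condition_assoc, zero_comp]
  let jj : N ⟶ N' := Abelian.epiDesc e (biprod.inl ≫ e') h0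
  have hjj : e ≫ jj = biprod.inl ≫ e' := Abelian.comp_epiDesc _ _ _
  have hjjn : jj ≫ n' = n := by
    rw [← cancel_epi e, reassoc_of% hjj, he'n']
    dsimp only [Φ]
    rw [biprod.inl_desc]
  refine ⟨N', n', jj, e', inferInstance, inferInstance, hjjn, ?_⟩
  intro k
  obtain ⟨j, rfl⟩ : ∃ j, k = j + 1 := ⟨k - 1, by omega⟩
  rw [← cancel_epi (N.homologyπ (j + 1)), comp_zero, homologyπ_naturality,
    ← cancel_epi (κ₂ j), comp_zero,
    ← cancel_epi (ℓ j ≫ pullback.snd (Z.d j (j + 1)) (c j)), comp_zero]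
  -- the cycle
  let z : LiftObj U (R.X (j + 1)) ⟶ N'.X (j + 1) :=
    (ℓ j ≫ pullback.snd (Z.d j (j + 1)) (c j)) ≫ κ₂ j ≫ N.iCycles (j + 1) ≫ jj.f (j + 1)
  let x : LiftObj U (R.X (j + 1)) ⟶ N'.X j :=
    (doubleXIso₀ (𝟙 (LiftObj U (R.X (j + 1)))) _).inv ≫
      (Sigma.ι (fun j : ℤ => disk (LiftObj U (R.X (j + 1))) j) j ≫ biprod.inr ≫ e').f j
  have hxn : x ≫ n'.f j = a j := by
    dsimp only [x]
    rw [Category.assoc, ← HomologicalComplex.comp_f, Category.assoc, Category.assoc, he'n']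
    dsimp only [Φ]
    rw [biprod.inr_desc, Sigma.ι_desc]
    dsimp only [δ]
    rw [diskDesc_f₀, Iso.inv_hom_id_assoc]
  have hzx : z = x ≫ N'.d j (j + 1) := by
    rw [← cancel_mono (n'.f (j + 1))]
    dsimp only [z]
    simp only [Category.assoc]
    rw [← HomologicalComplex.comp_f, hjjn, ← n'.comm, reassoc_of% hxn]
    have h1 : pullback.snd (Z.d j (j + 1)) (c j) ≫ c j = pullback.fst _ _ ≫ Z.d j (j + 1) :=
      pullback.condition.symm
    dsimp only [c] at h1
    dsimp only [a]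
    rw [Category.assoc, ← h1]
  have hz0 : z ≫ N'.d (j + 1) (j + 2) = 0 := by
    rw [hzx, Category.assoc, N'.d_comp_d, comp_zero]
  have hlift : (ℓ j ≫ pullback.snd (Z.d j (j + 1)) (c j)) ≫ κ₂ j ≫ cyclesMap jj (j + 1) =
      N'.liftCycles z (j + 2) (by simp; omega) hz0 := by
    rw [← cancel_mono (N'.iCycles (j + 1)), liftCycles_i]
    dsimp only [z]
    simp only [Category.assoc, cyclesMap_i]
  have := N'.liftCycles_homologyπ_eq_zero_of_boundary z (j + 2) (by simp; omega) x hzx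
  simp only [Category.assoc] at hlift ⊢
  rw [reassoc_of% hlift]
  exact this

end Step


section SeqColim

open Groth.Agent.Lib.Helper17.ColimQuasiIso in
/-- a sequential colimit of complexes whose transition maps vanish on homology is acyclic -/
lemma acyclic_colimit_of_homologyMap_eq_zero [HasColimitsOfShape ℕ A]
    [HasExactColimitsOfShape ℕ A] (K : ℕ ⥤ CochainComplex A ℤ)
    (h : ∀ (n : ℕ) (i : ℤ), homologyMap (K.map (homOfLE (Nat.le_succ n))) i = 0) :
    (colimit K).Acyclic := by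
  intro i
  rw [exactAt_iff, ShortComplex.exact_iff_isZero_homology]
  refine IsZero.of_iso ?_ (ShortComplex.homologyMapIso (θ K i) ≪≫
    (ColimQuasiIso.shat K i).mapHomologyIso (colim : (ℕ ⥤ A) ⥤ A))
  change IsZero (colimit (D K i))
  have hD : ∀ n : ℕ, (D K i).map (homOfLE (Nat.le_succ n)) = 0 := by
    intro n
    have h1 := homologyMap_K_map K i (homOfLE (Nat.le_succ n))
    rw [h n i] at h1
    let e1 : ((ColimQuasiIso.shat K i).map ((evaluation ℕ A).obj n)).homology ≅ (D K i).obj n :=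
      (ColimQuasiIso.shat K i).mapHomologyIso ((evaluation ℕ A).obj n)
    let e2 : ((ColimQuasiIso.shat K i).map ((evaluation ℕ A).obj n.succ)).homology ≅
        (D K i).obj n.succ :=
      (ColimQuasiIso.shat K i).mapHomologyIso ((evaluation ℕ A).obj n.succ)
    have h2 : e1.hom ≫ (D K i).map (homOfLE (Nat.le_succ n)) ≫ e2.inv = 0 := h1.symm
    refine (cancel_epi e1.hom).1 ((cancel_mono e2.inv).1 ?_)
    rw [Category.assoc, h2, comp_zero, zero_comp]
  rw [IsZero.iff_id_eq_zero]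
  apply colimit.hom_ext
  intro n
  rw [Category.comp_id, comp_zero, ← colimit.w (D K i) (homOfLE (Nat.le_succ n)), hD, zero_comp]

end SeqColim


theorem hasExactColimitsOfShape_nat [IsGrothendieckAbelian.{v} A] :
    HasExactColimitsOfShape ℕ A := by
  have : HasFilteredColimitsOfSize.{0, 0} A := hasFilteredColimitsOfSize_of_univLE.{0, 0, v, v}
  have : AB5OfSize.{0, 0} A := AB5OfSize_of_univLE.{0, 0, v, v} A
  infer_instance

section LemmaZ

variable [IsGrothendieckAbelian.{v} A] (U : A)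

/-- the sequence of bounding objects -/
noncomputable def Rseq (R₀ : CochainComplex A ℤ) : ℕ → CochainComplex A ℤ
  | 0 => R₀
  | (i + 1) => Psi U (Rseq R₀ i)

/-- the final bounding object -/
noncomputable abbrev Rinf (R₀ : CochainComplex A ℤ) : CochainComplex A ℤ := ∐ (Rseq U R₀)

/-- a subcomplex of `Z` with a chosen presentation -/
structure Stage (Z R : CochainComplex A ℤ) where
  /-- the subcomplex -/
  N : CochainComplex A ℤ
  /-- the inclusion -/
  n : N ⟶ Z
  mono : Mono n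
  /-- the presentation -/
  e : R ⟶ N
  epi : Epi e

/-- the next stage -/
structure NextData {Z R : CochainComplex A ℤ} (s : Stage Z R) where
  /-- the next stage -/
  t : Stage Z (Psi U R)
  /-- the transition map -/
  jj : s.N ⟶ t.N
  fac : jj ≫ t.n = s.n
  hom : ∀ k, homologyMap jj k = 0

variable {U}

lemma nonempty_nextData (hU : IsSeparator U) {Z R : CochainComplex A ℤ} (hZ : Z.Acyclic)
    (s : Stage Z R) : Nonempty (NextData U s) := by
  haveI := s.mono
  haveI := s.epi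
  obtain ⟨N', n', jj, e', h1, h2, h3, h4⟩ := exists_step hU hZ s.n s.e
  exact ⟨⟨⟨N', n', h1, e', h2⟩, jj, h3, h4⟩⟩

/-- the stages -/
noncomputable def stage (hU : IsSeparator U) {Z R₀ : CochainComplex A ℤ} (hZ : Z.Acyclic)
    (s₀ : Stage Z R₀) : (i : ℕ) → Stage Z (Rseq U R₀ i)
  | 0 => s₀
  | (i + 1) => (nonempty_nextData hU hZ (stage hU hZ s₀ i)).some.t

attribute [local instance] IsFiltered.isConnected in
theorem exists_acyclic_sub (hU : IsSeparator U) {Z : CochainComplex A ℤ} (hZ : Z.Acyclic)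
    {R₀ : CochainComplex A ℤ} (g₀ : R₀ ⟶ Z) :
    ∃ (N : CochainComplex A ℤ) (n : N ⟶ Z) (e : Rinf U R₀ ⟶ N) (g' : R₀ ⟶ N),
      Mono n ∧ Epi e ∧ N.Acyclic ∧ g' ≫ n = g₀ := by
  haveI := hasExactColimitsOfShape_nat (A := A)
  let s₀ : Stage Z R₀ := ⟨Abelian.image g₀, Abelian.image.ι g₀, inferInstance,
    Abelian.factorThruImage g₀, inferInstance⟩
  let st := stage hU hZ s₀
  let nd : ∀ i, NextData U (st i) := fun i => (nonempty_nextData hU hZ (st i)).some
  let X : ℕ → CochainComplex A ℤ := fun i => (st i).N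
  let f : ∀ i, X i ⟶ X (i + 1) := fun i => (nd i).jj
  let F : ℕ ⥤ CochainComplex A ℤ := Functor.ofSequence f
  have hFmap : ∀ i, F.map (homOfLE (Nat.le_succ i)) = f i :=
    fun i => Functor.ofSequence_map_homOfLE_succ f i
  let α : F ⟶ (Functor.const ℕ).obj Z := NatTrans.ofSequence (fun i => (st i).n) (by
    intro i
    dsimp
    rw [Category.comp_id]
    erw [hFmap i]
    exact (nd i).fac)
  haveI : ∀ i, Mono (α.app i) := fun i => (st i).mono
  haveI : Mono α := NatTrans.mono_of_mono_app α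
  let nn : colimit F ⟶ Z := colimit.desc F ⟨Z, α⟩
  let ι' : ∀ i, (st i).N ⟶ colimit F := fun i => colimit.ι F i
  have hnn : ∀ i, ι' i ≫ nn = (st i).n := fun i => colimit.ι_desc _ _
  haveI : Mono nn := colim.map_mono' α (colimit.isColimit F) (isColimitConstCocone ℕ Z) nn
    (fun i => (hnn i).trans (Category.comp_id _).symm)
  have hacyc : (colimit F).Acyclic := by
    apply acyclic_colimit_of_homologyMap_eq_zero
    intro i k
    rw [hFmap i]
    exact (nd i).hom k
  let ee : Rinf U R₀ ⟶ colimit F := Sigma.desc (fun i => (st i).e ≫ ι' i)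
  haveI : Epi ee := by
    apply Preadditive.epi_of_cancel_zero
    intro W v hv
    apply colimit.hom_ext
    intro i
    change ι' i ≫ v = ι' i ≫ 0
    rw [comp_zero]
    haveI := (st i).epi
    have h1 : (st i).e ≫ ι' i ≫ v = 0 := by
      have h2 : Sigma.ι (Rseq U R₀) i ≫ ee ≫ v = 0 := by rw [hv, comp_zero]
      dsimp only [ee] at h2
      rw [Sigma.ι_desc_assoc, Category.assoc] at h2
      exact h2
    exact (cancel_epi (st i).e).1 (h1.trans comp_zero.symm)
  refine ⟨colimit F, nn, ee, s₀.e ≫ ι' 0, inferInstance, inferInstance, hacyc, ?_⟩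
  have h0 : s₀.e ≫ ι' 0 ≫ nn = s₀.e ≫ s₀.n := congrArg (fun t => s₀.e ≫ t) (hnn 0)
  exact (Category.assoc _ _ _).trans (h0.trans (Abelian.image.fac g₀))

end LemmaZ

end Groth.Agent.Lib.Helper17.KInjStep
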