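import Mathlib
import Groth.Agent.Lib.Helper17.KInjW
import Groth.Agent.Lib.Helper17.KInjStep

/-!
# Complexes with the extension property against monic quasi-isomorphisms

`ExtProp I`: every map into `I` extends along any monomorphism with acyclic cokernel.
Equivalent to `I` being K-injective with injective terms.
-/

set_option autoImplicit false
set_option linter.unusedSectionVars false
set_option linter.style.haveILetI false

open CategoryTheory CategoryTheory.Limits HomologicalComplex

universe v u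

namespace Groth.Agent.Lib.Helper17.KInjFib

open Groth.Agent.Lib.Helper17.KInjW Groth.Agent.Lib.Helper17.KInjStep

variable {A : Type u} [Category.{v} A] [Abelian A]

/-- the extension property -/
def ExtProp (I : CochainComplex A ℤ) : Prop :=
  ∀ (S : ShortComplex (CochainComplex A ℤ)), S.ShortExact → S.X₃.Acyclic →
    ∀ φ : S.X₁ ⟶ I, ∃ ψ : S.X₂ ⟶ I, S.f ≫ ψ = φ

lemma extProp_iff (I : CochainComplex A ℤ) :
    ExtProp I ↔ ∀ {K L : CochainComplex A ℤ} (f : K ⟶ L), W f → ∀ φ : K ⟶ I,
      ∃ ψ : L ⟶ I, f ≫ ψ = φ := by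
  constructor
  · intro h K L f hf φ
    haveI : Mono f := ((W_iff f).1 hf).1
    exact h _ (shortExact_cokernel f) (acyclic_cokernel_of_W f hf) φ
  · intro h S hS h₃ φ
    exact h S.f (W_f_of_shortExact hS h₃) φ

lemma acyclic_of_homotopy_id_zero (K : CochainComplex A ℤ) (h : Homotopy (𝟙 K) 0) :
    K.Acyclic := by
  intro i
  rw [exactAt_iff_isZero_homology, IsZero.iff_id_eq_zero, ← homologyMap_id,
    h.homologyMap_eq i, homologyMap_zero]

/-- disks are acyclic -/
lemma disk_acyclic (X : A) (j : ℤ) : (disk X j).Acyclic := by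
  intro k
  by_cases h₀ : k = j
  · subst h₀
    rw [(disk X k).exactAt_iff' (k - 1) k (k + 1) (by simp) (by simp)]
    have hf : ((disk X k).sc' (k - 1) k (k + 1)).f = 0 := by
      change (disk X k).d (k - 1) k = 0
      exact double_d_eq_zero₀ _ _ _ _ (by omega)
    rw [ShortComplex.exact_iff_mono _ hf]
    change Mono ((disk X k).d k (k + 1))
    rw [double_d _ _ (by omega)]
    infer_instance
  · by_cases h₁ : k = j + 1
    · subst h₁
      rw [(disk X j).exactAt_iff' j (j + 1) (j + 1 + 1) (by simp) (by simp)]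
      have hg : ((disk X j).sc' j (j + 1) (j + 1 + 1)).g = 0 := by
        change (disk X j).d (j + 1) (j + 1 + 1) = 0
        exact double_d_eq_zero₀ _ _ _ _ (by omega)
      rw [ShortComplex.exact_iff_epi _ hg]
      change Epi ((disk X j).d j (j + 1))
      rw [double_d _ _ (by omega)]
      infer_instance
    · rw [exactAt_iff]
      have hz : IsZero ((disk X j).X k) := isZero_double_X _ _ _ h₀ h₁
      exact ShortComplex.exact_of_isZero_X₂ _ hz

/-- the map of disks induced by a map of objects -/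
noncomputable def diskMap {X Y : A} (a : X ⟶ Y) (j : ℤ) : disk X j ⟶ disk Y j :=
  diskDesc (a ≫ (doubleXIso₀ (𝟙 Y) _).inv)

lemma diskMap_f₀ {X Y : A} (a : X ⟶ Y) (j : ℤ) :
    (diskMap a j).f j = (doubleXIso₀ (𝟙 X) _).hom ≫ a ≫ (doubleXIso₀ (𝟙 Y) _).inv :=
  diskDesc_f₀ _

lemma diskMap_f₁ {X Y : A} (a : X ⟶ Y) (j : ℤ) :
    (diskMap a j).f (j + 1) = (doubleXIso₁ (𝟙 X) _ (by omega)).hom ≫ a ≫
      (doubleXIso₁ (𝟙 Y) _ (by omega)).inv := by
  dsimp only [diskMap, diskDesc]
  rw [mkHomFromDouble_f₁, double_d _ _ (by omega)]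
  simp

instance {X Y : A} (a : X ⟶ Y) [Mono a] (j : ℤ) : Mono (diskMap a j) := by
  haveI : ∀ k, Mono ((diskMap a j).f k) := by
    intro k
    by_cases h₀ : k = j
    · subst h₀
      rw [diskMap_f₀]
      infer_instance
    · by_cases h₁ : k = j + 1
      · subst h₁
        rw [diskMap_f₁]
        infer_instance
      · exact (isZero_double_X _ _ _ h₀ h₁).mono _
  exact HomologicalComplex.mono_of_mono_f _ inferInstance

lemma W_diskMap {X Y : A} (a : X ⟶ Y) [Mono a] (j : ℤ) : W (diskMap a j) :=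
  (W_iff _).2 ⟨inferInstance, quasiIso_of_acyclic _ (disk_acyclic X j) (disk_acyclic Y j)⟩

theorem injective_of_extProp {I : CochainComplex A ℤ} (hI : ExtProp I) (n : ℤ) :
    Injective (I.X n) := by
  rw [extProp_iff] at hI
  constructor
  intro X Y g a _
  obtain ⟨ψ, hψ⟩ := hI (diskMap a n) (W_diskMap a n) (diskDesc g)
  refine ⟨(doubleXIso₀ (𝟙 Y) _).inv ≫ ψ.f n, ?_⟩
  have h := congr_arg (fun t => t.f n) hψ
  rw [HomologicalComplex.comp_f, diskMap_f₀, diskDesc_f₀, Category.assoc, Category.assoc] at h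
  exact (cancel_epi _).1 h

section Cone

open CochainComplex

instance (K : CochainComplex A ℤ) : Mono (mappingCone.inr (𝟙 K)) := by
  haveI : ∀ k, Mono ((mappingCone.inr (𝟙 K)).f k) := fun k =>
    mono_of_mono_fac (mappingCone.inr_f_snd_v (𝟙 K) k)
  exact HomologicalComplex.mono_of_mono_f _ inferInstance

lemma W_inr_of_acyclic (K : CochainComplex A ℤ) (hK : K.Acyclic) : W (mappingCone.inr (𝟙 K)) :=
  (W_iff _).2 ⟨inferInstance, quasiIso_of_acyclic _ hK
    (acyclic_of_homotopy_id_zero _ (mappingCone.homotopyToZeroOfId K))⟩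

theorem isKInjective_of_extProp {I : CochainComplex A ℤ} (hI : ExtProp I) : I.IsKInjective := by
  rw [extProp_iff] at hI
  constructor
  intro K f hK
  obtain ⟨ψ, hψ⟩ := hI _ (W_inr_of_acyclic K hK) f
  refine ⟨Homotopy.trans (.ofEq ?_)
    (((mappingCone.homotopyToZeroOfId K).compLeft (mappingCone.inr (𝟙 K))).compRight ψ |>.trans
      (.ofEq ?_))⟩
  · rw [Category.comp_id, hψ]
  · simp

end Cone

section Converse

open CochainComplex HomComplex ZeroObject

theorem extProp_of_isKInjective (I : CochainComplex A ℤ) [I.IsKInjective]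
    [∀ n, Injective (I.X n)] : ExtProp I := by
  intro S hS h₃ φ
  haveI := hS.mono_f
  have sq : CommSq φ S.f (0 : I ⟶ (0 : CochainComplex A ℤ)) (0 : S.X₂ ⟶ 0) := ⟨by simp⟩
  haveI : ∀ n, Mono (S.f.f n) := fun n => inferInstance
  have hsq : ∀ n, (sq.map (HomologicalComplex.eval _ _ n)).LiftStruct := fun n =>
    { l := (Injective.factorThru (φ.f n) (S.f.f n) : S.X₂.X n ⟶ I.X n)
      fac_left := Injective.comp_factorThru (J := I.X n) (φ.f n) (S.f.f n)
      fac_right :=
        ((HomologicalComplex.eval A _ n).map_isZero (isZero_zero _)).eq_of_tgt _ _ }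
  let β : Cocycle S.X₃ I 1 :=
    Lifting.cocycle₁ sq hsq (π := S.g) (hπ := S.zero) hS.gIsCokernel (ι := 𝟙 I) (hι := by simp)
      (KernelFork.IsLimit.ofId _ (by simp))
  obtain ⟨α, hα⟩ : ∃ (α : Cochain S.X₃ I 0), δ 0 1 α = β.1 :=
    IsKInjective.eq_δ_of_cocycle β h₃ 0 (by simp)
  have := Lifting.hasLift sq hsq hS.gIsCokernel (KernelFork.IsLimit.ofId _ (by simp)) α hα
  exact ⟨sq.lift, sq.fac_left⟩

theorem extProp_iff_isKInjective (I : CochainComplex A ℤ) :
    ExtProp I ↔ (I.IsKInjective ∧ ∀ n : ℤ, Injective (I.X n)) :=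
  ⟨fun h => ⟨isKInjective_of_extProp h, injective_of_extProp h⟩,
    fun ⟨_, _⟩ => extProp_of_isKInjective I⟩

end Converse

end Groth.Agent.Lib.Helper17.KInjFib
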