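import Mathlib
import Groth.Agent.Lib.Helper17.KInjStep

/-!
# The small object argument for monomorphisms that are quasi-isomorphisms
-/

set_option autoImplicit false
set_option linter.unusedSectionVars false
set_option linter.style.haveILetI false

open CategoryTheory CategoryTheory.Limits HomologicalComplex Category

universe v u

namespace Groth.Agent.Lib.Helper17.KInjSOA

open Groth.Agent.Lib.Helper17.KInjLift Groth.Agent.Lib.Helper17.KInjW
  Groth.Agent.Lib.Helper17.KInjStep

variable (A : Type u) [Category.{v} A] [Abelian A] [IsGrothendieckAbelian.{v} A]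

/-- the test object -/
noncomputable def T : CochainComplex A ℤ :=
  LiftObj (separator (CochainComplex A ℤ)) (Rinf (separator A) (separator (CochainComplex A ℤ)))

/-- the generating family: subobjects of `T` whose inclusion is a quasi-isomorphism -/
def genW : MorphismProperty (CochainComplex A ℤ) :=
  MorphismProperty.ofHoms (fun (S : {S : Subobject (T A) // W S.arrow}) => S.1.arrow)

instance : MorphismProperty.IsSmall.{v} (genW A) := by
  dsimp [genW]
  infer_instance

lemma genW_le_W : genW A ≤ W := by
  rintro _ _ _ ⟨S⟩
  exact S.2

lemma genW_le_monomorphisms : genW A ≤ MorphismProperty.monomorphisms _ :=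
  (genW_le_W A).trans W_le_monomorphisms

lemma pushouts_genW_le_W : (genW A).pushouts ≤ W := by
  rw [MorphismProperty.pushouts_le_iff]
  exact genW_le_W A

lemma isomorphisms_le_pushouts_genW :
    MorphismProperty.isomorphisms _ ≤ (genW A).pushouts :=
  MorphismProperty.isomorphisms_le_pushouts _
    (fun _ ↦ ⟨_, _, _, ⟨⟨⊤, MorphismProperty.of_isIso W _⟩⟩, 0,
      inferInstanceAs (IsIso (⊤ : Subobject (T A)).arrow)⟩)


variable {A}

set_option backward.isDefEq.respectTransparency false in
/-- the key lemma -/
lemma exists_pushouts {X Y : CochainComplex A ℤ} (p : X ⟶ Y) (hp : W p) (hp' : ¬ IsIso p) :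
    ∃ (X' : CochainComplex A ℤ) (i : X ⟶ X') (p' : X' ⟶ Y) (_ : (genW A).pushouts i)
      (_ : ¬ IsIso i) (_ : Mono p'), i ≫ p' = p := by
  have hp2 := (W_iff p).1 hp
  haveI : Mono p := hp2.1
  have hU := isSeparator_separator A
  have hG := isSeparator_separator (CochainComplex A ℤ)
  have hZ : (cokernel p).Acyclic := acyclic_cokernel_of_W p hp
  -- a nonzero map from the separator
  obtain ⟨g₀, hg₀⟩ : ∃ g₀ : separator (CochainComplex A ℤ) ⟶ cokernel p, g₀ ≠ 0 := by
    by_contra hcon
    push Not at hcon
    have h1 : 𝟙 (cokernel p) = 0 := hG.def _ _ (fun h => by rw [hcon (h ≫ 𝟙 _), hcon (h ≫ 0)])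
    have h2 : cokernel.π p = 0 := by rw [← Category.comp_id (cokernel.π p), h1, comp_zero]
    haveI := Abelian.epi_of_cokernel_π_eq_zero p h2
    exact hp' (isIso_of_mono_of_epi p)
  obtain ⟨N, n, e, g', hn, he, hN, hg⟩ := exists_acyclic_sub hU hZ g₀
  haveI := hn
  haveI := he
  obtain ⟨ℓ, hℓ⟩ := exists_lift_epi hG e (pullback.snd (cokernel.π p) n)
  let t : T A ⟶ Y := ℓ ≫ pullback.fst (cokernel.π p) n
  have ht : t ≫ cokernel.π p = (ℓ ≫ pullback.snd (cokernel.π p) n) ≫ n := by
    dsimp only [t]
    rw [Category.assoc, Category.assoc, pullback.condition]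
  -- the generating map
  have hzero : pullback.snd p t ≫ ℓ ≫ pullback.snd (cokernel.π p) n = 0 := by
    rw [← cancel_mono n, zero_comp, Category.assoc, Category.assoc, ← Category.assoc ℓ, ← ht,
      ← pullback.condition_assoc, cokernel.condition, comp_zero]
  have hker : IsLimit (KernelFork.ofι (pullback.snd p t) hzero) :=
    KernelFork.IsLimit.ofι _ _
      (fun {W'} x hx => pullback.lift (Abelian.monoLift p (x ≫ t) (by
          rw [Category.assoc, ht, ← Category.assoc, ← Category.assoc,
            Category.assoc x, hx, zero_comp])) x (Abelian.monoLift_comp _ _ _))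
      (fun {W'} x hx => pullback.lift_snd _ _ _)
      (fun {W'} x hx m hm => by
        rw [← cancel_mono (pullback.snd p t), hm, pullback.lift_snd])
  have hS : (ShortComplex.mk (pullback.snd p t) (ℓ ≫ pullback.snd (cokernel.π p) n)
      hzero).ShortExact :=
    { exact := ShortComplex.exact_of_f_is_kernel _ hker }
  have hW : W (pullback.snd p t) := W_f_of_shortExact hS hN
  have hW' : W (Subobject.mk (pullback.snd p t)).arrow := by
    rw [← Subobject.underlyingIso_hom_comp_eq_mk]
    exact (MorphismProperty.cancel_left_of_respectsIso W _ _).2 hW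
  have hmem : genW A (Subobject.mk (pullback.snd p t)).arrow :=
    MorphismProperty.ofHoms.mk (f := fun (S : {S : Subobject (T A) // W S.arrow}) => S.1.arrow)
      ⟨Subobject.mk (pullback.snd p t), hW'⟩
  have hsq : IsPushout ((Subobject.underlyingIso (pullback.snd p t)).hom ≫ pullback.fst p t)
      (Subobject.mk (pullback.snd p t)).arrow
      (pushout.inl (pullback.fst p t) (pullback.snd p t))
      (pushout.inr (pullback.fst p t) (pullback.snd p t)) :=
    (IsPushout.of_hasPushout (pullback.fst p t) (pullback.snd p t)).of_iso
      ((Subobject.underlyingIso _).symm) (Iso.refl _) (Iso.refl _)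
      (Iso.refl _) (by simp) (by simp) (by simp) (by simp)
  refine ⟨pushout (pullback.fst p t) (pullback.snd p t), pushout.inl _ _,
    pushout.desc p t pullback.condition,
    MorphismProperty.pushouts_mk _ hsq hmem, ?_, ?_, by simp⟩
  · intro h
    have e1 : pushout.inl (pullback.fst p t) (pullback.snd p t) ≫
        pushout.desc p t pullback.condition = p := pushout.inl_desc _ _ _
    have e2 : pushout.inr (pullback.fst p t) (pullback.snd p t) ≫
        pushout.desc p t pullback.condition = t := pushout.inr_desc _ _ _
    have h1 : t = (pushout.inr (pullback.fst p t) (pullback.snd p t) ≫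
        inv (pushout.inl (pullback.fst p t) (pullback.snd p t))) ≫ p :=
      calc t = pushout.inr (pullback.fst p t) (pullback.snd p t) ≫
              pushout.desc p t pullback.condition := e2.symm
        _ = pushout.inr (pullback.fst p t) (pullback.snd p t) ≫
              (inv (pushout.inl (pullback.fst p t) (pullback.snd p t)) ≫
                pushout.inl (pullback.fst p t) (pullback.snd p t)) ≫
              pushout.desc p t pullback.condition := by
            rw [IsIso.inv_hom_id, Category.id_comp]
        _ = _ := by rw [Category.assoc, Category.assoc, e1]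
    have h2 : (ℓ ≫ pullback.snd (cokernel.π p) n) ≫ n = 0 := by
      rw [← ht, h1, Category.assoc, cokernel.condition, comp_zero]
    have h3 : n = 0 := by rwa [← cancel_epi (ℓ ≫ pullback.snd (cokernel.π p) n), comp_zero]
    exact hg₀ (by rw [← hg, h3, comp_zero])
  · exact (IsPushout.of_hasPushout _ _).mono_of_isPullback_of_mono
      (IsPullback.of_hasPullback p t) _ (by simp) (by simp)


lemma W_of_W_mk_arrow {X Y : CochainComplex A ℤ} (f : X ⟶ Y) [Mono f]
    (h : W (Subobject.mk f).arrow) : W f := by
  rw [← Subobject.underlyingIso_hom_comp_eq_mk] at h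
  exact (MorphismProperty.cancel_left_of_respectsIso W _ _).1 h

set_option backward.defeqAttrib.useBackward true in
lemma exists_larger_subobject {X : CochainComplex A ℤ} (B : Subobject X) (hB : B ≠ ⊤)
    (hW : W B.arrow) :
    ∃ (B' : Subobject X) (h : B < B'),
      (genW A).pushouts (Subobject.ofLE B B' h.le) := by
  induction B using Subobject.ind with | _ f
  obtain ⟨X', i, p', hi, hi', hp', fac⟩ := exists_pushouts f (W_of_W_mk_arrow f hW)
    (by simpa only [Subobject.isIso_iff_mk_eq_top] using hB)
  refine ⟨Subobject.mk p', Subobject.mk_lt_mk_of_comm i fac hi',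
    (MorphismProperty.arrow_mk_iso_iff _ ?_).2 hi⟩
  refine Arrow.isoMk (Subobject.underlyingIso f) (Subobject.underlyingIso p') ?_
  dsimp
  simp only [← cancel_mono p', assoc, fac,
    Subobject.underlyingIso_hom_comp_eq_mk, Subobject.ofLE_arrow]

variable {X : CochainComplex A ℤ}

open scoped Classical in
/-- a larger subobject (or `⊤`) -/
noncomputable def largerSubobject (B : Subobject X) : Subobject X :=
  if hB : B ≠ ⊤ ∧ W B.arrow then (exists_larger_subobject B hB.1 hB.2).choose else ⊤

variable (X) in
@[simp]
lemma largerSubobject_top : largerSubobject (⊤ : Subobject X) = ⊤ :=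
  dif_neg (fun h => h.1 rfl)

lemma lt_largerSubobject (B : Subobject X) (hB : B ≠ ⊤) :
    B < largerSubobject B := by
  dsimp only [largerSubobject]
  split_ifs with h
  · exact (exists_larger_subobject B h.1 h.2).choose_spec.choose
  · exact lt_top_iff_ne_top.2 hB

lemma le_largerSubobject (B : Subobject X) :
    B ≤ largerSubobject B := by
  by_cases hB : B = ⊤
  · subst hB
    simp only [largerSubobject_top, le_refl]
  · exact (lt_largerSubobject B hB).le

set_option backward.defeqAttrib.useBackward true in
set_option backward.isDefEq.respectTransparency false in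
lemma pushouts_ofLE_le_largerSubobject (B : Subobject X) (hW : W B.arrow) :
      (genW A).pushouts
        (Subobject.ofLE _ _ (le_largerSubobject B)) := by
  by_cases hB : B = ⊤
  · subst hB
    have := (Subobject.isIso_arrow_iff_eq_top (largerSubobject (⊤ : Subobject X))).2 (by simp)
    exact (MorphismProperty.arrow_mk_iso_iff _
      (Arrow.isoMk (asIso (Subobject.arrow _)) (asIso (Subobject.arrow _)) (by simp))).2
        (isomorphisms_le_pushouts_genW A (𝟙 X)
          (MorphismProperty.isomorphisms.infer_property _))
  · have h : B ≠ ⊤ ∧ W B.arrow := ⟨hB, hW⟩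
    refine (MorphismProperty.arrow_mk_iso_iff _ ?_).1
      (exists_larger_subobject B h.1 h.2).choose_spec.choose_spec
    exact Arrow.isoMk (Iso.refl _)
      (Subobject.isoOfEq _ _ ((by simp [largerSubobject, dif_pos h])))

lemma W_arrow_largerSubobject (B : Subobject X) (hW : W B.arrow) :
    W (largerSubobject B).arrow := by
  have h1 : W (Subobject.ofLE _ _ (le_largerSubobject B)) :=
    pushouts_genW_le_W A _ (pushouts_ofLE_le_largerSubobject B hW)
  have h2 : Subobject.ofLE _ _ (le_largerSubobject B) ≫ (largerSubobject B).arrow = B.arrow :=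
    Subobject.ofLE_arrow _
  rw [W_iff] at h1 hW ⊢
  refine ⟨inferInstance, ?_⟩
  haveI := h1.2
  haveI : QuasiIso (Subobject.ofLE _ _ (le_largerSubobject B) ≫ (largerSubobject B).arrow) := by
    rw [h2]; exact hW.2
  exact quasiIso_of_comp_left (Subobject.ofLE _ _ (le_largerSubobject B)) _


lemma top_mem_range (B₀ : Subobject X) {J : Type v} [LinearOrder J] [OrderBot J] [SuccOrder J]
    [WellFoundedLT J] (hJ : HasCardinalLT (Subobject X) (Cardinal.mk J)) :
    ∃ (j : J), transfiniteIterate (largerSubobject (X := X)) j B₀ = ⊤ :=
  top_mem_range_transfiniteIterate largerSubobject B₀ lt_largerSubobject (by simp)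
    (fun h ↦ by simpa [hasCardinalLT_iff_cardinal_mk_lt] using hJ.of_injective _ h)

lemma exists_ordinal (B₀ : Subobject X) :
    ∃ (o : Ordinal.{v}) (j : o.ToType),
      transfiniteIterate (largerSubobject (X := X)) j B₀ = ⊤ := by
  let κ := Order.succ (Cardinal.mk (Shrink.{v} (Subobject X)))
  have : Nonempty κ.ord.ToType := by simp [κ]
  have := WellFoundedLT.toOrderBot κ.ord.ToType
  exact ⟨κ.ord, top_mem_range B₀ (lt_of_lt_of_le (Order.lt_succ _) (by simp [κ]))⟩

section

variable (B₀ : Subobject X) (J : Type v) [LinearOrder J] [OrderBot J] [SuccOrder J]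
  [WellFoundedLT J]

/-- the functor `J ⥤ MonoOver X` given by the transfinite iteration -/
@[simps]
noncomputable def functorToMonoOver : J ⥤ MonoOver X where
  obj j := MonoOver.mk (transfiniteIterate (largerSubobject (X := X)) j B₀).arrow
  map {j j'} f := MonoOver.homMk (Subobject.ofLE _ _
      (monotone_transfiniteIterate _ _ le_largerSubobject (leOfHom f)))

/-- the induced functor to complexes -/
noncomputable abbrev functor : J ⥤ CochainComplex A ℤ :=
  functorToMonoOver B₀ J ⋙ MonoOver.forget _ ⋙ Over.forget _

set_option backward.defeqAttrib.useBackward true in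
instance : (functor B₀ J).IsWellOrderContinuous where
  nonempty_isColimit m hm := ⟨by
    have := hm.nonempty_Iio.to_subtype
    let c := (Set.principalSegIio m).cocone (functorToMonoOver B₀ J ⋙ MonoOver.forget _)
    have : Mono c.pt.hom := by dsimp [c]; infer_instance
    apply IsGrothendieckAbelian.isColimitMapCoconeOfSubobjectMkEqISup
      ((Set.principalSegIio m).monotone.functor ⋙ functorToMonoOver B₀ J) c
    dsimp [c]
    simp only [Subobject.mk_arrow]
    exact transfiniteIterate_limit largerSubobject B₀ m hm⟩

lemma W_mk_arrow {X' : CochainComplex A ℤ} (f : X' ⟶ X) [Mono f] (h : W f) :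
    W (Subobject.mk f).arrow := by
  rw [← Subobject.underlyingIso_hom_comp_eq_mk]
  exact (MorphismProperty.cancel_left_of_respectsIso W _ _).2 h

attribute [local instance] IsFiltered.isConnected in
set_option backward.defeqAttrib.useBackward true in
set_option backward.isDefEq.respectTransparency false in
lemma W_arrow_transfiniteIterate (hB₀ : W B₀.arrow) (j : J) :
    W (transfiniteIterate (largerSubobject (X := X)) j B₀).arrow := by
  induction j using SuccOrder.limitRecOn with
  | isMin j hj =>
    obtain rfl := hj.eq_bot
    rw [transfiniteIterate_bot]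
    exact hB₀
  | succ j hj hj' =>
    rw [transfiniteIterate_succ _ _ _ hj]
    exact W_arrow_largerSubobject _ hj'
  | isSuccLimit m hm ih =>
    have := hm.nonempty_Iio.to_subtype
    let F' : Set.Iio m ⥤ MonoOver X :=
      (Set.principalSegIio m).monotone.functor ⋙ functorToMonoOver B₀ J
    let D : Set.Iio m ⥤ CochainComplex A ℤ := F' ⋙ MonoOver.forget _ ⋙ Over.forget _
    let α : D ⟶ (Functor.const _).obj X :=
      { app k := (F'.obj k).obj.hom
        naturality {k k'} g := by simp [D, F', MonoOver.forget] }
    let f : colimit D ⟶ X := colimit.desc D (Cocone.mk X α)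
    have hf : ∀ k, colimit.ι D k ≫ f = (F'.obj k).obj.hom := fun k => colimit.ι_desc _ _
    haveI := IsGrothendieckAbelian.mono_of_isColimit_monoOver F' (colimit.isColimit D) f hf
    have h1 := IsGrothendieckAbelian.subobjectMk_of_isColimit_eq_iSup F'
      (colimit.isColimit D) f hf
    have h2 : W f :=
      (inferInstance : (W (A := A)).IsStableUnderColimitsOfShape (Set.Iio m)).condition D _
        (colimit.cocone D) (constCocone _ X) (colimit.isColimit D) (isColimitConstCocone _ X) α
        (fun k => ih k.1 k.2) f (fun k => (hf k).trans (Category.comp_id _).symm)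
    have h3 : Subobject.mk f = transfiniteIterate (largerSubobject (X := X)) m B₀ := by
      rw [h1, transfiniteIterate_limit largerSubobject B₀ m hm]
      dsimp [F']
      simp only [Subobject.mk_arrow]
    rw [← h3]
    exact W_mk_arrow f h2

set_option backward.isDefEq.respectTransparency.types false in
set_option backward.defeqAttrib.useBackward true in
variable {J} in
/-- the map from the bottom is a transfinite composition of pushouts of generating maps -/
noncomputable def transfiniteCompositionOfShapeMapFromBot (hB₀ : W B₀.arrow) (j : J) :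
    (genW A).pushouts.TransfiniteCompositionOfShape (Set.Iic j)
    ((functor B₀ J).map (homOfLE bot_le : ⊥ ⟶ j)) where
  F := (Set.initialSegIic j).monotone.functor ⋙ functor B₀ J
  isoBot := Iso.refl _
  incl :=
    { app k := (functor B₀ J).map (homOfLE k.2)
      naturality k k' h := by simp [MonoOver.forget] }
  isColimit := colimitOfDiagramTerminal isTerminalTop _
  map_mem k hk := by
    dsimp [MonoOver.forget]
    convert!
      pushouts_ofLE_le_largerSubobject (transfiniteIterate largerSubobject k.1 B₀)
        (W_arrow_transfiniteIterate B₀ J hB₀ k.1) using 2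
    all_goals
      rw [Set.Iic.succ_eq_of_not_isMax hk,
        transfiniteIterate_succ _ _ _ (Set.not_isMax_coe _ hk)]

end

variable {Y : CochainComplex A ℤ} {f : Y ⟶ X} [Mono f]

set_option backward.defeqAttrib.useBackward true in
set_option backward.isDefEq.respectTransparency false in
/-- a map in `W` is a transfinite composition of pushouts of generating maps -/
noncomputable def transfiniteCompositionOfShapeOfEqTop (hf : W f)
    {J : Type v} [LinearOrder J] [OrderBot J] [SuccOrder J] [WellFoundedLT J] {j : J}
    (hj : transfiniteIterate (largerSubobject (X := X)) j (Subobject.mk f) = ⊤) :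
    (genW A).pushouts.TransfiniteCompositionOfShape (Set.Iic j) f := by
  let t := transfiniteIterate largerSubobject j (Subobject.mk f)
  have := (Subobject.isIso_arrow_iff_eq_top t).2 hj
  apply (transfiniteCompositionOfShapeMapFromBot (Subobject.mk f) (W_mk_arrow f hf) j).ofArrowIso
  refine Arrow.isoMk ((Subobject.isoOfEq _ _ (transfiniteIterate_bot _ _) ≪≫
    Subobject.underlyingIso f)) (asIso t.arrow) ?_
  dsimp [MonoOver.forget]
  rw [assoc, Subobject.underlyingIso_hom_comp_eq_mk, Subobject.ofLE_arrow,
    Subobject.ofLE_arrow]

variable (f)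

lemma exists_transfiniteCompositionOfShape (hf : W f) :
    ∃ (J : Type v) (_ : LinearOrder J) (_ : OrderBot J) (_ : SuccOrder J)
        (_ : WellFoundedLT J),
    Nonempty ((genW A).pushouts.TransfiniteCompositionOfShape J f) := by
  obtain ⟨o, j, hj⟩ := exists_ordinal (Subobject.mk f)
  have : Nonempty o.ToType := ⟨j⟩
  have : OrderBot o.ToType := WellFoundedLT.toOrderBot _
  exact ⟨_, _, _, _, _, ⟨transfiniteCompositionOfShapeOfEqTop hf hj⟩⟩

open MorphismProperty

variable (A) in
lemma genW_rlp : (genW A).rlp = (W (A := A)).rlp := by
  apply le_antisymm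
  · intro X Y p hp K L i hi
    haveI : Mono i := ((W_iff i).1 hi).1
    obtain ⟨J, _, _, _, _, ⟨h⟩⟩ := exists_transfiniteCompositionOfShape i hi
    exact transfiniteCompositionsOfShape_le_llp_rlp _ _ _ h.mem _ (by simpa)
  · exact antitone_rlp (genW_le_W A)

variable (A) in
instance : HasSmallObjectArgument.{v} (genW A) := by
  obtain ⟨κ, hκ', hκ⟩ := HasCardinalLT.exists_regular_cardinal.{v} (Subobject (T A))
  have : Fact κ.IsRegular := ⟨hκ'⟩
  have : Nonempty κ.ord.ToType := by simpa using hκ'.ne_zero
  have := WellFoundedLT.toOrderBot κ.ord.ToType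
  exact ⟨κ, inferInstance, inferInstance,
    { preservesColimit {K L X Y} i hi f hf := by
        let hf' : (monomorphisms (CochainComplex A ℤ)).TransfiniteCompositionOfShape
            κ.ord.ToType f :=
          { toTransfiniteCompositionOfShape := hf.toTransfiniteCompositionOfShape
            map_mem j hj := by
              have := (hf.attachCells j hj).pushouts_coproducts
              simp only [ofHoms_homFamily] at this
              refine (?_ : _ ≤ monomorphisms (CochainComplex A ℤ)) _ this
              simp only [pushouts_le_iff, coproducts_le_iff]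
              exact genW_le_monomorphisms A }
        have (j j' : κ.ord.ToType) (φ : j ⟶ j') : Mono (hf'.F.map φ) := hf'.mem_map φ
        apply IsGrothendieckAbelian.preservesColimit_coyoneda_obj_of_mono (Y := hf'.F) (κ := κ)
        obtain ⟨S⟩ := hi
        exact Subobject.hasCardinalLT_of_mono hκ S.1.arrow }⟩

variable (A) in
lemma llp_rlp_W : (W (A := A)).rlp.llp = W := by
  refine le_antisymm ?_ (le_llp_rlp _)
  rw [← genW_rlp A, llp_rlp_of_hasSmallObjectArgument]
  trans (transfiniteCompositions.{v} (coproducts.{v} (W (A := A))).pushouts).retracts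
  · apply retracts_monotone
    apply transfiniteCompositions_monotone
    apply pushouts_monotone
    apply coproducts_monotone
    exact genW_le_W A
  · simp

variable (A) in
instance : HasFunctorialFactorization (W (A := A)) (W (A := A)).rlp := by
  rw [← genW_rlp A, ← llp_rlp_W A, ← genW_rlp A]
  infer_instance

end Groth.Agent.Lib.Helper17.KInjSOA
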