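import Mathlib
import Groth.Agent.Lib.Helper17.KInjSOA
import Groth.Agent.Lib.Helper17.KInjFib

/-!
# K-injective resolutions in Grothendieck abelian categories
-/

set_option autoImplicit false
set_option linter.unusedSectionVars false
set_option linter.style.haveILetI false

open CategoryTheory CategoryTheory.Limits HomologicalComplex

universe v u

namespace Groth.Agent.Lib.Helper17.KInjRes

open Groth.Agent.Lib.Helper17.KInjW Groth.Agent.Lib.Helper17.KInjSOA
  Groth.Agent.Lib.Helper17.KInjFib

variable {A : Type u} [Category.{v} A] [Abelian A]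

open ZeroObject

/-- A complex whose map to `0` has the right lifting property against `W` has the
extension property. -/
lemma extProp_of_rlp {I : CochainComplex A ℤ}
    (h : (W (A := A)).rlp (0 : I ⟶ (0 : CochainComplex A ℤ))) : ExtProp I := by
  rw [extProp_iff]
  intro K L f hf φ
  have := h f hf
  have sq : CommSq φ f (0 : I ⟶ (0 : CochainComplex A ℤ)) 0 := ⟨by simp⟩
  exact ⟨sq.lift, sq.fac_left⟩

variable [IsGrothendieckAbelian.{v} A]

/-- Every morphism of complexes factors as a monic quasi-isomorphism followed by a map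
with the right lifting property against monic quasi-isomorphisms. -/
theorem exists_factorization {K L : CochainComplex A ℤ} (f : K ⟶ L) :
    ∃ (Z : CochainComplex A ℤ) (i : K ⟶ Z) (p : Z ⟶ L), W i ∧ (W (A := A)).rlp p ∧ i ≫ p = f := by
  let d := MorphismProperty.factorizationData (W (A := A)) (W (A := A)).rlp f
  exact ⟨d.Z, d.i, d.p, d.hi, d.hp, d.fac⟩

/-- K-injective resolutions exist. -/
theorem exists_kInjective_resolution (M : CochainComplex A ℤ) :
    ∃ (I : CochainComplex A ℤ) (f : M ⟶ I), I.IsKInjective ∧ QuasiIso f ∧ (∀ n, Mono (f.f n)) ∧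
      ∀ n, Injective (I.X n) := by
  obtain ⟨I, i, p, hi, hp, -⟩ := exists_factorization (0 : M ⟶ (0 : CochainComplex A ℤ))
  have hp' : (W (A := A)).rlp (0 : I ⟶ (0 : CochainComplex A ℤ)) := by
    convert hp
    exact (isZero_zero _).eq_of_tgt _ _
  have hE := extProp_of_rlp hp'
  obtain ⟨h1, h2⟩ := (W_iff i).1 hi
  exact ⟨I, i, isKInjective_of_extProp hE, h2, fun n => inferInstance, injective_of_extProp hE⟩

end Groth.Agent.Lib.Helper17.KInjRes
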