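import Mathlib
import Groth.Agent.Lib.Helper17.KInjRes
import Groth.Agent.S0480

/-!
# Products in the derived category of a Grothendieck abelian category
-/

set_option autoImplicit false
set_option linter.unusedSectionVars false
set_option linter.style.haveILetI false

open CategoryTheory CategoryTheory.Limits HomologicalComplex

universe w v u

namespace Groth.Agent.Lib.Helper17.DProd

section Homot

variable {A : Type u} [Category.{v} A] [Preadditive A] {ι : Type*} {c : ComplexShape ι}
  {J : Type w} [HasProductsOfShape J A]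

/-- degreewise product fan -/
noncomputable def isLimitEvalFan (K : J → HomologicalComplex A c) (i : ι) :
    IsLimit (Fan.mk ((∏ᶜ K).X i) (fun j => (Pi.π K j).f i)) :=
  isLimitFanMkObjOfIsLimit (HomologicalComplex.eval A c i) K _ (productIsProduct K)

lemma nonempty_homotopy (K : J → HomologicalComplex A c) {T : HomologicalComplex A c}
    (a b : T ⟶ ∏ᶜ K) (h : ∀ j, Homotopy (a ≫ Pi.π K j) (b ≫ Pi.π K j)) :
    Nonempty (Homotopy a b) := by
  let hom : ∀ i i', T.X i ⟶ (∏ᶜ K).X i' := fun i i' =>
    Fan.IsLimit.lift (isLimitEvalFan K i') (fun j => (h j).hom i i')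
  have fac : ∀ j i i', hom i i' ≫ (Pi.π K j).f i' = (h j).hom i i' := fun j i i' =>
    Fan.IsLimit.fac (isLimitEvalFan K i') _ j
  refine ⟨{ hom := hom, zero := ?_, comm := ?_ }⟩
  · intro i i' hii'
    apply Fan.IsLimit.hom_ext (isLimitEvalFan K i')
    intro j
    change hom i i' ≫ (Pi.π K j).f i' = 0 ≫ (Pi.π K j).f i'
    rw [fac, zero_comp, (h j).zero i i' hii']
  · intro i
    apply Fan.IsLimit.hom_ext (isLimitEvalFan K i)
    intro j
    change a.f i ≫ (Pi.π K j).f i = (dNext i hom + prevD i hom + b.f i) ≫ (Pi.π K j).f i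
    have e : (fun i i' => hom i i' ≫ (Pi.π K j).f i') = (h j).hom := by
      funext i i'
      exact fac j i i'
    rw [Preadditive.add_comp, Preadditive.add_comp, ← dNext_comp_right, ← prevD_comp_right, e]
    exact (h j).comm i

end Homot

section Der

open DerivedCategory

variable {C : Type u} [Category.{v} C] [Abelian C] [HasDerivedCategory.{w} C]

lemma Q_map_surjective_of_isKInjective (K L : CochainComplex C ℤ) [L.IsKInjective]
    (φ : Q.obj K ⟶ Q.obj L) : ∃ f : K ⟶ L, Q.map f = φ := by
  obtain ⟨g, hg⟩ := (CochainComplex.IsKInjective.Qh_map_bijective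
    ((HomotopyCategory.quotient _ _).obj K) L).surjective
    ((quotientCompQhIso C).hom.app K ≫ φ ≫ (quotientCompQhIso C).inv.app L)
  obtain ⟨f, rfl⟩ := (HomotopyCategory.quotient _ _).map_surjective g
  refine ⟨f, ?_⟩
  have h := quotientCompQhIso_hom_naturality f
  rw [hg] at h
  simp only [Category.assoc, Iso.inv_hom_id_app, Functor.comp_obj] at h
  have h2 := (cancel_epi ((quotientCompQhIso C).hom.app K)).1 h
  rw [← h2]
  exact Category.comp_id _

lemma Q_map_eq_iff_of_isKInjective (K L : CochainComplex C ℤ) [L.IsKInjective]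
    (f g : K ⟶ L) : Q.map f = Q.map g ↔ Nonempty (Homotopy f g) := by
  constructor
  · intro h
    have h1 : Qh.map ((HomotopyCategory.quotient _ _).map f) =
        Qh.map ((HomotopyCategory.quotient _ _).map g) := by
      rw [← cancel_mono ((quotientCompQhIso C).hom.app L), quotientCompQhIso_hom_naturality,
        quotientCompQhIso_hom_naturality, h]
    exact ⟨HomotopyCategory.homotopyOfEq _ _
      ((CochainComplex.IsKInjective.Qh_map_bijective _ L).injective h1)⟩
  · rintro ⟨h⟩
    exact Q_map_eq_of_homotopy _ h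

end Der

section Main

open DerivedCategory Groth.Agent.Lib.Helper17.KInjRes

variable {A : Type u} [Category.{v} A] [Abelian A] [IsGrothendieckAbelian.{v} A]
  [HasDerivedCategory.{v} A]

/-- the image in `D(A)` of a product of K-injective complexes is a product -/
noncomputable def isLimitFanOfIsKInjective {J : Type v} (I : J → CochainComplex A ℤ)
    [∀ j, (I j).IsKInjective] :
    IsLimit (Fan.mk (Q.obj (∏ᶜ I)) (fun j => Q.map (Pi.π I j))) := by
  haveI : (∏ᶜ I).IsKInjective := Groth.Agent.S0480.result I (fun j => inferInstance)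
  have key : ∀ (T : DerivedCategory A) (g : ∀ j, T ⟶ Q.obj (I j)),
      ∃ m : T ⟶ Q.obj (∏ᶜ I), ∀ j, m ≫ Q.map (Pi.π I j) = g j := by
    intro T g
    let M := Q.objPreimage T
    let e : Q.obj M ≅ T := Q.objObjPreimageIso T
    choose γ hγ using fun j => Q_map_surjective_of_isKInjective M (I j) (e.hom ≫ g j)
    refine ⟨e.inv ≫ Q.map (Pi.lift γ), fun j => ?_⟩
    rw [Category.assoc, ← Functor.map_comp, Pi.lift_π, hγ, Iso.inv_hom_id_assoc]
  have uniq : ∀ (T : DerivedCategory A) (m m' : T ⟶ Q.obj (∏ᶜ I)),
      (∀ j, m ≫ Q.map (Pi.π I j) = m' ≫ Q.map (Pi.π I j)) → m = m' := by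
    intro T m m' h
    let M := Q.objPreimage T
    let e : Q.obj M ≅ T := Q.objObjPreimageIso T
    obtain ⟨a, ha⟩ := Q_map_surjective_of_isKInjective M (∏ᶜ I) (e.hom ≫ m)
    obtain ⟨b, hb⟩ := Q_map_surjective_of_isKInjective M (∏ᶜ I) (e.hom ≫ m')
    have hh : ∀ j, Nonempty (Homotopy (a ≫ Pi.π I j) (b ≫ Pi.π I j)) := by
      intro j
      rw [← Q_map_eq_iff_of_isKInjective, Functor.map_comp, Functor.map_comp, ha, hb,
        Category.assoc, Category.assoc, h j]
    obtain ⟨H⟩ := nonempty_homotopy I a b (fun j => (hh j).some)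
    have := Q_map_eq_of_homotopy _ H
    rw [ha, hb] at this
    exact (cancel_epi e.hom).1 this
  exact Fan.IsLimit.mk _ (fun s => (key s.pt s.proj).choose)
    (fun s j => (key s.pt s.proj).choose_spec j)
    (fun s m hm => uniq _ _ _ (fun j => by
      rw [(key s.pt s.proj).choose_spec j]
      exact hm j))

theorem hasProductsOfShape (J : Type v) : HasProductsOfShape J (DerivedCategory A) := by
  constructor
  intro F
  let M : J → CochainComplex A ℤ := fun j => Q.objPreimage (F.obj ⟨j⟩)
  choose I f hI hf _ _ using fun j => exists_kInjective_resolution (M j)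
  haveI : ∀ j, (I j).IsKInjective := hI
  haveI : ∀ j, QuasiIso (f j) := hf
  haveI : ∀ j, IsIso (Q.map (f j)) := fun j => inferInstance
  let e : F ≅ Discrete.functor (fun j => Q.obj (I j)) :=
    Discrete.natIso (fun ⟨j⟩ => (Q.objObjPreimageIso (F.obj ⟨j⟩)).symm ≪≫ asIso (Q.map (f j)))
  haveI : HasLimit (Discrete.functor (fun j => Q.obj (I j))) :=
    ⟨⟨⟨_, isLimitFanOfIsKInjective I⟩⟩⟩
  exact hasLimit_of_iso e.symm

theorem derivedCategory_hasProducts : HasProducts.{v} (DerivedCategory A) :=
  fun J => hasProductsOfShape J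

end Main

end Groth.Agent.Lib.Helper17.DProd
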