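import Mathlib
import Groth.Agent.Lib.Helper17.DProd
import Groth.Agent.Lib27.DCoprod

/-!
# Products in localizations with a calculus of right fractions; products in `D(B)` when
products are exact in `B` (dual of `Lib27.DCoprod`).
-/

set_option autoImplicit false

open CategoryTheory Limits

namespace Groth.Agent.Lib.Helper17.DProdExact

universe w w' v₁ v₂ u₁ u₂

section Pre

variable {C : Type u₁} [Category.{v₁} C] (W : MorphismProperty C)
  {J : Type w} [HasProductsOfShape J C] [W.IsStableUnderProductsOfShape J]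

lemma W_piMap {X Y : J → C} (s : ∀ j, X j ⟶ Y j) (hs : ∀ j, W (s j)) :
    W (Limits.Pi.map s) :=
  MorphismProperty.limMap (W := W) (X := Discrete.functor X) (Y := Discrete.functor Y)
    (Discrete.natTrans fun j => s j.as) (fun j => hs j.as)

end Pre

section Loc

variable {C : Type u₁} {D : Type u₂} [Category.{v₁} C] [Category.{v₂} D]
  (L : C ⥤ D) (W : MorphismProperty C) [L.IsLocalization W] [W.HasRightCalculusOfFractions]
  {J : Type w} [HasProductsOfShape J C] [W.IsStableUnderProductsOfShape J]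

include W in
lemma exists_lift (X : J → C) (T : D) (g : ∀ j, T ⟶ L.obj (X j)) :
    ∃ m : T ⟶ L.obj (∏ᶜ X), ∀ j, m ≫ L.map (Pi.π X j) = g j := by
  have : L.EssSurj := Localization.essSurj L W
  have hL := Localization.inverts L W
  let Y := L.objPreimage T
  let e : L.obj Y ≅ T := L.objObjPreimageIso T
  have hφ : ∀ j, ∃ φ : W.RightFraction Y (X j), e.hom ≫ g j = φ.map L hL := fun j =>
    Localization.exists_rightFraction L W (e.hom ≫ g j)
  choose φ hφ using hφ
  let Y' : J → C := fun j => (φ j).X'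
  let f : ∀ j, Y' j ⟶ X j := fun j => (φ j).f
  let s : ∀ j, Y' j ⟶ Y := fun j => (φ j).s
  have hs : ∀ j, W (s j) := fun j => (φ j).hs
  have hS : W (Limits.Pi.map s) := W_piMap W s hs
  haveI : IsIso (L.map (Limits.Pi.map s)) := hL _ hS
  haveI : ∀ j, IsIso (L.map (s j)) := fun j => hL _ (hs j)
  refine ⟨e.inv ≫ L.map (Pi.lift (fun _ => 𝟙 Y)) ≫ inv (L.map (Limits.Pi.map s)) ≫
    L.map (Limits.Pi.map f), fun j => ?_⟩
  have h1 : inv (L.map (Limits.Pi.map s)) ≫ L.map (Pi.π Y' j) =
      L.map (Pi.π (fun _ : J => Y) j) ≫ inv (L.map (s j)) := by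
    rw [IsIso.inv_comp_eq, ← Category.assoc, IsIso.eq_comp_inv, ← L.map_comp, ← L.map_comp,
      Pi.map_π]
  have h2 : e.hom ≫ g j = inv (L.map (s j)) ≫ L.map (f j) := by
    rw [hφ j]
    rfl
  calc (e.inv ≫ L.map (Pi.lift (fun _ => 𝟙 Y)) ≫ inv (L.map (Limits.Pi.map s)) ≫
        L.map (Limits.Pi.map f)) ≫ L.map (Pi.π X j)
      = e.inv ≫ L.map (Pi.lift (fun _ => 𝟙 Y)) ≫
          (inv (L.map (Limits.Pi.map s)) ≫ L.map (Pi.π Y' j)) ≫ L.map (f j) := by
        simp only [Category.assoc]
        rw [← L.map_comp (Limits.Pi.map f), Pi.map_π, L.map_comp]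
    _ = e.inv ≫ L.map (Pi.lift (fun _ => 𝟙 Y) ≫ Pi.π (fun _ : J => Y) j) ≫
          (inv (L.map (s j)) ≫ L.map (f j)) := by
        rw [h1, L.map_comp]
        simp only [Category.assoc]
    _ = g j := by
        rw [← h2, Pi.lift_π, L.map_id, Category.id_comp, e.inv_hom_id_assoc]

include W in
lemma hom_ext (X : J → C) (T : D) (m m' : T ⟶ L.obj (∏ᶜ X))
    (h : ∀ j, m ≫ L.map (Pi.π X j) = m' ≫ L.map (Pi.π X j)) : m = m' := by
  have : L.EssSurj := Localization.essSurj L W
  have hL := Localization.inverts L W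
  let Y := L.objPreimage T
  let e : L.obj Y ≅ T := L.objObjPreimageIso T
  obtain ⟨φ, hφ⟩ := Localization.exists_rightFraction L W (e.hom ≫ m)
  obtain ⟨φ', hφ'⟩ := Localization.exists_rightFraction L W (e.hom ≫ m')
  obtain ⟨ψ, hψ⟩ := (MorphismProperty.LeftFraction.mk φ'.s φ.s φ.hs).exists_rightFraction
  dsimp at hψ
  haveI : IsIso (L.map φ.s) := hL _ φ.hs
  haveI : IsIso (L.map φ'.s) := hL _ φ'.hs
  haveI : IsIso (L.map ψ.s) := hL _ ψ.hs
  -- common denominator `d`
  let d := ψ.s ≫ φ'.s
  haveI : IsIso (L.map d) := by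
    dsimp only [d]
    rw [L.map_comp]
    infer_instance
  have h1 : L.map d ≫ e.hom ≫ m = L.map (ψ.f ≫ φ.f) := by
    have : L.map d = L.map ψ.f ≫ L.map φ.s := by
      dsimp only [d]
      rw [← L.map_comp, hψ]
    rw [this, hφ]
    change (L.map ψ.f ≫ L.map φ.s) ≫ inv (L.map φ.s) ≫ L.map φ.f = _
    rw [Category.assoc, IsIso.hom_inv_id_assoc, L.map_comp]
  have h2 : L.map d ≫ e.hom ≫ m' = L.map (ψ.s ≫ φ'.f) := by
    rw [hφ']
    change L.map (ψ.s ≫ φ'.s) ≫ inv (L.map φ'.s) ≫ L.map φ'.f = _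
    rw [L.map_comp, Category.assoc, IsIso.hom_inv_id_assoc, L.map_comp]
  generalize ψ.f ≫ φ.f = F at h1
  generalize ψ.s ≫ φ'.f = F' at h2
  suffices hff : L.map F = L.map F' by
    rw [← cancel_epi e.hom, ← cancel_epi (L.map d), h1, h2, hff]
  have h3 : ∀ j, L.map (F ≫ Pi.π X j) = L.map (F' ≫ Pi.π X j) := fun j => by
    rw [L.map_comp, L.map_comp, ← h1, ← h2]
    simp only [Category.assoc]
    rw [h j]
  have h4 : ∀ j, ∃ (Z : C) (t : Z ⟶ ψ.X') (_ : W t),
      t ≫ (F ≫ Pi.π X j) = t ≫ (F' ≫ Pi.π X j) := fun j =>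
    (MorphismProperty.map_eq_iff_precomp L W _ _).1 (h3 j)
  choose Z t ht htt using h4
  let a : ∀ j, ψ.X' ⟶ X j := fun j => F ≫ Pi.π X j
  let a' : ∀ j, ψ.X' ⟶ X j := fun j => F' ≫ Pi.π X j
  have hT : W (Limits.Pi.map t) := W_piMap W t ht
  haveI : IsIso (L.map (Limits.Pi.map t)) := hL _ hT
  have h5 : Limits.Pi.map t ≫ Limits.Pi.map a = Limits.Pi.map t ≫ Limits.Pi.map a' := by
    rw [Limits.Pi.map_comp_map, Limits.Pi.map_comp_map]
    congr 1
    funext j
    exact htt j
  have h6 : L.map (Limits.Pi.map a) = L.map (Limits.Pi.map a') := by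
    rw [← cancel_epi (L.map (Limits.Pi.map t)), ← L.map_comp, ← L.map_comp, h5]
  have h7 : F = Pi.lift (fun _ => 𝟙 ψ.X') ≫ Limits.Pi.map a := by
    apply Pi.hom_ext
    intro j
    rw [Category.assoc, Limits.Pi.map_π, Pi.lift_π_assoc, Category.id_comp]
  have h8 : F' = Pi.lift (fun _ => 𝟙 ψ.X') ≫ Limits.Pi.map a' := by
    apply Pi.hom_ext
    intro j
    rw [Category.assoc, Limits.Pi.map_π, Pi.lift_π_assoc, Category.id_comp]
  rw [h7, h8, L.map_comp, L.map_comp, h6]

/-- The image under a localization functor (for a class of morphisms with a calculus of right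
fractions, stable under products) of a product is a product. -/
noncomputable def isLimitMapFan (X : J → C) :
    IsLimit (Fan.mk (L.obj (∏ᶜ X)) (fun j => L.map (Pi.π X j))) :=
  Fan.IsLimit.mk _ (fun s => (exists_lift L W X s.pt s.proj).choose)
    (fun s j => (exists_lift L W X s.pt s.proj).choose_spec j)
    (fun s m hm => hom_ext L W X _ _ _ (fun j => by
      have h1 := hm j
      have h2 := (exists_lift L W X s.pt s.proj).choose_spec j
      dsimp at h1
      rw [h1, h2]))

end Loc

section Homot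

variable {A : Type u₁} [Category.{v₁} A] [Preadditive A] {ι : Type*} {c : ComplexShape ι}
  {J : Type w} [HasProductsOfShape J A]

lemma quotient_map_eq_of_fan (K : J → HomologicalComplex A c) (T : HomologicalComplex A c)
    (a b : T ⟶ ∏ᶜ K)
    (h : ∀ j, (HomotopyCategory.quotient A c).map (a ≫ Pi.π K j) =
      (HomotopyCategory.quotient A c).map (b ≫ Pi.π K j)) :
    (HomotopyCategory.quotient A c).map a = (HomotopyCategory.quotient A c).map b := by
  obtain ⟨H⟩ := Groth.Agent.Lib.Helper17.DProd.nonempty_homotopy K a b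
    (fun j => HomotopyCategory.homotopyOfEq _ _ (h j))
  exact HomotopyCategory.eq_of_homotopy _ _ H

end Homot

section Quot

variable {K : Type u₁} {H : Type u₂} [Category.{v₁} K] [Category.{v₂} H] (Q : K ⥤ H)
  [Q.Full] [Q.EssSurj] {J : Type w} [HasProductsOfShape J K]
  (hQ : ∀ (X : J → K) (T : K) (a b : T ⟶ ∏ᶜ X),
    (∀ j, Q.map (a ≫ Pi.π X j) = Q.map (b ≫ Pi.π X j)) → Q.map a = Q.map b)

lemma quot_exists_lift (X : J → K) (T : H) (g : ∀ j, T ⟶ Q.obj (X j)) :
    ∃ m : T ⟶ Q.obj (∏ᶜ X), ∀ j, m ≫ Q.map (Pi.π X j) = g j := by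
  let e : Q.obj (Q.objPreimage T) ≅ T := Q.objObjPreimageIso T
  refine ⟨e.inv ≫ Q.map (Pi.lift (fun j => Q.preimage (e.hom ≫ g j))), fun j => ?_⟩
  rw [Category.assoc, ← Functor.map_comp, Pi.lift_π, Functor.map_preimage, e.inv_hom_id_assoc]

include hQ in
lemma quot_hom_ext (X : J → K) (T : H) (m m' : T ⟶ Q.obj (∏ᶜ X))
    (h : ∀ j, m ≫ Q.map (Pi.π X j) = m' ≫ Q.map (Pi.π X j)) : m = m' := by
  let e : Q.obj (Q.objPreimage T) ≅ T := Q.objObjPreimageIso T
  obtain ⟨a, ha⟩ := Q.map_surjective (e.hom ≫ m)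
  obtain ⟨b, hb⟩ := Q.map_surjective (e.hom ≫ m')
  have hab : Q.map a = Q.map b := hQ X _ a b (fun j => by
    rw [Functor.map_comp, Functor.map_comp, ha, hb, Category.assoc, Category.assoc, h j])
  rw [← cancel_epi e.hom, ← ha, ← hb, hab]

include hQ in
/-- `Q` sends product fans to limit fans. -/
noncomputable def isLimitQuotFan (X : J → K) :
    IsLimit (Fan.mk (Q.obj (∏ᶜ X)) (fun j => Q.map (Pi.π X j))) :=
  Fan.IsLimit.mk _ (fun s => (quot_exists_lift Q X s.pt s.proj).choose)
    (fun s j => (quot_exists_lift Q X s.pt s.proj).choose_spec j)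
    (fun s m hm => quot_hom_ext Q hQ X _ _ _ (fun j => by
      have h1 := hm j
      have h2 := (quot_exists_lift Q X s.pt s.proj).choose_spec j
      dsimp at h1
      rw [h1, h2]))

include hQ in
lemma quot_preserves : PreservesLimitsOfShape (Discrete J) Q := by
  haveI : ∀ X : J → K, PreservesLimit (Discrete.functor X) Q := fun X =>
    preservesLimit_of_preserves_limit_cone (productIsProduct X)
      ((isLimitMapConeFanMkEquiv _ _ _).symm (isLimitQuotFan Q hQ X))
  exact preservesLimitsOfShape_of_discrete _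

include hQ in
lemma quot_hasProductsOfShape : HasProductsOfShape J H := by
  constructor
  intro F
  let X : J → K := fun j => Q.objPreimage (F.obj ⟨j⟩)
  let e : F ≅ Discrete.functor (fun j => Q.obj (X j)) :=
    Discrete.natIso (fun j => (Q.objObjPreimageIso (F.obj j)).symm)
  haveI : HasLimit (Discrete.functor (fun j => Q.obj (X j))) :=
    ⟨⟨⟨_, isLimitQuotFan Q hQ X⟩⟩⟩
  exact hasLimit_of_iso e.symm

end Quot

section HomotInst

variable {A : Type u₁} [Category.{v₁} A] [Preadditive A] {ι : Type*} {c : ComplexShape ι}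
  {J : Type w} [HasProductsOfShape J A]

instance preservesProducts_quotient :
    PreservesLimitsOfShape (Discrete J) (HomotopyCategory.quotient A c) :=
  quot_preserves _ (fun K T a b h => quotient_map_eq_of_fan K T a b h)

instance hasProductsOfShape_homotopyCategory :
    HasProductsOfShape J (HomotopyCategory A c) :=
  quot_hasProductsOfShape (HomotopyCategory.quotient A c)
    (fun K T a b h => quotient_map_eq_of_fan K T a b h)

end HomotInst

section Transfer

variable {K : Type u₁} {H : Type u₂} [Category.{v₁} K] [Category.{v₂} H] (Q : K ⥤ H)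
  [Q.Full] [Q.EssSurj] {J : Type w} [HasProductsOfShape J K] [HasProductsOfShape J H]
  [PreservesLimitsOfShape (Discrete J) Q]
  (WK : MorphismProperty K) (WH : MorphismProperty H) [WH.RespectsIso]

include Q WK in
lemma stable_of_quotient (hQ : ∀ {X Y : K} (f : X ⟶ Y), WH (Q.map f) ↔ WK f)
    [WK.IsStableUnderProductsOfShape J] : WH.IsStableUnderProductsOfShape J := by
  apply MorphismProperty.IsStableUnderProductsOfShape.mk
  intro X₁ X₂ _ _ f hf
  let K₁ : J → K := fun j => Q.objPreimage (X₁ j)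
  let K₂ : J → K := fun j => Q.objPreimage (X₂ j)
  let e₁ : ∀ j, Q.obj (K₁ j) ≅ X₁ j := fun j => Q.objObjPreimageIso (X₁ j)
  let e₂ : ∀ j, Q.obj (K₂ j) ≅ X₂ j := fun j => Q.objObjPreimageIso (X₂ j)
  let g : ∀ j, K₁ j ⟶ K₂ j := fun j => Q.preimage ((e₁ j).hom ≫ f j ≫ (e₂ j).inv)
  have hg : ∀ j, WK (g j) := fun j => by
    rw [← hQ, Functor.map_preimage]
    exact (WH.cancel_left_of_respectsIso _ _).2 ((WH.cancel_right_of_respectsIso _ _).2 (hf j))
  have hG : WH (Q.map (Limits.Pi.map g)) := (hQ _).2 (W_piMap WK g hg)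
  have key : Limits.Pi.map f = (Pi.mapIso e₁).inv ≫ inv (piComparison Q K₁) ≫
      Q.map (Limits.Pi.map g) ≫ piComparison Q K₂ ≫ (Pi.mapIso e₂).hom := by
    apply Pi.hom_ext
    intro j
    have h1 : inv (piComparison Q K₁) ≫ Q.map (Pi.π K₁ j) = Pi.π _ j := by
      rw [IsIso.inv_comp_eq, piComparison_comp_π]
    simp only [Category.assoc]
    rw [Limits.Pi.map_π, Pi.mapIso_hom_π, piComparison_comp_π_assoc, ← Functor.map_comp_assoc,
      Limits.Pi.map_π, Functor.map_comp_assoc, reassoc_of% h1, Pi.mapIso_inv_π_assoc,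
      Functor.map_preimage]
    simp
  rw [key]
  exact (WH.cancel_left_of_respectsIso _ _).2 ((WH.cancel_left_of_respectsIso _ _).2
    ((WH.cancel_right_of_respectsIso _ _).2 hG))

end Transfer

section QIso

open Groth.Agent.Lib27.DCoprod

variable {A : Type u₁} [Category.{v₁} A] [Abelian A] {ι : Type*} (c : ComplexShape ι)
  {J : Type w} [Category.{w'} J] [HasLimitsOfShape J A]

/-- the limit cone with point `lim (psi X)` -/
@[simps]
noncomputable def lc (X : J ⥤ HomologicalComplex A c) : Cone X where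
  pt := ((lim : (J ⥤ A) ⥤ A).mapHomologicalComplex c).obj (psi c X)
  π :=
    { app := fun j =>
        { f := fun n => limit.π (X ⋙ HomologicalComplex.eval A c n) j
          comm' := fun n m _ => by
            exact (limMap_π ((psi c X).d n m) j).symm }
      naturality := fun i j φ => by
        ext n
        dsimp
        simp only [Category.id_comp]
        exact (limit.w (X ⋙ HomologicalComplex.eval A c n) φ).symm }

noncomputable def isLimitLc (X : J ⥤ HomologicalComplex A c) : IsLimit (lc c X) :=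
  HomologicalComplex.isLimitOfEval _ _ (fun n =>
    IsLimit.ofIsoLimit (limit.isLimit (X ⋙ HomologicalComplex.eval A c n))
      (Cone.ext (Iso.refl _) (fun j => by dsimp; exact (Category.id_comp _).symm)))

lemma quasiIso_psiMap' {X Y : J ⥤ HomologicalComplex A c} (f : X ⟶ Y)
    (hf : ∀ j, QuasiIso (f.app j)) : QuasiIso (psiMap c f) := by
  rw [HomologicalComplex.quasiIso_iff_evaluation]
  intro t
  have e : Arrow.mk ((((evaluation J A).obj t).mapHomologicalComplex c).map (psiMap c f)) ≅
      Arrow.mk (f.app t) :=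
    Arrow.isoMk (HomologicalComplex.Hom.isoOfComponents (fun n => Iso.refl _)
        (fun i j _ => (Category.id_comp _).trans (Category.comp_id _).symm))
      (HomologicalComplex.Hom.isoOfComponents (fun n => Iso.refl _)
        (fun i j _ => (Category.id_comp _).trans (Category.comp_id _).symm))
      (by
        ext n
        exact (Category.id_comp _).trans (Category.comp_id _).symm)
  exact (quasiIso_iff_of_arrow_mk_iso _ _ e).2 (hf t)

lemma lc_compat {X Y : J ⥤ HomologicalComplex A c} (f : X ⟶ Y) (j : J) :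
    ((lim : (J ⥤ A) ⥤ A).mapHomologicalComplex c).map (psiMap c f) ≫ (lc c Y).π.app j =
      (lc c X).π.app j ≫ f.app j := by
  ext n
  change limMap (Functor.whiskerRight f (HomologicalComplex.eval A c n)) ≫
      limit.π (Y ⋙ HomologicalComplex.eval A c n) j =
    limit.π (X ⋙ HomologicalComplex.eval A c n) j ≫ (f.app j).f n
  rw [limMap_π]
  rfl

instance quasiIso_stableUnderLimitsOfShape [HasExactLimitsOfShape J A] :
    (HomologicalComplex.quasiIso A c).IsStableUnderLimitsOfShape J where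
  condition X₁ X₂ c₁ c₂ h₁ h₂ f hf φ hφ := by
    have hf' : ∀ j, QuasiIso (f.app j) := fun j =>
      (HomologicalComplex.mem_quasiIso_iff _).1 (hf j)
    have h1 : QuasiIso (psiMap c f) := quasiIso_psiMap' c f hf'
    haveI : (lim : (J ⥤ A) ⥤ A).Additive := Functor.additive_of_preserves_binary_products _
    have h2 : QuasiIso (((lim : (J ⥤ A) ⥤ A).mapHomologicalComplex c).map (psiMap c f)) :=
      inferInstance
    let e₁ : c₁.pt ≅ ((lim : (J ⥤ A) ⥤ A).mapHomologicalComplex c).obj (psi c X₁) :=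
      IsLimit.conePointUniqueUpToIso h₁ (isLimitLc c X₁)
    let e₂ : c₂.pt ≅ ((lim : (J ⥤ A) ⥤ A).mapHomologicalComplex c).obj (psi c X₂) :=
      IsLimit.conePointUniqueUpToIso h₂ (isLimitLc c X₂)
    have e2 : ∀ j, e₂.inv ≫ c₂.π.app j = (lc c X₂).π.app j := fun j =>
      IsLimit.conePointUniqueUpToIso_inv_comp _ _ _
    have e1 : ∀ j, e₁.hom ≫ (lc c X₁).π.app j = c₁.π.app j := fun j =>
      IsLimit.conePointUniqueUpToIso_hom_comp _ _ _
    have key : φ = e₁.hom ≫
        ((lim : (J ⥤ A) ⥤ A).mapHomologicalComplex c).map (psiMap c f) ≫ e₂.inv := by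
      apply h₂.hom_ext
      intro j
      set M := ((lim : (J ⥤ A) ⥤ A).mapHomologicalComplex c).map (psiMap c f)
      calc φ ≫ c₂.π.app j = c₁.π.app j ≫ f.app j := hφ j
        _ = (e₁.hom ≫ (lc c X₁).π.app j) ≫ f.app j :=
            congrArg (fun z => z ≫ f.app j) (e1 j).symm
        _ = e₁.hom ≫ ((lc c X₁).π.app j ≫ f.app j) := Category.assoc _ _ _
        _ = e₁.hom ≫ (M ≫ (lc c X₂).π.app j) :=
            congrArg (fun z => e₁.hom ≫ z) (lc_compat c f j).symm
        _ = e₁.hom ≫ (M ≫ (e₂.inv ≫ c₂.π.app j)) :=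
            congrArg (fun z => e₁.hom ≫ (M ≫ z)) (e2 j).symm
        _ = (e₁.hom ≫ M ≫ e₂.inv) ≫ c₂.π.app j := by
            simp only [Category.assoc]
    rw [HomologicalComplex.mem_quasiIso_iff, key]
    have h3 : QuasiIso e₂.inv := inferInstance
    have h4 : QuasiIso e₁.hom := inferInstance
    have h5 : QuasiIso
        (((lim : (J ⥤ A) ⥤ A).mapHomologicalComplex c).map (psiMap c f) ≫ e₂.inv) :=
      quasiIso_comp _ _
    exact quasiIso_comp _ _

end QIso

section Final

variable {B : Type u₁} [Category.{v₁} B] [Abelian B] (J : Type w) [HasProductsOfShape J B]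
  [HasExactLimitsOfShape (Discrete J) B]

instance quasiIso_homotopyCategory_stable {ι : Type*} (c : ComplexShape ι) :
    (HomotopyCategory.quasiIso B c).IsStableUnderProductsOfShape J :=
  stable_of_quotient (HomotopyCategory.quotient B c) (HomologicalComplex.quasiIso B c)
    (HomotopyCategory.quasiIso B c)
    (fun f => HomotopyCategory.quotient_map_mem_quasiIso_iff f)

variable [HasDerivedCategory.{w'} B]

/-- **If `J`-indexed products are exact in `B`, `Q : Ch(B) ⥤ D(B)` sends products to products.** -/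
noncomputable def isLimitQFan (X : J → CochainComplex B ℤ) :
    IsLimit (Fan.mk (DerivedCategory.Q.obj (∏ᶜ X)) (fun j => DerivedCategory.Q.map (Pi.π X j))) := by
  have h1 : IsLimit (Fan.mk ((HomotopyCategory.quotient B (ComplexShape.up ℤ)).obj (∏ᶜ X))
      (fun j => (HomotopyCategory.quotient B (ComplexShape.up ℤ)).map (Pi.π X j))) :=
    isLimitFanMkObjOfIsLimit (HomotopyCategory.quotient B (ComplexShape.up ℤ)) X _
      (productIsProduct X)
  -- compare with the chosen product in the homotopy category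
  let X' : J → HomotopyCategory B (ComplexShape.up ℤ) := fun j =>
    (HomotopyCategory.quotient B (ComplexShape.up ℤ)).obj (X j)
  have h2 := isLimitMapFan DerivedCategory.Qh
    (HomotopyCategory.quasiIso B (ComplexShape.up ℤ)) X'
  let e : (HomotopyCategory.quotient B (ComplexShape.up ℤ)).obj (∏ᶜ X) ≅ ∏ᶜ X' :=
    IsLimit.conePointUniqueUpToIso h1 (productIsProduct X')
  have he : ∀ j, e.hom ≫ Pi.π X' j =
      (HomotopyCategory.quotient B (ComplexShape.up ℤ)).map (Pi.π X j) := fun j =>
    IsLimit.conePointUniqueUpToIso_hom_comp h1 (productIsProduct X') ⟨j⟩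
  refine IsLimit.ofIsoLimit h2 (Cone.ext (DerivedCategory.Qh.mapIso e.symm) ?_)
  rintro ⟨j⟩
  change DerivedCategory.Qh.map (Pi.π X' j) =
    DerivedCategory.Qh.map e.inv ≫ DerivedCategory.Qh.map
      ((HomotopyCategory.quotient B (ComplexShape.up ℤ)).map (Pi.π X j))
  rw [← he j, ← Functor.map_comp, Iso.inv_hom_id_assoc]

end Final

end Groth.Agent.Lib.Helper17.DProdExact
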