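import Mathlib

/-!
# Right derived functors in the presence of enough "local" objects

`L : C ⥤ D` a localization functor for `W`.  An object `I : C` is *local* if every morphism
`L.obj K ⟶ L.obj I` is the image of a morphism `K ⟶ I` (e.g. a K-injective complex, both in the
category of complexes and in the homotopy category).  A functor `Φ : C ⥤ H` is *compatible* if
it identifies parallel morphisms into a local object which `L` identifies
(e.g. a homotopy invariant functor).
If every object admits a `W`-morphism to a local object, then every compatible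
functor has a (pointwise) right derived functor, the unit is invertible on local objects, and
right derived functors are absolute (stable under postcomposition).
-/

set_option autoImplicit false
set_option linter.unusedSectionVars false
set_option linter.style.haveILetI false

open CategoryTheory CategoryTheory.Limits CategoryTheory.Functor

universe v₁ v₂ v₃ v₄ u₁ u₂ u₃ u₄

namespace Groth.Agent.Lib.Helper17.DerAbs

variable {C : Type u₁} {D : Type u₂} {H : Type u₃} {H' : Type u₄}
  [Category.{v₁} C] [Category.{v₂} D] [Category.{v₃} H] [Category.{v₄} H']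
  (L : C ⥤ D) (W : MorphismProperty C) (P : C → Prop)

/-- local objects -/
def IsLocalObj (I : C) : Prop :=
  ∀ (K : C) (φ : L.obj K ⟶ L.obj I), ∃ f : K ⟶ I, L.map f = φ

/-- enough local objects -/
def EnoughLocal : Prop := ∀ X : C, ∃ (I : C) (f : X ⟶ I), W f ∧ P I ∧ IsLocalObj L I

/-- compatible functors -/
def Compat (Φ : C ⥤ H) : Prop :=
  ∀ ⦃K I : C⦄ (f f' : K ⟶ I), P I → L.map f = L.map f' → Φ.map f = Φ.map f'

variable {L W P}

lemma Compat.comp {Φ : C ⥤ H} (hΦ : Compat L P Φ) (Ψ : H ⥤ H') : Compat L P (Φ ⋙ Ψ) := by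
  intro K I f f' hI h
  dsimp
  rw [hΦ f f' hI h]

section Cocone

/-- a lift of a morphism to a local object -/
noncomputable def IsLocalObj.lift {I : C} (hI : IsLocalObj L I) {K : C}
    (φ : L.obj K ⟶ L.obj I) : K ⟶ I := (hI K φ).choose

lemma IsLocalObj.map_lift {I : C} (hI : IsLocalObj L I) {K : C}
    (φ : L.obj K ⟶ L.obj I) : L.map (hI.lift φ) = φ := (hI K φ).choose_spec

variable {Φ : C ⥤ H} (hΦ : Compat L P Φ) {I : C} (hPI : P I) (hI : IsLocalObj L I)

/-- the cocone with point `Φ.obj I` -/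
noncomputable def coconeAt : Cocone (CostructuredArrow.proj L (L.obj I) ⋙ Φ) where
  pt := Φ.obj I
  ι :=
    { app := fun j => Φ.map (hI.lift j.hom)
      naturality := fun j j' g => by
        have h1 : Φ.map g.left ≫ Φ.map (hI.lift j'.hom) = Φ.map (hI.lift j.hom) := by
          rw [← Φ.map_comp]
          apply hΦ _ _ hPI
          rw [L.map_comp, hI.map_lift, hI.map_lift]
          exact CostructuredArrow.w g
        exact h1.trans (Category.comp_id _).symm }

lemma coconeAt_ι_id :
    (coconeAt hΦ hPI hI).ι.app (CostructuredArrow.mk (𝟙 (L.obj I))) = 𝟙 (Φ.obj I) := by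
  change Φ.map (hI.lift (𝟙 (L.obj I))) = 𝟙 (Φ.obj I)
  rw [← Φ.map_id]
  apply hΦ _ _ hPI
  rw [hI.map_lift, L.map_id]

/-- it is a colimit -/
noncomputable def isColimitCoconeAt : IsColimit (coconeAt hΦ hPI hI) where
  desc s := s.ι.app (CostructuredArrow.mk (𝟙 (L.obj I)))
  fac s j := by
    have h := s.ι.naturality (CostructuredArrow.homMk (hI.lift j.hom)
      (by simpa using hI.map_lift j.hom) : j ⟶ CostructuredArrow.mk (𝟙 (L.obj I)))
    exact h.trans (Category.comp_id _)
  uniq s m hm := by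
    have := hm (CostructuredArrow.mk (𝟙 (L.obj I)))
    rw [coconeAt_ι_id] at this
    exact (Category.id_comp _).symm.trans this

end Cocone

variable [L.IsLocalization W]

include W in
lemma hasPointwiseRightDerivedFunctorAt_of_isLocalObj {Φ : C ⥤ H} (hΦ : Compat L P Φ) {I : C}
    (hPI : P I) (hI : IsLocalObj L I) : Φ.HasPointwiseRightDerivedFunctorAt W I := by
  rw [Φ.hasPointwiseRightDerivedFunctorAt_iff L W]
  exact ⟨⟨⟨_, isColimitCoconeAt hΦ hPI hI⟩⟩⟩

lemma hasPointwiseRightDerivedFunctor (h : EnoughLocal L W P) {Φ : C ⥤ H} (hΦ : Compat L P Φ) :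
    Φ.HasPointwiseRightDerivedFunctor W := by
  intro X
  obtain ⟨I, f, hf, hPI, hI⟩ := h X
  rw [Φ.hasPointwiseRightDerivedFunctorAt_iff_of_mem W f hf]
  exact hasPointwiseRightDerivedFunctorAt_of_isLocalObj (W := W) hΦ hPI hI

lemma hasRightDerivedFunctor (h : EnoughLocal L W P) {Φ : C ⥤ H} (hΦ : Compat L P Φ) :
    Φ.HasRightDerivedFunctor W := by
  haveI := hasPointwiseRightDerivedFunctor h hΦ
  infer_instance

lemma isIso_app (h : EnoughLocal L W P) {Φ : C ⥤ H} (hΦ : Compat L P Φ) (RΦ : D ⥤ H)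
    (α : Φ ⟶ L ⋙ RΦ) [RΦ.IsRightDerivedFunctor α W] {I : C} (hPI : P I)
    (hI : IsLocalObj L I) : IsIso (α.app I) := by
  haveI := hasPointwiseRightDerivedFunctor h hΦ
  have hp := Functor.isPointwiseLeftKanExtensionOfHasPointwiseRightDerivedFunctor RΦ α W
  have hc := hp (L.obj I)
  let e := (isColimitCoconeAt hΦ hPI hI).coconePointUniqueUpToIso hc
  have he : e.hom = α.app I ≫ RΦ.map (𝟙 (L.obj I)) := rfl
  have h' : IsIso (α.app I ≫ RΦ.map (𝟙 (L.obj I))) := by
    rw [← he]
    infer_instance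
  exact IsIso.of_isIso_comp_right _ (RΦ.map (𝟙 (L.obj I)))

theorem isRightDerivedFunctor_comp (h : EnoughLocal L W P) {Φ : C ⥤ H} (hΦ : Compat L P Φ)
    (RΦ : D ⥤ H) (α : Φ ⟶ L ⋙ RΦ) [RΦ.IsRightDerivedFunctor α W] (Ψ : H ⥤ H') :
    (RΦ ⋙ Ψ).IsRightDerivedFunctor (whiskerRight α Ψ ≫ (Functor.associator _ _ _).hom) W := by
  haveI := hasPointwiseRightDerivedFunctor h (hΦ.comp Ψ)
  rw [isRightDerivedFunctor_iff_isIso_rightDerivedDesc ((Φ ⋙ Ψ).totalRightDerived L W)
    ((Φ ⋙ Ψ).totalRightDerivedUnit L W) W]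
  set δ := ((Φ ⋙ Ψ).totalRightDerived L W).rightDerivedDesc ((Φ ⋙ Ψ).totalRightDerivedUnit L W) W
    (RΦ ⋙ Ψ) (whiskerRight α Ψ ≫ (Functor.associator _ _ _).hom) with hδ
  haveI : ∀ Y, IsIso (δ.app Y) := by
    intro Y
    have := Localization.essSurj L W
    obtain ⟨I, f, hf, hPI, hI⟩ := h (L.objPreimage Y)
    let e : Y ≅ L.obj I := (L.objObjPreimageIso Y).symm ≪≫ Localization.isoOfHom L W f hf
    rw [NatTrans.isIso_app_iff_of_iso δ e]
    have h1 : ((Φ ⋙ Ψ).totalRightDerivedUnit L W).app I ≫ δ.app (L.obj I) =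
        (whiskerRight α Ψ ≫ (Functor.associator _ _ _).hom).app I :=
      rightDerived_fac_app _ _ _ _ _ _
    haveI := isIso_app h (hΦ.comp Ψ) _ ((Φ ⋙ Ψ).totalRightDerivedUnit L W) hPI hI
    haveI := isIso_app h hΦ RΦ α hPI hI
    haveI : IsIso ((whiskerRight α Ψ ≫ (Functor.associator _ _ _).hom).app I) := by
      dsimp
      infer_instance
    exact IsIso.of_isIso_fac_left h1
  exact NatIso.isIso_of_isIso_app δ

end Groth.Agent.Lib.Helper17.DerAbs
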