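import Mathlib
import Groth.Agent.Lib.Helper17.DerAbs
import Groth.Agent.Lib.Helper17.DProd
import Groth.Agent.Lib.Helper13.AdjCx

/-!
# Right derived functors on unbounded derived categories via K-injective resolutions
-/

set_option autoImplicit false
set_option linter.unusedSectionVars false
set_option linter.style.haveILetI false

open CategoryTheory CategoryTheory.Limits CategoryTheory.Functor

universe w₁ w₂ v₁ v₂ v₃ u₁ u₂ u₃

namespace Groth.Agent.Lib.Helper17.DerKInj

open Groth.Agent.Lib.Helper17.DerAbs Groth.Agent.Lib.Helper17.DProd DerivedCategory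

section

variable (C : Type u₁) [Category.{v₁} C] [Abelian C]

/-- every complex has a K-injective resolution -/
def HasKInjRes : Prop :=
  ∀ K : CochainComplex C ℤ, ∃ (I : CochainComplex C ℤ) (f : K ⟶ I), I.IsKInjective ∧ QuasiIso f

lemma hasKInjRes_of_isGrothendieckAbelian {A : Type u₁} [Category.{v₁} A] [Abelian A]
    [IsGrothendieckAbelian.{v₁} A] : HasKInjRes A := by
  intro K
  obtain ⟨I, f, h1, h2, -, -⟩ := KInjRes.exists_kInjective_resolution K
  exact ⟨I, f, h1, h2⟩

end

variable {C : Type u₁} [Category.{v₁} C] [Abelian C] [HasDerivedCategory.{w₁} C]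
  {H : Type u₃} [Category.{v₃} H]

/-- the K-injective predicate -/
def PK : CochainComplex C ℤ → Prop := fun I => I.IsKInjective

lemma isLocalObj_Q (I : CochainComplex C ℤ) [I.IsKInjective] :
    IsLocalObj (DerivedCategory.Q (C := C)) I :=
  fun K φ => Q_map_surjective_of_isKInjective K I φ

lemma enoughLocal_Q (h : HasKInjRes C) :
    EnoughLocal (DerivedCategory.Q (C := C)) (HomologicalComplex.quasiIso C (ComplexShape.up ℤ))
      PK := by
  intro X
  obtain ⟨I, f, hI, hf⟩ := h X
  exact ⟨I, f, (HomologicalComplex.mem_quasiIso_iff f).2 hf, hI, isLocalObj_Q I⟩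

lemma compat_Q (Φ : CochainComplex C ℤ ⥤ H)
    (hΦ : ∀ ⦃K L : CochainComplex C ℤ⦄ (f g : K ⟶ L), Homotopy f g → Φ.map f = Φ.map g) :
    Compat (DerivedCategory.Q (C := C)) PK Φ := by
  intro K I f f' hI h
  haveI : I.IsKInjective := hI
  obtain ⟨Hh⟩ := (Q_map_eq_iff_of_isKInjective K I f f').1 h
  exact hΦ f f' Hh

/-- the K-injective predicate in the homotopy category -/
def PKh : HomotopyCategory C (ComplexShape.up ℤ) → Prop :=
  fun X => ∃ I : CochainComplex C ℤ, I.IsKInjective ∧ X = (HomotopyCategory.quotient _ _).obj I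

lemma isLocalObj_Qh (I : CochainComplex C ℤ) [I.IsKInjective] :
    IsLocalObj (DerivedCategory.Qh (C := C)) ((HomotopyCategory.quotient _ _).obj I) :=
  fun K φ => (CochainComplex.IsKInjective.Qh_map_bijective K I).surjective φ

lemma enoughLocal_Qh (h : HasKInjRes C) :
    EnoughLocal (DerivedCategory.Qh (C := C)) (HomotopyCategory.quasiIso C (ComplexShape.up ℤ))
      PKh := by
  intro X
  obtain ⟨K, rfl⟩ := HomotopyCategory.quotient_obj_surjective X
  obtain ⟨I, f, hI, hf⟩ := h K
  exact ⟨_, (HomotopyCategory.quotient _ _).map f,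
    (HomotopyCategory.quotient_map_mem_quasiIso_iff f).2 hf, ⟨I, hI, rfl⟩, isLocalObj_Qh I⟩

lemma compat_Qh (Φ : HomotopyCategory C (ComplexShape.up ℤ) ⥤ H) :
    Compat (DerivedCategory.Qh (C := C)) PKh Φ := by
  rintro K _ f f' ⟨I, hI, rfl⟩ h
  rw [(CochainComplex.IsKInjective.Qh_map_bijective K I).injective h]

section Adj

variable {A : Type u₁} [Category.{v₁} A] [Abelian A] [HasDerivedCategory.{w₁} A]
  {B : Type u₂} [Category.{v₂} B] [Abelian B] [HasDerivedCategory.{w₂} B]

/-- The derived adjunction `F ⊣ RG` for `F` exact with right adjoint `G`, when the target of `F`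
has K-injective resolutions; `RG` is any right derived functor of `G` (complex level). -/
theorem nonempty_adjunction_Q (hB : HasKInjRes B) (F : A ⥤ B) (G : B ⥤ A) (adj : F ⊣ G)
    [F.Additive] [G.Additive] [PreservesFiniteLimits F] [PreservesFiniteColimits F]
    (RG : DerivedCategory B ⥤ DerivedCategory A)
    (α : G.mapHomologicalComplex (ComplexShape.up ℤ) ⋙ DerivedCategory.Q ⟶
      DerivedCategory.Q ⋙ RG)
    [RG.IsRightDerivedFunctor α (HomologicalComplex.quasiIso B (ComplexShape.up ℤ))] :
    Nonempty (F.mapDerivedCategory ⊣ RG) := by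
  let adjc := Groth.Agent.Lib.Helper13.Kan.adjCx adj (ComplexShape.up ℤ)
  haveI i1 : F.mapDerivedCategory.IsLeftDerivedFunctor F.mapDerivedCategoryFactors.hom
      (HomologicalComplex.quasiIso A (ComplexShape.up ℤ)) :=
    isLeftDerivedFunctor_of_inverts _ _ F.mapDerivedCategoryFactors
  haveI i2 : (F.mapDerivedCategory ⋙ RG).IsLeftDerivedFunctor
      ((Functor.associator _ _ _).inv ≫ whiskerRight F.mapDerivedCategoryFactors.hom RG)
      (HomologicalComplex.quasiIso A (ComplexShape.up ℤ)) :=
    isLeftDerivedFunctor_of_inverts _ _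
      ((Functor.associator _ _ _).symm ≪≫ isoWhiskerRight F.mapDerivedCategoryFactors RG)
  have hc : Compat (DerivedCategory.Q (C := B)) PK
      (G.mapHomologicalComplex (ComplexShape.up ℤ) ⋙ DerivedCategory.Q) :=
    compat_Q _ (fun K L f g h => Q_map_eq_of_homotopy _ (G.mapHomotopy h))
  haveI i4 : (RG ⋙ F.mapDerivedCategory).IsRightDerivedFunctor
      (whiskerRight α F.mapDerivedCategory ≫ (Functor.associator _ _ _).hom)
      (HomologicalComplex.quasiIso B (ComplexShape.up ℤ)) :=
    isRightDerivedFunctor_comp (enoughLocal_Q hB) hc RG α F.mapDerivedCategory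
  exact ⟨adjc.derived (HomologicalComplex.quasiIso A (ComplexShape.up ℤ))
    (HomologicalComplex.quasiIso B (ComplexShape.up ℤ)) F.mapDerivedCategoryFactors.hom α⟩

end Adj

end Groth.Agent.Lib.Helper17.DerKInj
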