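import Mathlib
import Groth.Agent.Lib.Helper17.DerKInj

/-!
# The total right derived functor `RF` of an additive functor: computation on K-injectives,
and `H^i ∘ RF` is a homological functor
-/

set_option autoImplicit false
universe w₁ w₂ v₁ v₂ u₁ u₂

open CategoryTheory Limits Pretriangulated ZeroObject

namespace Groth.Agent.Lib.Helper17.RFTri

open Groth.Agent.Lib.Helper17.DerAbs Groth.Agent.Lib.Helper17.DerKInj

section KInj

variable {A : Type u₁} [Category.{v₁} A] [Abelian A]

open HomotopyCategory in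
/-- the mapping cone of a morphism between K-injective complexes is K-injective -/
lemma isKInjective_mappingCone {I J : CochainComplex A ℤ} (ψ : I ⟶ J) [I.IsKInjective]
    [J.IsKInjective] : (CochainComplex.mappingCone ψ).IsKInjective := by
  rw [CochainComplex.isKInjective_iff_rightOrthogonal]
  have hT := HomotopyCategory.mappingCone_triangleh_distinguished ψ
  have h := ObjectProperty.ext_of_isTriangulatedClosed₃'
    (HomotopyCategory.subcategoryAcyclic A).rightOrthogonal _ hT
    (CochainComplex.IsKInjective.rightOrthogonal I) (CochainComplex.IsKInjective.rightOrthogonal J)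
  rw [ObjectProperty.isoClosure_eq_self] at h
  exact h

lemma isKInjective_of_isZero (I : CochainComplex A ℤ) (hI : IsZero I) : I.IsKInjective :=
  ⟨fun f _ => ⟨Homotopy.ofEq (hI.eq_of_tgt _ _)⟩⟩

end KInj

variable {A : Type u₁} [Category.{v₁} A] [Abelian A] [HasDerivedCategory.{w₁} A]
  {B : Type u₂} [Category.{v₂} B] [Abelian B] [HasDerivedCategory.{w₂} B]
  (F : A ⥤ B) [F.Additive]

/-- the functor `K(A) ⥤ D(B)` induced by `F`. -/
noncomputable abbrev Φ : HomotopyCategory A (ComplexShape.up ℤ) ⥤ DerivedCategory B :=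
  F.mapHomotopyCategory (ComplexShape.up ℤ) ⋙ DerivedCategory.Qh

variable [(Φ F).HasRightDerivedFunctor (HomotopyCategory.quasiIso A (ComplexShape.up ℤ))]

/-- the total right derived functor of `F`. -/
noncomputable abbrev RF : DerivedCategory A ⥤ DerivedCategory B :=
  (Φ F).totalRightDerived DerivedCategory.Qh (HomotopyCategory.quasiIso A (ComplexShape.up ℤ))

/-- its unit. -/
noncomputable abbrev αF : Φ F ⟶ DerivedCategory.Qh ⋙ RF F :=
  (Φ F).totalRightDerivedUnit DerivedCategory.Qh
    (HomotopyCategory.quasiIso A (ComplexShape.up ℤ))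

variable (hA : HasKInjRes A)

include hA in
lemma isIso_α (I : CochainComplex A ℤ) [I.IsKInjective] :
    IsIso ((αF F).app ((HomotopyCategory.quotient _ _).obj I)) :=
  isIso_app (enoughLocal_Qh hA) (compat_Qh _) (RF F) (αF F) ⟨I, inferInstance, rfl⟩
    (isLocalObj_Qh I)

/-- `RF (Q I) ≅ Q (F I)` for `I` K-injective. -/
noncomputable def RFIso (I : CochainComplex A ℤ) [I.IsKInjective] :
    (RF F).obj (DerivedCategory.Q.obj I) ≅
      DerivedCategory.Q.obj ((F.mapHomologicalComplex (ComplexShape.up ℤ)).obj I) :=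
  haveI := isIso_α F hA I
  (asIso ((αF F).app ((HomotopyCategory.quotient _ _).obj I))).symm

lemma RFIso_inv_naturality {I J : CochainComplex A ℤ} [I.IsKInjective] [J.IsKInjective]
    (φ : I ⟶ J) :
    DerivedCategory.Q.map ((F.mapHomologicalComplex (ComplexShape.up ℤ)).map φ) ≫
      (RFIso F hA J).inv = (RFIso F hA I).inv ≫ (RF F).map (DerivedCategory.Q.map φ) :=
  (αF F).naturality ((HomotopyCategory.quotient _ _).map φ)

lemma RFIso_hom_naturality {I J : CochainComplex A ℤ} [I.IsKInjective] [J.IsKInjective]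
    (φ : I ⟶ J) :
    (RF F).map (DerivedCategory.Q.map φ) ≫ (RFIso F hA J).hom =
      (RFIso F hA I).hom ≫
        DerivedCategory.Q.map ((F.mapHomologicalComplex (ComplexShape.up ℤ)).map φ) := by
  rw [← cancel_epi (RFIso F hA I).inv, ← reassoc_of% (RFIso_inv_naturality F hA φ),
    Iso.inv_hom_id, Category.comp_id, Iso.inv_hom_id_assoc]

include hA in
/-- every object of `D(A)` is represented by a K-injective complex. -/
lemma exists_kInjective_iso (E : DerivedCategory A) :
    ∃ (I : CochainComplex A ℤ) (_ : I.IsKInjective), Nonempty (E ≅ DerivedCategory.Q.obj I) := by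
  obtain ⟨I, f, hI, hf⟩ := hA (DerivedCategory.Q.objPreimage E)
  haveI : IsIso (DerivedCategory.Q.map f) := by
    rw [DerivedCategory.isIso_Q_map_iff_quasiIso]
    exact hf
  exact ⟨I, hI, ⟨(DerivedCategory.Q.objObjPreimageIso E).symm ≪≫ asIso (DerivedCategory.Q.map f)⟩⟩

include hA in
lemma preservesZeroMorphisms_RF : (RF F).PreservesZeroMorphisms := by
  let Z : CochainComplex A ℤ := 0
  haveI : Z.IsKInjective := isKInjective_of_isZero Z (isZero_zero _)
  have hz : IsZero (DerivedCategory.Q.obj Z) := DerivedCategory.Q.map_isZero (isZero_zero _)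
  have hz' : IsZero ((RF F).obj (DerivedCategory.Q.obj Z)) :=
    IsZero.of_iso (DerivedCategory.Q.map_isZero
      ((F.mapHomologicalComplex (ComplexShape.up ℤ)).map_isZero (isZero_zero _))) (RFIso F hA Z)
  refine ⟨fun X Y => ?_⟩
  have h0 : (0 : X ⟶ Y) = (0 : X ⟶ DerivedCategory.Q.obj Z) ≫ (0 : DerivedCategory.Q.obj Z ⟶ Y) := by
    simp
  rw [h0, Functor.map_comp, hz'.eq_of_tgt ((RF F).map (0 : X ⟶ DerivedCategory.Q.obj Z)) 0, zero_comp]

/-- `H^i ∘ RF`. -/
noncomputable abbrev HRF (i : ℤ) : DerivedCategory A ⥤ B :=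
  RF F ⋙ DerivedCategory.homologyFunctor B i

/-- `H^i ∘ F` on the homotopy category. -/
noncomputable abbrev GF (i : ℤ) : HomotopyCategory A (ComplexShape.up ℤ) ⥤ B :=
  F.mapHomotopyCategory (ComplexShape.up ℤ) ⋙
    HomotopyCategory.homologyFunctor B (ComplexShape.up ℤ) i

/-- the comparison `H^i(F X) ⟶ H^i(RF X)`. -/
noncomputable def βF (i : ℤ) : GF F i ⟶ DerivedCategory.Qh ⋙ HRF F i :=
  Functor.whiskerLeft (F.mapHomotopyCategory (ComplexShape.up ℤ))
      (DerivedCategory.homologyFunctorFactorsh B i).inv ≫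
    (Functor.associator _ _ _).inv ≫
    Functor.whiskerRight (αF F) (DerivedCategory.homologyFunctor B i) ≫
    (Functor.associator _ _ _).hom

include hA in
lemma isIso_βF (i : ℤ) (I : CochainComplex A ℤ) [I.IsKInjective] :
    IsIso ((βF F i).app ((HomotopyCategory.quotient _ _).obj I)) := by
  haveI := isIso_α F hA I
  dsimp [βF]
  infer_instance

include hA in
/-- **`H^i ∘ RF` is a homological functor.** -/
theorem isHomological_HRF (i : ℤ) : (HRF F i).IsHomological := by
  haveI : (RF F).PreservesZeroMorphisms := preservesZeroMorphisms_RF F hA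
  haveI : (HRF F i).PreservesZeroMorphisms := inferInstance
  refine Functor.IsHomological.mk' _ (fun T hT => ?_)
  obtain ⟨T₀, e₀, ⟨K, L, φ, ⟨e'⟩⟩⟩ := hT
  -- K-injective replacements
  obtain ⟨I, iK, hI, hiK⟩ := hA K
  obtain ⟨J, iL, hJ, hiL⟩ := hA L
  haveI := hI
  haveI := hJ
  have hqK : IsIso (DerivedCategory.Q.map iK) := by
    rw [DerivedCategory.isIso_Q_map_iff_quasiIso]; exact hiK
  have hqL : IsIso (DerivedCategory.Q.map iL) := by
    rw [DerivedCategory.isIso_Q_map_iff_quasiIso]; exact hiL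
  obtain ⟨ψ, hψ⟩ := Groth.Agent.Lib.Helper17.DProd.Q_map_surjective_of_isKInjective I J
    (inv (DerivedCategory.Q.map iK) ≫ DerivedCategory.Q.map φ ≫ DerivedCategory.Q.map iL)
  haveI := isKInjective_mappingCone ψ
  let q := HomotopyCategory.quotient A (ComplexShape.up ℤ)
  let T₁ := DerivedCategory.Qh.mapTriangle.obj (CochainComplex.mappingCone.triangleh φ)
  let T₂ := DerivedCategory.Qh.mapTriangle.obj (CochainComplex.mappingCone.triangleh ψ)
  have hT₁ : T₁ ∈ distTriang _ :=
    DerivedCategory.Qh.map_distinguished _ (HomotopyCategory.mappingCone_triangleh_distinguished φ)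
  have hT₂ : T₂ ∈ distTriang _ :=
    DerivedCategory.Qh.map_distinguished _ (HomotopyCategory.mappingCone_triangleh_distinguished ψ)
  let e₁₂ : T₁ ≅ T₂ := isoTriangleOfIso₁₂ T₁ T₂ hT₁ hT₂ (@asIso _ _ _ _ (DerivedCategory.Q.map iK) hqK)
    (@asIso _ _ _ _ (DerivedCategory.Q.map iL) hqL) (by
      change DerivedCategory.Q.map φ ≫ DerivedCategory.Q.map iL =
        DerivedCategory.Q.map iK ≫ DerivedCategory.Q.map ψ
      rw [hψ, IsIso.hom_inv_id_assoc])
  refine ⟨T₂, e₀ ≪≫ DerivedCategory.Qh.mapTriangle.mapIso e' ≪≫ e₁₂, ?_⟩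
  -- exactness for `T₂`
  have hex := (GF F i).map_distinguished_exact _
    (HomotopyCategory.mappingCone_triangleh_distinguished ψ)
  have h1 := isIso_βF F hA i I
  have h2 := isIso_βF F hA i J
  have h3 := isIso_βF F hA i (CochainComplex.mappingCone ψ)
  refine (ShortComplex.exact_iff_of_iso ?_).1 hex
  refine ShortComplex.isoMk (@asIso _ _ _ _ ((βF F i).app (q.obj I)) h1)
    (@asIso _ _ _ _ ((βF F i).app (q.obj J)) h2)
    (@asIso _ _ _ _ ((βF F i).app (q.obj (CochainComplex.mappingCone ψ))) h3) ?_ ?_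
  · exact ((βF F i).naturality (q.map ψ)).symm
  · exact ((βF F i).naturality (q.map (CochainComplex.mappingCone.inr ψ))).symm

end Groth.Agent.Lib.Helper17.RFTri
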