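import Mathlib
import Groth.Agent.Lib.Helper17.RFTri
import Groth.Agent.Lib.Helper17.DProdExact

/-!
# The total right derived functor `RF` is additive, preserves distinguished triangles (up to the
choice of the connecting morphism), commutes with products, and hence with derived limits.
-/

set_option autoImplicit false
universe w w₁ w₂ v₁ v₂ u₁ u₂

open CategoryTheory Limits Pretriangulated ZeroObject

namespace Groth.Agent.Lib.Helper17.RFRlim

open Groth.Agent.Lib.Helper17.DerAbs Groth.Agent.Lib.Helper17.DerKInj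
  Groth.Agent.Lib.Helper17.RFTri

section KInjProd

variable {A : Type u₁} [Category.{v₁} A] [Abelian A] {T : Type w} [HasProductsOfShape T A]

/-- a product of K-injective complexes is K-injective (any index universe). -/
lemma isKInjective_pi (I : T → CochainComplex A ℤ) (h : ∀ t, (I t).IsKInjective) :
    (∏ᶜ I).IsKInjective := by
  refine ⟨fun {K} f hK => ?_⟩
  have hH : ∀ t, Nonempty (Homotopy (f ≫ Pi.π I t) 0) := fun t =>
    (h t).nonempty_homotopy_zero _ hK
  exact Groth.Agent.Lib.Helper17.DProd.nonempty_homotopy I f 0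
    (fun t => ((hH t).some).trans (Homotopy.ofEq zero_comp.symm))

variable [HasDerivedCategory.{w₁} A]

open DerivedCategory Groth.Agent.Lib.Helper17.DProd in
/-- the image in `D(A)` of a product of K-injective complexes is a product -/
noncomputable def isLimitFanOfIsKInjective (I : T → CochainComplex A ℤ)
    [∀ j, (I j).IsKInjective] :
    IsLimit (Fan.mk (Q.obj (∏ᶜ I)) (fun j => Q.map (Pi.π I j))) := by
  haveI : (∏ᶜ I).IsKInjective := isKInjective_pi I (fun j => inferInstance)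
  have key : ∀ (X : DerivedCategory A) (g : ∀ j, X ⟶ Q.obj (I j)),
      ∃ m : X ⟶ Q.obj (∏ᶜ I), ∀ j, m ≫ Q.map (Pi.π I j) = g j := by
    intro X g
    let M := Q.objPreimage X
    let e : Q.obj M ≅ X := Q.objObjPreimageIso X
    choose γ hγ using fun j => Q_map_surjective_of_isKInjective M (I j) (e.hom ≫ g j)
    refine ⟨e.inv ≫ Q.map (Pi.lift γ), fun j => ?_⟩
    rw [Category.assoc, ← Functor.map_comp, Pi.lift_π, hγ, Iso.inv_hom_id_assoc]
  have uniq : ∀ (X : DerivedCategory A) (m m' : X ⟶ Q.obj (∏ᶜ I)),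
      (∀ j, m ≫ Q.map (Pi.π I j) = m' ≫ Q.map (Pi.π I j)) → m = m' := by
    intro X m m' h
    let M := Q.objPreimage X
    let e : Q.obj M ≅ X := Q.objObjPreimageIso X
    obtain ⟨a, ha⟩ := Q_map_surjective_of_isKInjective M (∏ᶜ I) (e.hom ≫ m)
    obtain ⟨b, hb⟩ := Q_map_surjective_of_isKInjective M (∏ᶜ I) (e.hom ≫ m')
    have hh : ∀ j, Nonempty (Homotopy (a ≫ Pi.π I j) (b ≫ Pi.π I j)) := by
      intro j
      rw [← Q_map_eq_iff_of_isKInjective, Functor.map_comp, Functor.map_comp, ha, hb,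
        Category.assoc, Category.assoc, h j]
    obtain ⟨H⟩ := nonempty_homotopy I a b (fun j => (hh j).some)
    have := Q_map_eq_of_homotopy _ H
    rw [ha, hb] at this
    exact (cancel_epi e.hom).1 this
  exact Fan.IsLimit.mk _ (fun s => (key s.pt s.proj).choose)
    (fun s j => (key s.pt s.proj).choose_spec j)
    (fun s m hm => uniq _ _ _ (fun j => by
      rw [(key s.pt s.proj).choose_spec j]
      exact hm j))

end KInjProd

section FanIso

variable {C : Type u₁} [Category.{v₁} C] {J : Type w}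

/-- transporting a limit fan along isomorphisms of the components and of the point. -/
noncomputable def isLimitFanOfIsos {X Y : J → C} {P' : C} (p : ∀ j, P' ⟶ Y j)
    (hP : IsLimit (Fan.mk P' p)) (ε : ∀ j, X j ≅ Y j) {P : C} (t : ∀ j, P ⟶ X j) (Θ : P ≅ P')
    (h : ∀ j, Θ.hom ≫ p j = t j ≫ (ε j).hom) : IsLimit (Fan.mk P t) := by
  have ht : ∀ j, t j = Θ.hom ≫ p j ≫ (ε j).inv := fun j => by
    rw [← Category.assoc, h j, Category.assoc, Iso.hom_inv_id, Category.comp_id]
  refine Fan.IsLimit.mk _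
    (fun s => Fan.IsLimit.lift hP (fun j => s.proj j ≫ (ε j).hom) ≫ Θ.inv) ?_ ?_
  · intro s j
    change (_ ≫ Θ.inv) ≫ t j = _
    have hf : (Fan.IsLimit.lift hP fun j => s.proj j ≫ (ε j).hom) ≫ p j = s.proj j ≫ (ε j).hom :=
      Fan.IsLimit.fac hP _ j
    rw [ht j, Category.assoc, Iso.inv_hom_id_assoc, ← Category.assoc,
      hf, Category.assoc, Iso.hom_inv_id, Category.comp_id]
  · intro s m hm
    rw [Iso.eq_comp_inv]
    apply Fan.IsLimit.hom_ext hP
    intro j
    have hf : (Fan.IsLimit.lift hP fun j => s.proj j ≫ (ε j).hom) ≫ p j = s.proj j ≫ (ε j).hom :=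
      Fan.IsLimit.fac hP _ j
    change (m ≫ Θ.hom) ≫ p j = _ ≫ p j
    rw [hf]
    have hm' : m ≫ t j = s.proj j := hm j
    rw [Category.assoc, h j, ← Category.assoc, hm']

end FanIso

variable {A : Type u₁} [Category.{v₁} A] [Abelian A] [HasDerivedCategory.{w₁} A]
  {B : Type u₂} [Category.{v₂} B] [Abelian B] [HasDerivedCategory.{w₂} B]
  (F : A ⥤ B) [F.Additive]
  [(Φ F).HasRightDerivedFunctor (HomotopyCategory.quasiIso A (ComplexShape.up ℤ))]
  (hA : HasKInjRes A)

section Additive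

lemma RF_Q_map {I J : CochainComplex A ℤ} [I.IsKInjective] [J.IsKInjective] (φ : I ⟶ J) :
    (RF F).map (DerivedCategory.Q.map φ) = (RFIso F hA I).hom ≫
      DerivedCategory.Q.map ((F.mapHomologicalComplex (ComplexShape.up ℤ)).map φ) ≫
        (RFIso F hA J).inv := by
  rw [← Category.assoc, ← RFIso_hom_naturality F hA φ, Category.assoc, Iso.hom_inv_id,
    Category.comp_id]

include hA in
/-- `RF` is additive. -/
lemma additive_RF : (RF F).Additive := by
  refine ⟨fun {X Y} {f g} => ?_⟩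
  obtain ⟨I, hI, ⟨eX⟩⟩ := exists_kInjective_iso hA X
  obtain ⟨J, hJ, ⟨eY⟩⟩ := exists_kInjective_iso hA Y
  haveI := hI
  haveI := hJ
  obtain ⟨φ, hφ⟩ := Groth.Agent.Lib.Helper17.DProd.Q_map_surjective_of_isKInjective I J
    (eX.inv ≫ f ≫ eY.hom)
  obtain ⟨γ, hγ⟩ := Groth.Agent.Lib.Helper17.DProd.Q_map_surjective_of_isKInjective I J
    (eX.inv ≫ g ≫ eY.hom)
  have hf : f = eX.hom ≫ DerivedCategory.Q.map φ ≫ eY.inv := by
    rw [hφ]; simp
  have hg : g = eX.hom ≫ DerivedCategory.Q.map γ ≫ eY.inv := by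
    rw [hγ]; simp
  have hfg : f + g = eX.hom ≫ DerivedCategory.Q.map (φ + γ) ≫ eY.inv := by
    rw [Functor.map_add, Preadditive.add_comp, Preadditive.comp_add, ← hf, ← hg]
  have h3 : (RF F).map (DerivedCategory.Q.map (φ + γ)) =
      (RF F).map (DerivedCategory.Q.map φ) + (RF F).map (DerivedCategory.Q.map γ) := by
    rw [RF_Q_map F hA, RF_Q_map F hA, RF_Q_map F hA, Functor.map_add, Functor.map_add,
      Preadditive.add_comp, Preadditive.comp_add]
  rw [hfg, Functor.map_comp, Functor.map_comp, h3, Preadditive.add_comp, Preadditive.comp_add,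
    hf, hg]
  simp only [Functor.map_comp]

end Additive

section Triangle

include hA in
/-- `RF` sends a distinguished triangle to a distinguished triangle, for a suitable choice of the
connecting morphism. -/
theorem exists_distinguished_RF (T : Triangle (DerivedCategory A))
    (hT : T ∈ distTriang (DerivedCategory A)) :
    ∃ δ : (RF F).obj T.obj₃ ⟶ ((RF F).obj T.obj₁)⟦(1 : ℤ)⟧,
      Triangle.mk ((RF F).map T.mor₁) ((RF F).map T.mor₂) δ ∈ distTriang (DerivedCategory B) := by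
  obtain ⟨T₀, e₀, ⟨K, L, φ, ⟨e'⟩⟩⟩ := hT
  obtain ⟨I, iK, hI, hiK⟩ := hA K
  obtain ⟨J, iL, hJ, hiL⟩ := hA L
  haveI := hI
  haveI := hJ
  have hqK : IsIso (DerivedCategory.Q.map iK) := by
    rw [DerivedCategory.isIso_Q_map_iff_quasiIso]; exact hiK
  have hqL : IsIso (DerivedCategory.Q.map iL) := by
    rw [DerivedCategory.isIso_Q_map_iff_quasiIso]; exact hiL
  obtain ⟨ψ, hψ⟩ := Groth.Agent.Lib.Helper17.DProd.Q_map_surjective_of_isKInjective I J
    (inv (DerivedCategory.Q.map iK) ≫ DerivedCategory.Q.map φ ≫ DerivedCategory.Q.map iL)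
  haveI := isKInjective_mappingCone ψ
  let q := HomotopyCategory.quotient A (ComplexShape.up ℤ)
  let Th := CochainComplex.mappingCone.triangleh ψ
  have hTh : Th ∈ distTriang _ := HomotopyCategory.mappingCone_triangleh_distinguished ψ
  let T₁ := DerivedCategory.Qh.mapTriangle.obj (CochainComplex.mappingCone.triangleh φ)
  let T₂ := DerivedCategory.Qh.mapTriangle.obj Th
  have hT₁ : T₁ ∈ distTriang _ :=
    DerivedCategory.Qh.map_distinguished _ (HomotopyCategory.mappingCone_triangleh_distinguished φ)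
  have hT₂ : T₂ ∈ distTriang _ := DerivedCategory.Qh.map_distinguished _ hTh
  let e₁₂ : T₁ ≅ T₂ := isoTriangleOfIso₁₂ T₁ T₂ hT₁ hT₂
    (@asIso _ _ _ _ (DerivedCategory.Q.map iK) hqK)
    (@asIso _ _ _ _ (DerivedCategory.Q.map iL) hqL) (by
      change DerivedCategory.Q.map φ ≫ DerivedCategory.Q.map iL =
        DerivedCategory.Q.map iK ≫ DerivedCategory.Q.map ψ
      rw [hψ, IsIso.hom_inv_id_assoc])
  let e : T ≅ T₂ := e₀ ≪≫ DerivedCategory.Qh.mapTriangle.mapIso e' ≪≫ e₁₂
  -- the image of `Th` under `Φ F`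
  let TΦ := (Φ F).mapTriangle.obj Th
  have hTΦ : TΦ ∈ distTriang _ := (Φ F).map_distinguished _ hTh
  have h1 := isIso_α F hA I
  have h2 := isIso_α F hA J
  have h3 := isIso_α F hA (CochainComplex.mappingCone ψ)
  let a₁ := @asIso _ _ _ _ ((αF F).app (q.obj I)) h1
  let a₂ := @asIso _ _ _ _ ((αF F).app (q.obj J)) h2
  let a₃ := @asIso _ _ _ _ ((αF F).app (q.obj (CochainComplex.mappingCone ψ))) h3
  let δ' : (RF F).obj T₂.obj₃ ⟶ ((RF F).obj T₂.obj₁)⟦(1 : ℤ)⟧ := a₃.inv ≫ TΦ.mor₃ ≫ a₁.hom⟦(1 : ℤ)⟧'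
  let T' := Triangle.mk ((RF F).map T₂.mor₁) ((RF F).map T₂.mor₂) δ'
  have hT' : T' ∈ distTriang _ := by
    refine isomorphic_distinguished _ hTΦ _ (Iso.symm ?_)
    refine Triangle.isoMk _ _ a₁ a₂ a₃ ?_ ?_ ?_
    · exact (αF F).naturality (q.map ψ)
    · exact (αF F).naturality (q.map (CochainComplex.mappingCone.inr ψ))
    · change TΦ.mor₃ ≫ a₁.hom⟦(1 : ℤ)⟧' = a₃.hom ≫ a₃.inv ≫ TΦ.mor₃ ≫ a₁.hom⟦(1 : ℤ)⟧'
      exact (Iso.hom_inv_id_assoc a₃ _).symm
  refine ⟨(RF F).map e.hom.hom₃ ≫ δ' ≫ ((RF F).map e.inv.hom₁)⟦(1 : ℤ)⟧', ?_⟩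
  refine isomorphic_distinguished _ hT' _ ?_
  refine Triangle.isoMk _ _ ((RF F).mapIso (Triangle.π₁.mapIso e))
    ((RF F).mapIso (Triangle.π₂.mapIso e)) ((RF F).mapIso (Triangle.π₃.mapIso e)) ?_ ?_ ?_
  · change (RF F).map T.mor₁ ≫ (RF F).map e.hom.hom₂ = (RF F).map e.hom.hom₁ ≫ (RF F).map T₂.mor₁
    rw [← Functor.map_comp, ← Functor.map_comp, e.hom.comm₁]
  · change (RF F).map T.mor₂ ≫ (RF F).map e.hom.hom₃ = (RF F).map e.hom.hom₂ ≫ (RF F).map T₂.mor₂
    rw [← Functor.map_comp, ← Functor.map_comp, e.hom.comm₂]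
  · change ((RF F).map e.hom.hom₃ ≫ δ' ≫ ((RF F).map e.inv.hom₁)⟦(1 : ℤ)⟧') ≫
        ((RF F).map e.hom.hom₁)⟦(1 : ℤ)⟧' = (RF F).map e.hom.hom₃ ≫ δ'
    have : e.inv.hom₁ ≫ e.hom.hom₁ = 𝟙 _ := by
      rw [← comp_hom₁, Iso.inv_hom_id, id_hom₁]
    simp only [Category.assoc]
    rw [← Functor.map_comp, ← Functor.map_comp, this, CategoryTheory.Functor.map_id,
      CategoryTheory.Functor.map_id, Category.comp_id]

end Triangle

section Prod

variable {J : Type w} [HasProductsOfShape J A] [HasProductsOfShape J B]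
  [HasExactLimitsOfShape (Discrete J) B] [PreservesLimitsOfShape (Discrete J) F]

include hA in
/-- **`RF` sends products to products** (when `F` preserves them and they are exact in `B`). -/
theorem nonempty_isLimit_RF_fan (K : J → DerivedCategory A) (c : Fan K) (hc : IsLimit c) :
    Nonempty (IsLimit (Fan.mk ((RF F).obj c.pt) (fun j => (RF F).map (c.proj j)))) := by
  choose I hI eI using fun j => exists_kInjective_iso hA (K j)
  haveI : ∀ j, (I j).IsKInjective := hI
  let e : ∀ j, K j ≅ DerivedCategory.Q.obj (I j) := fun j => (eI j).some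
  haveI : (∏ᶜ I).IsKInjective := isKInjective_pi I hI
  have hP := isLimitFanOfIsKInjective I
  -- the product of the `K j` as `Q (∏ I)`
  have hP' : IsLimit (Fan.mk (DerivedCategory.Q.obj (∏ᶜ I))
      (fun j => DerivedCategory.Q.map (Pi.π I j) ≫ (e j).inv)) :=
    isLimitFanOfIsos _ hP e _ (Iso.refl _) (fun j => by
      rw [Iso.refl_hom, Category.id_comp, Category.assoc, Iso.inv_hom_id, Category.comp_id])
  let θ : c.pt ≅ DerivedCategory.Q.obj (∏ᶜ I) := IsLimit.conePointUniqueUpToIso hc hP'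
  have hθ : ∀ j, θ.hom ≫ DerivedCategory.Q.map (Pi.π I j) = c.proj j ≫ (e j).hom := fun j => by
    have h := IsLimit.conePointUniqueUpToIso_hom_comp hc hP' ⟨j⟩
    change θ.hom ≫ (DerivedCategory.Q.map (Pi.π I j) ≫ (e j).inv) = c.proj j at h
    rw [← h, Category.assoc, Category.assoc, Iso.inv_hom_id, Category.comp_id]
  -- products downstairs
  let FI : J → CochainComplex B ℤ := fun j =>
    (F.mapHomologicalComplex (ComplexShape.up ℤ)).obj (I j)
  have hFP : IsLimit (Fan.mk ((F.mapHomologicalComplex (ComplexShape.up ℤ)).obj (∏ᶜ I))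
      (fun j => (F.mapHomologicalComplex (ComplexShape.up ℤ)).map (Pi.π I j))) :=
    isLimitFanMkObjOfIsLimit (F.mapHomologicalComplex (ComplexShape.up ℤ)) I _
      (productIsProduct I)
  let κ : (F.mapHomologicalComplex (ComplexShape.up ℤ)).obj (∏ᶜ I) ≅ ∏ᶜ FI :=
    IsLimit.conePointUniqueUpToIso hFP (productIsProduct FI)
  have hκ : ∀ j, κ.hom ≫ Pi.π FI j =
      (F.mapHomologicalComplex (ComplexShape.up ℤ)).map (Pi.π I j) := fun j =>
    IsLimit.conePointUniqueUpToIso_hom_comp hFP (productIsProduct FI) ⟨j⟩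
  have hQF : IsLimit (Fan.mk
      (DerivedCategory.Q.obj ((F.mapHomologicalComplex (ComplexShape.up ℤ)).obj (∏ᶜ I)))
      (fun j => DerivedCategory.Q.map
        ((F.mapHomologicalComplex (ComplexShape.up ℤ)).map (Pi.π I j)))) :=
    isLimitFanOfIsos _ (Groth.Agent.Lib.Helper17.DProdExact.isLimitQFan J FI)
      (fun j => Iso.refl _) _ (DerivedCategory.Q.mapIso κ) (fun j => by
        rw [Iso.refl_hom, Category.comp_id]
        change DerivedCategory.Q.map κ.hom ≫ DerivedCategory.Q.map (Pi.π FI j) = _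
        rw [← Functor.map_comp, hκ])
  refine ⟨isLimitFanOfIsos _ hQF (fun j => (RF F).mapIso (e j) ≪≫ RFIso F hA (I j)) _
    ((RF F).mapIso θ ≪≫ RFIso F hA (∏ᶜ I)) (fun j => ?_)⟩
  change ((RF F).map θ.hom ≫ (RFIso F hA (∏ᶜ I)).hom) ≫ DerivedCategory.Q.map
      ((F.mapHomologicalComplex (ComplexShape.up ℤ)).map (Pi.π I j)) =
    (RF F).map (c.proj j) ≫ (RF F).map (e j).hom ≫ (RFIso F hA (I j)).hom
  rw [Category.assoc, ← RFIso_hom_naturality F hA (Pi.π I j), ← Category.assoc,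
    ← Functor.map_comp, hθ j, Functor.map_comp, Category.assoc]

end Prod

section Rlim

variable [HasProductsOfShape ℕ A] [HasProductsOfShape ℕ B]
  [HasExactLimitsOfShape (Discrete ℕ) B] [PreservesLimitsOfShape (Discrete ℕ) F]

include hA in
/-- **`RF` sends derived limits to derived limits.** -/
theorem exists_rlim_triangle_RF (K : ℕ → DerivedCategory A) (t : ∀ n, K (n + 1) ⟶ K n)
    (L : DerivedCategory A) [HasProduct K] [HasProduct fun n => (RF F).obj (K n)]
    (a : L ⟶ ∏ᶜ K) (c : ∏ᶜ K ⟶ L⟦(1 : ℤ)⟧)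
    (h : Triangle.mk a (Pi.lift fun n => Pi.π K n - Pi.π K (n + 1) ≫ t n) c ∈
      distTriang (DerivedCategory A)) :
    ∃ (a' : (RF F).obj L ⟶ ∏ᶜ fun n => (RF F).obj (K n))
      (c' : (∏ᶜ fun n => (RF F).obj (K n)) ⟶ ((RF F).obj L)⟦(1 : ℤ)⟧),
      Triangle.mk a' (Pi.lift fun n => Pi.π (fun n => (RF F).obj (K n)) n -
        Pi.π (fun n => (RF F).obj (K n)) (n + 1) ≫ (RF F).map (t n)) c' ∈
        distTriang (DerivedCategory B) := by
  haveI : (RF F).Additive := additive_RF F hA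
  obtain ⟨δ, hδ⟩ := exists_distinguished_RF F hA _ h
  obtain ⟨hlim⟩ := nonempty_isLimit_RF_fan F hA K (Fan.mk (∏ᶜ K) (Pi.π K)) (productIsProduct K)
  let K' : ℕ → DerivedCategory B := fun n => (RF F).obj (K n)
  let can : (RF F).obj (∏ᶜ K) ≅ ∏ᶜ K' :=
    IsLimit.conePointUniqueUpToIso hlim (productIsProduct K')
  have hcan : ∀ n, can.hom ≫ Pi.π K' n = (RF F).map (Pi.π K n) := fun n =>
    IsLimit.conePointUniqueUpToIso_hom_comp hlim (productIsProduct K') ⟨n⟩
  let m := Pi.lift fun n => Pi.π K n - Pi.π K (n + 1) ≫ t n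
  let m' := Pi.lift fun n => Pi.π K' n - Pi.π K' (n + 1) ≫ (RF F).map (t n)
  have hm : (RF F).map m ≫ can.hom = can.hom ≫ m' := by
    apply Pi.hom_ext
    intro n
    rw [Category.assoc, Category.assoc, hcan, Pi.lift_π, ← Functor.map_comp, Pi.lift_π,
      Functor.map_sub, Functor.map_comp, Preadditive.comp_sub, ← Category.assoc, hcan, hcan]
  refine ⟨(RF F).map a ≫ can.hom, can.inv ≫ δ, ?_⟩
  refine isomorphic_distinguished _ hδ _ (Iso.symm ?_)
  refine Triangle.isoMk _ _ (Iso.refl _) can can ?_ ?_ ?_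
  · change (RF F).map a ≫ can.hom = 𝟙 _ ≫ (RF F).map a ≫ can.hom
    rw [Category.id_comp]
  · exact hm
  · change δ ≫ (𝟙 _)⟦(1 : ℤ)⟧' = can.hom ≫ can.inv ≫ δ
    rw [CategoryTheory.Functor.map_id, Category.comp_id, Iso.hom_inv_id_assoc]

end Rlim

end Groth.Agent.Lib.Helper17.RFRlim
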