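import Groth.Agent.Lib.Helper17.MVRpush
import Groth.Agent.Lib.Helper17.RFRlim

/-!
# Mayer–Vietoris triangle for `RΓ`
-/

set_option autoImplicit false
universe u

open CategoryTheory Limits Opposite AlgebraicGeometry TopologicalSpace CochainComplex Pretriangulated

attribute [local instance] HasDerivedCategory.standard

namespace Groth.Agent.Lib.Helper17.MVGamma

open Groth.Agent.Lib.Helper17.SecFun Groth.Agent.Lib.Helper17.MVAbs Groth.Agent.Lib.Helper17.MVTri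
open Groth.Agent.Lib.Helper17.PushCoh Groth.Agent.Lib.Helper17.PushCoh2
open Groth.Agent.Lib.Helper17.RestrKInj Groth.Agent.Lib.Helper17.MVRpush
open Groth.Agent.Lib.Helper17.DerKInj Groth.Agent.Lib.Helper17.RFTri
open Groth.Agent.Lib.Helper17.RFRlim

variable {X Y : Scheme.{u}}

/-- `R f_*` exists. -/
instance hasRpush (f : X ⟶ Y) : DCoh.HasRpush f :=
  Groth.Agent.Lib.Helper17.DerAbs.hasRightDerivedFunctor (enoughLocal_Qh (hA X)) (compat_Qh _)

/-- direct image along an open immersion preserves K-injectives. -/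
instance isKInjective_pushforward_open (W : X.Opens) (J : CochainComplex (W : Scheme.{u}).Modules ℤ)
    [J.IsKInjective] :
    CochainComplex.IsKInjective
      (((Scheme.Modules.pushforward W.ι).mapHomologicalComplex (ComplexShape.up ℤ)).obj J) :=
  Groth.Agent.Lib.Helper5.KInjAdj.isKInjective_map (Scheme.Modules.restrictAdjunction W.ι) J

/-- global sections of a direct image. -/
noncomputable def gammaPushIso (W : X.Opens) :
    Scheme.Modules.pushforward W.ι ⋙ DCoh.gammaAb X ≅ DCoh.gammaAb (W : Scheme.{u}) :=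
  NatIso.ofComponents (fun N => Iso.refl _) (by
    intro M N φ
    rfl)

/-- `RΓ(X, Rj_* Q(J)) ≅ RΓ(W, Q(J))` for `J` K-injective. -/
noncomputable def RΓpushIso (W : X.Opens) [DCoh.HasRΓ X] [DCoh.HasRΓ (W : Scheme.{u})]
    (J : CochainComplex (W : Scheme.{u}).Modules ℤ) [J.IsKInjective] :
    (DCoh.RΓ X).obj ((DCoh.Rpush W.ι).obj (DerivedCategory.Q.obj J)) ≅
      (DCoh.RΓ (W : Scheme.{u})).obj (DerivedCategory.Q.obj J) :=
  (DCoh.RΓ X).mapIso (RpushIso W.ι J) ≪≫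
    RFIso (DCoh.gammaAb X) (hA X) (Cx (Scheme.Modules.pushforward W.ι) J) ≪≫
    DerivedCategory.Q.mapIso ((NatIso.mapHomologicalComplex (gammaPushIso W)
      (ComplexShape.up ℤ)).app J) ≪≫
    (RFIso (DCoh.gammaAb (W : Scheme.{u})) (hA (W : Scheme.{u})) J).symm

/-- `RΓ(X, Rj_* (E|_W)) ≅ RΓ(W, E|_W)`. -/
noncomputable def gammaPiece (W : X.Opens) [DCoh.HasRΓ X] [DCoh.HasRΓ (W : Scheme.{u})]
    (E : DCoh.D X) (I : CochainComplex X.Modules ℤ) [I.IsKInjective]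
    (e : E ≅ DerivedCategory.Q.obj I) :
    (DCoh.RΓ X).obj ((DCoh.Rpush W.ι).obj ((DCoh.restrictD W.ι).obj E)) ≅
      (DCoh.RΓ (W : Scheme.{u})).obj ((DCoh.restrictD W.ι).obj E) :=
  (DCoh.RΓ X).mapIso ((DCoh.Rpush W.ι).mapIso ((DCoh.restrictD W.ι).mapIso e ≪≫
      ((Scheme.Modules.restrictFunctor W.ι).mapDerivedCategoryFactors).app I)) ≪≫
    RΓpushIso W (Cx (Scheme.Modules.restrictFunctor W.ι) I) ≪≫
    (DCoh.RΓ (W : Scheme.{u})).mapIso ((DCoh.restrictD W.ι).mapIso e ≪≫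
      ((Scheme.Modules.restrictFunctor W.ι).mapDerivedCategoryFactors).app I).symm

/-- **Mayer–Vietoris for `RΓ`.** -/
theorem mv_gamma (U V : X.Opens) (hUV : U ⊔ V = ⊤)
    [DCoh.HasRΓ X] [DCoh.HasRΓ (U : Scheme.{u})] [DCoh.HasRΓ (V : Scheme.{u})]
    [DCoh.HasRΓ (U ⊓ V : X.Opens)] (E : DCoh.D X) :
    ∃ (a : (DCoh.RΓ X).obj E ⟶ ((DCoh.RΓ (U : Scheme.{u})).obj ((DCoh.restrictD U.ι).obj E) ⊞
        (DCoh.RΓ (V : Scheme.{u})).obj ((DCoh.restrictD V.ι).obj E)))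
      (b : ((DCoh.RΓ (U : Scheme.{u})).obj ((DCoh.restrictD U.ι).obj E) ⊞
        (DCoh.RΓ (V : Scheme.{u})).obj ((DCoh.restrictD V.ι).obj E)) ⟶
          (DCoh.RΓ (U ⊓ V : X.Opens)).obj ((DCoh.restrictD (U ⊓ V).ι).obj E))
      (c : (DCoh.RΓ (U ⊓ V : X.Opens)).obj ((DCoh.restrictD (U ⊓ V).ι).obj E) ⟶
        ((DCoh.RΓ X).obj E)⟦(1 : ℤ)⟧),
      Triangle.mk a b c ∈ distTriang (DerivedCategory AddCommGrpCat.{u}) := by
  obtain ⟨I, hI, hinj, ⟨e⟩⟩ := exists_kinj_inj E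
  haveI := hI
  obtain ⟨a, b, c, hT⟩ := mv_id U V hUV E
  obtain ⟨δ, hδ⟩ := exists_distinguished_RF (DCoh.gammaAb X) (hA X) _ hT
  haveI : (DCoh.RΓ X).Additive := additive_RF (DCoh.gammaAb X) (hA X)
  haveI : PreservesBinaryBiproducts (DCoh.RΓ X) :=
    preservesBinaryBiproducts_of_preservesBiproducts _
  exact exists_triangle_of_isos _ hδ (Iso.refl _)
    ((DCoh.RΓ X).mapBiprod _ _ ≪≫
      biprod.mapIso (gammaPiece U E I e) (gammaPiece V E I e))
    (gammaPiece (U ⊓ V) E I e)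

end Groth.Agent.Lib.Helper17.MVGamma
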