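import Groth.Agent.Lib.Helper17.RFTri

/-!
# The unit `F K ⟶ RF K` of the total right derived functor is an isomorphism when `F` preserves a
K-injective resolution of `K`
-/

set_option autoImplicit false
universe w₁ w₂ v₁ v₂ u₁ u₂

open CategoryTheory Limits

namespace Groth.Agent.Lib.Helper17.RFUnit

open Groth.Agent.Lib.Helper17.DerAbs Groth.Agent.Lib.Helper17.DerKInj Groth.Agent.Lib.Helper17.RFTri

variable {A : Type u₁} [Category.{v₁} A] [Abelian A] [HasDerivedCategory.{w₁} A]
  {B : Type u₂} [Category.{v₂} B] [Abelian B] [HasDerivedCategory.{w₂} B]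
  (F : A ⥤ B) [F.Additive]
  [(Φ F).HasRightDerivedFunctor (HomotopyCategory.quasiIso A (ComplexShape.up ℤ))]

lemma isIso_Qh_quotient_map {C : Type*} [Category C] [Abelian C] [HasDerivedCategory C]
    {K L : CochainComplex C ℤ} (φ : K ⟶ L) [QuasiIso φ] :
    IsIso (DerivedCategory.Qh.map ((HomotopyCategory.quotient C (ComplexShape.up ℤ)).map φ)) :=
  Localization.inverts DerivedCategory.Qh (HomotopyCategory.quasiIso C (ComplexShape.up ℤ)) _
    ((HomotopyCategory.quotient_map_mem_quasiIso_iff φ).2
      ((HomologicalComplex.mem_quasiIso_iff φ).2 inferInstance))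

include F in
theorem isIso_unit_of_quasiIso (hA : HasKInjRes A) {K I : CochainComplex A ℤ} [I.IsKInjective]
    (φ : K ⟶ I) [QuasiIso φ]
    (h : QuasiIso ((F.mapHomologicalComplex (ComplexShape.up ℤ)).map φ)) :
    IsIso ((αF F).app ((HomotopyCategory.quotient _ _).obj K)) := by
  have hnat := (αF F).naturality ((HomotopyCategory.quotient A (ComplexShape.up ℤ)).map φ)
  haveI h1 := isIso_α F hA I
  haveI h2 : IsIso ((DerivedCategory.Qh ⋙ RF F).map
      ((HomotopyCategory.quotient A (ComplexShape.up ℤ)).map φ)) := by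
    haveI := isIso_Qh_quotient_map φ
    dsimp
    infer_instance
  haveI h3 : IsIso ((Φ F).map ((HomotopyCategory.quotient A (ComplexShape.up ℤ)).map φ)) := by
    have : (Φ F).map ((HomotopyCategory.quotient A (ComplexShape.up ℤ)).map φ) =
        DerivedCategory.Qh.map ((HomotopyCategory.quotient B (ComplexShape.up ℤ)).map
          ((F.mapHomologicalComplex (ComplexShape.up ℤ)).map φ)) := rfl
    rw [this]
    exact isIso_Qh_quotient_map _
  have h4 : (αF F).app ((HomotopyCategory.quotient _ _).obj K) =
      ((Φ F).map ((HomotopyCategory.quotient A (ComplexShape.up ℤ)).map φ) ≫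
        (αF F).app ((HomotopyCategory.quotient _ _).obj I)) ≫
      inv ((DerivedCategory.Qh ⋙ RF F).map
        ((HomotopyCategory.quotient A (ComplexShape.up ℤ)).map φ)) := by
    rw [hnat, Category.assoc, IsIso.hom_inv_id, Category.comp_id]
  rw [h4]
  infer_instance

end Groth.Agent.Lib.Helper17.RFUnit
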