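import Groth.Agent.Lib.Helper17.PushCoh
import Groth.Agent.Lib.Helper17.RFUnit
import Groth.Agent.Lib.Helper17.DProd
import Groth.Prelude.Def_DCoh2

/-!
# `R f_*` on `D_QCoh` for an affine morphism `f`: conservativity and preservation of `D_QCoh`
-/

set_option autoImplicit false
universe u

open CategoryTheory Limits AlgebraicGeometry

attribute [local instance] HasDerivedCategory.standard

namespace Groth.Agent.Lib.Helper17.PushCoh2

open Groth.Agent.Lib.Helper17.DerKInj Groth.Agent.Lib.Helper17.RFTri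
open Groth.Agent.Lib.Helper17.PushCoh Groth.Agent.Lib.Helper17.SG7

variable {X S : Scheme.{u}} (f : X ⟶ S)

lemma hA (X : Scheme.{u}) : HasKInjRes X.Modules := hasKInjRes_of_isGrothendieckAbelian

/-- a K-injective representative with quasi-coherent cohomology. -/
lemma exists_rep (E : DCoh.D X) (hE : DCoh.IsQCohD E) :
    ∃ (I : CochainComplex X.Modules ℤ) (_ : I.IsKInjective) (_ : E ≅ DerivedCategory.Q.obj I),
      ∀ i : ℤ, (I.homology i).IsQuasicoherent := by
  obtain ⟨I, hI, ⟨e⟩⟩ := exists_kInjective_iso (hA X) E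
  refine ⟨I, hI, e, fun i => ?_⟩
  exact (SheafOfModules.isQuasicoherent X.ringCatSheaf).prop_of_iso
    ((DerivedCategory.homologyFunctor X.Modules i).mapIso e ≪≫
      (DerivedCategory.homologyFunctorFactors X.Modules i).app I) (hE i)

variable [DCoh.HasRpush f]

/-- `Rf_*(Q I) ≅ Q(f_* I)` for `I` K-injective. -/
noncomputable def RpushIso (I : CochainComplex X.Modules ℤ) [I.IsKInjective] :
    (DCoh.Rpush f).obj (DerivedCategory.Q.obj I) ≅
      DerivedCategory.Q.obj (ΦC (Scheme.Modules.pushforward f) I) :=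
  RFIso (Scheme.Modules.pushforward f) (hA X) I

variable [IsAffineHom f]

/-- **`Rf_*` preserves `D_QCoh` for `f` affine.** -/
theorem isQCohD_Rpush (E : DCoh.D X) (hE : DCoh.IsQCohD E) :
    DCoh.IsQCohD ((DCoh.Rpush f).obj E) := by
  obtain ⟨I, hI, e, hIq⟩ := exists_rep E hE
  intro i
  have e' : (DCoh.Rpush f).obj E ≅ DerivedCategory.Q.obj (ΦC (Scheme.Modules.pushforward f) I) :=
    (DCoh.Rpush f).mapIso e ≪≫ RpushIso f I
  exact (SheafOfModules.isQuasicoherent S.ringCatSheaf).prop_of_iso
    (((DerivedCategory.homologyFunctor S.Modules i).mapIso e' ≪≫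
      (DerivedCategory.homologyFunctorFactors S.Modules i).app _).symm)
    (isQuasicoherent_homology_pushforward f I hIq i)

/-- **`Rf_*` restricted to `D_QCoh` reflects isomorphisms for `f` affine.** -/
theorem isIso_of_isIso_Rpush_map {E F : DCoh.D X} (hE : DCoh.IsQCohD E) (hF : DCoh.IsQCohD F)
    (α : E ⟶ F) (hα : IsIso ((DCoh.Rpush f).map α)) : IsIso α := by
  obtain ⟨I, hI, eE, hIq⟩ := exists_rep E hE
  obtain ⟨I', hI', eF, hIq'⟩ := exists_rep F hF
  obtain ⟨ψ, hψ⟩ := Groth.Agent.Lib.Helper17.DProd.Q_map_surjective_of_isKInjective I I'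
    (eE.inv ≫ α ≫ eF.hom)
  haveI h1 : IsIso ((DCoh.Rpush f).map (DerivedCategory.Q.map ψ)) := by
    rw [hψ, Functor.map_comp, Functor.map_comp]
    infer_instance
  have hnat := RFIso_hom_naturality (Scheme.Modules.pushforward f) (hA X) ψ
  haveI h2 : IsIso (DerivedCategory.Q.map
      (((Scheme.Modules.pushforward f).mapHomologicalComplex (ComplexShape.up ℤ)).map ψ)) := by
    have h3 : DerivedCategory.Q.map
        (((Scheme.Modules.pushforward f).mapHomologicalComplex (ComplexShape.up ℤ)).map ψ) =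
        (RFIso (Scheme.Modules.pushforward f) (hA X) I).inv ≫
          (DCoh.Rpush f).map (DerivedCategory.Q.map ψ) ≫
            (RFIso (Scheme.Modules.pushforward f) (hA X) I').hom := by
      rw [hnat, Iso.inv_hom_id_assoc]
    rw [h3]
    infer_instance
  have h4 : QuasiIso (((Scheme.Modules.pushforward f).mapHomologicalComplex
      (ComplexShape.up ℤ)).map ψ) := (DerivedCategory.isIso_Q_map_iff_quasiIso _ _).1 h2
  have h5 : QuasiIso ψ := quasiIso_of_quasiIso_pushforward f hIq hIq' ψ h4
  haveI h6 : IsIso (DerivedCategory.Q.map ψ) := (DerivedCategory.isIso_Q_map_iff_quasiIso _ _).2 h5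
  have h7 : α = eE.hom ≫ DerivedCategory.Q.map ψ ≫ eF.inv := by
    rw [hψ]
    simp
  rw [h7]
  infer_instance

end Groth.Agent.Lib.Helper17.PushCoh2
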