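import Groth.Agent.Lib.Helper17.HDU2
import Groth.Agent.Lib.Helper17.DerKInj
import Groth.Agent.Lib.Helper20.FreeSheaf
import Groth.Prelude.Def_CohCx

/-!
# Hypercohomology presheaves on a site vs cohomology sheaves
-/

set_option autoImplicit false
universe u

open CategoryTheory Limits CochainComplex Opposite

namespace Groth.Agent.Lib.Helper17.HDU3

open Groth.Agent.Lib.Helper17.HDU1 Groth.Agent.Lib.Helper17.HDU2
open Groth.Agent.Lib.Helper20.FreeSheaf

variable {C : Type u} [SmallCategory C] (J : GrothendieckTopology C)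

/-- the free abelian sheaf functor `U ↦ ℤ[U]^#`. -/
noncomputable abbrev G : C ⥤ Sheaf J AddCommGrpCat.{u} :=
  yoneda ⋙ (Functor.whiskeringRight _ _ _).obj AddCommGrpCat.free.{u} ⋙
    presheafToSheaf J AddCommGrpCat.{u}

/-- `Hom(ℤ[U]^#, F) ≅ F(U)`, as an isomorphism of functors. -/
noncomputable def homFunctorIso : homFunctor (G J) ≅ sheafToPresheaf J AddCommGrpCat.{u} :=
  NatIso.ofComponents (fun F => NatIso.ofComponents
    (fun U => AddEquiv.toAddCommGrpIso
      { toEquiv := a J U.unop F
        map_add' := a_add J U.unop })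
    (by
      intro U V g
      ext x
      exact a_nat_left J g.unop x))
    (by
      intro F F' φ
      ext U x
      exact a_nat J U.unop x φ)

variable [HasDerivedCategory.{u} (Sheaf J AddCommGrpCat.{u})]

/-- the complex of presheaves underlying a complex of sheaves. -/
noncomputable abbrev secCx (I : CochainComplex (Sheaf J AddCommGrpCat.{u}) ℤ) :
    CochainComplex (Cᵒᵖ ⥤ AddCommGrpCat.{u}) ℤ :=
  ((sheafToPresheaf J AddCommGrpCat.{u}).mapHomologicalComplex _).obj I

/-- For `I` K-injective, `U ↦ H^q(U, I)` is the `q`-th homology presheaf of `I`. -/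
noncomputable def hduIso (I : CochainComplex (Sheaf J AddCommGrpCat.{u}) ℤ) [I.IsKInjective]
    (q : ℤ) : CohCx.HDUPresheaf (DerivedCategory.Q.obj I) q ≅ (secCx J I).homology q :=
  (hyperPresheafIso (G J) I q) ≪≫ (HomologicalComplex.homologyFunctor _ _ q).mapIso
    ((NatIso.mapHomologicalComplex (homFunctorIso J) _).app I)

omit [HasDerivedCategory.{u} (Sheaf J AddCommGrpCat.{u})] in
/-- homology commutes with exact functors. -/
noncomputable def mapHCHomologyIso {V W : Type*} [Category V] [Category W] [Abelian V] [Abelian W]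
    (F : V ⥤ W) [F.Additive] [F.PreservesHomology] {ι : Type*} {c : ComplexShape ι}
    (K : HomologicalComplex V c) (i : ι) :
    ((F.mapHomologicalComplex c).obj K).homology i ≅ F.obj (K.homology i) :=
  (K.sc i).mapHomologyIso F

omit [HasDerivedCategory.{u} (Sheaf J AddCommGrpCat.{u})] in
/-- sheafifying the underlying presheaf complex gives back the complex. -/
noncomputable def sheafifySecCxIso (I : CochainComplex (Sheaf J AddCommGrpCat.{u}) ℤ) :
    ((presheafToSheaf J AddCommGrpCat.{u}).mapHomologicalComplex _).obj (secCx J I) ≅ I :=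
  HomologicalComplex.Hom.isoOfComponents
    (fun i => (asIso (sheafificationAdjunction J AddCommGrpCat.{u}).counit).app (I.X i))
    (by
      intro i j _
      exact ((sheafificationAdjunction J AddCommGrpCat.{u}).counit.naturality (I.d i j)).symm)

omit [HasDerivedCategory.{u} (Sheaf J AddCommGrpCat.{u})] in
/-- the sheafification of the homology presheaf is the homology sheaf. -/
noncomputable def sheafifyHomologyIso (I : CochainComplex (Sheaf J AddCommGrpCat.{u}) ℤ) (q : ℤ) :
    (presheafToSheaf J AddCommGrpCat.{u}).obj ((secCx J I).homology q) ≅ I.homology q :=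
  (mapHCHomologyIso (presheafToSheaf J AddCommGrpCat.{u}) (secCx J I) q).symm ≪≫
    (HomologicalComplex.homologyFunctor _ _ q).mapIso (sheafifySecCxIso J I)

open Groth.Agent.Lib.Helper17.DerKInj in
/-- every object of the derived category of abelian sheaves is represented by a K-injective
complex. -/
lemma exists_kInjective_iso (K : DerivedCategory (Sheaf J AddCommGrpCat.{u})) :
    ∃ (I : CochainComplex (Sheaf J AddCommGrpCat.{u}) ℤ), I.IsKInjective ∧
      Nonempty (K ≅ DerivedCategory.Q.obj I) := by
  let M := DerivedCategory.Q.objPreimage K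
  let eM : DerivedCategory.Q.obj M ≅ K := DerivedCategory.Q.objObjPreimageIso K
  obtain ⟨I, f, hI, hf⟩ :=
    (hasKInjRes_of_isGrothendieckAbelian : HasKInjRes (Sheaf J AddCommGrpCat.{u})) M
  have := hf
  exact ⟨I, hI, ⟨eM.symm ≪≫ asIso (DerivedCategory.Q.map f)⟩⟩

/-- functoriality of the hypercohomology presheaf in `K`. -/
noncomputable def hduPresheafMapIso {K K' : DerivedCategory (Sheaf J AddCommGrpCat.{u})}
    (e : K ≅ K') (q : ℤ) : CohCx.HDUPresheaf K q ≅ CohCx.HDUPresheaf K' q :=
  Functor.isoWhiskerLeft _ (preadditiveYoneda.mapIso ((CategoryTheory.shiftFunctor _ q).mapIso e))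

/-- The sheafification of `U ↦ H^q(U, K)` is the cohomology sheaf `H^q(K)`. -/
theorem nonempty_sheafify_iso (K : DerivedCategory (Sheaf J AddCommGrpCat.{u})) (q : ℤ) :
    Nonempty ((presheafToSheaf J AddCommGrpCat.{u}).obj (CohCx.HDUPresheaf K q) ≅
      CohCx.HD K q) := by
  obtain ⟨I, hI, ⟨e⟩⟩ := exists_kInjective_iso J K
  have := hI
  exact ⟨(presheafToSheaf J _).mapIso (hduPresheafMapIso J e q ≪≫ hduIso J I q) ≪≫
    sheafifyHomologyIso J I q ≪≫ ((DerivedCategory.homologyFunctorFactors _ q).app I).symm ≪≫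
    (DerivedCategory.homologyFunctor _ q).mapIso e.symm⟩

end Groth.Agent.Lib.Helper17.HDU3
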