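import Groth.Agent.Lib.Helper17.PhiInd
import Groth.Agent.Lib.Helper17.PushCoh2
import Groth.Agent.Lib.Helper17.KInjRes
import Groth.Agent.Lib.Helper17.HDU3
import Groth.Agent.Lib.Helper28.DCohRes27

/-!
# `R f_*` preserves `D_QCoh` for `f` quasi-compact and quasi-separated
-/

set_option autoImplicit false
universe u

open CategoryTheory Limits Opposite AlgebraicGeometry TopologicalSpace CochainComplex

attribute [local instance] HasDerivedCategory.standard

namespace Groth.Agent.Lib.Helper17.RpushQC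

open Groth.Agent.Lib.Helper17.SecFun Groth.Agent.Lib.Helper17.PhiW Groth.Agent.Lib.Helper17.MVAbs
open Groth.Agent.Lib.Helper17.PushCoh Groth.Agent.Lib.Helper17.PhiInd
open Groth.Agent.Lib.Helper17.PushCoh2

variable {X S : Scheme.{u}} (f : X ⟶ S) (V₀ : S.Opens)

/-- `(f_* M)|_{V₀} ⟶ (f_* j_* j^* M)|_{V₀}` for `j` the inclusion of `f⁻¹ V₀`. -/
noncomputable def τ : Scheme.Modules.pushforward f ⋙ Scheme.Modules.restrictFunctor V₀.ι ⟶
    ΦW f V₀ (f ⁻¹ᵁ V₀) where
  app M := (Scheme.Modules.pushforward f ⋙ Scheme.Modules.restrictFunctor V₀.ι).map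
    ((ZClos.resPushUnit (f ⁻¹ᵁ V₀)).app M)
  naturality := by
    intro M N φ
    have h := (ZClos.resPushUnit (f ⁻¹ᵁ V₀)).naturality φ
    have h2 := congrArg
      (Scheme.Modules.pushforward f ⋙ Scheme.Modules.restrictFunctor V₀.ι).map h
    rw [Functor.map_comp, Functor.map_comp] at h2
    exact h2

instance isIso_τ_app (M : X.Modules) : IsIso ((τ f V₀).app M) := by
  refine Scheme.Modules.Hom.isIso_iff_isIso_app.mpr fun V => ?_
  have hA : (f ⁻¹ᵁ V₀).ι ''ᵁ (f ⁻¹ᵁ V₀).ι ⁻¹ᵁ (f ⁻¹ᵁ V₀.ι ''ᵁ V) = f ⁻¹ᵁ V₀.ι ''ᵁ V := by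
    rw [ZClos.ι_image_preimage]
    exact inf_eq_right.2 ((Opens.map f.base).monotone (V₀.ι_image_le V))
  show IsIso (M.presheaf.map (homOfLE ((f ⁻¹ᵁ V₀).ι.image_preimage_le (f ⁻¹ᵁ V₀.ι ''ᵁ V))).op)
  rw [show homOfLE ((f ⁻¹ᵁ V₀).ι.image_preimage_le (f ⁻¹ᵁ V₀.ι ''ᵁ V)) = eqToHom hA from
    Subsingleton.elim _ _, eqToHom_op, eqToHom_map]
  infer_instance

instance isIso_τ : IsIso (τ f V₀) := NatIso.isIso_of_isIso_app _

/-- the restriction to `V₀` of the cohomology of `f_* I` is the cohomology of `ΦW I`. -/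
noncomputable def resHomologyIso (I : CochainComplex X.Modules ℤ) (p : ℤ) :
    (Scheme.Modules.restrictFunctor V₀.ι).obj ((Cx (Scheme.Modules.pushforward f) I).homology p) ≅
      (Cx (ΦW f V₀ (f ⁻¹ᵁ V₀)) I).homology p :=
  (Groth.Agent.Lib.Helper17.HDU3.mapHCHomologyIso (Scheme.Modules.restrictFunctor V₀.ι)
      (Cx (Scheme.Modules.pushforward f) I) p).symm ≪≫
    (HomologicalComplex.homologyFunctor _ _ p).mapIso
      ((NatIso.mapHomologicalComplex (asIso (τ f V₀)) (ComplexShape.up ℤ)).app I)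

/-- a K-injective representative with injective terms and quasi-coherent cohomology. -/
lemma exists_good (E : DCoh.D X) (hE : DCoh.IsQCohD E) :
    ∃ (I : CochainComplex X.Modules ℤ) (_ : Good I), Nonempty (E ≅ DerivedCategory.Q.obj I) := by
  let M := (DerivedCategory.Q (C := X.Modules)).objPreimage E
  let e0 : DerivedCategory.Q.obj M ≅ E := (DerivedCategory.Q (C := X.Modules)).objObjPreimageIso E
  obtain ⟨I, φ, hI, hφ, -, hinj⟩ := Groth.Agent.Lib.Helper17.KInjRes.exists_kInjective_resolution M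
  haveI := hφ
  haveI : IsIso (DerivedCategory.Q.map φ) := (DerivedCategory.isIso_Q_map_iff_quasiIso _ _).2 hφ
  let e : E ≅ DerivedCategory.Q.obj I := e0.symm ≪≫ asIso (DerivedCategory.Q.map φ)
  refine ⟨I, ⟨hI, hinj, fun i => ?_⟩, ⟨e⟩⟩
  exact (SheafOfModules.isQuasicoherent X.ringCatSheaf).prop_of_iso
    ((DerivedCategory.homologyFunctor X.Modules i).mapIso e ≪≫
      (DerivedCategory.homologyFunctorFactors X.Modules i).app I) (hE i)

lemma exists_affine_nhd (x : S) : ∃ V₀ : S.Opens, IsAffineOpen V₀ ∧ x ∈ V₀ := by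
  obtain ⟨_, ⟨V₀, hV₀ : IsAffineOpen V₀, rfl⟩, hxV, -⟩ :=
    (S.isBasis_affineOpens).exists_subset_of_mem_open (Set.mem_univ x) isOpen_univ
  exact ⟨V₀, hV₀, hxV⟩

variable [QuasiCompact f] [QuasiSeparated f] [DCoh.HasRpush f]

/-- the cohomology of `Rf_* E` in terms of a representative. -/
noncomputable def HDRpushIso (E : DCoh.D X) (I : CochainComplex X.Modules ℤ) [I.IsKInjective]
    (e : E ≅ DerivedCategory.Q.obj I) (i : ℤ) :
    DCoh.HD ((DCoh.Rpush f).obj E) i ≅ (Cx (Scheme.Modules.pushforward f) I).homology i :=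
  (DerivedCategory.homologyFunctor S.Modules i).mapIso ((DCoh.Rpush f).mapIso e ≪≫ RpushIso f I) ≪≫
    (DerivedCategory.homologyFunctorFactors S.Modules i).app _

/-- **`Rf_*` preserves `D_QCoh` for `f` quasi-compact and quasi-separated.** -/
theorem isQCohD_Rpush (E : DCoh.D X) (hE : DCoh.IsQCohD E) :
    DCoh.IsQCohD ((DCoh.Rpush f).obj E) := by
  obtain ⟨I, hI, ⟨e⟩⟩ := exists_good E hE
  haveI := hI.kinj
  intro i
  refine (SheafOfModules.isQuasicoherent S.ringCatSheaf).prop_of_iso (HDRpushIso f E I e i).symm ?_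
  apply Groth.Agent.Lib.Helper28.DCohRes.isQuasicoherent_of_locally
  intro x
  obtain ⟨V₀, hV₀, hxV⟩ := exists_affine_nhd x
  refine ⟨V₀.toScheme, V₀.ι, inferInstance, ?_, ?_⟩
  · rw [Scheme.Opens.range_ι]
    exact hxV
  · exact (SheafOfModules.isQuasicoherent V₀.toScheme.ringCatSheaf).prop_of_iso
      (resHomologyIso f V₀ I i).symm ((P_preimage hV₀).1 I hI i)

/-- **finite cohomological dimension of `Rf_*` on `D_QCoh`** for `f` quasi-compact and
quasi-separated with quasi-compact target. -/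
theorem exists_bound [CompactSpace S] :
    ∃ N : ℤ, ∀ (E : DCoh.D X), DCoh.IsQCohD E → E.IsLE 0 → ∀ m : ℤ, N ≤ m →
      IsZero (DCoh.HD ((DCoh.Rpush f).obj E) m) := by
  have hcov : ∀ x : S, ∃ V₀ : S.Opens, IsAffineOpen V₀ ∧ x ∈ V₀ := exists_affine_nhd
  choose V hV hxV using hcov
  obtain ⟨t, ht⟩ := isCompact_univ.elim_finite_subcover (fun x => ((V x : S.Opens) : Set S))
    (fun x => (V x).2) (fun x _ => Set.mem_iUnion.2 ⟨x, hxV x⟩)
  have hN : ∀ x : S, ∃ N : ℤ, ∀ I : CochainComplex X.Modules ℤ, Good I →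
      (∀ i : ℤ, 0 < i → IsZero (I.homology i)) → ∀ m : ℤ, N ≤ m →
        IsZero ((Cx (ΦW f (V x) (f ⁻¹ᵁ (V x))) I).homology m) := fun x => (P_preimage (hV x)).2
  choose Nf hNf using hN
  obtain ⟨N, hNle⟩ := (t.image Nf).exists_le
  refine ⟨N, fun E hE hLE m hm => ?_⟩
  obtain ⟨I, hI, ⟨e⟩⟩ := exists_good E hE
  haveI := hI.kinj
  have hz : ∀ i : ℤ, 0 < i → IsZero (I.homology i) := by
    intro i hi
    exact (DerivedCategory.isZero_of_isLE E 0 i hi).of_iso
      ((DerivedCategory.homologyFunctor X.Modules i).mapIso e ≪≫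
        (DerivedCategory.homologyFunctorFactors X.Modules i).app I).symm
  refine IsZero.of_iso ?_ (HDRpushIso f E I e m)
  apply Groth.Agent.Lib.Helper28.DCohRes.isZero_of_locally
  intro x
  obtain ⟨y, hy⟩ := Set.mem_iUnion.1 (ht (Set.mem_univ x))
  obtain ⟨hyt, hxy⟩ := Set.mem_iUnion.1 hy
  refine ⟨(V y).toScheme, (V y).ι, inferInstance, ?_, ?_⟩
  · rw [Scheme.Opens.range_ι]
    exact hxy
  · refine IsZero.of_iso ?_ (resHomologyIso f (V y) I m)
    exact hNf y I hI hz m (le_trans (hNle _ (Finset.mem_image_of_mem Nf hyt)) hm)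

end Groth.Agent.Lib.Helper17.RpushQC
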