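import Groth.Agent.Lib.Helper17.DerAbs2
import Groth.Agent.Lib.Helper17.RpushQC
import Groth.Agent.Lib.Helper17.RestrKInj
import Groth.Agent.Lib.Helper17.PushCoh2
import Groth.Prelude.Def_DCoh3

/-!
# `R f_*` commutes with restriction to opens
-/

set_option autoImplicit false
universe u

open CategoryTheory Limits Opposite AlgebraicGeometry TopologicalSpace CochainComplex

attribute [local instance] HasDerivedCategory.standard

namespace Groth.Agent.Lib.Helper17.RpushRes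

open Groth.Agent.Lib.Helper17.PushCoh Groth.Agent.Lib.Helper17.PushCoh2
open Groth.Agent.Lib.Helper17.RestrKInj Groth.Agent.Lib.Helper17.DerAbs
open Groth.Agent.Lib.Helper17.DerKInj Groth.Agent.Lib.Helper17.RpushQC
open Groth.Agent.Lib.Helper17.PhiW

variable {X Y : Scheme.{u}} (f : X ⟶ Y) (V : Y.Opens)

/-- `j_{U*} ; f_* ; (-)|_V ≅ (f|_V)_*`. -/
noncomputable def θ₀ : Scheme.Modules.pushforward (f ⁻¹ᵁ V).ι ⋙ Scheme.Modules.pushforward f ⋙
    Scheme.Modules.restrictFunctor V.ι ≅ Scheme.Modules.pushforward (f ∣_ V) :=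
  (Functor.isoWhiskerRight (Scheme.Modules.pushforwardComp (f ⁻¹ᵁ V).ι f ≪≫
      Scheme.Modules.pushforwardCongr (morphismRestrict_ι f V).symm ≪≫
      (Scheme.Modules.pushforwardComp (f ∣_ V) V.ι).symm)
    (Scheme.Modules.restrictFunctor V.ι) :
      (Scheme.Modules.pushforward (f ⁻¹ᵁ V).ι ⋙ Scheme.Modules.pushforward f) ⋙
        Scheme.Modules.restrictFunctor V.ι ≅
      (Scheme.Modules.pushforward (f ∣_ V) ⋙ Scheme.Modules.pushforward V.ι) ⋙
        Scheme.Modules.restrictFunctor V.ι) ≪≫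
    Functor.isoWhiskerLeft (Scheme.Modules.pushforward (f ∣_ V))
      (Scheme.Modules.restrictFunctorAdjCounitIso V.ι) ≪≫ Functor.rightUnitor _

/-- `(f_* M)|_V ≅ (f|_V)_* (M|_U)`. -/
noncomputable def θ : Scheme.Modules.pushforward f ⋙ Scheme.Modules.restrictFunctor V.ι ≅
    Scheme.Modules.restrictFunctor (f ⁻¹ᵁ V).ι ⋙ Scheme.Modules.pushforward (f ∣_ V) :=
  (asIso (τ f V) : _ ≅ ΦW f V (f ⁻¹ᵁ V)) ≪≫
    (Functor.isoWhiskerLeft (Scheme.Modules.restrictFunctor (f ⁻¹ᵁ V).ι) (θ₀ f V) :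
      Scheme.Modules.restrictFunctor (f ⁻¹ᵁ V).ι ⋙ (Scheme.Modules.pushforward (f ⁻¹ᵁ V).ι ⋙
        Scheme.Modules.pushforward f ⋙ Scheme.Modules.restrictFunctor V.ι) ≅ _)

/-- the unit of `R f_*`. -/
noncomputable abbrev unitR (f : X ⟶ Y) [DCoh.HasRpush f] :
    DCoh.pushKh f ⟶ DerivedCategory.Qh ⋙ DCoh.Rpush f :=
  (DCoh.pushKh f).totalRightDerivedUnit DerivedCategory.Qh
    (HomotopyCategory.quasiIso X.Modules (ComplexShape.up ℤ))

section

variable [DCoh.HasRpush f] [DCoh.HasRpush (f ∣_ V)]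
  [PreservesFiniteLimits (Scheme.Modules.restrictFunctor V.ι)]
  [PreservesFiniteLimits (Scheme.Modules.restrictFunctor (f ⁻¹ᵁ V).ι)]

/-- the unit exhibiting `(-)|_U ; R(f|_V)_*` as a right derived functor. -/
noncomputable def α2 :
    (Scheme.Modules.restrictFunctor (f ⁻¹ᵁ V).ι).mapHomotopyCategory (ComplexShape.up ℤ) ⋙
        DCoh.pushKh (f ∣_ V) ⟶
      DerivedCategory.Qh ⋙ (DCoh.restrictD (f ⁻¹ᵁ V).ι ⋙ DCoh.Rpush (f ∣_ V)) :=
  Functor.whiskerLeft _ (unitR (f ∣_ V)) ≫ (Functor.associator _ _ _).inv ≫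
    Functor.whiskerRight
      ((Scheme.Modules.restrictFunctor (f ⁻¹ᵁ V).ι).mapDerivedCategoryFactorsh.inv)
      (DCoh.Rpush (f ∣_ V)) ≫ (Functor.associator _ _ _).hom

lemma isRightDerivedFunctor_α2 :
    (DCoh.restrictD (f ⁻¹ᵁ V).ι ⋙ DCoh.Rpush (f ∣_ V)).IsRightDerivedFunctor (α2 f V)
      (HomotopyCategory.quasiIso X.Modules (ComplexShape.up ℤ)) := by
  refine isRightDerivedFunctor_of_isIso_app (enoughLocal_Qh (hA X)) (compat_Qh _) _ _ ?_
  rintro _ ⟨I, hI, rfl⟩ -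
  haveI := hI
  haveI : IsIso ((unitR (f ∣_ V)).app
      (((Scheme.Modules.restrictFunctor (f ⁻¹ᵁ V).ι).mapHomotopyCategory (ComplexShape.up ℤ)).obj
        ((HomotopyCategory.quotient _ _).obj I))) :=
    isIso_app (enoughLocal_Qh (hA _)) (compat_Qh _) _ (unitR (f ∣_ V))
      ⟨_, isKInjective_restrict (f ⁻¹ᵁ V) I, rfl⟩
      (isLocalObj_Qh (((Scheme.Modules.restrictFunctor (f ⁻¹ᵁ V).ι).mapHomologicalComplex
        (ComplexShape.up ℤ)).obj I))
  dsimp [α2]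
  infer_instance

lemma isRightDerivedFunctor_α1 :
    (DCoh.Rpush f ⋙ DCoh.restrictD V.ι).IsRightDerivedFunctor
      (Functor.whiskerRight (unitR f) (DCoh.restrictD V.ι) ≫ (Functor.associator _ _ _).hom)
      (HomotopyCategory.quasiIso X.Modules (ComplexShape.up ℤ)) :=
  isRightDerivedFunctor_comp (enoughLocal_Qh (hA X)) (compat_Qh _) (DCoh.Rpush f) (unitR f)
    (DCoh.restrictD V.ι)

/-- the two underived functors agree. -/
noncomputable def Φiso : DCoh.pushKh f ⋙ DCoh.restrictD V.ι ≅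
    (Scheme.Modules.restrictFunctor (f ⁻¹ᵁ V).ι).mapHomotopyCategory (ComplexShape.up ℤ) ⋙
        DCoh.pushKh (f ∣_ V) :=
  Functor.associator _ _ _ ≪≫
    Functor.isoWhiskerLeft _ (Scheme.Modules.restrictFunctor V.ι).mapDerivedCategoryFactorsh ≪≫
    (Functor.associator _ _ _).symm ≪≫
    Functor.isoWhiskerRight
      (Functor.mapHomotopyCategoryCompIso (θ f V) (ComplexShape.up ℤ) ≪≫
        (Functor.mapHomotopyCategoryCompIso (Iso.refl _) (ComplexShape.up ℤ)).symm)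
      DerivedCategory.Qh ≪≫
    Functor.associator _ _ _

/-- **`(Rf_* E)|_V ≅ R(f|_V)_* (E|_U)`**, naturally in `E`. -/
theorem nonempty_iso :
    Nonempty (DCoh.Rpush f ⋙ DCoh.restrictD V.ι ≅
      DCoh.restrictD (f ⁻¹ᵁ V).ι ⋙ DCoh.Rpush (f ∣_ V)) := by
  haveI := isRightDerivedFunctor_α1 f V
  haveI := isRightDerivedFunctor_α2 f V
  exact ⟨Functor.rightDerivedNatIso _ _
    (Functor.whiskerRight (unitR f) (DCoh.restrictD V.ι) ≫ (Functor.associator _ _ _).hom)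
    (α2 f V) (HomotopyCategory.quasiIso X.Modules (ComplexShape.up ℤ)) (Φiso f V)⟩

end

end Groth.Agent.Lib.Helper17.RpushRes
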