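import Mathlib
import Groth.Prelude.Def_CxOX
import Groth.Prelude.Def_DCoh4
import Groth.Prelude.Def_ModSite2
import Groth.Agent.Lib.Helper17.ShriekPF3
import Groth.Agent.Lib.Helper17.ShriekPF2
import Groth.Agent.Lib.Helper5.RDPost
import Groth.Agent.Lib.Helper5.RightDerivedComp
import Groth.Agent.Lib.Helper22.RightDerivedExact

/-!
# Restriction along an open immersion commutes with the internal Hom and with the Ext sheaves
(general open immersions, under the hypothesis that the projection formula counit is invertible;
this holds for isomorphisms)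
-/

set_option autoImplicit false

universe u

open CategoryTheory Limits AlgebraicGeometry

namespace Groth.Agent.Lib.Helper17.SheafHomRestrGen

open Groth.Agent.Lib.Helper17.ShriekPF Groth.Agent.Lib.Helper28.PerfTensor

noncomputable section

variable {X U : Scheme.{u}} (j : U ⟶ X) [IsOpenImmersion j] (F : X.Modules)

/-- `- ⊗ F` -/
abbrev TF : X.Modules ⥤ X.Modules := (ModSite.tensorBi X.sheaf).flip.obj F

/-- `- ⊗ j^*F` -/
abbrev TF' : U.Modules ⥤ U.Modules :=
  (ModSite.tensorBi U.sheaf).flip.obj ((Scheme.Modules.restrictFunctor j).obj F)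

instance isIso_unit_extZeroAdj : IsIso (CxOX.extZeroAdj j).unit := by
  let t : Adjunction.Triple (CxOX.extZero j) (Scheme.Modules.restrictFunctor j)
      (Scheme.Modules.pushforward j) :=
    { adj₁ := CxOX.extZeroAdj j
      adj₂ := Scheme.Modules.restrictAdjunction j }
  exact t.isIso_unit_iff_isIso_counit.2 inferInstance

/-- the hypothesis: the counit is invertible on `j_!N ⊗ F` -/
def CounitIso : Prop :=
  ∀ N : U.Modules, IsIso ((CxOX.extZeroAdj j).counit.app ((TF F).obj ((CxOX.extZero j).obj N)))

/-- the projection formula morphism `j_!(N ⊗ j^*F) ⟶ j_!N ⊗ F` -/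
def pfHom (N : U.Modules) :
    (CxOX.extZero j).obj ((TF' j F).obj N) ⟶ (TF F).obj ((CxOX.extZero j).obj N) :=
  ((CxOX.extZeroAdj j).homEquiv _ _).symm
    ((TF' j F).map ((CxOX.extZeroAdj j).unit.app N) ≫
      (restrictTensorIso' j ((CxOX.extZero j).obj N) F).inv)

variable {j F} in
lemma isIso_pfHom (hc : CounitIso j F) (N : U.Modules) : IsIso (pfHom j F N) := by
  unfold pfHom
  rw [Adjunction.homEquiv_counit]
  haveI : IsIso ((CxOX.extZeroAdj j).unit.app N) := inferInstance
  haveI : IsIso ((CxOX.extZeroAdj j).counit.app ((TF F).obj ((CxOX.extZero j).obj N))) := hc N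
  infer_instance

lemma pfHom_naturality {N N' : U.Modules} (g : N ⟶ N') :
    (CxOX.extZero j).map ((TF' j F).map g) ≫ pfHom j F N' =
      pfHom j F N ≫ (TF F).map ((CxOX.extZero j).map g) := by
  unfold pfHom
  rw [← Adjunction.homEquiv_naturality_left_symm, ← Adjunction.homEquiv_naturality_right_symm]
  congr 1
  have h1 := (CxOX.extZeroAdj j).unit.naturality g
  have h2 := restrictTensorIso'_nat₁ j ((CxOX.extZero j).map g) F
  rw [← Category.assoc, ← Functor.map_comp]
  have h1' : g ≫ (CxOX.extZeroAdj j).unit.app N' = (CxOX.extZeroAdj j).unit.app N ≫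
      (Scheme.Modules.restrictFunctor j).map ((CxOX.extZero j).map g) := h1
  rw [h1', Functor.map_comp, Category.assoc, Category.assoc]
  congr 1
  rw [Iso.comp_inv_eq, Category.assoc]
  rw [Iso.eq_inv_comp]
  exact h2.symm

variable {j F} in
/-- the projection formula, as an isomorphism of functors -/
def pf (hc : CounitIso j F) : TF' j F ⋙ CxOX.extZero j ≅ CxOX.extZero j ⋙ TF F :=
  haveI := isIso_pfHom hc
  NatIso.ofComponents (fun N => asIso (pfHom j F N)) (fun g => pfHom_naturality j F g)

variable [ModSite.HasSheafHom (O := X.sheaf) F]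
  [ModSite.HasSheafHom (O := U.sheaf) ((Scheme.Modules.restrictFunctor j).obj F)]

def adj1 : CxOX.extZero j ⋙ TF F ⊣
    ModSite.sheafHom (O := X.sheaf) F ⋙ Scheme.Modules.restrictFunctor j :=
  (CxOX.extZeroAdj j).comp (ModSite.sheafHomAdj (O := X.sheaf) F)

def adj2 : TF' j F ⋙ CxOX.extZero j ⊣ Scheme.Modules.restrictFunctor j ⋙
    ModSite.sheafHom (O := U.sheaf) ((Scheme.Modules.restrictFunctor j).obj F) :=
  (ModSite.sheafHomAdj (O := U.sheaf)
    ((Scheme.Modules.restrictFunctor j).obj F)).comp (CxOX.extZeroAdj j)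

variable {j F} in
/-- restriction commutes with the internal Hom -/
def sheafHomRestrIso (hc : CounitIso j F) :
    ModSite.sheafHom (O := X.sheaf) F ⋙ Scheme.Modules.restrictFunctor j ≅
      Scheme.Modules.restrictFunctor j ⋙
        ModSite.sheafHom (O := U.sheaf) ((Scheme.Modules.restrictFunctor j).obj F) :=
  conjugateIsoEquiv (adj1 j F) (adj2 j F) (pf hc)

variable {j F} in
/-- restriction commutes with the Ext sheaves -/
theorem extShRestrIso (hc : CounitIso j F) [(CxOX.extZero j).PreservesMonomorphisms]
    [HasInjectiveResolutions (ModSite.Mod X.sheaf)]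
    [HasInjectiveResolutions (ModSite.Mod U.sheaf)] (G : X.Modules) (i : ℕ) :
    Nonempty
    ((Scheme.Modules.restrictFunctor j).obj ((ModSite.extSh (O := X.sheaf) F i).obj G) ≅
      (ModSite.extSh (O := U.sheaf)
        ((Scheme.Modules.restrictFunctor j).obj F) i).obj
          ((Scheme.Modules.restrictFunctor j).obj G)) := by
  let R : X.Modules ⥤ U.Modules := Scheme.Modules.restrictFunctor j
  let T : X.Modules ⥤ X.Modules := ModSite.sheafHom (O := X.sheaf) F
  let T' : U.Modules ⥤ U.Modules := ModSite.sheafHom (O := U.sheaf) (R.obj F)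
  haveI : T.Additive := ModSite.sheafHom_additive (O := X.sheaf) F
  haveI : T'.Additive := ModSite.sheafHom_additive (O := U.sheaf) (R.obj F)
  haveI : R.Additive := (Scheme.Modules.restrictAdjunction j).left_adjoint_additive
  haveI : HasInjectiveResolutions X.Modules := ‹HasInjectiveResolutions (ModSite.Mod X.sheaf)›
  haveI : HasInjectiveResolutions U.Modules := ‹HasInjectiveResolutions (ModSite.Mod U.sheaf)›
  haveI : R.PreservesInjectiveObjects :=
    Functor.preservesInjectiveObjects_of_adjunction_of_preservesMonomorphisms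
      (CxOX.extZeroAdj j)
  let e : T ⋙ R ≅ R ⋙ T' := sheafHomRestrIso hc
  exact ⟨((Groth.Agent.Lib.Helper5.RDPost.rightDerivedPostIso T R i).symm.app G) ≪≫
    ((Groth.Agent.Lib.Helper22.DimShift.rightDerivedIsoOfNatIso e i).app G) ≪≫
    ((Groth.Agent.Lib.Helper5.RDComp.rightDerivedCompIso R T' i).app G)⟩

end

noncomputable section iso

variable {X U : Scheme.{u}} (e : U ⟶ X) [IsIso e]

/-- restriction along an isomorphism of schemes is an equivalence -/
def restrictEquiv : X.Modules ≌ U.Modules :=
  CategoryTheory.Equivalence.mk (Scheme.Modules.restrictFunctor e) (Scheme.Modules.restrictFunctor (inv e))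
    ((Scheme.Modules.restrictFunctorId (X := X)).symm ≪≫
      Scheme.Modules.restrictFunctorCongr (by simp : 𝟙 X = inv e ≫ e) ≪≫
      Scheme.Modules.restrictFunctorComp (inv e) e)
    ((Scheme.Modules.restrictFunctorComp e (inv e)).symm ≪≫
      Scheme.Modules.restrictFunctorCongr (by simp : e ≫ inv e = 𝟙 U) ≪≫
      Scheme.Modules.restrictFunctorId (X := U))

instance : (Scheme.Modules.restrictFunctor e).IsEquivalence :=
  (restrictEquiv e).isEquivalence_functor

/-- extension by zero along an isomorphism is restriction along the inverse -/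
def extZeroIsoRestrict : CxOX.extZero e ≅ Scheme.Modules.restrictFunctor (inv e) :=
  (CxOX.extZeroAdj e).leftAdjointUniq (restrictEquiv e).symm.toAdjunction

instance : (CxOX.extZero e).PreservesMonomorphisms :=
  Functor.PreservesMonomorphisms.of_iso (extZeroIsoRestrict e).symm

lemma counitIso_of_isIso (F : X.Modules) : CounitIso e F := by
  intro N
  haveI : IsIso (CxOX.extZeroAdj e).counit := inferInstance
  infer_instance

variable (F : X.Modules) [ModSite.HasSheafHom (O := X.sheaf) F]
  [ModSite.HasSheafHom (O := U.sheaf) ((Scheme.Modules.restrictFunctor e).obj F)]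

/-- restriction along an isomorphism commutes with the Ext sheaves -/
theorem extShRestrIso_of_isIso [HasInjectiveResolutions (ModSite.Mod X.sheaf)]
    [HasInjectiveResolutions (ModSite.Mod U.sheaf)] (G : X.Modules) (i : ℕ) :
    Nonempty
    ((Scheme.Modules.restrictFunctor e).obj ((ModSite.extSh (O := X.sheaf) F i).obj G) ≅
      (ModSite.extSh (O := U.sheaf)
        ((Scheme.Modules.restrictFunctor e).obj F) i).obj
          ((Scheme.Modules.restrictFunctor e).obj G)) :=
  extShRestrIso (counitIso_of_isIso e F) G i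

end iso

end Groth.Agent.Lib.Helper17.SheafHomRestrGen
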