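import Mathlib
import Groth.Prelude.Def_CxOX
import Groth.Agent.Lib.Helper28.StalkAdj1
import Groth.Agent.Lib.Helper29.CP1
import Groth.Agent.Lib.Helper29.QCohExact
import Groth.Agent.Lib.Helper17.ZClosLib

open CategoryTheory CategoryTheory.Limits TopologicalSpace Opposite AlgebraicGeometry

universe u

namespace Groth.Agent.Lib.Helper17.NoethObj

open Groth.Agent.Lib.Helper29.QCoh Groth.Agent.Lib.Helper28.StalkTensor

variable {U X : Scheme.{u}} (j : U ⟶ X) [IsOpenImmersion j]

instance isIso_unit_extZeroAdj : IsIso (CxOX.extZeroAdj j).unit := by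
  let t : Adjunction.Triple (CxOX.extZero j) (Scheme.Modules.restrictFunctor j)
      (Scheme.Modules.pushforward j) :=
    { adj₁ := CxOX.extZeroAdj j
      adj₂ := Scheme.Modules.restrictAdjunction j }
  exact t.isIso_unit_iff_isIso_counit.2 inferInstance

/-- restriction to `U` of a skyscraper at a point outside `U` vanishes -/
theorem isZero_restrict_sky (x : X) (hx : x ∉ Set.range j.base)
    (Q : ModuleCat.{u} (X.presheaf.stalk x)) :
    IsZero ((Scheme.Modules.restrictFunctor j).obj ((skyF x).obj Q)) := by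
  apply isZero_of_forall_subsingleton
  intro V
  change Subsingleton (PLift (x ∈ j ''ᵁ V) → Q)
  have : IsEmpty (PLift (x ∈ j ''ᵁ V)) := ⟨fun h => hx (by
    obtain ⟨y, _, hy⟩ := h.down
    exact ⟨y, hy⟩)⟩
  infer_instance

/-- stalks of `j_! G` vanish outside `U` -/
theorem subsingleton_stalk_extZero (G : U.Modules) (x : X) (hx : x ∉ Set.range j.base) :
    Subsingleton (((CxOX.extZero j).obj G).presheaf.stalk x) := by
  let adj := (CxOX.extZeroAdj j).comp (stalkSkyAdj x)
  let Q := (DerSch.stalkFunctor X x).obj ((CxOX.extZero j).obj G)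
  have hz : IsZero ((Scheme.Modules.restrictFunctor j).obj ((skyF x).obj Q)) :=
    isZero_restrict_sky j x hx Q
  have h1 : (adj.homEquiv G Q) (𝟙 Q) = (adj.homEquiv G Q) 0 := hz.eq_of_tgt _ _
  have h2 : (𝟙 Q : Q ⟶ Q) = 0 := (adj.homEquiv G Q).injective h1
  have h3 : IsZero Q := (IsZero.iff_id_eq_zero Q).2 h2
  exact ModuleCat.subsingleton_of_isZero h3

/-- a mono between subobjects of a module with vanishing stalks outside `U` which becomes an
isomorphism on `U` is an isomorphism -/
theorem isIso_of_isIso_restrict {K K' E : X.Modules} (f : K ⟶ K') [Mono f] (a' : K' ⟶ E) [Mono a']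
    (hE : ∀ x : X, x ∉ Set.range j.base → Subsingleton (E.presheaf.stalk x))
    (hf : IsIso ((Scheme.Modules.restrictFunctor j).map f)) : IsIso f := by
  have hepi : Epi f := by
    rw [epi_iff_stalkMap_surjective]
    intro x
    by_cases hx : x ∈ Set.range j.base
    · intro t
      obtain ⟨V, hxV, σ, rfl⟩ := K'.presheaf.exists_germ_eq t
      obtain ⟨u, rfl⟩ := hx
      let V' : U.Opens := j ⁻¹ᵁ V
      have hle : j ''ᵁ V' ≤ V := j.image_preimage_le V
      have hxV' : j.base u ∈ j ''ᵁ V' := ⟨u, hxV, rfl⟩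
      have hb : Function.Bijective (((Scheme.Modules.restrictFunctor j).map f).app V') :=
        (ZClosLib.isIso_iff_bijective_app _).1 hf V'
      obtain ⟨τ, hτ⟩ := hb.2 (res K' hle σ)
      refine ⟨K.presheaf.germ (j ''ᵁ V') (j.base u) hxV' τ, ?_⟩
      rw [stalkMap_germ]
      have : f.app (j ''ᵁ V') τ = res K' hle σ := hτ
      rw [this, germ_res]
    · have h1 : Function.Injective (stalkMap a' x) := (mono_iff_stalkMap_injective a').1 inferInstance x
      have h2 : Subsingleton (K'.presheaf.stalk x) :=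
        ⟨fun s t => h1 ((hE x hx).elim _ _)⟩
      intro t
      exact ⟨0, h2.elim _ _⟩
  exact isIso_of_mono_of_epi f

end Groth.Agent.Lib.Helper17.NoethObj
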