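import Mathlib
import Groth.Prelude.Def_CxOX
import Groth.Agent.Lib.Helper17.Noeth1
import Groth.Agent.Lib.Helper17.Baer2
import Groth.Agent.Lib.Helper29.QCohGen

open CategoryTheory CategoryTheory.Limits TopologicalSpace Opposite AlgebraicGeometry

universe u

namespace Groth.Agent.Lib.Helper17.BaerMod

open Groth.Agent.Lib.Helper29.QCoh Groth.Agent.Lib.Helper17.NoethObj

variable {U X : Scheme.{u}} (j : U ⟶ X) [IsOpenImmersion j]

/-- a morphism whose target has vanishing stalks outside `U` and which becomes an isomorphism on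
`U` is an epimorphism -/
theorem epi_of_isIso_restrict {K K' : X.Modules} (f : K ⟶ K')
    (hK' : ∀ x : X, x ∉ Set.range j.base → Subsingleton (K'.presheaf.stalk x))
    (hf : IsIso ((Scheme.Modules.restrictFunctor j).map f)) : Epi f := by
  rw [epi_iff_stalkMap_surjective]
  intro x
  by_cases hx : x ∈ Set.range j.base
  · intro t
    obtain ⟨V, hxV, σ, rfl⟩ := K'.presheaf.exists_germ_eq t
    obtain ⟨u, rfl⟩ := hx
    let V' : U.Opens := j ⁻¹ᵁ V
    have hle : j ''ᵁ V' ≤ V := j.image_preimage_le V
    have hxV' : j.base u ∈ j ''ᵁ V' := ⟨u, hxV, rfl⟩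
    have hb : Function.Bijective (((Scheme.Modules.restrictFunctor j).map f).app V') :=
      (ZClosLib.isIso_iff_bijective_app _).1 hf V'
    obtain ⟨τ, hτ⟩ := hb.2 (res K' hle σ)
    refine ⟨K.presheaf.germ (j ''ᵁ V') (j.base u) hxV' τ, ?_⟩
    rw [stalkMap_germ]
    have : f.app (j ''ᵁ V') τ = res K' hle σ := hτ
    rw [this, germ_res]
  · intro t
    exact ⟨0, (hK' x hx).elim _ _⟩

theorem isIso_restrict_counit (K : X.Modules) :
    IsIso ((Scheme.Modules.restrictFunctor j).map ((CxOX.extZeroAdj j).counit.app K)) := by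
  have h := (CxOX.extZeroAdj j).right_triangle_components K
  haveI : IsIso ((CxOX.extZeroAdj j).unit.app ((Scheme.Modules.restrictFunctor j).obj K)) :=
    inferInstance
  haveI : IsIso ((CxOX.extZeroAdj j).unit.app ((Scheme.Modules.restrictFunctor j).obj K) ≫
      (Scheme.Modules.restrictFunctor j).map ((CxOX.extZeroAdj j).counit.app K)) := by
    rw [h]; infer_instance
  exact IsIso.of_isIso_comp_left
    ((CxOX.extZeroAdj j).unit.app ((Scheme.Modules.restrictFunctor j).obj K)) _

/-- morphisms out of a module with vanishing stalks outside `U` are determined on `U` -/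
theorem eq_of_restrict_eq {K F : X.Modules} (f g : K ⟶ F)
    (hK : ∀ x : X, x ∉ Set.range j.base → Subsingleton (K.presheaf.stalk x))
    (h : (Scheme.Modules.restrictFunctor j).map f = (Scheme.Modules.restrictFunctor j).map g) :
    f = g := by
  haveI : Epi ((CxOX.extZeroAdj j).counit.app K) :=
    epi_of_isIso_restrict j _ hK (isIso_restrict_counit j K)
  rw [← cancel_epi ((CxOX.extZeroAdj j).counit.app K)]
  have h1 := (CxOX.extZeroAdj j).counit_naturality f
  have h2 := (CxOX.extZeroAdj j).counit_naturality g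
  rw [← h1, ← h2, h]

/-- subobjects of `j_! G` have vanishing stalks outside `U` -/
theorem subsingleton_stalk_of_mono (G : U.Modules) {K : X.Modules}
    (i : K ⟶ (CxOX.extZero j).obj G) [Mono i] (x : X) (hx : x ∉ Set.range j.base) :
    Subsingleton (K.presheaf.stalk x) := by
  have h1 : Function.Injective (stalkMap i x) := (mono_iff_stalkMap_injective i).1 inferInstance x
  have := subsingleton_stalk_extZero j G x hx
  exact ⟨fun s t => h1 (Subsingleton.elim _ _)⟩

/-- extension of morphisms from subobjects of `j_! G` to a locally (on `U`) injective module -/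
theorem exists_extension (F : X.Modules)
    (hF : Injective ((Scheme.Modules.restrictFunctor j).obj F)) (G : U.Modules)
    {K : X.Modules} (i : K ⟶ (CxOX.extZero j).obj G) [Mono i] (φ : K ⟶ F) :
    ∃ ψ : (CxOX.extZero j).obj G ⟶ F, i ≫ ψ = φ := by
  haveI : (Scheme.Modules.restrictFunctor j).PreservesMonomorphisms :=
    Functor.preservesMonomorphisms_of_adjunction (CxOX.extZeroAdj j)
  haveI : Mono ((Scheme.Modules.restrictFunctor j).map i) :=
    (Scheme.Modules.restrictFunctor j).map_mono i
  let ψ' : (Scheme.Modules.restrictFunctor j).obj ((CxOX.extZero j).obj G) ⟶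
      (Scheme.Modules.restrictFunctor j).obj F :=
    Injective.factorThru ((Scheme.Modules.restrictFunctor j).map φ)
      ((Scheme.Modules.restrictFunctor j).map i)
  have hψ' : (Scheme.Modules.restrictFunctor j).map i ≫ ψ' =
      (Scheme.Modules.restrictFunctor j).map φ := Injective.comp_factorThru _ _
  let η := (CxOX.extZeroAdj j).unit.app G
  let ψ : (CxOX.extZero j).obj G ⟶ F := ((CxOX.extZeroAdj j).homEquiv _ _).symm (η ≫ ψ')
  have h1 : η ≫ (Scheme.Modules.restrictFunctor j).map ψ = η ≫ ψ' := by
    have := ((CxOX.extZeroAdj j).homEquiv _ _).apply_symm_apply (η ≫ ψ')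
    rw [Adjunction.homEquiv_unit] at this
    exact this
  haveI : IsIso η := inferInstance
  have h2 : (Scheme.Modules.restrictFunctor j).map ψ = ψ' := (cancel_epi η).1 h1
  refine ⟨ψ, ?_⟩
  apply eq_of_restrict_eq j _ _ (subsingleton_stalk_of_mono j G i)
  rw [Functor.map_comp, h2, hψ']

end Groth.Agent.Lib.Helper17.BaerMod
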