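import Groth.Agent.Lib.Helper17.ShriekPF3
import Groth.Agent.Lib.Helper17.ShriekPF2
import Groth.Agent.Lib.Helper17.Baer3
import Groth.Agent.Lib.Helper17.ZClosLib
import Groth.Agent.Lib.Helper17.FreeOn

set_option autoImplicit false
universe u
open CategoryTheory CategoryTheory.Limits AlgebraicGeometry Opposite TopologicalSpace

namespace Groth.Agent.Lib.Helper17.HomFlasque

open Groth.Agent.Lib.Helper29.QCoh Groth.Agent.Lib.Helper17.NoethObj

lemma app_res {X : Scheme.{u}} {M N : X.Modules} (φ : M ⟶ N) {U V : X.Opens} (h : U ≤ V)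
    (s : Γ(M, V)) : φ.app U (res M h s) = res N h (φ.app V s) := by
  have n := φ.mapPresheaf.naturality (homOfLE h).op
  exact congrArg (fun ψ => ψ s) n

section crit

variable {U X : Scheme.{u}} (j : U ⟶ X) [IsOpenImmersion j]

/-- a morphism whose source has vanishing stalks outside `U` and which is a monomorphism on `U`
is a monomorphism -/
theorem mono_of_mono_restrict {K K' : X.Modules} (f : K ⟶ K')
    (hK : ∀ x : X, x ∉ Set.range j.base → Subsingleton (K.presheaf.stalk x))
    (hf : Mono ((Scheme.Modules.restrictFunctor j).map f)) : Mono f := by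
  rw [mono_iff_stalkMap_injective]
  intro x
  by_cases hx : x ∈ Set.range j.base
  · rw [injective_iff_map_eq_zero]
    intro a ha
    obtain ⟨V, hxV, σ, rfl⟩ := K.presheaf.exists_germ_eq a
    rw [stalkMap_germ] at ha
    obtain ⟨W, hWV, hxW, hW0⟩ := exists_res_eq_zero_of_germ_eq_zero K' x hxV _ ha
    obtain ⟨u, rfl⟩ := hx
    let W' : U.Opens := j ⁻¹ᵁ W
    have hle : j ''ᵁ W' ≤ W := j.image_preimage_le W
    have hxW' : j.base u ∈ j ''ᵁ W' := ⟨u, hxW, rfl⟩
    have hinj := (ZClosLib.mono_iff_injective_app _).1 hf W'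
    have h1 : f.app (j ''ᵁ W') (res K (hle.trans hWV) σ) = 0 := by
      rw [app_res, ← res_res K' hWV hle, hW0, map_zero]
    have h2 : res K (hle.trans hWV) σ = 0 :=
      hinj (h1.trans (map_zero (((Scheme.Modules.restrictFunctor j).map f).app W').hom).symm)
    rw [← germ_res K (hle.trans hWV) (j.base u) hxW' σ, h2, map_zero]
  · intro a b _
    exact (hK x hx).elim _ _

end crit

section main

open Groth.Agent.Lib.Helper17.ShriekPF Groth.Agent.Lib.Helper17.FreeOn

variable {X : Scheme.{u}} (F : X.Modules)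

/-- `F ⊗ -` -/
noncomputable abbrev T : X.Modules ⥤ X.Modules := (DCoh.tensorBi (X := X)).obj F

/-- `j_! O_W` -/
noncomputable abbrev A (W : X.Opens) : X.Modules := ModSite.freeOn X.sheaf W

lemma subsingleton_stalk_of_iso {M N : X.Modules} (e : M ≅ N) (x : X)
    (h : Subsingleton (N.presheaf.stalk x)) : Subsingleton (M.presheaf.stalk x) := by
  have hinj : Function.Injective (stalkMap e.hom x) :=
    (mono_iff_stalkMap_injective e.hom).1 inferInstance x
  exact ⟨fun a b => hinj (Subsingleton.elim _ _)⟩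

lemma exists_iso_T_A (W : X.Opens) :
    ∃ N' : (W : Scheme.{u}).Modules, Nonempty ((T F).obj (A W) ≅ (CxOX.extZero W.ι).obj N') := by
  let N₀ : (W : Scheme.{u}).Modules :=
    (Scheme.Modules.overEquiv W).functor.obj (SheafOfModules.unit _)
  let e0 : A W ≅ (CxOX.extZero W.ι).obj N₀ := extSiteIso W (SheafOfModules.unit _)
  obtain ⟨N', ⟨i⟩⟩ := exists_iso_tensor_extZero W N₀ F
  let b : (T F).obj ((CxOX.extZero W.ι).obj N₀) ≅
      ((DCoh.tensorBi (X := X)).obj ((CxOX.extZero W.ι).obj N₀)).obj F :=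
    Tensor.braidIso (O := X.sheaf) F ((CxOX.extZero W.ι).obj N₀)
  exact ⟨N', ⟨(T F).mapIso e0 ≪≫ b ≪≫ i⟩⟩

lemma subsingleton_stalk_T_A (W : X.Opens) (x : X) (hx : x ∉ W) :
    Subsingleton (((T F).obj (A W)).presheaf.stalk x) := by
  obtain ⟨N', ⟨i⟩⟩ := exists_iso_T_A F W
  refine subsingleton_stalk_of_iso i x (subsingleton_stalk_extZero W.ι N' x ?_)
  rintro ⟨y, rfl⟩
  exact hx y.2

/-- the canonical section of `j_! O_V` over `V` -/
noncomputable def cV (V : X.Opens) : (A V).val.obj (op V) := freeOnHomEquiv (A V) V (𝟙 _)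

/-- the canonical map `j_! O_U ⟶ j_! O_V` for `U ≤ V` -/
noncomputable def ρ {U V : X.Opens} (h : U ≤ V) : A U ⟶ A V :=
  (freeOnHomEquiv (A V) U).symm ((A V).val.map (homOfLE h).op (cV V))

lemma ev_ρ_comp {U V : X.Opens} (h : U ≤ V) (M : X.Modules) (σ : A V ⟶ M) :
    freeOnHomEquiv M U (ρ h ≫ σ) = M.val.map (homOfLE h).op (freeOnHomEquiv M V σ) := by
  rw [freeOnHomEquiv_comp]
  unfold ρ
  rw [Equiv.apply_symm_apply]
  have h1 : freeOnHomEquiv M V σ = (σ.val.app (op V)).hom (cV V) := by
    have := freeOnHomEquiv_comp V (𝟙 (A V)) σ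
    exact (congrArg (freeOnHomEquiv M V) (Category.id_comp σ).symm).trans this
  rw [h1]
  exact PresheafOfModules.naturality_apply σ.val (homOfLE h).op (cV V)

lemma bijective_map_of_inverse {D : Type u} [SmallCategory D] {R : Dᵒᵖ ⥤ RingCat.{u}}
    (N : PresheafOfModules.{u} R) {a b : Dᵒᵖ} (f : a ⟶ b) (g : b ⟶ a) (h1 : f ≫ g = 𝟙 a)
    (h2 : g ≫ f = 𝟙 b) : Function.Bijective (N.map f) := by
  constructor
  · intro x y hxy
    have := congrArg (N.map g) hxy
    rw [← PresheafOfModules.map_comp_apply, ← PresheafOfModules.map_comp_apply] at this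
    rw [PresheafOfModules.congr_map_apply N h1, PresheafOfModules.congr_map_apply N h1] at this
    rw [N.map_id] at this
    exact this
  · intro y
    refine ⟨N.map g y, ?_⟩
    rw [← PresheafOfModules.map_comp_apply, PresheafOfModules.congr_map_apply N h2, N.map_id]
    rfl

theorem isIso_restrict_ρ {U V : X.Opens} (h : U ≤ V) :
    IsIso ((Scheme.Modules.restrictFunctor U.ι).map (ρ h)) := by
  apply isIso_of_coyoneda_map_bijective
  intro N
  let adj := Scheme.Modules.restrictAdjunction U.ι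
  let P : X.Modules := (Scheme.Modules.pushforward U.ι).obj N
  have hcomp : ∀ x : (Scheme.Modules.restrictFunctor U.ι).obj (A V) ⟶ N,
      adj.homEquiv (A U) N ((Scheme.Modules.restrictFunctor U.ι).map (ρ h) ≫ x) =
        ρ h ≫ adj.homEquiv (A V) N x := fun x => adj.homEquiv_naturality_left (ρ h) x
  have hb : Function.Bijective (fun σ : A V ⟶ P => ρ h ≫ σ) := by
    have hres : Function.Bijective (P.val.map (homOfLE h).op) := by
      have hle : U.ι ⁻¹ᵁ V ≤ U.ι ⁻¹ᵁ U := fun y _ => y.2
      exact bijective_map_of_inverse N.val ((Opens.map U.ι.base).op.map (homOfLE h).op)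
        (homOfLE hle).op (Subsingleton.elim _ _) (Subsingleton.elim _ _)
    have : (fun σ : A V ⟶ P => ρ h ≫ σ) =
        (freeOnHomEquiv P U).symm ∘ (P.val.map (homOfLE h).op) ∘ (freeOnHomEquiv P V) := by
      funext σ
      apply (freeOnHomEquiv P U).injective
      simp only [Function.comp_apply, Equiv.apply_symm_apply]
      exact ev_ρ_comp h P σ
    rw [this]
    exact (freeOnHomEquiv P U).symm.bijective.comp (hres.comp (freeOnHomEquiv P V).bijective)
  have : (fun x : (Scheme.Modules.restrictFunctor U.ι).obj (A V) ⟶ N =>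
      (Scheme.Modules.restrictFunctor U.ι).map (ρ h) ≫ x) =
      (adj.homEquiv (A U) N).symm ∘ (fun σ : A V ⟶ P => ρ h ≫ σ) ∘ (adj.homEquiv (A V) N) := by
    funext x
    apply (adj.homEquiv (A U) N).injective
    simp only [Function.comp_apply, Equiv.apply_symm_apply]
    exact hcomp x
  rw [this]
  exact (adj.homEquiv (A U) N).symm.bijective.comp (hb.comp (adj.homEquiv (A V) N).bijective)

open Groth.Agent.Lib.Helper28.PerfTensor in
theorem mono_T_ρ {U V : X.Opens} (h : U ≤ V) : Mono ((T F).map (ρ h)) := by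
  apply mono_of_mono_restrict U.ι
  · intro x hx
    apply subsingleton_stalk_T_A F U x
    intro hxU
    exact hx ⟨⟨x, hxU⟩, rfl⟩
  · haveI := isIso_restrict_ρ h
    have hn := restrictTensorIso'_nat₂ U.ι F (ρ h)
    have hiso : IsIso ((Scheme.Modules.restrictFunctor U.ι).map ((T F).map (ρ h)) ≫
        (restrictTensorIso' U.ι F (A V)).hom) := by
      rw [hn]; infer_instance
    haveI : IsIso ((Scheme.Modules.restrictFunctor U.ι).map ((T F).map (ρ h))) :=
      IsIso.of_isIso_comp_right _ (restrictTensorIso' U.ι F (A V)).hom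
    infer_instance

theorem main (I : X.Modules) [DCoh.HasSheafHom F] (hI : Injective I) (U V : X.Opens)
    (hUV : U ≤ V) :
    Function.Surjective (((DCoh.sheafHom F).obj I).val.map (homOfLE hUV).op).hom := by
  intro t
  let H : X.Modules := (DCoh.sheafHom F).obj I
  let adj := DCoh.sheafHomAdj F
  let τ : A U ⟶ H := (freeOnHomEquiv H U).symm t
  let τ' : (T F).obj (A U) ⟶ I := (adj.homEquiv _ _).symm τ
  haveI := mono_T_ρ F hUV
  let σ' : (T F).obj (A V) ⟶ I := Injective.factorThru τ' ((T F).map (ρ hUV))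
  have hσ' : (T F).map (ρ hUV) ≫ σ' = τ' := Injective.comp_factorThru _ _
  let σ : A V ⟶ H := adj.homEquiv _ _ σ'
  have hσ : ρ hUV ≫ σ = τ := by
    have h1 := adj.homEquiv_naturality_left (ρ hUV) σ'
    have h2 : adj.homEquiv _ _ ((T F).map (ρ hUV) ≫ σ') = τ := by
      rw [hσ']; exact Equiv.apply_symm_apply _ _
    exact h1.symm.trans h2
  refine ⟨freeOnHomEquiv H V σ, ?_⟩
  have h3 := ev_ρ_comp hUV H σ
  have h4 : freeOnHomEquiv H U (ρ hUV ≫ σ) = t :=
    (congrArg (freeOnHomEquiv H U) hσ).trans (Equiv.apply_symm_apply _ t)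
  exact h3.symm.trans h4

end main

end Groth.Agent.Lib.Helper17.HomFlasque
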