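import Mathlib
import Groth.Agent.Lib.Helper29.QCohGen
import Groth.Agent.Lib.Helper29.QCohFinite
import Groth.Agent.Lib.Helper12.Dev2
import Groth.Agent.Lib.Helper28.DCohRes15
import Groth.Agent.Lib.Helper29.QCohLocFree

/-!
# Coherent modules on an affine Noetherian scheme are quotients of finite free modules
-/

set_option autoImplicit false

universe u

open CategoryTheory Limits Opposite AlgebraicGeometry

namespace Groth.Agent.Lib.Helper17.AffPres

open Groth.Agent.Lib.Helper29.QCoh

variable {X : Scheme.{u}}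

/-- on an affine scheme, a quasi-coherent module of finite type is a quotient of a finite free
module -/
theorem exists_epi_free [IsAffine X] (F : X.Modules) [F.IsQuasicoherent] [F.IsFiniteType] :
    ∃ (n : ℕ) (φ : freeM X (ULift.{u} (Fin n)) ⟶ F), Epi φ := by
  have hU : IsAffineOpen (⊤ : X.Opens) := isAffineOpen_top X
  haveI : Module.Finite Γ(X, ⊤) Γ(F, ⊤) := module_finite_of_isFiniteType F hU
  obtain ⟨n, s, hs⟩ := Module.Finite.exists_fin (R := Γ(X, ⊤)) (M := Γ(F, ⊤))
  let s' : ULift.{u} (Fin n) → Γ(F, ⊤) := fun i => s i.down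
  have hs' : Submodule.span Γ(X, ⊤) (Set.range s') = ⊤ := by
    have : Set.range s' = Set.range s := by
      ext v
      constructor
      · rintro ⟨i, rfl⟩
        exact ⟨i.down, rfl⟩
      · rintro ⟨i, rfl⟩
        exact ⟨⟨i⟩, rfl⟩
    rw [this, hs]
  refine ⟨n, homOfSections F s', ?_⟩
  apply epi_homOfSections_of_span
  intro x
  exact span_germ_eq_top_of_span_eq_top F hU s' hs' x trivial

theorem isCoh_freeM (n : ℕ) : Coh.IsCoh (freeM X (ULift.{u} (Fin n))) := by
  have h := Groth.Agent.Lib.Helper28.DCohRes.isFinLocFree_freeM (X := X) (ULift.{u} (Fin n))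
  haveI := isFinitePresentation_of_isFinLocFree h
  exact ⟨inferInstance, inferInstance⟩

/-- on an affine locally Noetherian scheme, a coherent module sits in a short exact sequence
`0 ⟶ K ⟶ O^n ⟶ F ⟶ 0` with `K` coherent -/
theorem exists_ses [IsAffine X] [IsLocallyNoetherian X] (F : X.Modules) (hF : Coh.IsCoh F) :
    ∃ (n : ℕ) (K : X.Modules) (i : K ⟶ freeM X (ULift.{u} (Fin n)))
      (p : freeM X (ULift.{u} (Fin n)) ⟶ F) (w : i ≫ p = 0),
      (ShortComplex.mk i p w).ShortExact ∧ Coh.IsCoh K := by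
  haveI := hF.1
  haveI := hF.2
  obtain ⟨n, φ, hφ⟩ := exists_epi_free F
  refine ⟨n, kernel φ, kernel.ι φ, φ, kernel.condition φ, ?_, ?_⟩
  · exact { exact := ShortComplex.exact_kernel φ
            mono_f := inferInstanceAs (Mono (kernel.ι φ))
            epi_g := hφ }
  · exact Groth.Agent.Lib.Helper12.H12Dev.isCoh_kernel φ (isCoh_freeM n) hF

end Groth.Agent.Lib.Helper17.AffPres
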