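import Mathlib
import Groth.Agent.Lib.Helper17.HomFreeSch
import Groth.Agent.Lib.Helper17.AffPres
import Groth.Agent.Lib.Helper5.ResExt
import Groth.Agent.Lib.Helper5.LocBasisScheme
import Groth.Agent.Lib.Helper5.DualBasis

/-!
# Coherence of the Ext sheaves on an affine Noetherian scheme
-/

set_option autoImplicit false

universe u

open CategoryTheory Limits Opposite AlgebraicGeometry

namespace Groth.Agent.Lib.Helper17.ExtCoh

open Groth.Agent.Lib.Helper17.IHom Groth.Agent.Lib.Helper17.HomFree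
  Groth.Agent.Lib.Helper17.HomFreeSch Groth.Agent.Lib.Helper17.AffPres
  Groth.Agent.Lib.Helper29.QCoh Groth.Agent.Lib.Helper5.SheafHomSeq
  Groth.Agent.Lib.Helper5.ResExt Groth.Agent.Lib.Helper12.H12Dev

variable {Y : Scheme.{u}} [IsAffine Y] [IsLocallyNoetherian Y] (G : Y.Modules)

attribute [local instance] hasSheafHom

/-- `ℋom(F, G)` is coherent for coherent `F`, `G` on an affine Noetherian scheme -/
theorem isCoh_hom (hG : Coh.IsCoh G) (F : Y.Modules) (hF : Coh.IsCoh F) :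
    Coh.IsCoh ((SH F).obj G) := by
  obtain ⟨n, K, i, p, w, hS, hK⟩ := exists_ses F hF
  obtain ⟨m, K', i', p', w', hS', -⟩ := exists_ses K hK
  let a : (SH F).obj G ⟶ (SH (freeM Y (ULift.{u} (Fin n)))).obj G :=
    (ExtSupp.sheafHomMap (O := Y.sheaf) p).app G
  let b : (SH (freeM Y (ULift.{u} (Fin n)))).obj G ⟶ (SH K).obj G :=
    (ExtSupp.sheafHomMap (O := Y.sheaf) i).app G
  let c : (SH K).obj G ⟶ (SH (freeM Y (ULift.{u} (Fin m)))).obj G :=
    (ExtSupp.sheafHomMap (O := Y.sheaf) p').app G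
  haveI : Mono a := mono_sheafHomMap_g (O := Y.sheaf) hS G
  haveI : Mono c := mono_sheafHomMap_g (O := Y.sheaf) hS' G
  have hab : a ≫ b = 0 := sheafHomMap_zero (O := Y.sheaf) (ShortComplex.mk i p w) G
  have hex : (ShortComplex.mk a b hab).Exact := seq_exact (O := Y.sheaf) hS G
  have habc : a ≫ (b ≫ c) = 0 := by rw [← Category.assoc, hab, zero_comp]
  have hex' : (ShortComplex.mk a (b ≫ c) habc).Exact := by
    let φ : ShortComplex.mk a b hab ⟶ ShortComplex.mk a (b ≫ c) habc :=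
      { τ₁ := 𝟙 _
        τ₂ := 𝟙 _
        τ₃ := c
        comm₁₂ := by simp
        comm₂₃ := by simp }
    haveI : Epi φ.τ₁ := inferInstanceAs (Epi (𝟙 _))
    haveI : IsIso φ.τ₂ := inferInstanceAs (IsIso (𝟙 _))
    haveI : Mono φ.τ₃ := inferInstanceAs (Mono c)
    exact (ShortComplex.exact_iff_of_epi_of_isIso_of_mono φ).1 hex
  haveI : Mono (ShortComplex.mk a (b ≫ c) habc).f := inferInstanceAs (Mono a)
  let e : (SH F).obj G ≅ kernel (b ≫ c) :=
    IsLimit.conePointUniqueUpToIso hex'.fIsKernel (limit.isLimit _)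
  exact isCoh_of_iso e.symm
    (isCoh_kernel (b ≫ c) (isCoh_homFree _ G hG) (isCoh_homFree _ G hG))

variable [HasInjectiveResolutions (ModSite.Mod Y.sheaf)]

/-- `ℰxt^i(F, G)` -/
noncomputable abbrev E (F : Y.Modules) (i : ℕ) : ModSite.Mod Y.sheaf :=
  EP (O := Y.sheaf) (𝟭 (ModSite.Mod Y.sheaf)) G F i

omit [IsAffine Y] [IsLocallyNoetherian Y] [HasInjectiveResolutions (ModSite.Mod Y.sheaf)] in
lemma hP : ∀ (S' : ShortComplex (ModSite.Mod Y.sheaf)), S'.ShortExact →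
    CohCx.IsTotallyAcyclic (ModSite.toAb S'.X₁) → Epi ((𝟭 (ModSite.Mod Y.sheaf)).map S'.g) :=
  fun _ hS' _ => hS'.epi_g

omit [IsAffine Y] [IsLocallyNoetherian Y] in
lemma hmid (n : ℕ) (p : ℕ) (hp : 1 ≤ p) :
    IsZero (E G (freeM Y (ULift.{u} (Fin n))) p) := by
  obtain ⟨k, rfl⟩ : ∃ k, p = k + 1 := ⟨p - 1, by omega⟩
  exact Groth.Agent.Lib.Helper5.DualBasis.isZero_extSh_succ (O := Y.sheaf)
    (freeM Y (ULift.{u} (Fin n)))
    (Groth.Agent.Lib.Helper5.LocBasisScheme.hasLocBases_of_isFinLocFree _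
      (Groth.Agent.Lib.Helper28.DCohRes.isFinLocFree_freeM (X := Y) (ULift.{u} (Fin n)))) k G

theorem isCoh_ext_zero (hG : Coh.IsCoh G) (F : Y.Modules) (hF : Coh.IsCoh F) :
    Coh.IsCoh (E G F 0) :=
  isCoh_of_iso (tz (O := Y.sheaf) (𝟭 (ModSite.Mod Y.sheaf)) G F) (isCoh_hom G hG F hF)

theorem isCoh_ext_one (hG : Coh.IsCoh G) (F : Y.Modules) (hF : Coh.IsCoh F) :
    Coh.IsCoh (E G F 1) := by
  obtain ⟨n, K, i, p, w, hS, hK⟩ := exists_ses F hF
  obtain ⟨q, hqe, hq, hq'⟩ := exists_q (O := Y.sheaf) (𝟭 (ModSite.Mod Y.sheaf)) G hP hS (hmid G n)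
  let f : (SH (freeM Y (ULift.{u} (Fin n)))).obj G ⟶ (SH K).obj G :=
    (ExtSupp.sheafHomMap (O := Y.sheaf) i).app G
  let q' : (SH K).obj G ⟶ E G F 1 := q
  have hq2 : f ≫ q' = 0 := hq
  have hex : (ShortComplex.mk f q' hq2).Exact := hq'
  haveI : Epi (ShortComplex.mk f q' hq2).g := hqe
  let e : cokernel f ≅ E G F 1 :=
    IsColimit.coconePointUniqueUpToIso (colimit.isColimit _) hex.gIsCokernel
  exact isCoh_of_iso e (isCoh_cokernel f (isCoh_homFree _ G hG) (isCoh_hom G hG K hK))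

theorem isCoh_ext_succ (hG : Coh.IsCoh G) :
    ∀ (p : ℕ) (F : Y.Modules), Coh.IsCoh F → Coh.IsCoh (E G F (p + 1))
  | 0 => fun F hF => isCoh_ext_one G hG F hF
  | p + 1 => fun F hF => by
    obtain ⟨n, K, i, pp, w, hS, hK⟩ := exists_ses F hF
    obtain ⟨e⟩ := shift_iso (O := Y.sheaf) (𝟭 (ModSite.Mod Y.sheaf)) G hP hS (hmid G n) p
    exact isCoh_of_iso e (isCoh_ext_succ hG p K hK)

/-- **coherence of the Ext sheaves on an affine Noetherian scheme** -/
theorem isCoh_extSh (hG : Coh.IsCoh G) (F : Y.Modules) (hF : Coh.IsCoh F) (i : ℕ) :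
    Coh.IsCoh ((ModSite.extSh (O := Y.sheaf) F i).obj G) := by
  cases i with
  | zero => exact isCoh_ext_zero G hG F hF
  | succ p => exact isCoh_ext_succ G hG p F hF

end Groth.Agent.Lib.Helper17.ExtCoh
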