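import Mathlib
import Groth.Agent.Lib.Helper17.ExtCoh

/-!
# Global sections of the internal Hom, quasi-coherence of `ℋom(coherent, quasi-coherent)`,
lifting maps out of the structure sheaf on affine schemes
-/

set_option autoImplicit false

universe u

open CategoryTheory Limits Opposite AlgebraicGeometry

namespace Groth.Agent.Lib.Helper17.HomGlobal

open Groth.Agent.Lib.Helper17.IHom Groth.Agent.Lib.Helper17.HomFree
  Groth.Agent.Lib.Helper17.HomFreeSch Groth.Agent.Lib.Helper17.AffPres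
  Groth.Agent.Lib.Helper17.ProjFormula
  Groth.Agent.Lib.Helper29.QCoh Groth.Agent.Lib.Helper5.SheafHomSeq

attribute [local instance] hasSheafHom

section site

variable {C : Type u} [SmallCategory C] {J : GrothendieckTopology C} {O : Sheaf J CommRingCat.{u}}

/-- morphisms `P ⟶ N` are the "global sections" of `ℋom(P, N)` -/
noncomputable def homEquivUnit (P N : ModSite.Mod O) :
    (P ⟶ N) ≃ (ModSite.unit O ⟶ (ModSite.sheafHom P).obj N) :=
  (Iso.homCongr ((leftUnitNatIso (O := O)).app P).symm (Iso.refl N)).trans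
    ((ModSite.sheafHomAdj P).homEquiv (ModSite.unit O) N)

lemma homEquivUnit_apply (P N : ModSite.Mod O) (φ : P ⟶ N) :
    homEquivUnit P N φ = (ModSite.sheafHomAdj P).homEquiv (ModSite.unit O) N
      (((leftUnitNatIso (O := O)).app P).hom ≫ φ) := by
  simp [homEquivUnit, Iso.homCongr]

lemma homEquivUnit_naturality {P P' : ModSite.Mod O} (g : P' ⟶ P) (N : ModSite.Mod O)
    (φ : P ⟶ N) :
    homEquivUnit P N φ ≫ (ExtSupp.sheafHomMap g).app N = homEquivUnit P' N (g ≫ φ) := by
  rw [homEquivUnit_apply, homEquivUnit_apply, homEquiv_comp_sheafHomMap]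
  congr 1
  have h := (leftUnitNatIso (O := O)).hom.naturality g
  rw [← Category.assoc]
  erw [h]
  rw [Category.assoc]
  rfl

end site

section scheme

variable {X : Scheme.{u}}

theorem unit_hom_ext {N : X.Modules} (φ ψ : unitM X ⟶ N)
    (h : φ.app ⊤ (toUnit 1) = ψ.app ⊤ (toUnit 1)) : φ = ψ := by
  apply N.unitHomEquiv.injective
  apply PresheafOfModules.sections_ext
  intro U
  have h1 : ∀ χ : unitM X ⟶ N, (N.unitHomEquiv χ).val U =
      N.val.map (homOfLE (le_top : U.unop ≤ ⊤)).op ((N.unitHomEquiv χ).val (op ⊤)) :=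
    fun χ => ((N.unitHomEquiv χ).2 (homOfLE (le_top : U.unop ≤ ⊤)).op).symm
  rw [h1 φ, h1 ψ]
  congr 1

theorem exists_lift_unit [IsAffine X] {Q' Q : X.Modules} [Q'.IsQuasicoherent]
    [Q.IsQuasicoherent] (π : Q' ⟶ Q) [Epi π] (s : unitM X ⟶ Q) :
    ∃ s' : unitM X ⟶ Q', s' ≫ π = s := by
  obtain ⟨t, ht⟩ := app_surjective_of_epi π (isAffineOpen_top X) (s.app ⊤ (toUnit 1))
  refine ⟨homOfSection Q' t, ?_⟩
  apply unit_hom_ext
  rw [Scheme.Modules.Hom.comp_app]
  change π.app ⊤ ((homOfSection Q' t).app ⊤ (toUnit 1)) = _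
  rw [homOfSection_app_one, ht]

end scheme

section affine

variable {Y : Scheme.{u}} [IsAffine Y] [IsLocallyNoetherian Y] (G : Y.Modules)

/-- `ℋom(F, G)` is quasi-coherent for `F` coherent and `G` quasi-coherent on an affine Noetherian
scheme -/
theorem isQuasicoherent_hom [G.IsQuasicoherent] (F : Y.Modules) (hF : Coh.IsCoh F) :
    ((SH F).obj G).IsQuasicoherent := by
  obtain ⟨n, K, i, p, w, hS, hK⟩ := exists_ses F hF
  obtain ⟨m, K', i', p', w', hS', -⟩ := exists_ses K hK
  let a : (SH F).obj G ⟶ (SH (freeM Y (ULift.{u} (Fin n)))).obj G :=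
    (ExtSupp.sheafHomMap (O := Y.sheaf) p).app G
  let b : (SH (freeM Y (ULift.{u} (Fin n)))).obj G ⟶ (SH K).obj G :=
    (ExtSupp.sheafHomMap (O := Y.sheaf) i).app G
  let c : (SH K).obj G ⟶ (SH (freeM Y (ULift.{u} (Fin m)))).obj G :=
    (ExtSupp.sheafHomMap (O := Y.sheaf) p').app G
  haveI : Mono a := mono_sheafHomMap_g (O := Y.sheaf) hS G
  haveI : Mono c := mono_sheafHomMap_g (O := Y.sheaf) hS' G
  have hab : a ≫ b = 0 := sheafHomMap_zero (O := Y.sheaf) (ShortComplex.mk i p w) G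
  have hex : (ShortComplex.mk a b hab).Exact := seq_exact (O := Y.sheaf) hS G
  have habc : a ≫ (b ≫ c) = 0 := by rw [← Category.assoc, hab, zero_comp]
  have hex' : (ShortComplex.mk a (b ≫ c) habc).Exact := by
    let φ : ShortComplex.mk a b hab ⟶ ShortComplex.mk a (b ≫ c) habc :=
      { τ₁ := 𝟙 _
        τ₂ := 𝟙 _
        τ₃ := c
        comm₁₂ := by simp
        comm₂₃ := by simp }
    haveI : Epi φ.τ₁ := inferInstanceAs (Epi (𝟙 _))
    haveI : IsIso φ.τ₂ := inferInstanceAs (IsIso (𝟙 _))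
    haveI : Mono φ.τ₃ := inferInstanceAs (Mono c)
    exact (ShortComplex.exact_iff_of_epi_of_isIso_of_mono φ).1 hex
  haveI : Mono (ShortComplex.mk a (b ≫ c) habc).f := inferInstanceAs (Mono a)
  let e : (SH F).obj G ≅ kernel (b ≫ c) :=
    IsLimit.conePointUniqueUpToIso hex'.fIsKernel (limit.isLimit _)
  haveI := isQuasicoherent_homFree (ULift.{u} (Fin n)) G
  haveI := isQuasicoherent_homFree (ULift.{u} (Fin m)) G
  haveI : (kernel (b ≫ c)).IsQuasicoherent := inferInstance
  exact isQuasicoherent_of_iso e.symm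

end affine

end Groth.Agent.Lib.Helper17.HomGlobal
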