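import Mathlib.RingTheory.GradedAlgebra.FiniteType
import Mathlib.RingTheory.GradedAlgebra.Noetherian
import Mathlib.RingTheory.GradedAlgebra.Homogeneous.Ideal
import Mathlib.RingTheory.Finiteness.Defs
import Mathlib.LinearAlgebra.Finsupp.LinearCombination

/-! A Noetherian `ℕ`-graded commutative ring is of finite type over its degree-zero part. -/

namespace Groth.Agent.Lib.Helper17

open DirectSum

variable {A σ : Type*} [CommRing A] [SetLike σ A] [AddSubgroupClass σ A]
variable (𝒜 : ℕ → σ) [GradedRing 𝒜]

theorem finiteType_of_isNoetherianRing_graded [IsNoetherianRing A] :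
    Algebra.FiniteType (𝒜 0) A := by
  classical
  -- finitely many homogeneous generators of positive degree for the irrelevant ideal
  have hfg : (Ideal.span (⋃ i > 0, (𝒜 i : Set A))).FG :=
    IsNoetherian.noetherian _
  obtain ⟨T, hTsub, hTspan⟩ := (Submodule.fg_span_iff_fg_span_finset_subset _).mp hfg
  have hirr : (HomogeneousIdeal.irrelevant 𝒜).toIdeal = Ideal.span (T : Set A) := by
    rw [HomogeneousIdeal.irrelevant_eq_span]; exact hTspan
  have hTdeg : ∀ t ∈ T, ∃ i > 0, t ∈ 𝒜 i := by
    intro t ht
    have := hTsub ht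
    simpa using this
  choose! deg hdegpos hdegmem using hTdeg
  refine ⟨⟨T, ?_⟩⟩
  set S := Algebra.adjoin (𝒜 0) (T : Set A) with hS
  -- every homogeneous element lies in the adjoin
  have key : ∀ n : ℕ, ∀ x ∈ 𝒜 n, x ∈ S := by
    intro n
    induction n using Nat.strong_induction_on with
    | _ n ih =>
      intro x hx
      rcases Nat.eq_zero_or_pos n with rfl | hn
      · exact Subalgebra.algebraMap_mem S (⟨x, hx⟩ : 𝒜 0)
      · have hxI : x ∈ Ideal.span (T : Set A) := by
          rw [← hirr]
          exact HomogeneousIdeal.mem_irrelevant_of_mem 𝒜 hn hx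
        obtain ⟨f, -, hf⟩ := Submodule.mem_span_finset.mp hxI
        have hx' : x = ((decompose 𝒜 x n : 𝒜 n) : A) := by
          rw [decompose_of_mem_same 𝒜 hx]
        rw [hx', ← hf, decompose_sum, DFinsupp.finsetSum_apply, AddSubmonoidClass.coe_finsetSum]
        refine Subalgebra.sum_mem S fun t ht => ?_
        rw [smul_eq_mul, coe_decompose_mul_of_right_mem 𝒜 n (hdegmem t ht)]
        split_ifs with hle
        · refine Subalgebra.mul_mem S ?_ (Algebra.subset_adjoin ht)
          exact ih (n - deg t) (Nat.sub_lt hn (hdegpos t ht)) _ (SetLike.coe_mem _)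
        · exact Subalgebra.zero_mem S
  rw [eq_top_iff]
  intro x _
  rw [← sum_support_decompose 𝒜 x]
  exact Subalgebra.sum_mem S fun i _ => key i _ (SetLike.coe_mem _)

end Groth.Agent.Lib.Helper17
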