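import Mathlib

/-!
# Truncation triangles and morphisms detected on one cohomology object in `D(C)`
-/

set_option autoImplicit false

open CategoryTheory CategoryTheory.Limits Pretriangulated DerivedCategory

namespace Groth.Agent.Lib.Helper17.DerTrunc

universe w v u

variable {C : Type u} [Category.{v} C] [Abelian C] [HasDerivedCategory.{w} C]

set_option backward.defeqAttrib.useBackward true in
set_option backward.isDefEq.respectTransparency false in
/-- the truncation triangle `τ_{≤ n₀} K ⟶ K ⟶ τ_{≥ n₁} K ⟶` for `n₀ + 1 = n₁` -/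
theorem exists_truncTriangle (K : CochainComplex C ℤ) (n₀ n₁ : ℤ) (h : n₀ + 1 = n₁) :
    ∃ δ : Q.obj (K.truncGE n₁) ⟶ (Q.obj (K.truncLE n₀))⟦(1 : ℤ)⟧,
      Triangle.mk (Q.map (K.ιTruncLE n₀)) (Q.map (K.πTruncGE n₁)) δ ∈ distTriang _ := by
  have hS := K.shortComplexTruncLE_shortExact n₀
  refine ⟨inv (Q.map (K.shortComplexTruncLEX₃ToTruncGE n₀ n₁ h)) ≫ (triangleOfSES hS).mor₃,
    isomorphic_distinguished _ (triangleOfSES_distinguished hS) _ (Iso.symm ?_)⟩
  refine Triangle.isoMk _ _ (Iso.refl _) (Iso.refl _)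
    (asIso (Q.map (K.shortComplexTruncLEX₃ToTruncGE n₀ n₁ h))) ?_ ?_ (by simp)
  · dsimp
    rw [Category.id_comp, Category.comp_id]
    rfl
  · dsimp
    rw [Category.id_comp, ← Q.map_comp, CochainComplex.g_shortComplexTruncLEX₃ToTruncGE ..]

/-- a morphism to `Q K` killed by `K ⟶ τ_{≥ n₁} K` factors through `τ_{≤ n₀} K` -/
theorem exists_factor_truncLE (K : CochainComplex C ℤ) (n₀ n₁ : ℤ) (h : n₀ + 1 = n₁)
    {X : DerivedCategory C} (ψ : X ⟶ Q.obj K) (hψ : ψ ≫ Q.map (K.πTruncGE n₁) = 0) :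
    ∃ φ : X ⟶ Q.obj (K.truncLE n₀), φ ≫ Q.map (K.ιTruncLE n₀) = ψ := by
  obtain ⟨δ, hT⟩ := exists_truncTriangle K n₀ n₁ h
  obtain ⟨φ, hφ⟩ := Triangle.coyoneda_exact₂ _ hT ψ hψ
  exact ⟨φ, hφ.symm⟩

/-- a morphism from `Q K` vanishing on `τ_{≤ n₀} K` factors through `τ_{≥ n₁} K` -/
theorem exists_factor_truncGE (K : CochainComplex C ℤ) (n₀ n₁ : ℤ) (h : n₀ + 1 = n₁)
    {Y : DerivedCategory C} (ψ : Q.obj K ⟶ Y) (hψ : Q.map (K.ιTruncLE n₀) ≫ ψ = 0) :
    ∃ φ : Q.obj (K.truncGE n₁) ⟶ Y, Q.map (K.πTruncGE n₁) ≫ φ = ψ := by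
  obtain ⟨δ, hT⟩ := exists_truncTriangle K n₀ n₁ h
  obtain ⟨φ, hφ⟩ := Triangle.yoneda_exact₂ _ hT ψ hψ
  exact ⟨φ, hφ.symm⟩

omit [HasDerivedCategory.{w} C] in
/-- a chain map from a complex `≤ n` to a complex `≥ n` which is zero on `Hⁿ` is zero -/
theorem chainMap_eq_zero {K L : CochainComplex C ℤ} (n : ℤ) [K.IsStrictlyLE n] [L.IsStrictlyGE n]
    (g : K ⟶ L) (hg : HomologicalComplex.homologyMap g n = 0) : g = 0 := by
  ext i
  rcases lt_trichotomy i n with hi | rfl | hi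
  · exact (L.isZero_of_isStrictlyGE n i hi).eq_of_tgt _ _
  · have h1 : HomologicalComplex.cyclesMap g i ≫ L.homologyπ i = 0 := by
      rw [← HomologicalComplex.homologyπ_naturality, hg, comp_zero]
    haveI : IsIso (L.homologyπ i) := L.isIso_homologyπ (i - 1) i (by simp)
      ((L.isZero_of_isStrictlyGE i (i - 1) (by omega)).eq_of_src _ _)
    have h2 : HomologicalComplex.cyclesMap g i = 0 := by
      rw [← cancel_mono (L.homologyπ i), h1, zero_comp]
    haveI : IsIso (K.iCycles i) := K.isIso_iCycles i (i + 1) (by simp)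
      ((K.isZero_of_isStrictlyLE i (i + 1) (by omega)).eq_of_tgt _ _)
    rw [← cancel_epi (K.iCycles i), ← HomologicalComplex.cyclesMap_i, h2, zero_comp]
    simp
  · exact (K.isZero_of_isStrictlyLE n i hi).eq_of_src _ _

/-- **Morphisms `D^{≤ n} ⟶ D^{≥ n}` are detected on `Hⁿ`** (complex form). -/
theorem eq_zero_of_homologyMap_eq_zero {K L : CochainComplex C ℤ} (n : ℤ) [K.IsStrictlyLE n]
    [L.IsStrictlyGE n] (f : Q.obj K ⟶ Q.obj L) (hf : (homologyFunctor C n).map f = 0) : f = 0 := by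
  obtain ⟨K', hK', s, hs, g, rfl⟩ := right_fac_of_isStrictlyLE f n
  have hg : (homologyFunctor C n).map (Q.map g) = 0 := by
    have : (homologyFunctor C n).map (Q.map g) =
        (homologyFunctor C n).map (Q.map s) ≫
          (homologyFunctor C n).map (inv (Q.map s) ≫ Q.map g) := by
      rw [← Functor.map_comp, IsIso.hom_inv_id_assoc]
    rw [this, hf, comp_zero]
  have hg' : HomologicalComplex.homologyMap g n = 0 := by
    have := (homologyFunctorFactors C n).hom.naturality g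
    dsimp at this
    rw [hg, zero_comp] at this
    have h3 : (homologyFunctorFactors C n).hom.app K' ≫ HomologicalComplex.homologyMap g n =
        (homologyFunctorFactors C n).hom.app K' ≫ 0 := by
      rw [comp_zero]
      exact this.symm
    haveI : IsIso ((homologyFunctorFactors C n).hom.app K') := inferInstance
    exact (cancel_epi ((homologyFunctorFactors C n).hom.app K')).1 h3
  rw [chainMap_eq_zero n g hg', Q.map_zero, comp_zero]

/-- `x` factors through an object of `D^{≤ m}` -/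
def FactorsLE {X Y : DerivedCategory C} (x : X ⟶ Y) (m : ℤ) : Prop :=
  ∃ (Z : DerivedCategory C) (_ : Z.IsLE m) (a : X ⟶ Z) (b : Z ⟶ Y), x = a ≫ b

lemma FactorsLE.of_isLE {X Y : DerivedCategory C} (x : X ⟶ Y) (m : ℤ) [X.IsLE m] :
    FactorsLE x m := ⟨X, inferInstance, 𝟙 X, x, (Category.id_comp x).symm⟩

lemma FactorsLE.eq_zero {X Y : DerivedCategory C} {x : X ⟶ Y} {m : ℤ} (h : FactorsLE x m) (n : ℤ)
    (hmn : m < n) [Y.IsGE n] : x = 0 := by
  obtain ⟨Z, hZ, a, b, rfl⟩ := h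
  rw [TStructure.t.zero b m n hmn, comp_zero]

/-- composing with a morphism which vanishes on `H^m` lowers the bound by one -/
lemma FactorsLE.step {X Y Y' : DerivedCategory C} {x : X ⟶ Y} {m : ℤ} (h : FactorsLE x m)
    (f : Y ⟶ Y') (hf : (homologyFunctor C m).map f = 0) (m' : ℤ) (hm : m' + 1 = m) :
    FactorsLE (x ≫ f) m' := by
  obtain ⟨Z, hZ, a, b, rfl⟩ := h
  obtain ⟨M, hM, ⟨eZ⟩⟩ := exists_iso_Q_obj_of_isLE Z m
  let L' := Q.objPreimage Y'
  let eY' : Q.obj L' ≅ Y' := Q.objObjPreimageIso Y'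
  let c : Q.obj M ⟶ Q.obj L' := eZ.inv ≫ b ≫ f ≫ eY'.inv
  have hc : (homologyFunctor C m).map c = 0 := by
    simp only [c, Functor.map_comp, hf, zero_comp, comp_zero]
  have hβ : c ≫ Q.map (L'.πTruncGE m) = 0 := by
    apply eq_zero_of_homologyMap_eq_zero m
    rw [Functor.map_comp, hc, zero_comp]
  obtain ⟨φ', hφ'⟩ := exists_factor_truncLE L' m' m hm c hβ
  refine ⟨Q.obj (L'.truncLE m'), inferInstance, a ≫ eZ.hom ≫ φ',
    Q.map (L'.ιTruncLE m') ≫ eY'.hom, ?_⟩
  simp only [Category.assoc]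
  rw [reassoc_of% hφ']
  simp [c]

end Groth.Agent.Lib.Helper17.DerTrunc
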