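import Mathlib
import Groth.Agent.Lib.Helper17.RFTri
import Groth.Agent.Lib.Helper17.PRes
import Groth.Agent.Lib.Helper17.DerTrunc

/-!
# Cohomological amplitude of the total right derived functor `RF`
-/

set_option autoImplicit false
universe w₁ w₂ v₁ v₂ u₁ u₂

open CategoryTheory Limits Pretriangulated ZeroObject

namespace Groth.Agent.Lib.Helper17.RFAmp

open Groth.Agent.Lib.Helper17.DerAbs Groth.Agent.Lib.Helper17.DerKInj
  Groth.Agent.Lib.Helper17.RFTri

section Extend

variable {ι ι' : Type*} {c : ComplexShape ι} {c' : ComplexShape ι'} (e : c.Embedding c')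
  [e.IsRelIff]
  {A : Type u₁} [Category.{v₁} A] [Abelian A]
  {B : Type u₂} [Category.{v₂} B] [Abelian B]
  (F : A ⥤ B) [F.Additive] (K : HomologicalComplex A c)

/-- restricting `F (K.extend e)` gives back `F K`. -/
noncomputable def restrMapExtendIso :
    ((F.mapHomologicalComplex c').obj (K.extend e)).restriction e ≅
      (F.mapHomologicalComplex c).obj K :=
  HomologicalComplex.Hom.isoOfComponents (fun i => F.mapIso (K.extendXIso e rfl)) (by
    intro i j hij
    change F.map _ ≫ F.map (K.d i j) = F.map ((K.extend e).d (e.f i) (e.f j)) ≫ F.map _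
    rw [K.extend_d_eq e rfl rfl, ← F.map_comp, ← F.map_comp]
    simp)

/-- `H^{e.f p}(F (K.extend e)) ≅ H^p (F K)`. -/
noncomputable def homologyMapExtendIso (p : ι) :
    ((F.mapHomologicalComplex c').obj (K.extend e)).homology (e.f p) ≅
      ((F.mapHomologicalComplex c).obj K).homology p :=
  (HomologicalComplex.homologyFunctor B c' (e.f p)).mapIso
      (asIso (PRes.unitRE e ((F.mapHomologicalComplex c').obj (K.extend e)))) ≪≫
    HomologicalComplex.extendHomologyIso _ e rfl ≪≫
    (HomologicalComplex.homologyFunctor B c p).mapIso (restrMapExtendIso e F K)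

end Extend

section Single

variable {A : Type u₁} [Category.{v₁} A] [Abelian A] {G : A} (R : InjectiveResolution G) (b : ℤ)

/-- the injective resolution placed in degrees `≥ b`. -/
noncomputable def Jb : CochainComplex A ℤ := R.cocomplex.extend (ComplexShape.embeddingUpIntGE b)

instance : (Jb R b).IsStrictlyGE b := by dsimp [Jb]; infer_instance

instance (n : ℤ) : Injective ((Jb R b).X n) := by dsimp [Jb]; infer_instance

instance : (Jb R b).IsKInjective := CochainComplex.isKInjective_of_injective _ b

/-- the quasi-isomorphism `G[-b] ⟶ Jb`. -/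
noncomputable def ιb : (HomologicalComplex.single A (ComplexShape.up ℤ) b).obj G ⟶ Jb R b :=
  (HomologicalComplex.extendSingleIso (ComplexShape.embeddingUpIntGE b) G 0 b (by simp)).inv ≫
    ((ComplexShape.embeddingUpIntGE b).extendFunctor A).map R.ι

set_option backward.defeqAttrib.useBackward true in
set_option backward.isDefEq.respectTransparency false in
instance quasiIso_ιb : QuasiIso (ιb R b) := by dsimp [ιb]; infer_instance

end Single

variable {A : Type u₁} [Category.{v₁} A] [Abelian A] [HasDerivedCategory.{w₁} A]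
  {B : Type u₂} [Category.{v₂} B] [Abelian B] [HasDerivedCategory.{w₂} B]
  (F : A ⥤ B) [F.Additive]
  [(Φ F).HasRightDerivedFunctor (HomotopyCategory.quasiIso A (ComplexShape.up ℤ))]
  (hA : HasKInjRes A)

/-- `RF (G[-b]) ≅ Q (F Jb)`. -/
noncomputable def RFSingleIso {G : A} (R : InjectiveResolution G) (b : ℤ) :
    (RF F).obj ((DerivedCategory.singleFunctor A b).obj G) ≅
      DerivedCategory.Q.obj ((F.mapHomologicalComplex (ComplexShape.up ℤ)).obj (Jb R b)) :=
  (RF F).mapIso ((DerivedCategory.singleFunctorIsoCompQ A b).app G ≪≫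
    @asIso _ _ _ _ (DerivedCategory.Q.map (ιb R b)) (by
      rw [DerivedCategory.isIso_Q_map_iff_quasiIso]; exact quasiIso_ιb R b)) ≪≫ RFIso F hA (Jb R b)

/-- `H^i (RF (G[-b])) ≅ H^i (F Jb)`. -/
noncomputable def HRFSingleIso' {G : A} (R : InjectiveResolution G) (b i : ℤ) :
    (HRF F i).obj ((DerivedCategory.singleFunctor A b).obj G) ≅
      ((F.mapHomologicalComplex (ComplexShape.up ℤ)).obj (Jb R b)).homology i :=
  (DerivedCategory.homologyFunctor B i).mapIso (RFSingleIso F hA R b) ≪≫
    (DerivedCategory.homologyFunctorFactors B i).app _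

/-- **`H^{b+p} (RF (G[-b])) ≅ R^p F (G)`**. -/
noncomputable def HRFSingleIso [HasInjectiveResolutions A] (G : A) (b : ℤ) (p : ℕ) :
    (HRF F (b + p)).obj ((DerivedCategory.singleFunctor A b).obj G) ≅
      (F.rightDerived p).obj G :=
  HRFSingleIso' F hA (injectiveResolution G) b (b + p) ≪≫
    homologyMapExtendIso (ComplexShape.embeddingUpIntGE b) F (injectiveResolution G).cocomplex p ≪≫
    ((injectiveResolution G).isoRightDerivedObj F p).symm

include hA in
lemma isZero_HRF_single_of_lt [HasInjectiveResolutions A] (G : A) (b i : ℤ) (hi : i < b) :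
    IsZero ((HRF F i).obj ((DerivedCategory.singleFunctor A b).obj G)) := by
  refine IsZero.of_iso ?_ (HRFSingleIso' F hA (injectiveResolution G) b i)
  rw [← HomologicalComplex.exactAt_iff_isZero_homology]
  haveI : CochainComplex.IsStrictlyGE
      ((F.mapHomologicalComplex (ComplexShape.up ℤ)).obj (Jb (injectiveResolution G) b)) b := by
    dsimp [Jb]; infer_instance
  exact CochainComplex.exactAt_of_isGE _ b i hi

include hA in
/-- `RF` kills acyclic complexes. -/
lemma isZero_HRF_of_acyclic (K : CochainComplex A ℤ) (hK : ∀ i, IsZero (K.homology i)) (i : ℤ) :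
    IsZero ((HRF F i).obj (DerivedCategory.Q.obj K)) := by
  haveI : (RF F).PreservesZeroMorphisms := preservesZeroMorphisms_RF F hA
  have h1 : (DerivedCategory.Q.obj K).IsLE 0 := by
    rw [DerivedCategory.isLE_iff]
    intro j _
    exact (hK j).of_iso ((DerivedCategory.homologyFunctorFactors A j).app K)
  have h2 : (DerivedCategory.Q.obj K).IsGE 1 := by
    rw [DerivedCategory.isGE_iff]
    intro j _
    exact (hK j).of_iso ((DerivedCategory.homologyFunctorFactors A j).app K)
  have hz : IsZero (DerivedCategory.Q.obj K) :=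
    DerivedCategory.TStructure.t.isZero _ 0 1 (by omega)
  exact (DerivedCategory.homologyFunctor B i).map_isZero ((RF F).map_isZero hz)

include hA in
/-- **Amplitude bound for `RF`**: if `R^p F` vanishes for `p ≥ N` on a class `S` of objects and
`K` has cohomology in `[a, b]` with all cohomology objects in `S`, then `RF K` has cohomology
in `[a, b + N - 1]`. -/
theorem isZero_HRF_of_amp [HasInjectiveResolutions A] (S : A → Prop)
    (hS_iso : ∀ {G G' : A}, (G ≅ G') → S G → S G') (N : ℕ)
    (hS : ∀ G, S G → ∀ p : ℕ, N ≤ p → IsZero ((F.rightDerived p).obj G)) (n : ℕ) :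
    ∀ (K : CochainComplex A ℤ) (a b : ℤ), b < a + n →
      (∀ i, i < a ∨ b < i → IsZero (K.homology i)) →
      (∀ i, a ≤ i → i ≤ b → S (K.homology i)) →
      ∀ i, i < a ∨ b + N - 1 < i → IsZero ((HRF F i).obj (DerivedCategory.Q.obj K)) := by
  induction n with
  | zero =>
    intro K a b hab h0 _ i _
    exact isZero_HRF_of_acyclic F hA K (fun j => h0 j (by omega)) i
  | succ n ih =>
    intro K a b hab h0 h1 i hi
    by_cases hba : b < a
    · exact isZero_HRF_of_acyclic F hA K (fun j => h0 j (by omega)) i
    have hab' : a ≤ b := not_lt.1 hba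
    obtain ⟨δ, hT⟩ := DerTrunc.exists_truncTriangle K (b - 1) b (by omega)
    haveI := isHomological_HRF F hA i
    have hex := (HRF F i).map_distinguished_exact _ hT
    -- the truncation below
    have hL : IsZero ((HRF F i).obj (DerivedCategory.Q.obj (K.truncLE (b - 1)))) := by
      refine ih (K.truncLE (b - 1)) a (b - 1) (by omega) ?_ ?_ i (by omega)
      · intro j hj
        by_cases hjb : j ≤ b - 1
        · haveI := K.quasiIsoAt_ιTruncLE (b - 1) j hjb
          exact (h0 j (by omega)).of_iso (asIso (HomologicalComplex.homologyMap (K.ιTruncLE (b - 1)) j))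
        · rw [← HomologicalComplex.exactAt_iff_isZero_homology]
          exact CochainComplex.exactAt_of_isLE _ (b - 1) j (by omega)
      · intro j hj1 hj2
        haveI := K.quasiIsoAt_ιTruncLE (b - 1) j hj2
        exact hS_iso (asIso (HomologicalComplex.homologyMap (K.ιTruncLE (b - 1)) j)).symm
          (h1 j hj1 (by omega))
    -- the top cohomology
    have hR : IsZero ((HRF F i).obj (DerivedCategory.Q.obj (K.truncGE b))) := by
      have hge : ∀ j, b ≤ j → (K.homology j ≅ (K.truncGE b).homology j) := fun j hj => by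
        haveI := K.quasiIsoAt_πTruncGE b j hj
        exact asIso (HomologicalComplex.homologyMap (K.πTruncGE b) j)
      haveI : (DerivedCategory.Q.obj (K.truncGE b)).IsLE b := by
        rw [DerivedCategory.isLE_iff]
        intro j hj
        exact ((h0 j (Or.inr hj)).of_iso (hge j hj.le).symm).of_iso
          ((DerivedCategory.homologyFunctorFactors A j).app _)
      obtain ⟨Y, ⟨eY⟩⟩ := DerivedCategory.exists_iso_singleFunctor_obj_of_isGE_of_isLE
        (DerivedCategory.Q.obj (K.truncGE b)) b
      have eY' : K.homology b ≅ Y :=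
        hge b le_rfl ≪≫ ((DerivedCategory.homologyFunctorFactors A b).app _).symm ≪≫
          (DerivedCategory.homologyFunctor A b).mapIso eY ≪≫
          (DerivedCategory.singleFunctorCompHomologyFunctorIso A b).app Y
      have hY : S Y := hS_iso eY' (h1 b hab' le_rfl)
      refine IsZero.of_iso ?_ ((HRF F i).mapIso eY)
      rcases hi with hi | hi
      · exact isZero_HRF_single_of_lt F hA Y b i (by omega)
      · obtain ⟨p, hp⟩ := Int.eq_ofNat_of_zero_le (show 0 ≤ i - b by omega)
        obtain rfl : i = b + p := by omega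
        exact (hS Y hY p (by omega)).of_iso (HRFSingleIso F hA Y b p)
    exact hex.isZero_of_both_zeros (hL.eq_of_src _ _) (hR.eq_of_tgt _ _)

end Groth.Agent.Lib.Helper17.RFAmp
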