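import Groth.Agent.Lib.Helper17.RpushQC
import Groth.Agent.Lib.Helper17.RFAmp

/-!
# Higher direct images of quasi-coherent modules along qcqs morphisms are quasi-coherent
-/

set_option autoImplicit false
universe u

open CategoryTheory Limits Opposite AlgebraicGeometry TopologicalSpace CochainComplex

namespace Groth.Agent.Lib.Helper17.RpushQC

open Groth.Agent.Lib.Helper17.SecFun Groth.Agent.Lib.Helper17.PhiW Groth.Agent.Lib.Helper17.MVAbs
open Groth.Agent.Lib.Helper17.PushCoh Groth.Agent.Lib.Helper17.PhiInd
open Groth.Agent.Lib.Helper17.RFAmp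

variable {X S : Scheme.{u}} (f : X ⟶ S)

lemma isQuasicoherent_of_isZero {Y : Scheme.{u}} (M₀ : Y.Modules) [M₀.IsQuasicoherent]
    (N : Y.Modules) (hN : IsZero N) : N.IsQuasicoherent := by
  have h1 : (kernel (𝟙 M₀)).IsQuasicoherent :=
    Groth.Agent.Lib.Helper29.QCoh.isQuasicoherent_kernel _
  have h2 : IsZero (kernel (𝟙 M₀)) := by
    rw [IsZero.iff_id_eq_zero, ← cancel_mono (kernel.ι _)]
    have := kernel.condition (𝟙 M₀)
    rw [Category.comp_id] at this
    rw [this, comp_zero, zero_comp]
  exact (SheafOfModules.isQuasicoherent Y.ringCatSheaf).prop_of_iso (h2.iso hN) h1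

variable [QuasiCompact f] [QuasiSeparated f]

/-- the cohomology of `f_* I` is quasi-coherent for `I` a K-injective complex of injectives with
quasi-coherent cohomology. -/
theorem isQuasicoherent_homology_of_good (I : CochainComplex X.Modules ℤ) (hI : Good I) (i : ℤ) :
    ((Cx (Scheme.Modules.pushforward f) I).homology i).IsQuasicoherent := by
  apply Groth.Agent.Lib.Helper28.DCohRes.isQuasicoherent_of_locally
  intro x
  obtain ⟨V₀, hV₀, hxV⟩ := exists_affine_nhd x
  refine ⟨V₀.toScheme, V₀.ι, inferInstance, ?_, ?_⟩
  · rw [Scheme.Opens.range_ι]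
    exact hxV
  · exact (SheafOfModules.isQuasicoherent V₀.toScheme.ringCatSheaf).prop_of_iso
      (resHomologyIso f V₀ I i).symm ((P_preimage hV₀).1 I hI i)

omit [QuasiCompact f] [QuasiSeparated f] in
lemma good_Jb (M : X.Modules) [M.IsQuasicoherent] (R : InjectiveResolution M) : Good (Jb R 0) where
  kinj := inferInstance
  inj := fun n => inferInstance
  qc := by
    intro i
    have e : ((HomologicalComplex.single X.Modules (ComplexShape.up ℤ) 0).obj M).homology i ≅
        (Jb R 0).homology i :=
      asIso (HomologicalComplex.homologyMap (ιb R 0) i)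
    refine (SheafOfModules.isQuasicoherent X.ringCatSheaf).prop_of_iso e ?_
    by_cases hi : i = 0
    · subst hi
      exact (SheafOfModules.isQuasicoherent X.ringCatSheaf).prop_of_iso
        (HomologicalComplex.singleObjHomologySelfIso (ComplexShape.up ℤ) 0 M).symm inferInstance
    · apply isQuasicoherent_of_isZero M
      rw [← HomologicalComplex.exactAt_iff_isZero_homology]
      exact HomologicalComplex.exactAt_single_obj _ _ _ _ hi

/-- **`R^p f_* M` is quasi-coherent** for `M` quasi-coherent and `f` qcqs. -/
theorem isQuasicoherent_Rpush [HasInjectiveResolutions X.Modules] (M : X.Modules)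
    [M.IsQuasicoherent] (p : ℕ) :
    (((Scheme.Modules.pushforward f).rightDerived p).obj M).IsQuasicoherent := by
  have e : ((Scheme.Modules.pushforward f).rightDerived p).obj M ≅
      (Cx (Scheme.Modules.pushforward f) (Jb (injectiveResolution M) 0)).homology (0 + p) :=
    ((injectiveResolution M).isoRightDerivedObj (Scheme.Modules.pushforward f) p) ≪≫
      (homologyMapExtendIso (ComplexShape.embeddingUpIntGE 0) (Scheme.Modules.pushforward f)
        (injectiveResolution M).cocomplex p).symm
  exact (SheafOfModules.isQuasicoherent S.ringCatSheaf).prop_of_iso e.symm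
    (isQuasicoherent_homology_of_good f _ (good_Jb M _) _)

end Groth.Agent.Lib.Helper17.RpushQC
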