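/-
helper17: the total complex functor preserves quasi-isomorphisms for uniformly bounded below
double complexes.
-/
import Mathlib

universe v u

open CategoryTheory CategoryTheory.Limits

namespace Groth.Agent.Lib.Helper17.TotQis

section PInv

variable {C : Type u} [Category.{v} C] [HasZeroMorphisms C]

open Classical in
/-- inverse if an isomorphism, `0` otherwise -/
noncomputable def pinv {X Y : C} (u : X ⟶ Y) : Y ⟶ X :=
  if h : IsIso u then @inv _ _ _ _ u h else 0

lemma pinv_eq {X Y : C} (u : X ⟶ Y) [h : IsIso u] : pinv u = inv u := dif_pos h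

@[reassoc (attr := simp)]
lemma comp_pinv {X Y : C} (u : X ⟶ Y) [IsIso u] : u ≫ pinv u = 𝟙 X := by
  rw [pinv_eq, IsIso.hom_inv_id]

@[reassoc (attr := simp)]
lemma pinv_comp {X Y : C} (u : X ⟶ Y) [IsIso u] : pinv u ≫ u = 𝟙 Y := by
  rw [pinv_eq, IsIso.inv_hom_id]

end PInv

variable {A : Type u} [Category.{v} A] [Abelian A]

section FiniteSupport

/-- a family with finite support has a coproduct -/
lemma hasCoproduct_of_finset {ι : Type*} (f : ι → A) (s : Finset ι)
    (hf : ∀ i, i ∉ s → IsZero (f i)) : HasCoproduct f := by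
  classical
  haveI : HasFiniteBiproducts A := Abelian.hasFiniteBiproducts
  let g : s → A := fun i => f i.1
  let inj : ∀ i, f i ⟶ ⨁ g := fun i =>
    if h : i ∈ s then biproduct.ι g ⟨i, h⟩ else 0
  have inj_mem : ∀ (i : ι) (h : i ∈ s), inj i = biproduct.ι g ⟨i, h⟩ := fun i h => dif_pos h
  refine ⟨⟨Cofan.mk (⨁ g) inj, mkCofanColimit _
    (fun c => biproduct.desc (fun i : s => c.inj i.1)) ?_ ?_⟩⟩
  · intro c i
    by_cases h : i ∈ s
    · change inj i ≫ _ = _
      rw [inj_mem i h, biproduct.ι_desc]
    · exact (hf i h).eq_of_src _ _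
  · intro c m hm
    apply biproduct.hom_ext'
    rintro ⟨i, hi⟩
    rw [biproduct.ι_desc, ← hm i]
    change _ = inj i ≫ m
    rw [inj_mem i hi]

lemma hasCoproduct_of_finite_support {ι : Type*} (f : ι → A)
    (hf : {i | ¬ IsZero (f i)}.Finite) : HasCoproduct f :=
  hasCoproduct_of_finset f hf.toFinset (fun i hi => by
    by_contra h
    exact hi (hf.mem_toFinset.2 h))

end FiniteSupport

abbrev DC (A : Type u) [Category.{v} A] [Abelian A] :=
  HomologicalComplex₂ A (ComplexShape.up ℤ) (ComplexShape.up ℤ)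

/-- uniformly bounded below double complexes -/
def BddBelow (K : DC A) (b a : ℤ) : Prop :=
  ∀ q p : ℤ, q < b ∨ p < a → IsZero ((K.X q).X p)

lemma hasTotal_of_bddBelow (K : DC A) (b a : ℤ) (hK : BddBelow K b a) :
    K.HasTotal (ComplexShape.up ℤ) := by
  intro n
  apply hasCoproduct_of_finite_support
  let g : (ComplexShape.π (ComplexShape.up ℤ) (ComplexShape.up ℤ) (ComplexShape.up ℤ) ⁻¹' {n}) → ℤ :=
    fun x => x.1.1
  apply Set.Finite.of_finite_image (f := g)
  · apply (Set.finite_Icc b (n - a)).subset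
    rintro _ ⟨⟨⟨q, p⟩, hx⟩, hx', rfl⟩
    have hx2 : q + p = n := hx
    dsimp only [g]
    simp only [Set.mem_ofPred_eq] at hx'
    simp only [Set.mem_Icc]
    by_contra hc
    apply hx'
    apply hK
    omega
  · rintro ⟨⟨q, p⟩, hx⟩ _ ⟨⟨q', p'⟩, hy⟩ _ hxy
    have hx2 : q + p = n := hx
    have hy2 : q' + p' = n := hy
    dsimp only [g] at hxy
    subst hxy
    obtain rfl : p = p' := by omega
    rfl

section TotMaps

variable {K L M : DC A} [K.HasTotal (ComplexShape.up ℤ)] [L.HasTotal (ComplexShape.up ℤ)]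
  [M.HasTotal (ComplexShape.up ℤ)]

/-- componentwise pseudo-inverse on totals -/
noncomputable def totPinv (ψ : K ⟶ L) (n : ℤ) :
    (L.total (ComplexShape.up ℤ)).X n ⟶ (K.total (ComplexShape.up ℤ)).X n :=
  L.totalDesc (fun q p h => pinv ((ψ.f q).f p) ≫ K.ιTotal (ComplexShape.up ℤ) q p n h)

lemma isIso_total_map_f (ψ : K ⟶ L) (n : ℤ)
    (h : ∀ q p : ℤ, q + p = n → IsIso ((ψ.f q).f p)) :
    IsIso ((HomologicalComplex₂.total.map ψ (ComplexShape.up ℤ)).f n) := by
  refine ⟨totPinv ψ n, ?_, ?_⟩
  · ext q p hqp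
    haveI := h q p hqp
    simp [totPinv]
  · ext q p hqp
    haveI := h q p hqp
    simp [totPinv]

end TotMaps

section QuasiIsoAt

lemma quasiIsoAt_of_isIso_f {S T : CochainComplex A ℤ} (f : S ⟶ T) (n : ℤ)
    (h₁ : IsIso (f.f (n - 1))) (h₂ : IsIso (f.f n)) (h₃ : IsIso (f.f (n + 1))) :
    QuasiIsoAt f n := by
  rw [quasiIsoAt_iff' f (n - 1) n (n + 1) (by simp) (by simp)]
  haveI : Epi ((HomologicalComplex.shortComplexFunctor' A (ComplexShape.up ℤ)
      (n - 1) n (n + 1)).map f).τ₁ := by
    change Epi (f.f (n - 1))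
    infer_instance
  haveI : IsIso ((HomologicalComplex.shortComplexFunctor' A (ComplexShape.up ℤ)
      (n - 1) n (n + 1)).map f).τ₂ := by
    change IsIso (f.f n)
    infer_instance
  haveI : Mono ((HomologicalComplex.shortComplexFunctor' A (ComplexShape.up ℤ)
      (n - 1) n (n + 1)).map f).τ₃ := by
    change Mono (f.f (n + 1))
    infer_instance
  exact ShortComplex.quasiIso_of_epi_of_isIso_of_mono _

/-- in a commutative square whose horizontal maps are isomorphisms in degrees `n-1, n, n+1`,
the left map is a quasi-isomorphism in degree `n` iff the right one is -/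
lemma quasiIsoAt_of_square {S T S' T' : CochainComplex A ℤ} (f : S ⟶ T) (f' : S' ⟶ T')
    (a : S ⟶ S') (b : T ⟶ T') (comm : f ≫ b = a ≫ f') (n : ℤ)
    (ha : ∀ m, n - 1 ≤ m → m ≤ n + 1 → IsIso (a.f m))
    (hb : ∀ m, n - 1 ≤ m → m ≤ n + 1 → IsIso (b.f m))
    (hf' : QuasiIsoAt f' n) : QuasiIsoAt f n := by
  haveI := quasiIsoAt_of_isIso_f a n (ha _ (by omega) (by omega)) (ha _ (by omega) (by omega))
    (ha _ (by omega) (by omega))
  haveI := quasiIsoAt_of_isIso_f b n (hb _ (by omega) (by omega)) (hb _ (by omega) (by omega))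
    (hb _ (by omega) (by omega))
  haveI : QuasiIsoAt (f ≫ b) n := by
    rw [comm]
    infer_instance
  exact quasiIsoAt_of_comp_right f b n

end QuasiIsoAt

section SES

variable {K₁ K₂ K₃ : DC A} [K₁.HasTotal (ComplexShape.up ℤ)] [K₂.HasTotal (ComplexShape.up ℤ)]
  [K₃.HasTotal (ComplexShape.up ℤ)] (f : K₁ ⟶ K₂) (g : K₂ ⟶ K₃) (w : f ≫ g = 0)

/-- in every bidegree, the sequence is `X ≅ Y → 0` or `0 → Y ≅ Z` -/
def SplitCond : Prop :=
  ∀ q p : ℤ, (IsIso ((f.f q).f p) ∧ IsZero ((K₃.X q).X p)) ∨
    (IsIso ((g.f q).f p) ∧ IsZero ((K₁.X q).X p))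

lemma total_map_zero :
    HomologicalComplex₂.total.map (0 : K₁ ⟶ K₃) (ComplexShape.up ℤ) = 0 := by
  ext n q p hqp
  simp

/-- the sequence of total complexes -/
noncomputable def totSC : ShortComplex (CochainComplex A ℤ) :=
  ShortComplex.mk (HomologicalComplex₂.total.map f (ComplexShape.up ℤ))
    (HomologicalComplex₂.total.map g (ComplexShape.up ℤ))
    (by rw [← HomologicalComplex₂.total.map_comp, w, total_map_zero])

lemma totSC_shortExact (h : SplitCond f g) : (totSC f g w).ShortExact := by
  apply HomologicalComplex.shortExact_of_degreewise_shortExact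
  intro n
  have sp : (ShortComplex.mk ((HomologicalComplex₂.total.map f (ComplexShape.up ℤ)).f n)
      ((HomologicalComplex₂.total.map g (ComplexShape.up ℤ)).f n) (by
        rw [← HomologicalComplex.comp_f, ← HomologicalComplex₂.total.map_comp, w, total_map_zero]
        rfl)).Splitting :=
    { r := totPinv f n
      s := totPinv g n
      f_r := by
        dsimp
        ext q p hqp
        rcases h q p with ⟨h1, h2⟩ | ⟨h1, h2⟩
        · haveI := h1
          simp [totPinv]
        · exact h2.eq_of_src _ _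
      s_g := by
        dsimp
        ext q p hqp
        rcases h q p with ⟨h1, h2⟩ | ⟨h1, h2⟩
        · exact h2.eq_of_src _ _
        · haveI := h1
          simp [totPinv]
      id := by
        dsimp
        ext q p hqp
        rcases h q p with ⟨h1, h2⟩ | ⟨h1, h2⟩
        · haveI := h1
          have hg : (g.f q).f p = 0 := h2.eq_of_tgt _ _
          simp [totPinv, hg]
        · haveI := h1
          have hf : pinv ((f.f q).f p) = 0 := h2.eq_of_tgt _ _
          simp [totPinv, hf] }
  exact sp.shortExact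

end SES

section Row

variable (K L : DC A) [K.HasTotal (ComplexShape.up ℤ)] [L.HasTotal (ComplexShape.up ℤ)]

/-- the inclusion of the top row -/
noncomputable def rowInc (r : ℤ) (hr : IsZero (K.X (r + 1))) :
    (K.X r)⟦-r⟧ ⟶ K.total (ComplexShape.up ℤ) where
  f n := K.ιTotal (ComplexShape.up ℤ) r (n + -r) n (by simp)
  comm' n n' h := by
    obtain rfl : n + 1 = n' := h
    have h0 : K.d r (r + 1) = 0 := hr.eq_of_tgt _ _
    dsimp [HomologicalComplex₂.total]
    rw [Preadditive.comp_add, HomologicalComplex₂.ι_D₁, HomologicalComplex₂.ι_D₂,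
      K.d₁_eq' (ComplexShape.up ℤ) (show (ComplexShape.up ℤ).Rel r (r + 1) from rfl),
      K.d₂_eq (ComplexShape.up ℤ) r
        (show (ComplexShape.up ℤ).Rel (n + -r) (n + 1 + -r) by simp; omega) (n + 1) (by simp)]
    simp [h0, Int.negOnePow_neg]

variable {K L} in
lemma rowInc_naturality (ψ : K ⟶ L) (r : ℤ) (hK : IsZero (K.X (r + 1)))
    (hL : IsZero (L.X (r + 1))) :
    (ψ.f r)⟦-r⟧' ≫ rowInc L r hL =
      rowInc K r hK ≫ HomologicalComplex₂.total.map ψ (ComplexShape.up ℤ) := by
  ext n
  simp [rowInc]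

instance (q p n : ℤ) (h : ComplexShape.π (ComplexShape.up ℤ) (ComplexShape.up ℤ)
    (ComplexShape.up ℤ) (q, p) = n) : Mono (K.ιTotal (ComplexShape.up ℤ) q p n h) := by
  change Mono (Sigma.ι _ _)
  infer_instance

lemma isIso_rowInc (r : ℤ) (hr : ∀ q, q ≠ r → IsZero (K.X q)) :
    IsIso (rowInc K r (hr _ (by omega))) := by
  haveI : ∀ n, IsIso ((rowInc K r (hr _ (by omega))).f n) := by
    intro n
    haveI : Mono ((rowInc K r (hr _ (by omega))).f n) := by
      dsimp [rowInc]
      infer_instance
    haveI : Epi ((rowInc K r (hr _ (by omega))).f n) := by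
      constructor
      intro Z u v huv
      apply HomologicalComplex₂.total.hom_ext
      intro q p hqp
      by_cases hq : q = r
      · subst hq
        obtain rfl : p = n + -q := by
          have : q + p = n := hqp
          omega
        exact huv
      · exact (((HomologicalComplex.eval A (ComplexShape.up ℤ) p).map_isZero
          (hr q hq))).eq_of_src _ _
    exact isIso_of_mono_of_epi _
  exact HomologicalComplex.Hom.isIso_of_components _

variable {K L} in
/-- a morphism of double complexes concentrated in one row which is a quasi-isomorphism on this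
row induces a quasi-isomorphism on total complexes -/
lemma quasiIso_total_map_of_row (ψ : K ⟶ L) (r : ℤ) (hK : ∀ q, q ≠ r → IsZero (K.X q))
    (hL : ∀ q, q ≠ r → IsZero (L.X q)) (hψ : QuasiIso (ψ.f r)) :
    QuasiIso (HomologicalComplex₂.total.map ψ (ComplexShape.up ℤ)) := by
  haveI := isIso_rowInc K r hK
  haveI := isIso_rowInc L r hL
  haveI : QuasiIso ((ψ.f r)⟦-r⟧') := (CochainComplex.quasiIso_shift_iff _ _).2 hψ
  have h := rowInc_naturality ψ r (hK _ (by omega)) (hL _ (by omega))
  haveI : QuasiIso (rowInc K r (hK _ (by omega)) ≫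
      HomologicalComplex₂.total.map ψ (ComplexShape.up ℤ)) := by
    rw [← h]
    infer_instance
  exact quasiIso_of_comp_left (rowInc K r (hK _ (by omega))) _

end Row

section TwoOfThree

open HomologicalComplex.HomologySequence ComposableArrows in
/-- two-out-of-three for quasi-isomorphisms between short exact sequences of `ℤ`-indexed cochain
complexes: the middle map -/
lemma quasiIso_τ₂ {S₁ S₂ : ShortComplex (CochainComplex A ℤ)} (φ : S₁ ⟶ S₂)
    (hS₁ : S₁.ShortExact) (hS₂ : S₂.ShortExact) (h₁ : QuasiIso φ.τ₁) (h₃ : QuasiIso φ.τ₃) :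
    QuasiIso φ.τ₂ := by
  rw [quasiIso_iff]
  intro j
  rw [quasiIsoAt_iff_isIso_homologyMap]
  have hij : (ComplexShape.up ℤ).Rel (j - 1) j := by simp
  have hjk : (ComplexShape.up ℤ).Rel j (j + 1) := by simp
  haveI : Mono (HomologicalComplex.homologyMap φ.τ₂ j) := by
    refine Abelian.mono_of_epi_of_mono_of_mono
      ((δ₀Functor ⋙ δ₀Functor).map (mapComposableArrows₅ φ hS₁ hS₂ _ _ hij))
      (composableArrows₅_exact hS₁ _ _ hij).δ₀.δ₀ (composableArrows₅_exact hS₂ _ _ hij).δ₀.δ₀
      ?_ ?_ ?_
    · change Epi (HomologicalComplex.homologyMap φ.τ₃ (j - 1))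
      infer_instance
    · change Mono (HomologicalComplex.homologyMap φ.τ₁ j)
      infer_instance
    · change Mono (HomologicalComplex.homologyMap φ.τ₃ j)
      infer_instance
  haveI : Epi (HomologicalComplex.homologyMap φ.τ₂ j) := by
    refine Abelian.epi_of_epi_of_epi_of_mono
      ((δlastFunctor ⋙ δlastFunctor).map (mapComposableArrows₅ φ hS₁ hS₂ _ _ hjk))
      (composableArrows₅_exact hS₁ _ _ hjk).δlast.δlast
      (composableArrows₅_exact hS₂ _ _ hjk).δlast.δlast ?_ ?_ ?_
    · change Epi (HomologicalComplex.homologyMap φ.τ₁ j)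
      infer_instance
    · change Epi (HomologicalComplex.homologyMap φ.τ₃ j)
      infer_instance
    · change Mono (HomologicalComplex.homologyMap φ.τ₁ (j + 1))
      infer_instance
  exact isIso_of_mono_of_epi _

end TwoOfThree

section Trunc

variable {C : Type*} [Category C] [HasZeroMorphisms C] [HasZeroObject C]
  {ι ι' : Type*} {c : ComplexShape ι} {c' : ComplexShape ι'} (e : c.Embedding c')
  [e.IsTruncLE]

lemma hasLift_id (K : HomologicalComplex C c') : e.HasLift (𝟙 (K.restriction e)) :=
  fun _ hj => (hj.false_of_isTruncLE).elim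

/-- the projection onto the (quotient) stupid truncation -/
noncomputable def πStupid (K : HomologicalComplex C c') : K ⟶ K.stupidTrunc e :=
  e.liftExtend (𝟙 (K.restriction e)) (hasLift_id e K)

lemma isIso_πStupid_f (K : HomologicalComplex C c') {i : ι} {i' : ι'} (hi : e.f i = i') :
    IsIso ((πStupid e K).f i') :=
  (e.isIso_liftExtend_f_iff (𝟙 (K.restriction e)) (hasLift_id e K) hi).2 inferInstance

lemma πStupid_naturality_aux {K L : HomologicalComplex C c'} (φ : K ⟶ L) :
    φ ≫ e.liftExtend (𝟙 (L.restriction e)) (hasLift_id e L) =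
      e.liftExtend (𝟙 (K.restriction e)) (hasLift_id e K) ≫
        HomologicalComplex.extendMap (HomologicalComplex.restrictionMap φ e) e := by
  rw [← e.liftExtend_homRestrict (φ ≫ e.liftExtend (𝟙 (L.restriction e)) (hasLift_id e L)),
    ← e.liftExtend_homRestrict (e.liftExtend (𝟙 (K.restriction e)) (hasLift_id e K) ≫
        HomologicalComplex.extendMap (HomologicalComplex.restrictionMap φ e) e)]
  congr 1
  rw [e.homRestrict_precomp, e.homRestrict_comp_extendMap, e.homRestrict_liftExtend,
    e.homRestrict_liftExtend, Category.comp_id, Category.id_comp]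

lemma πStupid_naturality {K L : HomologicalComplex C c'} (φ : K ⟶ L) :
    φ ≫ πStupid e L = πStupid e K ≫ HomologicalComplex.stupidTruncMap φ e :=
  πStupid_naturality_aux e φ

end Trunc

section DCTrunc

/-- rows `≤ r` of a double complex (quotient) -/
noncomputable abbrev trunc (K : DC A) (r : ℤ) : DC A :=
  HomologicalComplex.stupidTrunc K (ComplexShape.embeddingUpIntLE r)

noncomputable abbrev truncπ (K : DC A) (r : ℤ) : K ⟶ trunc K r :=
  πStupid (ComplexShape.embeddingUpIntLE r) K

noncomputable abbrev truncMap {K L : DC A} (φ : K ⟶ L) (r : ℤ) : trunc K r ⟶ trunc L r :=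
  HomologicalComplex.stupidTruncMap φ (ComplexShape.embeddingUpIntLE r)

lemma truncπ_naturality {K L : DC A} (φ : K ⟶ L) (r : ℤ) :
    φ ≫ truncπ L r = truncπ K r ≫ truncMap φ r :=
  πStupid_naturality _ φ

lemma isZero_trunc_X (K : DC A) (r q : ℤ) (hq : r < q) : IsZero ((trunc K r).X q) :=
  HomologicalComplex.isZero_stupidTrunc_X _ _ _
    ((ComplexShape.notMem_range_embeddingUpIntLE_iff r q).2 hq)

lemma embLE_f (r q : ℤ) (hq : q ≤ r) :
    (ComplexShape.embeddingUpIntLE r).f (r - q).toNat = q := by
  simp only [ComplexShape.embeddingUpIntLE_f]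
  omega

lemma isIso_truncπ_f (K : DC A) (r q : ℤ) (hq : q ≤ r) : IsIso ((truncπ K r).f q) :=
  isIso_πStupid_f _ K (embLE_f r q hq)

/-- the comparison isomorphism of rows -/
noncomputable def truncXIso (K : DC A) (r q : ℤ) (hq : q ≤ r) : (trunc K r).X q ≅ K.X q :=
  HomologicalComplex.stupidTruncXIso K _ (embLE_f r q hq)

lemma truncMap_f {K L : DC A} (φ : K ⟶ L) (r q : ℤ) (hq : q ≤ r) :
    (truncMap φ r).f q = (truncXIso K r q hq).hom ≫ φ.f q ≫ (truncXIso L r q hq).inv := by
  rw [← Category.assoc, Iso.eq_comp_inv]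
  exact HomologicalComplex.stupidTruncMap_stupidTruncXIso_hom φ _ (embLE_f r q hq)

lemma bddBelow_trunc (K : DC A) (b a : ℤ) (hK : BddBelow K b a) (r : ℤ) :
    BddBelow (trunc K r) b a := by
  intro q p h
  by_cases hq : q ≤ r
  · exact (hK q p h).of_iso
      ((HomologicalComplex.eval A (ComplexShape.up ℤ) p).mapIso (truncXIso K r q hq))
  · exact (HomologicalComplex.eval A (ComplexShape.up ℤ) p).map_isZero
      (isZero_trunc_X K r q (by omega))

end DCTrunc

section Induction

/-- the single-row double complex -/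
noncomputable abbrev sgl (r : ℤ) (C : CochainComplex A ℤ) : DC A :=
  (HomologicalComplex.single (CochainComplex A ℤ) (ComplexShape.up ℤ) r).obj C

lemma isZero_sgl_X (r : ℤ) (C : CochainComplex A ℤ) (q : ℤ) (hq : q ≠ r) :
    IsZero ((sgl r C).X q) :=
  HomologicalComplex.isZero_single_obj_X _ _ _ _ hq

lemma bddBelow_sgl (C : CochainComplex A ℤ) (r b a : ℤ) (hb : b ≤ r)
    (hC : ∀ p, p < a → IsZero (C.X p)) : BddBelow (sgl r C) b a := by
  intro q p h
  by_cases hq : q = r
  · subst hq
    have : p < a := by omega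
    exact (hC p this).of_iso ((HomologicalComplex.eval A (ComplexShape.up ℤ) p).mapIso
      (HomologicalComplex.singleObjXSelf (ComplexShape.up ℤ) q C))
  · exact (HomologicalComplex.eval A (ComplexShape.up ℤ) p).map_isZero (isZero_sgl_X r C q hq)

/-- top-row inclusion as a map of double complexes -/
noncomputable def topInc (K : DC A) (r : ℤ) (hr : IsZero (K.X (r + 1))) : sgl r (K.X r) ⟶ K :=
  HomologicalComplex.mkHomFromSingle (𝟙 (K.X r)) (fun k hk => by
    obtain rfl : r + 1 = k := hk
    exact hr.eq_of_tgt _ _)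

lemma topInc_f (K : DC A) (r : ℤ) (hr : IsZero (K.X (r + 1))) :
    (topInc K r hr).f r =
      (HomologicalComplex.singleObjXSelf (ComplexShape.up ℤ) r (K.X r)).hom := by
  rw [topInc, HomologicalComplex.mkHomFromSingle_f, Category.comp_id]

lemma topInc_comp_truncπ (K : DC A) (r : ℤ) (hr : IsZero (K.X (r + 1))) :
    topInc K r hr ≫ truncπ K (r - 1) = 0 := by
  apply HomologicalComplex.from_single_hom_ext
  exact (isZero_trunc_X K (r - 1) r (by omega)).eq_of_tgt _ _

lemma topInc_naturality {K L : DC A} (φ : K ⟶ L) (r : ℤ) (hK : IsZero (K.X (r + 1)))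
    (hL : IsZero (L.X (r + 1))) :
    (HomologicalComplex.single (CochainComplex A ℤ) (ComplexShape.up ℤ) r).map (φ.f r) ≫
      topInc L r hL = topInc K r hK ≫ φ := by
  apply HomologicalComplex.from_single_hom_ext
  rw [HomologicalComplex.comp_f, HomologicalComplex.comp_f, topInc_f, topInc_f,
    HomologicalComplex.single_map_f_self]
  simp

lemma isIso_of_isZero {C : Type*} [Category C] [HasZeroMorphisms C] {X Y : C} (f : X ⟶ Y)
    (hX : IsZero X) (hY : IsZero Y) : IsIso f :=
  ⟨0, hX.eq_of_src _ _, hY.eq_of_src _ _⟩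

lemma splitCond_top (K : DC A) (r : ℤ) (hr : ∀ q, r < q → IsZero (K.X q)) :
    SplitCond (topInc K r (hr _ (by omega))) (truncπ K (r - 1)) := by
  intro q p
  by_cases hq : q = r
  · subst hq
    left
    constructor
    · rw [topInc_f]
      exact (inferInstance : IsIso ((HomologicalComplex.eval A (ComplexShape.up ℤ) p).map
        (HomologicalComplex.singleObjXSelf (ComplexShape.up ℤ) q (K.X q)).hom))
    · exact (HomologicalComplex.eval A (ComplexShape.up ℤ) p).map_isZero
        (isZero_trunc_X K (q - 1) q (by omega))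
  · right
    constructor
    · haveI : IsIso ((truncπ K (r - 1)).f q) := by
        by_cases hq' : q ≤ r - 1
        · exact isIso_truncπ_f K (r - 1) q hq'
        · exact isIso_of_isZero _ (hr q (by omega)) (isZero_trunc_X K (r - 1) q (by omega))
      exact (inferInstance : IsIso ((HomologicalComplex.eval A (ComplexShape.up ℤ) p).map
        ((truncπ K (r - 1)).f q)))
    · exact (HomologicalComplex.eval A (ComplexShape.up ℤ) p).map_isZero
        (isZero_sgl_X r (K.X r) q hq)

/-- the case of finitely many rows -/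
theorem quasiIso_total_map_of_bdd (j : ℕ) :
    ∀ (K L : DC A) (φ : K ⟶ L) (b a : ℤ) (_ : BddBelow K b a) (_ : BddBelow L b a)
      (_ : ∀ q, b + j ≤ q → IsZero (K.X q)) (_ : ∀ q, b + j ≤ q → IsZero (L.X q))
      [K.HasTotal (ComplexShape.up ℤ)] [L.HasTotal (ComplexShape.up ℤ)]
      (_ : ∀ q, QuasiIso (φ.f q)),
      QuasiIso (HomologicalComplex₂.total.map φ (ComplexShape.up ℤ)) := by
  induction j with
  | zero =>
    intro K L φ b a hK hL hK' hL' _ _ hφ
    have hKz : ∀ q p, IsZero ((K.X q).X p) := fun q p => by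
      by_cases hq : q < b
      · exact hK q p (Or.inl hq)
      · exact (HomologicalComplex.eval A (ComplexShape.up ℤ) p).map_isZero
          (hK' q (by simpa using (not_lt.1 hq)))
    have hLz : ∀ q p, IsZero ((L.X q).X p) := fun q p => by
      by_cases hq : q < b
      · exact hL q p (Or.inl hq)
      · exact (HomologicalComplex.eval A (ComplexShape.up ℤ) p).map_isZero
          (hL' q (by simpa using (not_lt.1 hq)))
    haveI : ∀ n, IsIso ((HomologicalComplex₂.total.map φ (ComplexShape.up ℤ)).f n) :=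
      fun n => isIso_total_map_f φ n (fun q p _ => isIso_of_isZero _ (hKz q p) (hLz q p))
    haveI : IsIso (HomologicalComplex₂.total.map φ (ComplexShape.up ℤ)) :=
      HomologicalComplex.Hom.isIso_of_components _
    infer_instance
  | succ j ih =>
    intro K L φ b a hK hL hK' hL' _ _ hφ
    have hKr : ∀ q, b + j < q → IsZero (K.X q) := fun q hq => hK' q (by push_cast; omega)
    have hLr : ∀ q, b + j < q → IsZero (L.X q) := fun q hq => hL' q (by push_cast; omega)
    haveI : (sgl (b + j) (K.X (b + j))).HasTotal (ComplexShape.up ℤ) :=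
      hasTotal_of_bddBelow _ b a (bddBelow_sgl _ (b + j) b a (by omega)
        (fun p hp => hK (b + j) p (Or.inr hp)))
    haveI : (sgl (b + j) (L.X (b + j))).HasTotal (ComplexShape.up ℤ) :=
      hasTotal_of_bddBelow _ b a (bddBelow_sgl _ (b + j) b a (by omega)
        (fun p hp => hL (b + j) p (Or.inr hp)))
    haveI : (trunc K (b + j - 1)).HasTotal (ComplexShape.up ℤ) :=
      hasTotal_of_bddBelow _ b a (bddBelow_trunc K b a hK _)
    haveI : (trunc L (b + j - 1)).HasTotal (ComplexShape.up ℤ) :=
      hasTotal_of_bddBelow _ b a (bddBelow_trunc L b a hL _)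
    let S₁ := totSC (topInc K (b + j) (hKr _ (by omega))) (truncπ K (b + j - 1))
      (topInc_comp_truncπ K (b + j) _)
    let S₂ := totSC (topInc L (b + j) (hLr _ (by omega))) (truncπ L (b + j - 1))
      (topInc_comp_truncπ L (b + j) _)
    have hS₁ : S₁.ShortExact := totSC_shortExact _ _ _ (splitCond_top K (b + j) hKr)
    have hS₂ : S₂.ShortExact := totSC_shortExact _ _ _ (splitCond_top L (b + j) hLr)
    let Φ : S₁ ⟶ S₂ :=
      { τ₁ := HomologicalComplex₂.total.map
          ((HomologicalComplex.single (CochainComplex A ℤ) (ComplexShape.up ℤ) (b + j)).map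
            (φ.f (b + j))) (ComplexShape.up ℤ)
        τ₂ := HomologicalComplex₂.total.map φ (ComplexShape.up ℤ)
        τ₃ := HomologicalComplex₂.total.map (truncMap φ (b + j - 1)) (ComplexShape.up ℤ)
        comm₁₂ := by
          dsimp only [S₁, S₂, totSC]
          rw [← HomologicalComplex₂.total.map_comp, ← HomologicalComplex₂.total.map_comp,
            topInc_naturality]
        comm₂₃ := by
          dsimp only [S₁, S₂, totSC]
          rw [← HomologicalComplex₂.total.map_comp, ← HomologicalComplex₂.total.map_comp,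
            truncπ_naturality] }
    have h₁ : QuasiIso Φ.τ₁ := by
      refine quasiIso_total_map_of_row _ (b + j) (isZero_sgl_X (b + j) _)
        (isZero_sgl_X (b + j) _) ?_
      haveI := hφ (b + j)
      rw [HomologicalComplex.single_map_f_self]
      infer_instance
    have h₃ : QuasiIso Φ.τ₃ := by
      refine ih (trunc K (b + j - 1)) (trunc L (b + j - 1)) (truncMap φ (b + j - 1)) b a
        (bddBelow_trunc K b a hK _) (bddBelow_trunc L b a hL _)
        (fun q hq => isZero_trunc_X K _ q (by omega))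
        (fun q hq => isZero_trunc_X L _ q (by omega)) ?_
      intro q
      by_cases hq : q ≤ b + j - 1
      · haveI := hφ q
        rw [truncMap_f φ _ q hq]
        infer_instance
      · haveI : IsIso ((truncMap φ (b + j - 1)).f q) :=
          isIso_of_isZero _ (isZero_trunc_X K _ q (by omega)) (isZero_trunc_X L _ q (by omega))
        infer_instance
    exact quasiIso_τ₂ Φ hS₁ hS₂ h₁ h₃

lemma quasiIso_truncMap_f {K L : DC A} (φ : K ⟶ L) (hφ : ∀ q, QuasiIso (φ.f q)) (r q : ℤ) :
    QuasiIso ((truncMap φ r).f q) := by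
  by_cases hq : q ≤ r
  · haveI := hφ q
    rw [truncMap_f φ _ q hq]
    infer_instance
  · haveI : IsIso ((truncMap φ r).f q) :=
      isIso_of_isZero _ (isZero_trunc_X K _ q (by omega)) (isZero_trunc_X L _ q (by omega))
    infer_instance

lemma isIso_total_map_truncπ_f (K : DC A) (b a : ℤ) (hK : BddBelow K b a) (r : ℤ)
    [K.HasTotal (ComplexShape.up ℤ)] [(trunc K r).HasTotal (ComplexShape.up ℤ)]
    (m : ℤ) (hm : m ≤ r + a) :
    IsIso ((HomologicalComplex₂.total.map (truncπ K r) (ComplexShape.up ℤ)).f m) := by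
  apply isIso_total_map_f
  intro q p hqp
  by_cases hq : q ≤ r
  · haveI := isIso_truncπ_f K r q hq
    exact (inferInstance : IsIso ((HomologicalComplex.eval A (ComplexShape.up ℤ) p).map
      ((truncπ K r).f q)))
  · exact isIso_of_isZero _ (hK q p (Or.inr (by omega)))
      ((HomologicalComplex.eval A (ComplexShape.up ℤ) p).map_isZero
        (isZero_trunc_X K r q (by omega)))

/-- **Main theorem** (rows indexed by the first index): a morphism of uniformly bounded below
double complexes which is a quasi-isomorphism on each row induces a quasi-isomorphism on total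
complexes. -/
theorem quasiIso_total_map_of_bddBelow (K L : DC A) (φ : K ⟶ L) (b a : ℤ)
    (hK : BddBelow K b a) (hL : BddBelow L b a)
    [K.HasTotal (ComplexShape.up ℤ)] [L.HasTotal (ComplexShape.up ℤ)]
    (hφ : ∀ q, QuasiIso (φ.f q)) :
    QuasiIso (HomologicalComplex₂.total.map φ (ComplexShape.up ℤ)) := by
  rw [quasiIso_iff]
  intro n
  haveI : (trunc K (n + 1 - a)).HasTotal (ComplexShape.up ℤ) :=
    hasTotal_of_bddBelow _ b a (bddBelow_trunc K b a hK _)
  haveI : (trunc L (n + 1 - a)).HasTotal (ComplexShape.up ℤ) :=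
    hasTotal_of_bddBelow _ b a (bddBelow_trunc L b a hL _)
  refine quasiIsoAt_of_square (HomologicalComplex₂.total.map φ (ComplexShape.up ℤ))
    (HomologicalComplex₂.total.map (truncMap φ (n + 1 - a)) (ComplexShape.up ℤ))
    (HomologicalComplex₂.total.map (truncπ K (n + 1 - a)) (ComplexShape.up ℤ))
    (HomologicalComplex₂.total.map (truncπ L (n + 1 - a)) (ComplexShape.up ℤ)) ?_ n ?_ ?_ ?_
  · rw [← HomologicalComplex₂.total.map_comp, ← HomologicalComplex₂.total.map_comp,
      truncπ_naturality]
  · intro m _ hm2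
    exact isIso_total_map_truncπ_f K b a hK _ m (by omega)
  · intro m _ hm2
    exact isIso_total_map_truncπ_f L b a hL _ m (by omega)
  · haveI := quasiIso_total_map_of_bdd (n + 1 - a + 1 - b).toNat (trunc K (n + 1 - a))
      (trunc L (n + 1 - a)) (truncMap φ (n + 1 - a)) b a
      (bddBelow_trunc K b a hK _) (bddBelow_trunc L b a hL _)
      (fun q hq => isZero_trunc_X K _ q (by omega))
      (fun q hq => isZero_trunc_X L _ q (by omega))
      (quasiIso_truncMap_f φ hφ _)
    infer_instance

end Induction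

section Flip

variable (K L : DC A) (φ : K ⟶ L) [K.HasTotal (ComplexShape.up ℤ)] [L.HasTotal (ComplexShape.up ℤ)]

/-- the flipped morphism -/
abbrev flipMap : K.flip ⟶ L.flip :=
  (HomologicalComplex₂.flipFunctor A (ComplexShape.up ℤ) (ComplexShape.up ℤ)).map φ

omit [Abelian A] in
lemma units_smul_comm [Preadditive A] {X Y Z W : A} (u : ℤˣ) (f : X ⟶ Y) (g : Y ⟶ W)
    (f' : X ⟶ Z) (g' : Z ⟶ W) (h : f ≫ g = f' ≫ g') : f ≫ (u • g) = (u • f') ≫ g' := by
  obtain rfl | rfl := Int.units_eq_one_or u
  · rw [one_smul, one_smul, h]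
  · rw [Units.neg_smul, Units.neg_smul, one_smul, one_smul, Preadditive.comp_neg,
      Preadditive.neg_comp, h]

lemma totalFlipIso_naturality :
    HomologicalComplex₂.total.map (flipMap K L φ) (ComplexShape.up ℤ) ≫
      (L.totalFlipIso (ComplexShape.up ℤ)).hom =
    (K.totalFlipIso (ComplexShape.up ℤ)).hom ≫
      HomologicalComplex₂.total.map φ (ComplexShape.up ℤ) := by
  ext n q p hqp
  simp only [HomologicalComplex.comp_f, HomologicalComplex₂.ιTotal_map_assoc,
    HomologicalComplex₂.ιTotal_totalFlipIso_f_hom_assoc,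
    HomologicalComplex₂.ιTotal_totalFlipIso_f_hom]
  have key : (φ.f p).f q ≫ L.ιTotal (ComplexShape.up ℤ) p q n (by rw [← hqp]; exact add_comm p q) =
      K.ιTotal (ComplexShape.up ℤ) p q n (by rw [← hqp]; exact add_comm p q) ≫
        (HomologicalComplex₂.total.map φ (ComplexShape.up ℤ)).f n :=
    (HomologicalComplex₂.ιTotal_map K L φ (ComplexShape.up ℤ) p q n _).symm
  exact units_smul_comm _ _ _ _ _ key

omit [K.HasTotal (ComplexShape.up ℤ)] [L.HasTotal (ComplexShape.up ℤ)] in
lemma quasiIso_flipMap_f [QuasiIso φ] (q : ℤ) : QuasiIso ((flipMap K L φ).f q) :=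
  (inferInstance : QuasiIso (((HomologicalComplex.eval A (ComplexShape.up ℤ) q).mapHomologicalComplex
    (ComplexShape.up ℤ)).map φ))

/-- **Main theorem**, in the form of S8566. -/
theorem quasiIso_total_map (a b : ℤ)
    (hK : ∀ p q : ℤ, p < a ∨ q < b → IsZero ((K.X p).X q))
    (hL : ∀ p q : ℤ, p < a ∨ q < b → IsZero ((L.X p).X q)) [QuasiIso φ] :
    QuasiIso (HomologicalComplex₂.total.map φ (ComplexShape.up ℤ)) := by
  haveI := quasiIso_total_map_of_bddBelow K.flip L.flip (flipMap K L φ) b a
    (fun q p h => hK p q h.symm) (fun q p h => hL p q h.symm) (quasiIso_flipMap_f K L φ)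
  have h := totalFlipIso_naturality K L φ
  haveI : QuasiIso ((K.totalFlipIso (ComplexShape.up ℤ)).hom ≫
      HomologicalComplex₂.total.map φ (ComplexShape.up ℤ)) := by
    rw [← h]
    infer_instance
  exact quasiIso_of_comp_left (K.totalFlipIso (ComplexShape.up ℤ)).hom _

end Flip

end Groth.Agent.Lib.Helper17.TotQis
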