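import Mathlib
import Groth.Agent.Lib.Helper17.PResTower

/-!
# Resolutions of short exact sequences of bounded above complexes by a class of objects
-/

set_option autoImplicit false
set_option linter.style.haveILetI false
set_option linter.unusedSectionVars false

open CategoryTheory CategoryTheory.Limits HomologicalComplex

namespace Groth.Agent.Lib.Helper17.PRes

universe u v

variable {A : Type u} [Category.{v} A] [Abelian A]

/-- a short exact sequence of strictly bounded above complexes is resolved by a short exact sequence of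
complexes with terms in `P` (`P` closed under isomorphisms and finite sums) -/
theorem exists_shortExact_resolution {P : ObjectProperty A} (hP : Hyp P) (cv : Cover P)
    (S : ShortComplex (CochainComplex A ℤ)) (hS : S.ShortExact) (n : ℤ)
    [S.X₁.IsStrictlyLE n] [S.X₂.IsStrictlyLE n] [S.X₃.IsStrictlyLE n] :
    ∃ (T : ShortComplex (CochainComplex A ℤ)) (φ : T ⟶ S), T.ShortExact ∧
      T.X₁.IsStrictlyLE n ∧ T.X₂.IsStrictlyLE n ∧ T.X₃.IsStrictlyLE n ∧
      (∀ k : ℤ, P (T.X₁.X k) ∧ P (T.X₂.X k) ∧ P (T.X₃.X k)) ∧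
      QuasiIso φ.τ₁ ∧ QuasiIso φ.τ₂ ∧ QuasiIso φ.τ₃ := by
  haveI := hP.iso
  obtain ⟨P₁, α₁, hP₁, hmem₁, hepi₁, hqi₁⟩ := exists_resolution hP.zero cv n S.X₁
  haveI := hP₁
  obtain ⟨P₂, hP₂, i, α₂, hi, hqi₂, hepi₂, hstr⟩ := relZ hP.zero cv n (α₁ ≫ S.f)
  haveI := hP₂
  haveI : ∀ k, Mono (i.f k) := fun k => by
    obtain ⟨R, e, hR, he⟩ := hstr k
    haveI : Mono (i.f k ≫ e.hom) := by rw [he]; infer_instance
    exact mono_of_mono (i.f k) e.hom
  haveI : Mono i := HomologicalComplex.mono_of_mono_f i inferInstance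
  let T : ShortComplex (CochainComplex A ℤ) :=
    ShortComplex.mk i (cokernel.π i) (cokernel.condition i)
  have hT : T.ShortExact :=
    { exact := ShortComplex.exact_cokernel i
      mono_f := inferInstanceAs (Mono i)
      epi_g := inferInstanceAs (Epi (cokernel.π i)) }
  let α₃ : cokernel i ⟶ S.X₃ := cokernel.desc i (α₂ ≫ S.g) (by
    rw [← Category.assoc, hi, Category.assoc, S.zero, comp_zero])
  let φ : T ⟶ S :=
    { τ₁ := α₁
      τ₂ := α₂
      τ₃ := α₃
      comm₁₂ := hi.symm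
      comm₂₃ := (cokernel.π_desc _ _ _).symm }
  have hcok : ∀ k, Nonempty ((cokernel i).X k ≅ cokernel (i.f k)) := fun k =>
    ⟨PreservesCokernel.iso (HomologicalComplex.eval A (ComplexShape.up ℤ) k) i⟩
  refine ⟨T, φ, hT, hP₁, hP₂, ?_, fun k => ⟨hmem₁ k, ?_, ?_⟩, hqi₁, hqi₂, ?_⟩
  · change CochainComplex.IsStrictlyLE (cokernel i) n
    rw [CochainComplex.isStrictlyLE_iff]
    intro k hk
    obtain ⟨e⟩ := hcok k
    refine IsZero.of_iso ?_ e
    exact IsZero.of_epi (cokernel.π (i.f k)) (P₂.isZero_of_isStrictlyLE n k hk)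
  · obtain ⟨R, e, hR, -⟩ := hstr k
    exact P.prop_of_iso e.symm (hP.sum _ _ (hmem₁ k) hR)
  · obtain ⟨R, e, hR, he⟩ := hstr k
    obtain ⟨e'⟩ := hcok k
    exact P.prop_of_iso (e' ≪≫ cokernelIsoOfSplit (i.f k) e he).symm hR
  · exact HomologicalComplex.HomologySequence.quasiIso_τ₃ φ hT hS hqi₁ hqi₂

end Groth.Agent.Lib.Helper17.PRes
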