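import Mathlib
import Groth.Agent.Lib.Helper17.SESRes

/-!
# Relative right resolutions by a class of objects (dual of `PRes`)

`A` abelian, `I` a class of objects such that every object is a subobject of an object of `I`.
Any morphism `φ₀ : L ⟶ Q₀` of `ℕ`-indexed cochain complexes factors as `L ⟶ Q₁ ⟶ Q₀` with
`Q₁.X n ≅ Q₀.X n ⊞ R n`, `I (R n)`, the second map the projection and the first a termwise
monomorphic quasi-isomorphism.  Obtained from `PRes.exists_factorization` in `Aᵒᵖ`.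
-/

set_option autoImplicit false
set_option linter.style.haveILetI false
set_option linter.unusedSectionVars false

open CategoryTheory CategoryTheory.Limits Opposite

namespace Groth.Agent.Lib.Helper17.IRes

open Groth.Agent.Lib.Helper17.PRes

universe u v

variable {A : Type u} [Category.{v} A] [Abelian A]

/-- chosen hulls in objects of `I` -/
structure Hull (I : A → Prop) where
  obj : A → A
  ι : ∀ X, X ⟶ obj X
  mono : ∀ X, Mono (ι X)
  mem : ∀ X, I (obj X)

/-- hulls from existence -/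
noncomputable def Hull.ofExists {I : A → Prop}
    (hI : ∀ X : A, ∃ (Y : A) (ι : X ⟶ Y), I Y ∧ Mono ι) : Hull I where
  obj X := (hI X).choose
  ι X := (hI X).choose_spec.choose
  mono X := (hI X).choose_spec.choose_spec.2
  mem X := (hI X).choose_spec.choose_spec.1

/-- a hull gives a cover in the opposite category -/
noncomputable def Hull.cover {I : A → Prop} (h : Hull I) : Cover (fun X : Aᵒᵖ => I X.unop) where
  obj X := op (h.obj X.unop)
  π X := (h.ι X.unop).op
  epi X := by haveI := h.mono X.unop; infer_instance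
  mem X := h.mem X.unop

/-- `unop` of a biproduct -/
noncomputable def unopBiprodIso (X Y : Aᵒᵖ) : (X ⊞ Y).unop ≅ X.unop ⊞ Y.unop where
  hom := biprod.lift (biprod.inl : X ⟶ X ⊞ Y).unop (biprod.inr : Y ⟶ X ⊞ Y).unop
  inv := biprod.desc (biprod.fst : X ⊞ Y ⟶ X).unop (biprod.snd : X ⊞ Y ⟶ Y).unop
  hom_inv_id := by
    rw [biprod.lift_desc, ← unop_comp, ← unop_comp, ← unop_add, biprod.total]
    rfl
  inv_hom_id := by
    apply biprod.hom_ext <;> apply biprod.hom_ext' <;>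
      simp [← unop_comp]

lemma unopBiprodIso_hom_fst (X Y : Aᵒᵖ) :
    (unopBiprodIso X Y).hom ≫ biprod.fst = (biprod.inl : X ⟶ X ⊞ Y).unop := by
  simp [unopBiprodIso]

/-- **Relative right resolution, `ℕ`-indexed cochain complexes.** -/
theorem exists_cofactorization {I : A → Prop} (hl : Hull I) {L Q₀ : CochainComplex A ℕ}
    (φ₀ : L ⟶ Q₀) :
    ∃ (Q : CochainComplex A ℕ) (j : L ⟶ Q) (p : Q ⟶ Q₀), j ≫ p = φ₀ ∧ QuasiIso j ∧
      (∀ n, Mono (j.f n)) ∧
      ∀ n, ∃ (R : A) (e : Q.X n ≅ Q₀.X n ⊞ R), I R ∧ e.inv ≫ p.f n = biprod.fst := by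
  let L' : ChainComplex Aᵒᵖ ℕ := L.op
  let Q₀' : ChainComplex Aᵒᵖ ℕ := Q₀.op
  let φ₀' : Q₀' ⟶ L' := (HomologicalComplex.opFunctor A (ComplexShape.up ℕ)).map φ₀.op
  obtain ⟨Q', i', p', hip, hqi, hepi, hstr⟩ := exists_factorization hl.cover φ₀'
  let Q : CochainComplex A ℕ := Q'.unop
  let j : L ⟶ Q := (HomologicalComplex.unopFunctor A (ComplexShape.down ℕ)).map p'.op
  let p : Q ⟶ Q₀ := (HomologicalComplex.unopFunctor A (ComplexShape.down ℕ)).map i'.op
  refine ⟨Q, j, p, ?_, ?_, ?_, ?_⟩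
  · ext n
    have := congr_arg (fun f => (HomologicalComplex.Hom.f f n).unop) hip
    exact this
  · exact (HomologicalComplex.quasiIso_unopFunctor_map_iff p').mpr hqi
  · intro n
    haveI := hepi n
    change Mono ((p'.f n).unop)
    infer_instance
  · intro n
    obtain ⟨R, e, hR, he⟩ := hstr n
    refine ⟨R.unop, e.symm.unop ≪≫ unopBiprodIso _ _, hR, ?_⟩
    rw [Iso.trans_inv, Category.assoc]
    have h1 : (e.symm.unop).inv ≫ p.f n = (biprod.inl : Q₀'.X n ⟶ Q₀'.X n ⊞ R).unop := by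
      change e.hom.unop ≫ (i'.f n).unop = _
      rw [← unop_comp, he]
    have h2 : (unopBiprodIso (Q₀'.X n) R).inv ≫
        (biprod.inl : Q₀'.X n ⟶ Q₀'.X n ⊞ R).unop = biprod.fst := by
      rw [← unopBiprodIso_hom_fst, Iso.inv_hom_id_assoc]
    exact (congr_arg (fun t => (unopBiprodIso (Q₀'.X n) R).inv ≫ t) h1).trans h2

open HomologicalComplex in
/-- **Relative right resolution, bounded-below cochain complexes.** -/
theorem corelZ {I : A → Prop} (hI0 : ∃ Z : A, IsZero Z ∧ I Z) (hl : Hull I) (a : ℤ)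
    {L Q₀ : CochainComplex A ℤ} [L.IsStrictlyGE a] [Q₀.IsStrictlyGE a] (φ₀ : L ⟶ Q₀) :
    ∃ (Q₁ : CochainComplex A ℤ) (_ : Q₁.IsStrictlyGE a) (j : L ⟶ Q₁) (p : Q₁ ⟶ Q₀),
      j ≫ p = φ₀ ∧ QuasiIso j ∧ (∀ k, Mono (j.f k)) ∧
      ∀ k, ∃ (R : A) (e : Q₁.X k ≅ Q₀.X k ⊞ R), I R ∧ e.inv ≫ p.f k = biprod.fst := by
  let e := ComplexShape.embeddingUpIntGE a
  obtain ⟨Q', j', p', hjp, hqi, hmono, hstr⟩ := exists_cofactorization hl (restrictionMap φ₀ e)
  refine ⟨Q'.extend e, inferInstance, unitRE e L ≫ extendMap j' e,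
    extendMap p' e ≫ inv (unitRE e Q₀), ?_, ?_, ?_, ?_⟩
  · rw [Category.assoc, ← extendMap_comp_assoc, hjp, unitRE_naturality_assoc, IsIso.hom_inv_id,
      Category.comp_id]
  · haveI : QuasiIso (extendMap j' e) := (quasiIso_extendMap_iff j' e).mpr hqi
    infer_instance
  · intro k
    rw [HomologicalComplex.comp_f]
    haveI : Mono ((extendMap j' e).f k) := by
      by_cases hk : ∃ n, e.f n = k
      · obtain ⟨n, hn⟩ := hk
        rw [extendMap_f j' e hn]
        haveI := hmono n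
        infer_instance
      · have hz : IsZero (((L.restriction e).extend e).X k) :=
          isZero_extend_X _ _ _ (by simpa using hk)
        exact ⟨fun g h _ => hz.eq_of_tgt g h⟩
    infer_instance
  · intro k
    by_cases hk : ∃ n, e.f n = k
    · obtain ⟨n, rfl⟩ := hk
      obtain ⟨R, eR, hR, heR⟩ := hstr n
      refine ⟨R, Q'.extendXIso e rfl ≪≫ eR, hR, ?_⟩
      rw [← cancel_mono ((unitRE e Q₀).f (e.f n))]
      simp only [Iso.trans_inv, Category.assoc, HomologicalComplex.comp_f]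
      rw [← HomologicalComplex.comp_f (inv (unitRE e Q₀)), IsIso.inv_hom_id,
        HomologicalComplex.id_f, Category.comp_id, extendMap_f p' e rfl, unitRE_f]
      simp only [Iso.inv_hom_id_assoc]
      erw [reassoc_of% heR]
      rfl
    · obtain ⟨Z, hZ, hIZ⟩ := hI0
      have h1 : IsZero ((Q'.extend e).X k) := isZero_extend_X _ _ _ (by simpa using hk)
      have h2 : IsZero (Q₀.X k) :=
        Q₀.isZero_X_of_isStrictlySupported e k (by simpa using hk)
      exact ⟨Z, h1.iso (isZero_biprod h2 hZ), hIZ, h2.eq_of_tgt _ _⟩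

/-- **Absolute right resolution**: a strictly bounded below complex admits a termwise monomorphic
quasi-isomorphism to a complex with the same bound and all terms in `I`. -/
theorem exists_coresolution {I : A → Prop} (hI0 : ∃ Z : A, IsZero Z ∧ I Z) (hl : Hull I) (a : ℤ)
    (K : CochainComplex A ℤ) [K.IsStrictlyGE a] :
    ∃ (Q : CochainComplex A ℤ) (α : K ⟶ Q), Q.IsStrictlyGE a ∧ (∀ n, I (Q.X n)) ∧
      (∀ n, Mono (α.f n)) ∧ QuasiIso α := by
  haveI : CochainComplex.IsStrictlyGE (HomologicalComplex.zero : CochainComplex A ℤ) a :=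
    ⟨fun i _ => isZero_zero A⟩
  obtain ⟨Q₁, hQ₁, j, p, -, hqi, hmono, hstr⟩ :=
    corelZ hI0 hl a (0 : K ⟶ (HomologicalComplex.zero : CochainComplex A ℤ))
  choose R e hR _ using hstr
  have hz : ∀ k, IsZero ((HomologicalComplex.zero : CochainComplex A ℤ).X k) :=
    fun k => isZero_zero A
  let E := transportIso Q₁ R (fun k => e k ≪≫ zeroBiprodIso (hz k))
  refine ⟨transport Q₁ R (fun k => e k ≪≫ zeroBiprodIso (hz k)), j ≫ E.hom, ?_, hR, ?_, ?_⟩
  · exact CochainComplex.isStrictlyGE_of_iso E a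
  · intro n
    rw [HomologicalComplex.comp_f]
    haveI := hmono n
    infer_instance
  · infer_instance

section TruncMap

variable (K : CochainComplex A ℤ)

/-- transition map between canonical truncations -/
noncomputable def truncGEge (a b : ℤ) (h : a ≤ b) : K.truncGE a ⟶ K.truncGE b :=
  haveI := (K.truncGE b).isStrictlyGE_of_ge a b h
  CochainComplex.truncGEMap (K.πTruncGE b) a ≫ inv ((K.truncGE b).πTruncGE a)

@[reassoc (attr := simp)]
lemma π_truncGEge (a b : ℤ) (h : a ≤ b) : K.πTruncGE a ≫ truncGEge K a b h = K.πTruncGE b := by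
  haveI := (K.truncGE b).isStrictlyGE_of_ge a b h
  rw [truncGEge, ← Category.assoc, CochainComplex.πTruncGE_naturality, Category.assoc,
    IsIso.hom_inv_id, Category.comp_id]

end TruncMap

section Split

variable {X Y R : A} (p : Y ⟶ X) (e : Y ≅ X ⊞ R) (he : e.inv ≫ p = biprod.fst)
include he

lemma exists_section : ∃ s : X ⟶ Y, s ≫ p = 𝟙 X :=
  ⟨biprod.inl ≫ e.inv, by rw [Category.assoc, he, biprod.inl_fst]⟩

/-- the kernel of a split surjection with complement `R` -/
noncomputable def kernelIsoOfSplit : kernel p ≅ R :=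
  kernelIsoOfEq (show p = e.hom ≫ biprod.fst by rw [← he, Iso.hom_inv_id_assoc]) ≪≫
    kernelIsIsoComp _ _ ≪≫ kernelBiprodFstIso

end Split

open HomologicalComplex.HomologySequence ComposableArrows in
/-- two-out-of-three for quasi-isomorphisms between short exact sequences of `ℤ`-indexed cochain
complexes: the first map -/
lemma quasiIso_τ₁ {S₁ S₂ : ShortComplex (CochainComplex A ℤ)} (φ : S₁ ⟶ S₂)
    (hS₁ : S₁.ShortExact) (hS₂ : S₂.ShortExact) (h₂ : QuasiIso φ.τ₂) (h₃ : QuasiIso φ.τ₃) :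
    QuasiIso φ.τ₁ := by
  rw [quasiIso_iff]
  intro j
  rw [quasiIsoAt_iff_isIso_homologyMap]
  have hij : (ComplexShape.up ℤ).Rel (j - 1) j := by simp
  refine Abelian.isIso_of_epi_of_isIso_of_isIso_of_mono
    (composableArrows₅_exact hS₁ _ _ hij).δ₀ (composableArrows₅_exact hS₂ _ _ hij).δ₀
    (δ₀Functor.map (mapComposableArrows₅ φ hS₁ hS₂ _ _ hij)) ?_ ?_ ?_ ?_
  · change Epi (HomologicalComplex.homologyMap φ.τ₂ (j - 1))
    infer_instance
  · change IsIso (HomologicalComplex.homologyMap φ.τ₃ (j - 1))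
    infer_instance
  · change IsIso (HomologicalComplex.homologyMap φ.τ₂ j)
    infer_instance
  · change Mono (HomologicalComplex.homologyMap φ.τ₃ j)
    infer_instance

/-- a short exact sequence of strictly bounded below complexes maps quasi-isomorphically to a short
exact sequence of complexes with terms in `I` (`I` closed under isomorphisms and finite sums) -/
theorem exists_shortExact_coresolution {I : ObjectProperty A} (hI : Hyp I) (hl : Hull I)
    (S : ShortComplex (CochainComplex A ℤ)) (hS : S.ShortExact) (n : ℤ)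
    [S.X₁.IsStrictlyGE n] [S.X₂.IsStrictlyGE n] [S.X₃.IsStrictlyGE n] :
    ∃ (T : ShortComplex (CochainComplex A ℤ)) (φ : S ⟶ T), T.ShortExact ∧
      T.X₁.IsStrictlyGE n ∧ T.X₂.IsStrictlyGE n ∧ T.X₃.IsStrictlyGE n ∧
      (∀ k : ℤ, I (T.X₁.X k) ∧ I (T.X₂.X k) ∧ I (T.X₃.X k)) ∧
      QuasiIso φ.τ₁ ∧ QuasiIso φ.τ₂ ∧ QuasiIso φ.τ₃ := by
  haveI := hI.iso
  obtain ⟨I₃, α₃, hI₃, hmem₃, hmono₃, hqi₃⟩ := exists_coresolution hI.zero hl n S.X₃
  haveI := hI₃
  obtain ⟨I₂, hI₂, α₂, p, hp, hqi₂, hmono₂, hstr⟩ := corelZ hI.zero hl n (S.g ≫ α₃)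
  haveI := hI₂
  haveI : ∀ k, Epi (p.f k) := fun k => by
    obtain ⟨R, e, hR, he⟩ := hstr k
    haveI : Epi (e.inv ≫ p.f k) := by rw [he]; infer_instance
    exact epi_of_epi e.inv (p.f k)
  haveI : Epi p := HomologicalComplex.epi_of_epi_f p inferInstance
  let T : ShortComplex (CochainComplex A ℤ) :=
    ShortComplex.mk (kernel.ι p) p (kernel.condition p)
  have hT : T.ShortExact :=
    { exact := ShortComplex.exact_kernel p
      mono_f := inferInstanceAs (Mono (kernel.ι p))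
      epi_g := inferInstanceAs (Epi p) }
  let α₁ : S.X₁ ⟶ kernel p := kernel.lift p (S.f ≫ α₂) (by
    rw [Category.assoc, hp, ← Category.assoc, S.zero, zero_comp])
  let φ : S ⟶ T :=
    { τ₁ := α₁
      τ₂ := α₂
      τ₃ := α₃
      comm₁₂ := kernel.lift_ι _ _ _
      comm₂₃ := hp }
  have hker : ∀ k, Nonempty ((kernel p).X k ≅ kernel (p.f k)) := fun k =>
    ⟨PreservesKernel.iso (HomologicalComplex.eval A (ComplexShape.up ℤ) k) p⟩
  refine ⟨T, φ, hT, ?_, hI₂, hI₃, fun k => ⟨?_, ?_, hmem₃ k⟩, ?_, hqi₂, hqi₃⟩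
  · change CochainComplex.IsStrictlyGE (kernel p) n
    rw [CochainComplex.isStrictlyGE_iff]
    intro k hk
    obtain ⟨e⟩ := hker k
    refine IsZero.of_iso ?_ e
    exact IsZero.of_mono (kernel.ι (p.f k)) (I₂.isZero_of_isStrictlyGE n k hk)
  · obtain ⟨R, e, hR, he⟩ := hstr k
    obtain ⟨e'⟩ := hker k
    exact I.prop_of_iso (e' ≪≫ kernelIsoOfSplit (p.f k) e he).symm hR
  · obtain ⟨R, e, hR, -⟩ := hstr k
    exact I.prop_of_iso e.symm (hI.sum _ _ (hmem₃ k) hR)
  · exact quasiIso_τ₁ φ hS hT hqi₂ hqi₃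

section Tower

/-- a stage of the inverse system -/
structure CoStage (I : ObjectProperty A) (K : CochainComplex A ℤ) (n : ℕ) where
  Q : CochainComplex A ℤ
  hQ : Q.IsStrictlyGE (-(n : ℤ))
  π : K.truncGE (-(n : ℤ)) ⟶ Q
  qi : QuasiIso π
  mono : ∀ i, Mono (π.f i)
  mem : ∀ i, I (Q.X i)

variable {I : ObjectProperty A} (hI : Hyp I) (hl : Hull I) (K : CochainComplex A ℤ)

include hI hl in
lemma exists_costage_zero : Nonempty (CoStage I K 0) := by
  obtain ⟨Q, α, hQ, hmem, hmono, hqi⟩ :=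
    exists_coresolution hI.zero hl (-((0 : ℕ) : ℤ)) (K.truncGE (-((0 : ℕ) : ℤ)))
  exact ⟨⟨Q, hQ, α, hqi, hmono, hmem⟩⟩

include hI hl in
lemma exists_conext {n : ℕ} (s : CoStage I K n) :
    ∃ (s' : CoStage I K (n + 1)) (p : s'.Q ⟶ s.Q),
      s'.π ≫ p = truncGEge K (-((n + 1 : ℕ) : ℤ)) (-(n : ℤ)) (by push_cast; omega) ≫ s.π ∧
      ∀ i, (∃ r : s.Q.X i ⟶ s'.Q.X i, r ≫ p.f i = 𝟙 _) ∧ I (kernel (p.f i)) := by
  haveI := hI.iso
  haveI := s.hQ
  haveI : s.Q.IsStrictlyGE (-((n + 1 : ℕ) : ℤ)) :=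
    s.Q.isStrictlyGE_of_ge _ (-(n : ℤ)) (by push_cast; omega)
  obtain ⟨Q₁, hQ₁, j, p, hjp, hqi, hmono, hstr⟩ := corelZ hI.zero hl (-((n + 1 : ℕ) : ℤ))
    (truncGEge K (-((n + 1 : ℕ) : ℤ)) (-(n : ℤ)) (by push_cast; omega) ≫ s.π)
  refine ⟨⟨Q₁, hQ₁, j, hqi, hmono, fun k => ?_⟩, p, hjp, fun k => ?_⟩
  · obtain ⟨R, e, hR, -⟩ := hstr k
    exact I.prop_of_iso e.symm (hI.sum _ _ (s.mem k) hR)
  · obtain ⟨R, e, hR, he⟩ := hstr k
    exact ⟨exists_section (p.f k) e he,
      I.prop_of_iso (kernelIsoOfSplit (p.f k) e he).symm hR⟩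

/-- the stages, chosen recursively -/
noncomputable def costages (hI : Hyp I) (hl : Hull I) (K : CochainComplex A ℤ) :
    ∀ n : ℕ, CoStage I K n
  | 0 => (exists_costage_zero hI hl K).some
  | n + 1 => (exists_conext hI hl K (costages hI hl K n)).choose

/-- the transition maps -/
noncomputable def costageP (n : ℕ) :
    (costages hI hl K (n + 1)).Q ⟶ (costages hI hl K n).Q :=
  (exists_conext hI hl K (costages hI hl K n)).choose_spec.choose

lemma costageP_spec (n : ℕ) :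
    (costages hI hl K (n + 1)).π ≫ costageP hI hl K n =
        truncGEge K (-((n + 1 : ℕ) : ℤ)) (-(n : ℤ)) (by push_cast; omega) ≫
          (costages hI hl K n).π ∧
      ∀ i, (∃ r : (costages hI hl K n).Q.X i ⟶ (costages hI hl K (n + 1)).Q.X i,
        r ≫ (costageP hI hl K n).f i = 𝟙 _) ∧ I (kernel ((costageP hI hl K n).f i)) :=
  (exists_conext hI hl K (costages hI hl K n)).choose_spec.choose_spec

include hI hl in
/-- **Special inverse system of right resolutions**. -/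
theorem exists_cotower :
    ∃ (Q : ℕ → CochainComplex A ℤ) (p : ∀ n, Q (n + 1) ⟶ Q n)
      (π : ∀ n : ℕ, K.truncGE (-(n : ℤ)) ⟶ Q n),
      (∀ n, QuasiIso (π n) ∧ ∀ i, Mono ((π n).f i)) ∧
      (∀ n, (Q n).IsStrictlyGE (-(n : ℤ))) ∧ (∀ n i, I ((Q n).X i)) ∧
      (∀ n i, (∃ s : (Q n).X i ⟶ (Q (n + 1)).X i, s ≫ (p n).f i = 𝟙 _) ∧
        I (kernel ((p n).f i))) ∧
      (∀ n : ℕ, K.πTruncGE (-((n + 1 : ℕ) : ℤ)) ≫ π (n + 1) ≫ p n =
        K.πTruncGE (-(n : ℤ)) ≫ π n) := by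
  refine ⟨fun n => (costages hI hl K n).Q, costageP hI hl K,
    fun n => (costages hI hl K n).π, fun n => ⟨(costages hI hl K n).qi,
      (costages hI hl K n).mono⟩, fun n => (costages hI hl K n).hQ,
    fun n => (costages hI hl K n).mem, fun n => (costageP_spec hI hl K n).2,
    fun n => ?_⟩
  rw [(costageP_spec hI hl K n).1, π_truncGEge_assoc]

end Tower

end Groth.Agent.Lib.Helper17.IRes
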