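import Mathlib
import Groth.Prelude.Def_KZero

/-!
# K₀ of a thick subcategory and of the bounded derived category with cohomology in it
-/

universe w v u

open CategoryTheory Limits KZero ZeroObject

namespace Groth.Agent.Lib.Helper17.K0Der

section Abelian

variable {C : Type u} [Category.{v} C] [Abelian C] (P : ObjectProperty C)

lemma clSub_eq {X : C} (hX : P X) :
    clSub P X = QuotientAddGroup.mk (FreeAbelianGroup.of ⟨X, hX⟩) := by
  simp [clSub, hX]

lemma clSub_of_shortExact (S : ShortComplex C) (hS : S.ShortExact)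
    (h₁ : P S.X₁) (h₂ : P S.X₂) (h₃ : P S.X₃) :
    clSub P S.X₂ = clSub P S.X₁ + clSub P S.X₃ := by
  rw [clSub_eq P h₁, clSub_eq P h₂, clSub_eq P h₃, ← QuotientAddGroup.mk_add,
    ← sub_eq_zero, ← QuotientAddGroup.mk_sub, QuotientAddGroup.eq_zero_iff]
  apply AddSubgroup.subset_closure
  exact ⟨S, h₁, h₂, h₃, hS, by abel⟩

variable [P.IsClosedUnderIsomorphisms] [P.ContainsZero]

lemma clSub_of_isZero {X : C} (hX : IsZero X) : clSub P X = 0 := by
  have hP : P X := P.prop_of_isZero hX
  have hS : (ShortComplex.mk (0 : X ⟶ X) (0 : X ⟶ X) zero_comp).ShortExact :=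
    { exact := ShortComplex.exact_of_isZero_X₂ _ hX
      mono_f := ⟨fun _ _ _ => hX.eq_of_tgt _ _⟩
      epi_g := ⟨fun _ _ _ => hX.eq_of_src _ _⟩ }
  have := clSub_of_shortExact P _ hS hP hP hP
  dsimp at this
  exact (add_eq_left.mp this.symm)

lemma clSub_of_iso {X Y : C} (e : X ≅ Y) (hX : P X) :
    clSub P X = clSub P Y := by
  have hY : P Y := P.prop_of_iso e hX
  have hS : (ShortComplex.mk e.hom (0 : Y ⟶ (0 : C)) comp_zero).ShortExact :=
    { exact := (ShortComplex.exact_iff_epi _ rfl).2 (by dsimp; infer_instance)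
      mono_f := by dsimp; infer_instance
      epi_g := ⟨fun _ _ _ => (isZero_zero C).eq_of_src _ _⟩ }
  have := clSub_of_shortExact P _ hS hX hY (P.prop_of_isZero (isZero_zero C))
  dsimp at this
  rw [this, clSub_of_isZero P (isZero_zero C), add_zero]

variable [P.IsClosedUnderKernels]

/-- for an exact sequence `X₁ ⟶ X₂ ⟶ X₃`, `[X₁] = [ker f] + [ker g]` -/
lemma clSub_of_exact (S : ShortComplex C) (hS : S.Exact)
    (h₁ : P S.X₁) (h₂ : P S.X₂) (h₃ : P S.X₃) :
    clSub P S.X₁ = clSub P (kernel S.f) + clSub P (kernel S.g) := by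
  have hk₁ : P (kernel S.f) := P.prop_kernel _ h₁ h₂
  have hk₂ : P (kernel S.g) := P.prop_kernel _ h₂ h₃
  let S' : ShortComplex C := ShortComplex.mk (kernel.ι S.f) (kernel.lift S.g S.f S.zero)
    (by ext; simp)
  have hS' : S'.ShortExact :=
    { exact := by
        let S'' : ShortComplex C := ShortComplex.mk (kernel.ι S.f) S.f (kernel.condition _)
        let φ : S' ⟶ S'' :=
          { τ₁ := 𝟙 _
            τ₂ := 𝟙 _
            τ₃ := kernel.ι S.g
            comm₁₂ := by simp [S', S'']
            comm₂₃ := by simp [S', S''] }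
        have : Epi φ.τ₁ := by dsimp [φ]; infer_instance
        have : IsIso φ.τ₂ := by dsimp [φ]; infer_instance
        have : Mono φ.τ₃ := by dsimp [φ]; infer_instance
        exact (ShortComplex.exact_iff_of_epi_of_isIso_of_mono φ).2
          (ShortComplex.exact_kernel S.f)
      mono_f := by dsimp [S']; infer_instance
      epi_g := (S.exact_iff_epi_kernel_lift).1 hS }
  exact clSub_of_shortExact P S' hS' hk₁ h₁ hk₂

end Abelian

section Triangulated

open Pretriangulated

variable {D : Type u} [Category.{v} D] [Preadditive D] [HasZeroObject D] [HasShift D ℤ]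
  [∀ n : ℤ, (shiftFunctor D n).Additive] [Pretriangulated D] (Q : ObjectProperty D)

lemma clTr_eq {K : D} (hK : Q K) :
    clTr Q K = QuotientAddGroup.mk (FreeAbelianGroup.of ⟨K, hK⟩) := by
  simp [clTr, hK]

lemma clTr_of_distinguished (T : Triangle D) (hT : T ∈ distTriang D)
    (h₁ : Q T.obj₁) (h₂ : Q T.obj₂) (h₃ : Q T.obj₃) :
    clTr Q T.obj₂ = clTr Q T.obj₁ + clTr Q T.obj₃ := by
  rw [clTr_eq Q h₁, clTr_eq Q h₂, clTr_eq Q h₃, ← QuotientAddGroup.mk_add,
    ← sub_eq_zero, ← QuotientAddGroup.mk_sub, QuotientAddGroup.eq_zero_iff]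
  apply AddSubgroup.subset_closure
  exact ⟨T, h₁, h₂, h₃, hT, by abel⟩

lemma clTr_zero (h0 : Q (0 : D)) : clTr Q (0 : D) = 0 := by
  have : clTr Q (0 : D) = clTr Q 0 + clTr Q 0 :=
    clTr_of_distinguished Q _ (contractible_distinguished (0 : D)) h0 h0 h0
  exact (add_eq_left.mp this.symm)

lemma clTr_of_iso (h0 : Q (0 : D)) {X Y : D} (e : X ≅ Y) (hX : Q X) (hY : Q Y) :
    clTr Q X = clTr Q Y := by
  have hT : Triangle.mk e.hom (0 : Y ⟶ (0 : D)) 0 ∈ distTriang D := by
    refine isomorphic_distinguished _ (contractible_distinguished X) _ ?_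
    refine Triangle.isoMk _ _ (Iso.refl X) e.symm (Iso.refl (0 : D)) ?_ ?_ ?_
    · change e.hom ≫ e.inv = 𝟙 X ≫ 𝟙 X
      simp
    · change (0 : Y ⟶ 0) ≫ 𝟙 0 = e.inv ≫ (0 : X ⟶ 0)
      simp
    · change (0 : (0 : D) ⟶ X⟦(1 : ℤ)⟧) ≫ (shiftFunctor D (1 : ℤ)).map (𝟙 X) = 𝟙 0 ≫ 0
      simp
  have : clTr Q Y = clTr Q X + clTr Q 0 := clTr_of_distinguished Q _ hT hX hY h0
  rw [this, clTr_zero Q h0, add_zero]

lemma clTr_shift (h0 : Q (0 : D)) {X : D} (hX : Q X) (hX' : Q (X⟦(1 : ℤ)⟧)) :
    clTr Q (X⟦(1 : ℤ)⟧) = - clTr Q X := by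
  have : clTr Q (0 : D) = clTr Q X + clTr Q (X⟦(1 : ℤ)⟧) :=
    clTr_of_distinguished Q _ (contractible_distinguished₂ X) hX h0 hX'
  rw [clTr_zero Q h0] at this
  exact (neg_eq_of_add_eq_zero_right this.symm).symm

end Triangulated

section Derived

open Pretriangulated DerivedCategory

variable {C : Type u} [Category.{v} C] [Abelian C] [HasDerivedCategory.{w} C]
  (P : ObjectProperty C)

/-- bounded objects of `D(C)` with cohomology in `P` -/
abbrev PD : ObjectProperty (DerivedCategory C) := fun K : DerivedCategory C =>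
  (∀ i : ℤ, P ((DerivedCategory.homologyFunctor C i).obj K)) ∧
    ∃ a b : ℤ, (DerivedCategory.TStructure.t (C := C)).IsGE K a ∧
      (DerivedCategory.TStructure.t (C := C)).IsLE K b

variable [P.IsClosedUnderIsomorphisms] [P.ContainsZero]

lemma PD_of_iso {K L : DerivedCategory C} (e : K ≅ L) (hK : PD P K) : PD P L := by
  obtain ⟨h1, a, b, ha, hb⟩ := hK
  refine ⟨fun i => P.prop_of_iso ((homologyFunctor C i).mapIso e) (h1 i), a, b, ?_, ?_⟩
  · exact TStructure.t.isGE_of_iso e a
  · exact TStructure.t.isLE_of_iso e b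

lemma PD_zero : PD P (0 : DerivedCategory C) := by
  refine ⟨fun i => P.prop_of_isZero ((homologyFunctor C i).map_isZero (isZero_zero _)), 0, 0, ?_, ?_⟩
  · exact TStructure.t.isGE_of_isZero (isZero_zero _) 0
  · exact TStructure.t.isLE_of_isZero (isZero_zero _) 0

lemma PD_single {A : C} (hA : P A) (n : ℤ) : PD P ((singleFunctor C n).obj A) := by
  refine ⟨fun i => ?_, n, n, inferInstance, inferInstance⟩
  by_cases h : i = n
  · subst h
    exact P.prop_of_iso ((singleFunctorCompHomologyFunctorIso C i).app A).symm hA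
  · rcases lt_or_gt_of_ne h with h | h
    · exact P.prop_of_isZero (isZero_of_isGE _ n i h)
    · exact P.prop_of_isZero (isZero_of_isLE _ n i h)

variable [P.IsClosedUnderKernels]

/-- the `i`-th term of the Euler characteristic -/
noncomputable def χterm (K : DerivedCategory C) (i : ℤ) : K0sub P :=
  ((i.negOnePow : ℤˣ) : ℤ) • clSub P ((homologyFunctor C i).obj K)

/-- the Euler characteristic -/
noncomputable def χ (K : DerivedCategory C) : K0sub P := ∑ᶠ i : ℤ, χterm P K i

lemma χterm_eq_zero {K : DerivedCategory C} {i : ℤ}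
    (h : IsZero ((homologyFunctor C i).obj K)) : χterm P K i = 0 := by
  rw [χterm, clSub_of_isZero P h, smul_zero]

lemma support_χterm_finite {K : DerivedCategory C} (hK : PD P K) :
    (Function.support (χterm P K)).Finite := by
  obtain ⟨-, a, b, ha, hb⟩ := hK
  refine (Set.finite_Icc a b).subset ?_
  intro i hi
  by_contra hi'
  rw [Set.mem_Icc, not_and_or, not_le, not_le] at hi'
  apply hi
  rcases hi' with h | h
  · exact χterm_eq_zero P (isZero_of_isGE K a i h)
  · exact χterm_eq_zero P (isZero_of_isLE K b i h)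

lemma χ_of_distinguished (T : Triangle (DerivedCategory C)) (hT : T ∈ distTriang _)
    (h₁ : PD P T.obj₁) (h₂ : PD P T.obj₂) (h₃ : PD P T.obj₃) :
    χ P T.obj₂ = χ P T.obj₁ + χ P T.obj₃ := by
  let κf : ℤ → K0sub P := fun i => clSub P (kernel ((homologyFunctor C i).map T.mor₁))
  let κg : ℤ → K0sub P := fun i => clSub P (kernel ((homologyFunctor C i).map T.mor₂))
  let κδ : ℤ → K0sub P := fun i => clSub P (kernel (HomologySequence.δ T i (i + 1) rfl))
  have E1 : ∀ i, clSub P ((homologyFunctor C i).obj T.obj₁) = κf i + κg i := fun i =>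
    clSub_of_exact P _ (HomologySequence.exact₂ T hT i) (h₁.1 i) (h₂.1 i) (h₃.1 i)
  have E2 : ∀ i, clSub P ((homologyFunctor C i).obj T.obj₂) = κg i + κδ i := fun i =>
    clSub_of_exact P _ (HomologySequence.exact₃ T hT i (i + 1) rfl) (h₂.1 i) (h₃.1 i)
      (h₁.1 (i + 1))
  have E3 : ∀ i, clSub P ((homologyFunctor C i).obj T.obj₃) = κδ i + κf (i + 1) := fun i =>
    clSub_of_exact P _ (HomologySequence.exact₁ T hT i (i + 1) rfl) (h₃.1 i) (h₁.1 (i + 1))
      (h₂.1 (i + 1))
  let s : ℤ → K0sub P := fun i => ((i.negOnePow : ℤˣ) : ℤ) • κf i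
  have hs : (Function.support s).Finite := by
    obtain ⟨-, a, b, ha, hb⟩ := h₁
    refine (Set.finite_Icc a b).subset ?_
    intro i hi
    by_contra hi'
    rw [Set.mem_Icc, not_and_or, not_le, not_le] at hi'
    apply hi
    have hz : IsZero ((homologyFunctor C i).obj T.obj₁) := by
      rcases hi' with h | h
      · exact isZero_of_isGE T.obj₁ a i h
      · exact isZero_of_isLE T.obj₁ b i h
    have hz' : IsZero (kernel ((homologyFunctor C i).map T.mor₁)) :=
      IsZero.of_mono (kernel.ι _) hz
    change ((i.negOnePow : ℤˣ) : ℤ) • clSub P (kernel ((homologyFunctor C i).map T.mor₁)) = 0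
    rw [clSub_of_isZero P hz', smul_zero]
  have hs' : (Function.support (fun i => s (i + 1))).Finite := by
    have : (fun i => s (i + 1)) = s ∘ (Equiv.addRight (1 : ℤ)) := rfl
    rw [this]
    exact hs.preimage (Equiv.injective _).injOn
  have e : ∀ i, χterm P T.obj₂ i = (χterm P T.obj₁ i + χterm P T.obj₃ i) + (s (i + 1) - s i) := by
    intro i
    simp only [χterm, s, E1, E2, E3, Int.negOnePow_succ, Units.val_neg, neg_smul, smul_add]
    abel
  have hsum : ∑ᶠ i, s (i + 1) = ∑ᶠ i, s i :=
    finsum_comp_equiv (Equiv.addRight (1 : ℤ)) (f := s)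
  rw [χ, χ, χ, funext e,
    finsum_add_distrib ((support_χterm_finite P h₁).union (support_χterm_finite P h₃) |>.subset
      (Function.support_add _ _)) (hs'.union hs |>.subset (Function.support_sub _ _)),
    finsum_add_distrib (support_χterm_finite P h₁) (support_χterm_finite P h₃),
    finsum_sub_distrib hs' hs, hsum, sub_self, add_zero]

/-- the map `K₀(P) → K₀(D^b_P)` -/
noncomputable def φ : K0sub P →+ K0tr (PD P) :=
  QuotientAddGroup.lift (relSub P)
    (FreeAbelianGroup.lift (fun X : Subtype P => clTr (PD P) ((singleFunctor C 0).obj X.1)))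
    (by
      rw [relSub, AddSubgroup.closure_le]
      rintro x ⟨S, h₁, h₂, h₃, hS, rfl⟩
      rw [SetLike.mem_coe, AddMonoidHom.mem_ker, map_sub, map_sub,
        FreeAbelianGroup.lift_apply_of, FreeAbelianGroup.lift_apply_of,
        FreeAbelianGroup.lift_apply_of]
      have : clTr (PD P) ((singleFunctor C 0).obj S.X₂) =
          clTr (PD P) ((singleFunctor C 0).obj S.X₁) +
            clTr (PD P) ((singleFunctor C 0).obj S.X₃) :=
        clTr_of_distinguished (PD P) _ hS.singleTriangle_distinguished
          (PD_single P h₁ 0) (PD_single P h₂ 0) (PD_single P h₃ 0)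
      dsimp only
      rw [this]
      abel)

lemma φ_clSub {X : C} (hX : P X) :
    φ P (clSub P X) = clTr (PD P) ((singleFunctor C 0).obj X) := by
  rw [clSub_eq P hX]
  exact (QuotientAddGroup.lift_mk _ _ _).trans (FreeAbelianGroup.lift_apply_of _ _)

/-- the Euler characteristic map `K₀(D^b_P) → K₀(P)` -/
noncomputable def ψ : K0tr (PD P) →+ K0sub P :=
  QuotientAddGroup.lift (relTr (PD P))
    (FreeAbelianGroup.lift (fun K : Subtype (PD P) => χ P K.1))
    (by
      rw [relTr, AddSubgroup.closure_le]
      rintro x ⟨T, h₁, h₂, h₃, hT, rfl⟩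
      rw [SetLike.mem_coe, AddMonoidHom.mem_ker, map_sub, map_sub,
        FreeAbelianGroup.lift_apply_of, FreeAbelianGroup.lift_apply_of,
        FreeAbelianGroup.lift_apply_of]
      dsimp
      rw [χ_of_distinguished P T hT h₁ h₂ h₃]
      abel)

lemma ψ_clTr {K : DerivedCategory C} (hK : PD P K) : ψ P (clTr (PD P) K) = χ P K := by
  rw [clTr_eq (PD P) hK]
  exact (QuotientAddGroup.lift_mk _ _ _).trans (FreeAbelianGroup.lift_apply_of _ _)

lemma χ_single {X : C} (hX : P X) : χ P ((singleFunctor C 0).obj X) = clSub P X := by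
  rw [χ, finsum_eq_single _ (0 : ℤ)]
  · rw [χterm, Int.negOnePow_zero, Units.val_one, one_smul]
    exact clSub_of_iso P ((singleFunctorCompHomologyFunctorIso C 0).app X)
      ((PD_single P hX 0).1 0)
  · intro i hi
    apply χterm_eq_zero
    rcases lt_or_gt_of_ne hi with h | h
    · exact isZero_of_isGE _ 0 i h
    · exact isZero_of_isLE _ 0 i h

lemma ψ_φ (x : K0sub P) : ψ P (φ P x) = x := by
  induction x using QuotientAddGroup.induction_on with
  | H x =>
    induction x using FreeAbelianGroup.induction_on with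
    | zero => simp
    | of X =>
      have h1 : ((FreeAbelianGroup.of X : FreeAbelianGroup (Subtype P)) : K0sub P) =
          clSub P X.1 := (clSub_eq P X.2).symm
      rw [h1, φ_clSub P X.2, ψ_clTr P (PD_single P X.2 0), χ_single P X.2]
    | neg X h =>
      rw [QuotientAddGroup.mk_neg, map_neg, map_neg, h]
    | add x y hx hy =>
      rw [QuotientAddGroup.mk_add, map_add, map_add, hx, hy]

lemma clTr_single {A : C} (hA : P A) (n : ℤ) :
    clTr (PD P) ((singleFunctor C n).obj A) =
      ((n.negOnePow : ℤˣ) : ℤ) • clTr (PD P) ((singleFunctor C 0).obj A) := by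
  have R : ∀ m : ℤ, clTr (PD P) ((singleFunctor C m).obj A) =
      - clTr (PD P) ((singleFunctor C (m + 1)).obj A) := by
    intro m
    let e : ((singleFunctor C (m + 1)).obj A)⟦(1 : ℤ)⟧ ≅ (singleFunctor C m).obj A :=
      ((singleFunctors C).shiftIso 1 m (m + 1) (by ring)).app A
    rw [← clTr_of_iso (PD P) (PD_zero P) e (PD_of_iso P e.symm (PD_single P hA m))
      (PD_single P hA m),
      clTr_shift (PD P) (PD_zero P) (PD_single P hA (m + 1))
        (PD_of_iso P e.symm (PD_single P hA m))]
  induction n using Int.induction_on with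
  | zero => simp
  | succ n ih =>
    have := R n
    rw [ih] at this
    rw [Int.negOnePow_succ, Units.val_neg, neg_smul, this, neg_neg]
  | pred n ih =>
    have := R (-(n : ℤ) - 1)
    rw [sub_add_cancel, ih] at this
    rw [this, Int.negOnePow_sub, Int.negOnePow_one]
    simp

lemma clTr_isZero {K : DerivedCategory C} (hK : IsZero K) : clTr (PD P) K = 0 := by
  rw [clTr_of_iso (PD P) (PD_zero P) (hK.iso (isZero_zero _))
    (PD_of_iso P ((isZero_zero _).iso hK) (PD_zero P)) (PD_zero P), clTr_zero (PD P) (PD_zero P)]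

lemma clTr_mem_range (n : ℕ) : ∀ (K : DerivedCategory C) (_ : PD P K) (a b : ℤ),
    TStructure.t.IsGE K a → TStructure.t.IsLE K b → b - a < n →
      clTr (PD P) K ∈ (φ P).range := by
  induction n with
  | zero =>
    intro K hK a b ha hb hab
    have hz : IsZero K := TStructure.t.isZero K b a (by simp at hab; lia)
    rw [clTr_isZero P hz]
    exact zero_mem _
  | succ n ih =>
    intro K hK a b ha hb hab
    by_cases hba : b < a
    · have hz : IsZero K := TStructure.t.isZero K b a hba
      rw [clTr_isZero P hz]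
      exact zero_mem _
    · push_neg at hba
      obtain ⟨X, Y, hX, hY, f, g, h, mem⟩ := TStructure.t.exists_triangle K (b - 1) b (by ring)
      haveI : TStructure.t.IsLE X (b - 1) := ⟨hX⟩
      haveI : TStructure.t.IsGE Y b := ⟨hY⟩
      let T := Triangle.mk f g h
      -- vanishing
      have zX : ∀ i, b ≤ i → IsZero ((homologyFunctor C i).obj X) := fun i hi =>
        isZero_of_isLE X (b - 1) i (by lia)
      have zY : ∀ i, i < b → IsZero ((homologyFunctor C i).obj Y) := fun i hi =>
        isZero_of_isGE Y b i hi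
      -- isomorphisms
      have isoX : ∀ i, i < b → IsIso ((homologyFunctor C i).map f) := by
        intro i hi
        have hm : Mono ((homologyFunctor C i).map f) := by
          have := (HomologySequence.mono_homologyMap_mor₁_iff T mem (i - 1) i (by ring)).2
            ((zY (i - 1) (by lia)).eq_of_src _ _)
          exact this
        have he : Epi ((homologyFunctor C i).map f) := by
          have := (HomologySequence.epi_homologyMap_mor₁_iff T mem i).2
            ((zY i hi).eq_of_tgt _ _)
          exact this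
        exact isIso_of_mono_of_epi _
      have isoY : ∀ i, b ≤ i → IsIso ((homologyFunctor C i).map g) := by
        intro i hi
        have hm : Mono ((homologyFunctor C i).map g) := by
          have := (HomologySequence.mono_homologyMap_mor₂_iff T mem i).2
            ((zX i hi).eq_of_src _ _)
          exact this
        have he : Epi ((homologyFunctor C i).map g) := by
          have := (HomologySequence.epi_homologyMap_mor₂_iff T mem i (i + 1) rfl).2
            ((zX (i + 1) (by lia)).eq_of_tgt _ _)
          exact this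
        exact isIso_of_mono_of_epi _
      have hXa : TStructure.t.IsGE X a := by
        change X.IsGE a
        rw [isGE_iff]
        intro i hi
        haveI := isoX i (by lia)
        haveI : K.IsGE a := ha
        exact IsZero.of_iso (isZero_of_isGE K a i hi) (asIso ((homologyFunctor C i).map f))
      have hYb : TStructure.t.IsLE Y b := by
        change Y.IsLE b
        rw [isLE_iff]
        intro i hi
        haveI := isoY i (by lia)
        haveI : K.IsLE b := hb
        exact IsZero.of_iso (isZero_of_isLE K b i hi) (asIso ((homologyFunctor C i).map g)).symm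
      have hPX : PD P X := by
        refine ⟨fun i => ?_, a, b - 1, hXa, inferInstance⟩
        by_cases hi : i < b
        · haveI := isoX i hi
          exact P.prop_of_iso (asIso ((homologyFunctor C i).map f)).symm (hK.1 i)
        · exact P.prop_of_isZero (zX i (by lia))
      have hPY : PD P Y := by
        refine ⟨fun i => ?_, b, b, inferInstance, hYb⟩
        by_cases hi : i < b
        · exact P.prop_of_isZero (zY i hi)
        · haveI := isoY i (by lia)
          exact P.prop_of_iso (asIso ((homologyFunctor C i).map g)) (hK.1 i)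
      have hsum : clTr (PD P) K = clTr (PD P) X + clTr (PD P) Y :=
        clTr_of_distinguished (PD P) T mem hPX hK hPY
      rw [hsum]
      refine add_mem (ih X hPX a (b - 1) hXa inferInstance (by lia)) ?_
      haveI : Y.IsGE b := inferInstanceAs (TStructure.t.IsGE Y b)
      haveI : Y.IsLE b := hYb
      obtain ⟨A, ⟨e⟩⟩ := exists_iso_singleFunctor_obj_of_isGE_of_isLE Y b
      have hA : P A := P.prop_of_iso
        ((homologyFunctor C b).mapIso e ≪≫ (singleFunctorCompHomologyFunctorIso C b).app A)
        (hPY.1 b)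
      rw [clTr_of_iso (PD P) (PD_zero P) e hPY (PD_single P hA b), clTr_single P hA b,
        ← φ_clSub P hA, ← map_zsmul]
      exact ⟨_, rfl⟩

lemma φ_surjective : Function.Surjective (φ P) := by
  intro y
  rw [← AddMonoidHom.mem_range]
  induction y using QuotientAddGroup.induction_on with
  | H y =>
    induction y using FreeAbelianGroup.induction_on with
    | zero => exact zero_mem _
    | of K =>
      have h1 : ((FreeAbelianGroup.of K : FreeAbelianGroup (Subtype (PD P))) : K0tr (PD P)) =
          clTr (PD P) K.1 := (clTr_eq (PD P) K.2).symm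
      rw [h1]
      obtain ⟨-, a, b, ha, hb⟩ := K.2
      exact clTr_mem_range P (b - a).toNat.succ K.1 K.2 a b ha hb (by
        have := Int.self_le_toNat (b - a)
        push_cast
        lia)
    | neg K h =>
      rw [QuotientAddGroup.mk_neg]
      exact neg_mem h
    | add x y hx hy =>
      rw [QuotientAddGroup.mk_add]
      exact add_mem hx hy

/-- the main isomorphism -/
noncomputable def φEquiv : K0sub P ≃+ K0tr (PD P) :=
  AddEquiv.ofBijective (φ P)
    ⟨Function.LeftInverse.injective (ψ_φ P), φ_surjective P⟩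

theorem main : ∃ e : K0sub P ≃+ K0tr (PD P), ∀ X : C, P X →
    e (clSub P X) = clTr (PD P) ((singleFunctor C 0).obj X) :=
  ⟨φEquiv P, fun _ hX => φ_clSub P hX⟩

end Derived

section Top

variable (A : Type u) [Category.{v} A] [Abelian A]

instance : (⊤ : ObjectProperty A).IsClosedUnderKernels := ⟨fun _ _ => trivial⟩

/-- `K₀(A) → K₀sub ⊤` -/
noncomputable def α : K0 A →+ K0sub (⊤ : ObjectProperty A) :=
  QuotientAddGroup.lift (relAb A) (FreeAbelianGroup.lift fun X => clSub ⊤ X) (by
    rw [relAb, AddSubgroup.closure_le]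
    rintro x ⟨S, hS, rfl⟩
    rw [SetLike.mem_coe, AddMonoidHom.mem_ker, map_sub, map_sub,
      FreeAbelianGroup.lift_apply_of, FreeAbelianGroup.lift_apply_of,
      FreeAbelianGroup.lift_apply_of]
    rw [clSub_of_shortExact ⊤ S hS trivial trivial trivial]
    abel)

/-- `K₀sub ⊤ → K₀(A)` -/
noncomputable def β : K0sub (⊤ : ObjectProperty A) →+ K0 A :=
  QuotientAddGroup.lift (relSub ⊤) (FreeAbelianGroup.lift fun X => cl X.1) (by
    rw [relSub, AddSubgroup.closure_le]
    rintro x ⟨S, h₁, h₂, h₃, hS, rfl⟩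
    rw [SetLike.mem_coe, AddMonoidHom.mem_ker, map_sub, map_sub,
      FreeAbelianGroup.lift_apply_of, FreeAbelianGroup.lift_apply_of,
      FreeAbelianGroup.lift_apply_of]
    dsimp only [cl]
    rw [← QuotientAddGroup.mk_sub, ← QuotientAddGroup.mk_sub, QuotientAddGroup.eq_zero_iff]
    exact AddSubgroup.subset_closure ⟨S, hS, rfl⟩)

lemma α_cl (X : A) : α A (cl X) = clSub ⊤ X :=
  (QuotientAddGroup.lift_mk _ _ _).trans (FreeAbelianGroup.lift_apply_of _ _)

lemma β_clSub (X : A) : β A (clSub ⊤ X) = cl X := by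
  rw [clSub_eq ⊤ (trivial : (⊤ : ObjectProperty A) X)]
  exact (QuotientAddGroup.lift_mk _ _ _).trans (FreeAbelianGroup.lift_apply_of _ _)

lemma β_α (x : K0 A) : β A (α A x) = x := by
  induction x using QuotientAddGroup.induction_on with
  | H x =>
    induction x using FreeAbelianGroup.induction_on with
    | zero => simp
    | of X => exact (congrArg (β A) (α_cl A X)).trans (β_clSub A X)
    | neg X h => rw [QuotientAddGroup.mk_neg, map_neg, map_neg, h]
    | add x y hx hy => rw [QuotientAddGroup.mk_add, map_add, map_add, hx, hy]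

lemma α_β (x : K0sub (⊤ : ObjectProperty A)) : α A (β A x) = x := by
  induction x using QuotientAddGroup.induction_on with
  | H x =>
    induction x using FreeAbelianGroup.induction_on with
    | zero => simp
    | of X =>
      have h1 : ((FreeAbelianGroup.of X : FreeAbelianGroup (Subtype (⊤ : ObjectProperty A))) :
          K0sub (⊤ : ObjectProperty A)) = clSub ⊤ X.1 := (clSub_eq ⊤ X.2).symm
      rw [h1, β_clSub, α_cl]
    | neg X h => rw [QuotientAddGroup.mk_neg, map_neg, map_neg, h]
    | add x y hx hy => rw [QuotientAddGroup.mk_add, map_add, map_add, hx, hy]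

/-- the equivalence -/
noncomputable def αEquiv : K0 A ≃+ K0sub (⊤ : ObjectProperty A) :=
  { α A with
    invFun := β A
    left_inv := β_α A
    right_inv := α_β A }

lemma K0tr_congr {D : Type u} [Category.{v} D] [Preadditive D] [HasZeroObject D] [HasShift D ℤ]
    [∀ n : ℤ, (shiftFunctor D n).Additive] [Pretriangulated D] (Q Q' : ObjectProperty D)
    (h : ∀ X, Q X ↔ Q' X) :
    ∃ e : K0tr Q ≃+ K0tr Q', ∀ X, e (clTr Q X) = clTr Q' X := by
  have : Q = Q' := funext fun X => propext (h X)
  subst this
  exact ⟨AddEquiv.refl _, fun _ => rfl⟩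

theorem main_top [HasDerivedCategory.{w} A] :
    ∃ φ : K0 A ≃+ K0tr (fun X : DerivedCategory A => ∃ a b : ℤ, X.IsGE a ∧ X.IsLE b),
      ∀ X : A, φ (cl X) =
        clTr (fun X : DerivedCategory A => ∃ a b : ℤ, X.IsGE a ∧ X.IsLE b)
          ((DerivedCategory.singleFunctor A 0).obj X) := by
  obtain ⟨e, he⟩ := K0tr_congr (PD (⊤ : ObjectProperty A))
    (fun X : DerivedCategory A => ∃ a b : ℤ, X.IsGE a ∧ X.IsLE b)
    (fun X => ⟨fun h => h.2, fun h => ⟨fun _ => trivial, h⟩⟩)
  refine ⟨((αEquiv A).trans (φEquiv ⊤)).trans e, fun X => ?_⟩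
  change e (φ ⊤ (α A (cl X))) = _
  rw [α_cl, φ_clSub ⊤ trivial, he]

end Top

end Groth.Agent.Lib.Helper17.K0Der
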