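import Mathlib
import Groth.Prelude.Def_KZero
import Groth.Agent.Lib.Helper17.K0Der

/-!
# `K₀` of finitely generated modules over a PID is `ℤ`
-/

set_option linter.style.haveILetI false

universe u

open CategoryTheory Limits KZero

namespace Groth.Agent.Lib.Helper17.K0PID

open Groth.Agent.Lib.Helper17.K0Der (clSub_eq clSub_of_shortExact)

variable (A : Type u) [CommRing A]

/-- finite modules -/
abbrev Fin' : ObjectProperty (ModuleCat.{u} A) := fun M => Module.Finite A M

variable {A}

lemma clSub_of_subsingleton {M : ModuleCat.{u} A} (h0 : Subsingleton M) :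
    clSub (Fin' A) M = 0 := by
  have hM : Fin' A M := by
    change Module.Finite A M
    infer_instance
  have hZ : IsZero M := ModuleCat.isZero_of_subsingleton M
  have hS : (ShortComplex.mk (0 : M ⟶ M) (0 : M ⟶ M) zero_comp).ShortExact :=
    { exact := ShortComplex.exact_of_isZero_X₂ _ hZ
      mono_f := ⟨fun _ _ _ => hZ.eq_of_tgt _ _⟩
      epi_g := ⟨fun _ _ _ => hZ.eq_of_src _ _⟩ }
  have := clSub_of_shortExact (Fin' A) _ hS hM hM hM
  dsimp at this
  exact (add_eq_left.mp this.symm)

/-- the short exact sequence of a submodule -/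
lemma clSub_submodule {M : Type u} [AddCommGroup M] [Module A M] [Module.Finite A M]
    (N : Submodule A M) [Module.Finite A N] :
    clSub (Fin' A) (ModuleCat.of A M) =
      clSub (Fin' A) (ModuleCat.of A N) + clSub (Fin' A) (ModuleCat.of A (M ⧸ N)) := by
  let S : ShortComplex (ModuleCat.{u} A) :=
    ShortComplex.mk (ModuleCat.ofHom N.subtype : ModuleCat.of A N ⟶ ModuleCat.of A M)
      (ModuleCat.ofHom N.mkQ : ModuleCat.of A M ⟶ ModuleCat.of A (M ⧸ N)) (by
        ext x
        change N.mkQ (N.subtype x) = 0
        simp)
  have hS : S.ShortExact :=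
    { exact := by
        rw [ShortComplex.ShortExact.moduleCat_exact_iff_function_exact]
        exact LinearMap.exact_subtype_mkQ N
      mono_f := (ModuleCat.mono_iff_injective _).mpr (Submodule.subtype_injective _)
      epi_g := (ModuleCat.epi_iff_surjective _).mpr (Submodule.mkQ_surjective _) }
  exact clSub_of_shortExact (Fin' A) S hS
    (show Module.Finite A N from inferInstance) (show Module.Finite A M from inferInstance)
    (show Module.Finite A (M ⧸ N) from inferInstance)

lemma clSub_of_linearEquiv {M N : Type u} [AddCommGroup M] [Module A M] [AddCommGroup N]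
    [Module A N] [Module.Finite A M] (e : M ≃ₗ[A] N) :
    clSub (Fin' A) (ModuleCat.of A M) = clSub (Fin' A) (ModuleCat.of A N) := by
  haveI : Module.Finite A N := Module.Finite.equiv e
  -- `0 → M → N → 0 → 0`
  let Z : ModuleCat.{u} A := ModuleCat.of A (PUnit : Type u)
  let S : ShortComplex (ModuleCat.{u} A) :=
    ShortComplex.mk (ModuleCat.ofHom e.toLinearMap : ModuleCat.of A M ⟶ ModuleCat.of A N)
      (0 : ModuleCat.of A N ⟶ Z) comp_zero
  have hZ : IsZero Z := ModuleCat.isZero_of_subsingleton Z
  have hS : S.ShortExact :=
    { exact := by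
        rw [ShortComplex.ShortExact.moduleCat_exact_iff_function_exact]
        intro y
        constructor
        · intro _
          exact ⟨e.symm y, e.apply_symm_apply y⟩
        · intro _
          exact Subsingleton.elim _ _
      mono_f := (ModuleCat.mono_iff_injective _).mpr e.injective
      epi_g := ⟨fun _ _ _ => hZ.eq_of_src _ _⟩ }
  have := clSub_of_shortExact (Fin' A) S hS
    (show Module.Finite A M from inferInstance) (show Module.Finite A N from inferInstance)
    (show Module.Finite A (PUnit : Type u) from inferInstance)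
  change clSub (Fin' A) (ModuleCat.of A N) = clSub (Fin' A) (ModuleCat.of A M) +
    clSub (Fin' A) Z at this
  rw [this, clSub_of_subsingleton (show Subsingleton Z from inferInstanceAs (Subsingleton (PUnit : Type u))),
    add_zero]

variable [IsDomain A] [IsPrincipalIdealRing A]

/-- the class of a cyclic module is a multiple of `[A]` -/
lemma clSub_cyclic {M : Type u} [AddCommGroup M] [Module A M] (x : M) :
    ∃ k : ℤ, clSub (Fin' A) (ModuleCat.of A (Submodule.span A {x})) =
      k • clSub (Fin' A) (ModuleCat.of A A) := by
  let N := Submodule.span A {x}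
  let φ : A →ₗ[A] N := LinearMap.toSpanSingleton A N ⟨x, Submodule.mem_span_singleton_self x⟩
  have hφ : Function.Surjective φ := by
    rintro ⟨y, hy⟩
    obtain ⟨a, rfl⟩ := Submodule.mem_span_singleton.mp hy
    exact ⟨a, Subtype.ext (by simp [φ])⟩
  let I : Submodule A A := LinearMap.ker φ
  haveI : Module.Finite A I := Module.Finite.of_fg (IsNoetherian.noetherian I)
  have h1 := clSub_submodule (A := A) (M := A) I
  have h2 : clSub (Fin' A) (ModuleCat.of A (A ⧸ I)) = clSub (Fin' A) (ModuleCat.of A N) :=
    clSub_of_linearEquiv (φ.quotKerEquivOfSurjective hφ)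
  rw [h2] at h1
  obtain ⟨a, ha⟩ := (IsPrincipalIdealRing.principal (I : Ideal A)).principal
  by_cases ha0 : a = 0
  · -- `I = ⊥`
    have hI : Subsingleton I := by
      have : I = ⊥ := by
        rw [show I = Ideal.span {a} from ha, ha0]
        simp
      rw [this]
      infer_instance
    refine ⟨1, ?_⟩
    rw [one_smul]
    change clSub (Fin' A) (ModuleCat.of A N) = _
    rw [h1, clSub_of_subsingleton (show Subsingleton (ModuleCat.of A I) from hI), zero_add]
  · -- `I ≅ A`
    have haI : a ∈ I := by
      rw [show I = Ideal.span {a} from ha]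
      exact Ideal.mem_span_singleton_self a
    let ψ : A →ₗ[A] I := LinearMap.toSpanSingleton A I ⟨a, haI⟩
    have hψ : Function.Bijective ψ := by
      constructor
      · rw [injective_iff_map_eq_zero]
        intro b hb
        have : b * a = 0 := by
          have := congrArg Subtype.val hb
          simpa [ψ] using this
        rcases mul_eq_zero.mp this with h | h
        · exact h
        · exact absurd h ha0
      · rintro ⟨y, hy⟩
        have hy' : y ∈ Ideal.span {a} := by
          rw [← show I = Ideal.span {a} from ha]
          exact hy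
        obtain ⟨b, rfl⟩ := Ideal.mem_span_singleton'.mp hy'
        exact ⟨b, Subtype.ext (by simp [ψ])⟩
    have h3 : clSub (Fin' A) (ModuleCat.of A A) = clSub (Fin' A) (ModuleCat.of A I) :=
      clSub_of_linearEquiv (LinearEquiv.ofBijective ψ hψ)
    refine ⟨0, ?_⟩
    rw [zero_smul]
    change clSub (Fin' A) (ModuleCat.of A N) = 0
    rw [← h3] at h1
    exact (add_eq_left.mp h1.symm)

lemma clSub_mem : ∀ (n : ℕ) (M : Type u) [AddCommGroup M] [Module A M] (s : Finset M),
    s.card ≤ n → Submodule.span A (s : Set M) = ⊤ →
    ∃ k : ℤ, clSub (Fin' A) (ModuleCat.of A M) = k • clSub (Fin' A) (ModuleCat.of A A)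
  | 0, M, _, _, s, hs, hspan => by
      have hs0 : s = ∅ := Finset.card_eq_zero.mp (Nat.le_zero.mp hs)
      rw [hs0, Finset.coe_empty, Submodule.span_empty] at hspan
      have : Subsingleton M := by
        rw [← Submodule.subsingleton_iff A]
        exact subsingleton_of_bot_eq_top hspan
      refine ⟨0, ?_⟩
      rw [zero_smul]
      exact clSub_of_subsingleton (show Subsingleton (ModuleCat.of A M) from this)
  | n + 1, M, _, _, s, hs, hspan => by
      classical
      haveI : Module.Finite A M := ⟨⟨s, hspan⟩⟩
      by_cases hse : s = ∅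
      · exact clSub_mem n M s (by rw [hse]; simp) hspan
      obtain ⟨x, hx⟩ := Finset.nonempty_iff_ne_empty.mpr hse
      let N := Submodule.span A {x}
      haveI : Module.Finite A N := Module.Finite.of_fg (IsNoetherian.noetherian N)
      let s' : Finset (M ⧸ N) := (s.erase x).image N.mkQ
      have hs' : s'.card ≤ n := by
        refine Finset.card_image_le.trans ?_
        rw [Finset.card_erase_of_mem hx]
        omega
      have hspan' : Submodule.span A (s' : Set (M ⧸ N)) = ⊤ := by
        rw [eq_top_iff]
        rintro y -
        obtain ⟨m, rfl⟩ := N.mkQ_surjective y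
        have hm : m ∈ Submodule.span A (s : Set M) := by rw [hspan]; trivial
        refine Submodule.span_induction (p := fun m _ => N.mkQ m ∈ Submodule.span A (s' : Set (M ⧸ N)))
          ?_ ?_ ?_ ?_ hm
        · intro z hz
          by_cases hzx : z = x
          · have : N.mkQ z = 0 := by
              rw [hzx]
              exact (Submodule.Quotient.mk_eq_zero N).mpr (Submodule.mem_span_singleton_self x)
            rw [this]
            exact zero_mem _
          · apply Submodule.subset_span
            exact Finset.mem_coe.mpr (Finset.mem_image.mpr ⟨z, Finset.mem_erase.mpr ⟨hzx, hz⟩, rfl⟩)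
        · rw [map_zero]
          exact zero_mem _
        · intro a b _ _ ha hb
          rw [map_add]
          exact add_mem ha hb
        · intro a b _ hb
          rw [map_smul]
          exact Submodule.smul_mem _ _ hb
      obtain ⟨k₁, hk₁⟩ := clSub_cyclic (A := A) x
      obtain ⟨k₂, hk₂⟩ := clSub_mem n (M ⧸ N) s' hs' hspan'
      refine ⟨k₁ + k₂, ?_⟩
      rw [clSub_submodule N, hk₁, hk₂, add_smul]

lemma finrank_add (S : ShortComplex (ModuleCat.{u} A)) (hS : S.ShortExact)
    (h₂ : Fin' A S.X₂) :
    Module.finrank A S.X₂ = Module.finrank A S.X₁ + Module.finrank A S.X₃ := by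
  haveI : Module.Finite A S.X₂ := h₂
  have hex : Function.Exact S.f.hom S.g.hom :=
    (ShortComplex.ShortExact.moduleCat_exact_iff_function_exact S).mp hS.exact
  have hinj : Function.Injective S.f.hom := hS.moduleCat_injective_f
  have hsurj : Function.Surjective S.g.hom := hS.moduleCat_surjective_g
  have e₁ : S.X₁ ≃ₗ[A] LinearMap.ker S.g.hom :=
    (LinearEquiv.ofInjective S.f.hom hinj).trans
      (LinearEquiv.ofEq _ _ ((LinearMap.exact_iff.mp hex).symm))
  have e₃ : (S.X₂ ⧸ LinearMap.ker S.g.hom) ≃ₗ[A] S.X₃ :=
    S.g.hom.quotKerEquivOfSurjective hsurj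
  rw [e₁.finrank_eq, ← e₃.finrank_eq, add_comm]
  exact (Submodule.finrank_quotient_add_finrank _).symm

variable (A)

/-- the rank homomorphism -/
noncomputable def rk : K0sub (Fin' A) →+ ℤ :=
  QuotientAddGroup.lift (relSub (Fin' A))
    (FreeAbelianGroup.lift (fun X : Subtype (Fin' A) => (Module.finrank A X.1 : ℤ)))
    (by
      rw [relSub, AddSubgroup.closure_le]
      rintro x ⟨S, h₁, h₂, h₃, hS, rfl⟩
      rw [SetLike.mem_coe, AddMonoidHom.mem_ker, map_sub, map_sub,
        FreeAbelianGroup.lift_apply_of, FreeAbelianGroup.lift_apply_of,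
        FreeAbelianGroup.lift_apply_of]
      dsimp only
      rw [finrank_add S hS h₂]
      push_cast
      ring)

theorem main : Function.Bijective
    (fun k : ℤ => k • clSub (Fin' A) (ModuleCat.of A A)) := by
  have hA : Fin' A (ModuleCat.of A A) := show Module.Finite A A from inferInstance
  have h1 : rk A (clSub (Fin' A) (ModuleCat.of A A)) = 1 := by
    rw [clSub_eq (Fin' A) hA]
    refine ((QuotientAddGroup.lift_mk _ _ _).trans (FreeAbelianGroup.lift_apply_of _ _)).trans ?_
    have : Module.finrank A (ModuleCat.of A A) = 1 := Module.finrank_self A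
    dsimp only
    rw [this]
    rfl
  constructor
  · intro k l hkl
    have := congrArg (rk A) hkl
    simpa [map_zsmul, h1] using this
  · intro x
    induction x using QuotientAddGroup.induction_on with
    | H x =>
      induction x using FreeAbelianGroup.induction_on with
      | zero => exact ⟨0, by simp⟩
      | of X =>
        have h2 : ((FreeAbelianGroup.of X : FreeAbelianGroup (Subtype (Fin' A))) :
            K0sub (Fin' A)) = clSub (Fin' A) X.1 := (clSub_eq (Fin' A) X.2).symm
        haveI : Module.Finite A X.1 := X.2
        obtain ⟨s, hs⟩ := (Module.Finite.fg_top (R := A) (M := X.1))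
        obtain ⟨k, hk⟩ := clSub_mem (A := A) s.card X.1 s le_rfl hs
        exact ⟨k, by rw [h2]; exact hk.symm⟩
      | neg X hX =>
        obtain ⟨k, hk⟩ := hX
        refine ⟨-k, ?_⟩
        change (-k) • _ = _
        rw [QuotientAddGroup.mk_neg, ← hk, neg_smul]
      | add x y hx hy =>
        obtain ⟨k, hk⟩ := hx
        obtain ⟨l, hl⟩ := hy
        refine ⟨k + l, ?_⟩
        change (k + l) • _ = _
        rw [QuotientAddGroup.mk_add, ← hk, ← hl, add_smul]

end Groth.Agent.Lib.Helper17.K0PID
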