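import Mathlib
import Groth.Agent.Lib27.DCoprod
import Groth.Agent.S0484
import Groth.Agent.Lib.Helper29.QCohCrit
import Groth.Prelude.Def_DCoh2

/-!
# Homology of colimits of complexes (exact colimits), and coproducts in `D_QCoh(O_X)`
-/

set_option autoImplicit false
universe w w' v₁ u₁ u

open CategoryTheory Limits

namespace Groth.Agent.Lib.Helper17.QCohCoprod

open Groth.Agent.Lib27.DCoprod

section General

variable {A : Type u₁} [Category.{v₁} A] [Abelian A] {ι : Type*} (c : ComplexShape ι)
  {J : Type w} [Category.{w'} J] [HasColimitsOfShape J A] [HasExactColimitsOfShape J A]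

/-- the functor of `i`-th homology objects of a diagram of complexes, computed in the functor
category. -/
noncomputable abbrev HDiag (X : J ⥤ HomologicalComplex A c) (i : ι) : J ⥤ A :=
  ((psi c X).sc i).homology

/-- its values are the homology objects. -/
noncomputable def HDiagObjIso (X : J ⥤ HomologicalComplex A c) (i : ι) (j : J) :
    (HDiag c X i).obj j ≅ (X.obj j).homology i :=
  (((psi c X).sc i).mapHomologyIso ((evaluation J A).obj j)).symm

/-- homology of the standard colimit complex. -/
noncomputable def homologyCcIso (X : J ⥤ HomologicalComplex A c) (i : ι) :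
    (cc c X).pt.homology i ≅ colimit (HDiag c X i) :=
  ((psi c X).sc i).mapHomologyIso (colim : (J ⥤ A) ⥤ A)

/-- a property of objects stable under colimits of shape `J` passes to homology of colimits of
complexes. -/
theorem prop_homology_of_isColimit (P : A → Prop)
    (hiso : ∀ {M N : A} (_ : M ≅ N), P M → P N)
    (hP : ∀ D : J ⥤ A, (∀ j, P (D.obj j)) → P (colimit D))
    (X : J ⥤ HomologicalComplex A c) (i : ι) (hX : ∀ j, P ((X.obj j).homology i))
    (s : Cocone X) (hs : IsColimit s) : P (s.pt.homology i) := by
  let e : s.pt ≅ (cc c X).pt := hs.coconePointUniqueUpToIso (isColimitCc c X)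
  have h1 : P (colimit (HDiag c X i)) :=
    hP _ (fun j => hiso (HDiagObjIso c X i j).symm (hX j))
  exact hiso ((HomologicalComplex.homologyFunctor A c i).mapIso e ≪≫
    homologyCcIso c X i).symm h1

end General

section Scheme

open AlgebraicGeometry

attribute [local instance] HasDerivedCategory.standard

variable (X : Scheme.{u})

theorem isQCohD_coproduct {ι : Type u} (K : ι → DCoh.D X) (hK : ∀ i, DCoh.IsQCohD (K i))
    [HasCoproduct K] : DCoh.IsQCohD (∐ K) := by
  classical
  haveI hG : IsGrothendieckAbelian.{u} X.Modules :=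
    Groth.Agent.S0484.result (Opens.grothendieckTopology X) X.ringCatSheaf
  have hex : ∀ j, ∃ C : CochainComplex X.Modules ℤ, Nonempty (K j ≅ DerivedCategory.Q.obj C) :=
    fun j => ⟨_, ⟨(DerivedCategory.Q.objObjPreimageIso (K j)).symm⟩⟩
  choose C hC using hex
  have e : ∀ j, K j ≅ DerivedCategory.Q.obj (C j) := fun j => (hC j).some
  let Y : ι → HomotopyCategory X.Modules (ComplexShape.up ℤ) :=
    fun j => (HomotopyCategory.quotient _ _).obj (C j)
  have hcol := isColimitMapCofan DerivedCategory.Qh
    (HomotopyCategory.quasiIso X.Modules (ComplexShape.up ℤ)) Y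
  -- the coproduct of the `K j`
  let cf : Cofan K := Cofan.mk (DerivedCategory.Qh.obj (∐ Y))
    (fun j => (e j).hom ≫ DerivedCategory.Qh.map (Sigma.ι Y j))
  have hcf : IsColimit cf := by
    refine (IsColimit.equivOfNatIsoOfIso (Discrete.natIso (fun j => (e j.as).symm)) _ _ ?_).1 hcol
    refine Cocone.ext (Iso.refl _) ?_
    rintro ⟨j⟩
    simp [cf, Cocone.precompose]
    rfl
  let e1 : ∐ K ≅ DerivedCategory.Qh.obj (∐ Y) :=
    (coproductIsCoproduct K).coconePointUniqueUpToIso hcf
  let e2 : (HomotopyCategory.quotient X.Modules (ComplexShape.up ℤ)).obj (∐ C) ≅ ∐ Y :=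
    PreservesCoproduct.iso (HomotopyCategory.quotient X.Modules (ComplexShape.up ℤ)) C
  let e3 : ∐ K ≅ DerivedCategory.Q.obj (∐ C) := e1 ≪≫ DerivedCategory.Qh.mapIso e2.symm
  intro i
  let e4 : DCoh.HD (∐ K) i ≅ (∐ C).homology i :=
    (DerivedCategory.homologyFunctor X.Modules i).mapIso e3 ≪≫
      (DerivedCategory.homologyFunctorFactors X.Modules i).app (∐ C)
  have h5 : Coh.IsQCoh ((∐ C).homology i) := by
    haveI : HasExactColimitsOfShape (Discrete ι) X.Modules := inferInstance
    have hcC : HasColimit (Discrete.functor C) := inferInstance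
    have hiso : ∀ {M N : X.Modules} (_ : M ≅ N), Coh.IsQCoh M → Coh.IsQCoh N :=
      fun e h => (SheafOfModules.isQuasicoherent X.ringCatSheaf).prop_of_iso e h
    have hcol : ∀ D : Discrete ι ⥤ X.Modules, (∀ j, Coh.IsQCoh (D.obj j)) →
        Coh.IsQCoh (colimit D) :=
      fun D hD => Groth.Agent.Lib.Helper29.QCoh.isQuasicoherent_colimit D hD
    refine prop_homology_of_isColimit (ComplexShape.up ℤ)
      (fun M : X.Modules => Coh.IsQCoh M) hiso hcol
      (Discrete.functor C) i ?_ _ (colimit.isColimit (Discrete.functor C))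
    rintro ⟨j⟩
    exact (SheafOfModules.isQuasicoherent X.ringCatSheaf).prop_of_iso
      ((DerivedCategory.homologyFunctor X.Modules i).mapIso (e j) ≪≫
        (DerivedCategory.homologyFunctorFactors X.Modules i).app (C j)) (hK j i)
  exact (SheafOfModules.isQuasicoherent X.ringCatSheaf).prop_of_iso e4.symm h5

end Scheme

end Groth.Agent.Lib.Helper17.QCohCoprod
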