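import Groth.Agent.Lib.Helper17.CoprodRpush
import Groth.Agent.Lib.Helper17.QCohCoprod
import Groth.Agent.Lib.Helper17.KInjRes

/-!
# `Rf_*` commutes with direct sums on `D_QCoh`: the derived statement
-/

set_option autoImplicit false
universe u

open CategoryTheory Limits Opposite AlgebraicGeometry TopologicalSpace CochainComplex

attribute [local instance] HasDerivedCategory.standard

namespace Groth.Agent.Lib.Helper17.CoprodRpush

open Groth.Agent.Lib.Helper17.SecFun Groth.Agent.Lib.Helper17.PhiW Groth.Agent.Lib.Helper17.MVAbs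
open Groth.Agent.Lib.Helper17.PushCoh Groth.Agent.Lib.Helper17.PhiInd
open Groth.Agent.Lib.Helper17.CoprodMV Groth.Agent.Lib.Helper17.CoprodPush
open Groth.Agent.Lib.Helper17.HomologyCoprod Groth.Agent.Lib.Helper17.PushCoh2
open Groth.Agent.Lib.Helper17.RFTri

section abstract

universe v₁ v₂ u₁ u₂ w

variable {C : Type u₁} [Category.{v₁} C] {D : Type u₂} [Category.{v₂} D] (G : C ⥤ D) {ι : Type w}

/-- the comparison map is an isomorphism as soon as it is modelled by an isomorphism of colimit
cofans. -/
lemma isIso_sigmaDesc_of_cofans (K : ι → C) [HasCoproduct K]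
    [HasCoproduct (fun i => G.obj (K i))]
    {K' : ι → C} (e : ∀ i, K i ≅ K' i) (c : Cofan K') (hc : IsColimit c)
    {L' : ι → D} (r : ∀ i, G.obj (K' i) ≅ L' i) (d : Cofan L') (hd : IsColimit d)
    (θ : d.pt ≅ G.obj c.pt) (hθ : ∀ i, d.inj i ≫ θ.hom = (r i).inv ≫ G.map (c.inj i)) :
    IsIso (Sigma.desc (fun i => G.map (Sigma.ι K i))) := by
  let a : ∐ K ≅ c.pt :=
    { hom := Sigma.desc (fun i => (e i).hom ≫ c.inj i)
      inv := Cofan.IsColimit.desc hc (fun i => (e i).inv ≫ Sigma.ι K i)
      hom_inv_id := by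
        apply Sigma.hom_ext
        intro i
        rw [Sigma.ι_desc_assoc, Category.assoc, Cofan.IsColimit.fac, Iso.hom_inv_id_assoc,
          Category.comp_id]
      inv_hom_id := by
        apply Cofan.IsColimit.hom_ext hc
        intro i
        rw [Cofan.IsColimit.fac_assoc, Category.assoc, Sigma.ι_desc, Iso.inv_hom_id_assoc,
          Category.comp_id] }
  let b : (∐ fun i => G.obj (K i)) ≅ d.pt :=
    { hom := Sigma.desc (fun i => G.map (e i).hom ≫ (r i).hom ≫ d.inj i)
      inv := Cofan.IsColimit.desc hd (fun i => (r i).inv ≫ G.map (e i).inv ≫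
        Sigma.ι (fun i => G.obj (K i)) i)
      hom_inv_id := by
        apply Sigma.hom_ext
        intro i
        rw [Sigma.ι_desc_assoc, Category.assoc, Category.assoc, Cofan.IsColimit.fac,
          Iso.hom_inv_id_assoc, ← Functor.map_comp_assoc, Iso.hom_inv_id, CategoryTheory.Functor.map_id,
          Category.id_comp, Category.comp_id]
      inv_hom_id := by
        apply Cofan.IsColimit.hom_ext hd
        intro i
        rw [Cofan.IsColimit.fac_assoc, Category.assoc, Category.assoc, Sigma.ι_desc,
          ← Functor.map_comp_assoc, Iso.inv_hom_id, CategoryTheory.Functor.map_id, Category.id_comp,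
          Iso.inv_hom_id_assoc, Category.comp_id] }
  have h : Sigma.desc (fun i => G.map (Sigma.ι K i)) ≫ G.map a.hom = b.hom ≫ θ.hom := by
    apply Sigma.hom_ext
    intro i
    rw [Sigma.ι_desc_assoc, ← Functor.map_comp]
    change G.map (Sigma.ι K i ≫ Sigma.desc (fun i => (e i).hom ≫ c.inj i)) =
      Sigma.ι (fun i => G.obj (K i)) i ≫
        Sigma.desc (fun i => G.map (e i).hom ≫ (r i).hom ≫ d.inj i) ≫ θ.hom
    rw [Sigma.ι_desc, Sigma.ι_desc_assoc, Category.assoc, Category.assoc, hθ,
      Iso.hom_inv_id_assoc, Functor.map_comp]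
  have h' : Sigma.desc (fun i => G.map (Sigma.ι K i)) = b.hom ≫ θ.hom ≫ G.map a.inv := by
    rw [← Category.assoc, ← h, Category.assoc, ← Functor.map_comp, Iso.hom_inv_id,
      CategoryTheory.Functor.map_id, Category.comp_id]
  rw [h']
  exact (b ≪≫ θ ≪≫ G.mapIso a.symm).isIso_hom

end abstract


section Q

open Groth.Agent.Lib27.DCoprod

variable {X : Scheme.{u}} {ι : Type u}

/-- `Q` sends the coproduct of complexes to a coproduct in the derived category. -/
noncomputable def isColimitQ (I : ι → CochainComplex X.Modules ℤ) :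
    IsColimit (Cofan.mk (DerivedCategory.Q.obj (∐ I))
      (fun i => DerivedCategory.Q.map (Sigma.ι I i))) := by
  let Y : ι → HomotopyCategory X.Modules (ComplexShape.up ℤ) :=
    fun j => (HomotopyCategory.quotient _ _).obj (I j)
  have hcol := isColimitMapCofan DerivedCategory.Qh
    (HomotopyCategory.quasiIso X.Modules (ComplexShape.up ℤ)) Y
  let e2 : (HomotopyCategory.quotient X.Modules (ComplexShape.up ℤ)).obj (∐ I) ≅ ∐ Y :=
    PreservesCoproduct.iso (HomotopyCategory.quotient X.Modules (ComplexShape.up ℤ)) I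
  refine IsColimit.ofIsoColimit hcol (Cofan.ext (DerivedCategory.Qh.mapIso e2.symm) ?_)
  intro j
  change DerivedCategory.Qh.map (Sigma.ι Y j) ≫ DerivedCategory.Qh.map e2.inv =
    DerivedCategory.Q.map (Sigma.ι I j)
  rw [← Functor.map_comp]
  have : Sigma.ι Y j ≫ e2.inv =
      (HomotopyCategory.quotient X.Modules (ComplexShape.up ℤ)).map (Sigma.ι I j) := by
    rw [PreservesCoproduct.inv_hom]
    exact ι_comp_sigmaComparison _ _ _
  rw [this]
  rfl

end Q


section Main

variable {X S : Scheme.{u}} (f : X ⟶ S) [QuasiCompact f] [QuasiSeparated f] [DCoh.HasRpush f]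
  {ι : Type u}

/-- **`Rf_*` commutes with direct sums on `D_QCoh`.** -/
theorem isIso_sigmaDesc_Rpush (K : ι → DCoh.D X) (hK : ∀ i, DCoh.IsQCohD (K i)) [HasCoproduct K]
    [HasCoproduct (fun i => (DCoh.Rpush f).obj (K i))] :
    IsIso (Sigma.desc (fun i => (DCoh.Rpush f).map (Sigma.ι K i))) := by
  have hex := fun i => Groth.Agent.Lib.Helper17.RpushQC.exists_good (K i) (hK i)
  choose I hI he using hex
  have e : ∀ i, K i ≅ DerivedCategory.Q.obj (I i) := fun i => (he i).some
  obtain ⟨J, q, hJ, hq, -, hinj⟩ :=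
    Groth.Agent.Lib.Helper17.KInjRes.exists_kInjective_resolution (∐ I)
  have hJgood : Good J := by
    refine ⟨hJ, hinj, fun n => ?_⟩
    haveI : IsIso (HomologicalComplex.homologyMap q n) := by
      have := hq
      rw [quasiIso_iff] at this
      exact (quasiIsoAt_iff_isIso_homologyMap _ _).1 (this n)
    have h1 : (∐ fun i => (I i).homology n).IsQuasicoherent :=
      Groth.Agent.Lib.Helper29.QCoh.isQuasicoherent_colimit
        (Discrete.functor (fun i => (I i).homology n)) (fun j => (hI j.as).qc n)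
    haveI h2 : IsIso (sigmaHomology I n) := isIso_sigmaHomology I n
    have e1 : (∐ fun i => (I i).homology n) ≅ (∐ I).homology n := asIso (sigmaHomology I n)
    have e2 : (∐ I).homology n ≅ J.homology n := asIso (HomologicalComplex.homologyMap q n)
    exact (SheafOfModules.isQuasicoherent X.ringCatSheaf).prop_of_iso (e1 ≪≫ e2) h1
  let g : ∀ i, I i ⟶ J := fun i => Sigma.ι I i ≫ q
  have hg : QuasiIso (Sigma.desc g) := by
    have h : Sigma.desc g = q := by
      apply Sigma.hom_ext
      intro i
      rw [Sigma.ι_desc]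
    rw [h]
    exact hq
  have hψ := quasiIso_ψ_push f I J g hI hJgood hg
  haveI : ∀ i, (I i).IsKInjective := fun i => (hI i).kinj
  haveI := hJ
  haveI : IsIso (DerivedCategory.Q.map (ψ I J g (Scheme.Modules.pushforward f))) :=
    (DerivedCategory.isIso_Q_map_iff_quasiIso _ _).2 hψ
  haveI : IsIso (DerivedCategory.Q.map q) := (DerivedCategory.isIso_Q_map_iff_quasiIso _ _).2 hq
  refine isIso_sigmaDesc_of_cofans (DCoh.Rpush f) K e _ (isColimitQ I)
    (fun i => RpushIso f (I i)) _
    (isColimitQ (fun i => Cx (Scheme.Modules.pushforward f) (I i)))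
    (asIso (DerivedCategory.Q.map (ψ I J g (Scheme.Modules.pushforward f))) ≪≫
      (RpushIso f J).symm ≪≫ (asIso ((DCoh.Rpush f).map (DerivedCategory.Q.map q))).symm) ?_
  intro i
  change DerivedCategory.Q.map (Sigma.ι (fun i => Cx (Scheme.Modules.pushforward f) (I i)) i) ≫
    DerivedCategory.Q.map (ψ I J g (Scheme.Modules.pushforward f)) ≫ (RpushIso f J).inv ≫
      inv ((DCoh.Rpush f).map (DerivedCategory.Q.map q)) =
    (RpushIso f (I i)).inv ≫ (DCoh.Rpush f).map (DerivedCategory.Q.map (Sigma.ι I i))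
  rw [← Functor.map_comp_assoc, ι_ψ]
  have h1 : DerivedCategory.Q.map (((Scheme.Modules.pushforward f).mapHomologicalComplex
      (ComplexShape.up ℤ)).map (g i)) ≫ (RpushIso f J).inv =
      (RpushIso f (I i)).inv ≫ (DCoh.Rpush f).map (DerivedCategory.Q.map (g i)) :=
    RFIso_inv_naturality (Scheme.Modules.pushforward f) (hA X) (g i)
  rw [← Category.assoc, h1, Category.assoc]
  congr 1
  rw [IsIso.comp_inv_eq, ← Functor.map_comp, ← Functor.map_comp]

end Main

end Groth.Agent.Lib.Helper17.CoprodRpush
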