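import Groth.Agent.Lib.Helper17.RL12
import Groth.Prelude.Def_DCoh2

/-!
# Cohomology sheaves of a derived limit (Stacks 21.23.8 pattern)
-/

set_option autoImplicit false
universe u

open CategoryTheory Limits Opposite Pretriangulated

namespace Groth.Agent.Lib.Helper17.RL13

open Groth.Agent.Lib.Helper17.RL1 Groth.Agent.Lib.Helper17.RL2 Groth.Agent.Lib.Helper17.RL8
open Groth.Agent.Lib.Helper17.RL10 Groth.Agent.Lib.Helper17.RL12
open Groth.Agent.Lib.Helper20.FreeSheaf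
open Groth.Agent.Lib.Helper20

variable {C : Type u} [SmallCategory C] {J : GrothendieckTopology C}
  [HasDerivedCategory.{u} (Sheaf J AddCommGrpCat.{u})]

open DerivedCategory

variable {K : ℕ → DerivedCategory (Sheaf J AddCommGrpCat.{u})} {t : ∀ n, K (n + 1) ⟶ K n}
  [HasProduct K] {L : DerivedCategory (Sheaf J AddCommGrpCat.{u})} {a : ∀ n, L ⟶ K n}
  (hL : CohCx.IsRlimVia K t L a) (q : ℤ)

/-- the cohomology sheaves. -/
noncomputable abbrev Hq (K : ℕ → DerivedCategory (Sheaf J AddCommGrpCat.{u})) (q : ℤ) :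
    ℕ → Sheaf J AddCommGrpCat.{u} := fun n => CohCx.HD (K n) q

/-- the transition maps of the cohomology sheaves. -/
noncomputable abbrev tq (t : ∀ n, K (n + 1) ⟶ K n) (q : ℤ) : ∀ n, Hq K q (n + 1) ⟶ Hq K q n :=
  fun n => (homologyFunctor (Sheaf J AddCommGrpCat.{u}) q).map (t n)

/-- the limit of the cohomology sheaves. -/
noncomputable abbrev Glim (t : ∀ n, K (n + 1) ⟶ K n) (q : ℤ) : Sheaf J AddCommGrpCat.{u} :=
  limit (Functor.ofOpSequence (tq t q))

include hL in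
lemma compat (U : C) (x : CohCx.HDU L q U) (n : ℕ) :
    θ (ZU J U) q (K (n + 1)) (x ≫ (a (n + 1))⟦q⟧') ≫ (homologyFunctor _ q).map (t n) =
      θ (ZU J U) q (K n) (x ≫ (a n)⟦q⟧') := by
  rw [← θ_naturality, Category.assoc, ← Functor.map_comp, a_compat hL]

/-- the comparison map on sections over `U`. -/
noncomputable def ΨU (U : C) (x : CohCx.HDU L q U) : ZU J U ⟶ Glim t q :=
  towerLift (tq t q) (fun n => θ (ZU J U) q (K n) (x ≫ (a n)⟦q⟧')) (compat hL q U x)

lemma ΨU_π (U : C) (x : CohCx.HDU L q U) (n : ℕ) :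
    ΨU hL q U x ≫ limit.π (Functor.ofOpSequence (tq t q)) (op n) =
      θ (ZU J U) q (K n) (x ≫ (a n)⟦q⟧') :=
  towerLift_π _ _ _ n

lemma ΨU_add (U : C) (x y : CohCx.HDU L q U) :
    ΨU hL q U (x + y) = ΨU hL q U x + ΨU hL q U y := by
  apply tower_hom_ext
  intro n
  rw [Preadditive.add_comp, ΨU_π, ΨU_π, ΨU_π, Preadditive.add_comp, map_add]
  rfl

lemma ΨU_res {U V : C} (g : V ⟶ U) (x : CohCx.HDU L q U) :
    ΨU hL q V ((singleFunctor _ 0).map (Zmap J g) ≫ x) = Zmap J g ≫ ΨU hL q U x := by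
  apply tower_hom_ext
  intro n
  rw [Category.assoc, ΨU_π, ΨU_π, Category.assoc, θ_naturality_left]
  rfl

/-- the comparison map of presheaves `H^q(-, L) ⟶ lim H^q(K_n)`. -/
noncomputable def Ψ : CohCx.HDUPresheaf L q ⟶ (Glim t q).obj where
  app U := AddCommGrpCat.ofHom (AddMonoidHom.mk'
    (fun x : CohCx.HDU L q U.unop => FreeSheaf.a J U.unop (Glim t q) (ΨU hL q U.unop x))
    (fun x y => (congrArg (FreeSheaf.a J U.unop (Glim t q)) (ΨU_add hL q U.unop x y)).trans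
      (FreeSheaf.a_add J U.unop _ _)))
  naturality U V g := by
    ext x
    change FreeSheaf.a J V.unop (Glim t q) (ΨU hL q V.unop ((singleFunctor _ 0).map (Zmap J g.unop) ≫ x)) =
      (Glim t q).obj.map g (FreeSheaf.a J U.unop (Glim t q) (ΨU hL q U.unop x))
    rw [ΨU_res, FreeSheaf.a_nat_left]
    rfl

lemma Ψ_app_apply (U : C) (x : CohCx.HDU L q U) :
    (Ψ hL q).app (op U) x = FreeSheaf.a J U (Glim t q) (ΨU hL q U x) := rfl


section bij

variable (B : Set C)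
  (hB : ∀ U : C, ∃ (ι : Type u) (Y : ι → C) (f : ∀ i, Y i ⟶ U),
    Sieve.ofArrows Y f ∈ J U ∧ ∀ i, Y i ∈ B)
  (h1 : ∀ U ∈ B, ∀ (p : ℕ) (q : ℤ) (n : ℕ),
    Subsingleton (CohSite.HU (CohCx.HD (K n) q) (p + 1) U))
  (h2 : ∀ U ∈ B, ∀ (q : ℤ), CohCx.LimOneIsZero (fun n => (CohCx.HD (K n) q).obj.obj (op U))
    (fun n => (((DerivedCategory.homologyFunctor _ q).map (t n)).hom.app (op U)).hom))

include hB h1 in
lemma θ_bij (U : C) (hU : U ∈ B) (n : ℕ) (q' : ℤ) : Function.Bijective (θ (ZU J U) q' (K n)) :=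
  θ_bijective_site (K n) B hB (fun V hV p q'' => h1 V hV p q'' n) U hU q'

include hB h1 h2 in
lemma limOne_HDU (U : C) (hU : U ∈ B) (q' : ℤ) :
    CohCx.LimOneIsZero (fun n => CohCx.HDU (K n) q' U)
      (fun n => Preadditive.rightComp _ ((t n)⟦q'⟧')) := by
  refine limOne_transfer _ _
    (fun n => AddMonoidHom.mk'
      (fun x : CohCx.HDU (K n) q' U => FreeSheaf.a J U (CohCx.HD (K n) q') (θ (ZU J U) q' (K n) x))
      (fun x y => by rw [map_add, FreeSheaf.a_add]))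
    (fun n => ?_) (fun n x => ?_) (h2 U hU q')
  · exact (FreeSheaf.a J U (CohCx.HD (K n) q')).bijective.comp (θ_bij B hB h1 U hU n q')
  · change FreeSheaf.a J U (CohCx.HD (K n) q') (θ (ZU J U) q' (K n) (x ≫ (t n)⟦q'⟧')) =
      ((DerivedCategory.homologyFunctor _ q').map (t n)).hom.app (op U)
        (FreeSheaf.a J U (CohCx.HD (K (n + 1)) q') (θ (ZU J U) q' (K (n + 1)) x))
    rw [θ_naturality, FreeSheaf.a_nat]

include hB h1 h2 in
theorem Ψ_bijective (U : C) (hU : U ∈ B) : Function.Bijective ((Ψ hL q).app (op U)) := by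
  constructor
  · rw [← AddMonoidHom.coe_coe, injective_iff_map_eq_zero]
    intro x hx
    have hx' : FreeSheaf.a J U (Glim t q) (ΨU hL q U x) = 0 := hx
    have h3 : ΨU hL q U x = 0 := by
      apply (FreeSheaf.a J U (Glim t q)).injective
      rw [hx', FreeSheaf.a_zero]
    apply (Groth.Agent.Lib.Helper5.Milnor.milnor hL _ q).2 (limOne_HDU B hB h1 h2 U hU (q - 1)) x
    intro n
    apply (θ_bij B hB h1 U hU n q).1
    rw [← ΨU_π hL q U x n, h3, zero_comp, map_zero]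
    rfl
  · intro s
    let σ : ZU J U ⟶ Glim t q := (FreeSheaf.a J U (Glim t q)).symm s
    choose x hx using fun n => (θ_bij B hB h1 U hU n q).2
      (σ ≫ limit.π (Functor.ofOpSequence (tq t q)) (op n))
    have hcompat : ∀ n, x (n + 1) ≫ (t n)⟦q⟧' = x n := by
      intro n
      apply (θ_bij B hB h1 U hU n q).1
      rw [θ_naturality, hx, hx, Category.assoc]
      congr 1
      exact tower_π_comp (tq t q) n
    obtain ⟨y, hy⟩ := (Groth.Agent.Lib.Helper5.Milnor.milnor hL _ q).1 x hcompat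
    refine ⟨y, ?_⟩
    change FreeSheaf.a J U (Glim t q) (ΨU hL q U y) = s
    have h3 : ΨU hL q U y = σ := by
      apply tower_hom_ext
      intro n
      rw [ΨU_π, hy, hx]
      rfl
    rw [h3]
    exact Equiv.apply_symm_apply _ s

include hL hB h1 h2 in
/-- **Main**: `H^q(R lim K_n) ≅ lim H^q(K_n)`. -/
theorem nonempty_iso : Nonempty (CohCx.HD L q ≅ Glim t q) := by
  obtain ⟨e1⟩ := HDU3.nonempty_sheafify_iso J L q
  obtain ⟨e2⟩ := nonempty_sheafify_iso_of_bijective_on_class J _ (Glim t q) (Ψ hL q) B hB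
    (fun U hU => Ψ_bijective hL q B hB h1 h2 U hU)
  exact ⟨e1.symm ≪≫ e2⟩

end bij


section conv

variable {T : Type*} [Category T] [Preadditive T] [HasZeroObject T] [HasShift T ℤ]
  [∀ n : ℤ, (CategoryTheory.shiftFunctor T n).Additive] [Pretriangulated T]

lemma exists_isRlimVia_of_isRlim {K : ℕ → T} {t : ∀ n, K (n + 1) ⟶ K n} [HasProduct K] {L : T}
    (hL : DCoh.IsRlim K t L) : ∃ a : ∀ n, L ⟶ K n, CohCx.IsRlimVia K t L a := by
  obtain ⟨a, c, hT⟩ := hL
  refine ⟨fun n => a ≫ Pi.π K n, c, ?_⟩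
  have : Pi.lift (fun n => a ≫ Pi.π K n) = a := by
    apply Pi.hom_ext
    intro n
    simp
  rw [this]
  exact hT

lemma isRlim_of_isRlimVia {K : ℕ → T} {t : ∀ n, K (n + 1) ⟶ K n} [HasProduct K] {L : T}
    {a : ∀ n, L ⟶ K n} (hL : CohCx.IsRlimVia K t L a) : DCoh.IsRlim K t L := by
  obtain ⟨c, hT⟩ := hL
  exact ⟨_, c, hT⟩

end conv

end Groth.Agent.Lib.Helper17.RL13
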