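import Groth.Agent.Lib.Helper17.RL13

/-!
# `lim F_n` is the derived limit of an acyclic Mittag-Leffler system (Stacks 21.23.9 pattern)
-/

set_option autoImplicit false
universe u

open CategoryTheory Limits Opposite Pretriangulated

namespace Groth.Agent.Lib.Helper17.RL14

open Groth.Agent.Lib.Helper17.RL1 Groth.Agent.Lib.Helper17.RL2 Groth.Agent.Lib.Helper17.RL6
open Groth.Agent.Lib.Helper17.RL8 Groth.Agent.Lib.Helper17.RL10 Groth.Agent.Lib.Helper17.RL12
open Groth.Agent.Lib.Helper17.RL13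
open Groth.Agent.Lib.Helper20.FreeSheaf
open Groth.Agent.Lib.Helper20

section gen

lemma ext_subsingleton_of_isZero {A : Type*} [Category A] [Abelian A] [HasExt.{u} A] {X Y : A}
    (hY : IsZero Y) (k : ℕ) : Subsingleton (Abelian.Ext.{u} X Y k) := by
  have h1 : IsZero ((Abelian.extFunctorObj.{u} X k).obj Y) :=
    Functor.map_isZero (Abelian.extFunctorObj.{u} X k) hY
  exact AddCommGrpCat.subsingleton_of_isZero h1

lemma limOne_of_subsingleton (A : ℕ → Type u) [∀ n, AddCommGroup (A n)]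
    (t : ∀ n, A (n + 1) →+ A n) (h : ∀ n, Subsingleton (A n)) : CohCx.LimOneIsZero A t := by
  intro b
  exact ⟨fun _ => 0, funext fun n => Subsingleton.elim _ _⟩

variable {D : Type*} [Category D] {X X' : ℕ → D} (f : ∀ n, X (n + 1) ⟶ X n)
  (f' : ∀ n, X' (n + 1) ⟶ X' n)

/-- isomorphic towers. -/
noncomputable def towerIso (e : ∀ n, X n ≅ X' n) (he : ∀ n, f n ≫ (e n).hom = (e (n + 1)).hom ≫ f' n) :
    Functor.ofOpSequence f ≅ Functor.ofOpSequence f' := by
  let φ : Functor.ofOpSequence f ⟶ Functor.ofOpSequence f' :=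
    NatTrans.ofOpSequence (fun n => (e n).hom) (fun n => by
      simp only [Functor.ofOpSequence_map_homOfLE_succ]
      exact he n)
  have : ∀ j, IsIso (φ.app j) := by
    intro j
    change IsIso (e j.unop).hom
    infer_instance
  have : IsIso φ := NatIso.isIso_of_isIso_app φ
  exact asIso φ

lemma isZero_limit_tower [HasZeroMorphisms D] [HasLimit (Functor.ofOpSequence f)]
    (h : ∀ n, IsZero (X n)) : IsZero (limit (Functor.ofOpSequence f)) := by
  rw [IsZero.iff_id_eq_zero]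
  apply limit.hom_ext
  intro j
  exact (h j.unop).eq_of_tgt _ _

end gen


section main

variable {C : Type u} [SmallCategory C] {J : GrothendieckTopology C}
  [HasDerivedCategory.{u} (Sheaf J AddCommGrpCat.{u})]

open DerivedCategory

lemma isZero_HD_single (G : Sheaf J AddCommGrpCat.{u}) (q : ℤ) (hq : q ≠ 0) :
    IsZero (CohCx.HD ((singleFunctor (Sheaf J AddCommGrpCat.{u}) 0).obj G) q) := by
  rcases lt_or_gt_of_ne hq with h | h
  · exact isZero_of_isGE _ 0 q h
  · exact isZero_of_isLE _ 0 q h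

lemma bijective_app_of_iso {G G' : Sheaf J AddCommGrpCat.{u}} (e : G ≅ G') (U : C) :
    Function.Bijective (e.hom.hom.app (op U)) := by
  have h1 : IsIso ((sheafToPresheaf J AddCommGrpCat.{u} ⋙
      (evaluation Cᵒᵖ AddCommGrpCat.{u}).obj (op U)).map e.hom) := inferInstance
  exact ConcreteCategory.bijective_of_isIso ((sheafToPresheaf J AddCommGrpCat.{u} ⋙
      (evaluation Cᵒᵖ AddCommGrpCat.{u}).obj (op U)).map e.hom)

lemma subsingleton_sections_of_isZero {G : Sheaf J AddCommGrpCat.{u}} (hG : IsZero G) (U : C) :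
    Subsingleton (G.obj.obj (op U)) := by
  have h1 : IsZero ((sheafToPresheaf J AddCommGrpCat.{u} ⋙
      (evaluation Cᵒᵖ AddCommGrpCat.{u}).obj (op U)).obj G) :=
    Functor.map_isZero _ hG
  exact AddCommGrpCat.subsingleton_of_isZero h1

variable (F : ℕ → Sheaf J AddCommGrpCat.{u}) (t : ∀ n, F (n + 1) ⟶ F n) (B : Set C)
  (hB : ∀ U : C, ∃ (ι : Type u) (Y : ι → C) (f : ∀ i, Y i ⟶ U),
    Sieve.ofArrows Y f ∈ J U ∧ ∀ i, Y i ∈ B)
  (h1 : ∀ U ∈ B, ∀ (p n : ℕ), Subsingleton (CohSite.HU (F n) (p + 1) U))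
  (h2 : ∀ U ∈ B, CohCx.LimOneIsZero (fun n => (F n).obj.obj (op U))
    (fun n => ((t n).hom.app (op U)).hom))

include h1 in
lemma h1' : ∀ U ∈ B, ∀ (p : ℕ) (q : ℤ) (n : ℕ), Subsingleton (CohSite.HU
    (CohCx.HD ((singleFunctor (Sheaf J AddCommGrpCat.{u}) 0).obj (F n)) q) (p + 1) U) := by
  intro U hU p q n
  by_cases hq : q = 0
  · subst hq
    exact ext_subsingleton_of_iso (i0 (F n)).symm (p + 1) (h1 U hU p n)
  · exact ext_subsingleton_of_isZero (isZero_HD_single (F n) q hq) (p + 1)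

include h2 in
lemma h2' : ∀ U ∈ B, ∀ (q : ℤ), CohCx.LimOneIsZero
    (fun n => (CohCx.HD ((singleFunctor (Sheaf J AddCommGrpCat.{u}) 0).obj (F n)) q).obj.obj (op U))
    (fun n => (((DerivedCategory.homologyFunctor _ q).map
      ((singleFunctor (Sheaf J AddCommGrpCat.{u}) 0).map (t n))).hom.app (op U)).hom) := by
  intro U hU q
  by_cases hq : q = 0
  · subst hq
    refine limOne_transfer _ _ (fun n => ((i0 (F n)).hom.hom.app (op U)).hom)
      (fun n => bijective_app_of_iso (i0 (F n)) U) (fun n x => ?_) (h2 U hU)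
    have h3 := i0_naturality (t n)
    have h4 := congrArg (fun φ => φ.hom.app (op U)) h3
    exact ConcreteCategory.congr_hom h4 x
  · exact limOne_of_subsingleton _ _
      (fun n => subsingleton_sections_of_isZero (isZero_HD_single (F n) q hq) U)

include hB h1 h2 in
/-- **Main**: `lim F_n` in degree zero is a derived limit, and is acyclic on the class. -/
theorem isRlim_single_limit
    [HasProduct fun n => (singleFunctor (Sheaf J AddCommGrpCat.{u}) 0).obj (F n)] :
    DCoh.IsRlim (fun n => (singleFunctor (Sheaf J AddCommGrpCat.{u}) 0).obj (F n))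
      (fun n => (singleFunctor (Sheaf J AddCommGrpCat.{u}) 0).map (t n))
      ((singleFunctor (Sheaf J AddCommGrpCat.{u}) 0).obj (limit (Functor.ofOpSequence t))) ∧
    ∀ U ∈ B, ∀ p : ℕ, Subsingleton (CohSite.HU (limit (Functor.ofOpSequence t)) (p + 1) U) := by
  let K : ℕ → DerivedCategory (Sheaf J AddCommGrpCat.{u}) :=
    fun n => (singleFunctor (Sheaf J AddCommGrpCat.{u}) 0).obj (F n)
  let tK : ∀ n, K (n + 1) ⟶ K n := fun n => (singleFunctor (Sheaf J AddCommGrpCat.{u}) 0).map (t n)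
  obtain ⟨L, a, hL⟩ := exists_rlim K tK
  have hq : ∀ q, Nonempty (CohCx.HD L q ≅ Glim tK q) :=
    fun q => nonempty_iso hL q B hB (h1' F B h1) (h2' F t B h2)
  have hz : ∀ q : ℤ, q ≠ 0 → IsZero (CohCx.HD L q) := by
    intro q hq0
    exact IsZero.of_iso (isZero_limit_tower _ (fun n => isZero_HD_single (F n) q hq0)) (hq q).some
  have hGE : L.IsGE 0 := (isGE_iff L 0).2 (fun i hi => hz i (by omega))
  have hLE : L.IsLE 0 := (isLE_iff L 0).2 (fun i hi => hz i (by omega))
  obtain ⟨Y, ⟨eL⟩⟩ := exists_iso_singleFunctor_obj_of_isGE_of_isLE L 0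
  let eT : Functor.ofOpSequence (tq tK 0) ≅ Functor.ofOpSequence t :=
    towerIso _ _ (fun n => i0 (F n)) (fun n => i0_naturality (t n))
  let eY : Y ≅ limit (Functor.ofOpSequence t) :=
    (i0 Y).symm ≪≫ (homologyFunctor _ 0).mapIso eL.symm ≪≫ (hq 0).some ≪≫
      HasLimit.isoOfNatIso eT
  let e : (singleFunctor (Sheaf J AddCommGrpCat.{u}) 0).obj (limit (Functor.ofOpSequence t)) ≅ L :=
    (singleFunctor (Sheaf J AddCommGrpCat.{u}) 0).mapIso eY.symm ≪≫ eL.symm
  refine ⟨isRlim_of_isRlimVia (isRlimVia_of_iso hL (fun n => e.hom ≫ a n) e.hom (fun n => rfl)), ?_⟩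
  intro U hU p
  have hsub : Subsingleton ((singleFunctor (Sheaf J AddCommGrpCat.{u}) 0).obj (ZU J U) ⟶
      ((singleFunctor (Sheaf J AddCommGrpCat.{u}) 0).obj
        (limit (Functor.ofOpSequence t)))⟦((p + 1 : ℕ) : ℤ)⟧) := by
    refine ⟨fun y y' => ?_⟩
    suffices h : ∀ y : (singleFunctor (Sheaf J AddCommGrpCat.{u}) 0).obj (ZU J U) ⟶
        ((singleFunctor (Sheaf J AddCommGrpCat.{u}) 0).obj
          (limit (Functor.ofOpSequence t)))⟦((p + 1 : ℕ) : ℤ)⟧, y = 0 by rw [h y, h y']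
    intro y
    have h3 : y ≫ e.hom⟦((p + 1 : ℕ) : ℤ)⟧' = 0 := by
      apply (Groth.Agent.Lib.Helper5.Milnor.milnor hL _ ((p + 1 : ℕ) : ℤ)).2
        (limOne_HDU B hB (h1' F B h1) (h2' F t B h2) U hU (((p + 1 : ℕ) : ℤ) - 1))
      intro n
      have : Subsingleton ((singleFunctor (Sheaf J AddCommGrpCat.{u}) 0).obj (ZU J U) ⟶
          ((singleFunctor (Sheaf J AddCommGrpCat.{u}) 0).obj (F n))⟦((p + 1 : ℕ) : ℤ)⟧) := by
        have h4 : Subsingleton (Abelian.Ext.{u} (ZU J U) (F n) (p + 1)) := h1 U hU p n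
        exact (Abelian.Ext.homEquiv (X := ZU J U) (Y := F n) (n := p + 1)).symm.subsingleton
      exact @Subsingleton.elim _ this _ _
    rw [← cancel_mono (e.hom⟦((p + 1 : ℕ) : ℤ)⟧'), h3, zero_comp]
  exact (Abelian.Ext.homEquiv (X := ZU J U) (Y := limit (Functor.ofOpSequence t))
    (n := p + 1)).subsingleton

end main

end Groth.Agent.Lib.Helper17.RL14
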