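import Groth.Agent.Lib.Helper17.SG2
import Groth.Agent.Lib.Helper17.RL13
import Groth.Agent.Lib.Helper17.RL14

/-!
# `lim F_n` is the derived limit of an acyclic Mittag-Leffler system, for abstract site generators
(Stacks 0A0J / 08U3 pattern), e.g. for systems of quasi-coherent modules on a scheme.
-/

set_option autoImplicit false
universe w' w v u

open CategoryTheory Limits Opposite Pretriangulated

namespace Groth.Agent.Lib.Helper17.SG8

open Groth.Agent.Lib.Helper17.SG1 Groth.Agent.Lib.Helper17.SG2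
open Groth.Agent.Lib.Helper17.RL2 Groth.Agent.Lib.Helper17.RL4 Groth.Agent.Lib.Helper17.RL5
open Groth.Agent.Lib.Helper17.RL6 Groth.Agent.Lib.Helper17.RL9 Groth.Agent.Lib.Helper17.RL12
open Groth.Agent.Lib.Helper17.RL13 Groth.Agent.Lib.Helper17.RL14
open DerivedCategory DerivedCategory.TStructure

section pr

variable {D : Type*} [Category D] {X : ℕ → D} (f : ∀ n, X (n + 1) ⟶ X n)
  [HasLimit (Functor.ofOpSequence f)]

/-- the projections of the limit of a tower, with codomain `X n`. -/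
noncomputable abbrev prG (n : ℕ) : limit (Functor.ofOpSequence f) ⟶ X n :=
  limit.π (Functor.ofOpSequence f) (op n)

lemma lift_prG {Z : D} (c : ∀ n, Z ⟶ X n) (hc : ∀ n, c (n + 1) ≫ f n = c n) (n : ℕ) :
    towerLift f c hc ≫ prG f n = c n :=
  towerLift_π f c hc n

lemma hom_ext_prG {Z : D} (u v : Z ⟶ limit (Functor.ofOpSequence f))
    (h : ∀ n, u ≫ prG f n = v ≫ prG f n) : u = v :=
  tower_hom_ext f u v h

lemma prG_comp (n : ℕ) : prG f (n + 1) ≫ f n = prG f n := tower_π_comp f n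

end pr

section single

variable {A : Type (u + 1)} [Category.{u} A] [Abelian A] [HasDerivedCategory.{w} A]

/-- the zero-shift isomorphism, for a shift by an integer equal to zero. -/
noncomputable def sZ (j : ℤ) (hj : j = 0) (Y : DerivedCategory A) : Y⟦j⟧ ≅ Y :=
  (shiftFunctorZero' (DerivedCategory A) j hj).app Y

lemma sZ_inv_naturality (j : ℤ) (hj : j = 0) {Y Y' : DerivedCategory A} (f : Y ⟶ Y') :
    (sZ j hj Y).inv ≫ f⟦j⟧' = f ≫ (sZ j hj Y').inv :=
  ((shiftFunctorZero' (DerivedCategory A) j hj).inv.naturality f).symm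

/-- every map `S_0 X ⟶ (S_0 F)⟦j⟧` with `j = 0` comes from a unique map `X ⟶ F`. -/
lemma exists_eq_single_map (X F : A) (j : ℤ) (hj : j = 0)
    (y : (singleFunctor A 0).obj X ⟶ ((singleFunctor A 0).obj F)⟦j⟧) :
    ∃ g : X ⟶ F, y = (singleFunctor A 0).map g ≫ (sZ j hj _).inv := by
  obtain ⟨g, hg⟩ := (singleFunctor A 0).map_surjective (y ≫ (sZ j hj _).hom)
  exact ⟨g, by rw [hg, Category.assoc, Iso.hom_inv_id, Category.comp_id]⟩

lemma single_map_comp_sZ_inv_eq_zero_iff (X F : A) (j : ℤ) (hj : j = 0) (g : X ⟶ F) :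
    (singleFunctor A 0).map g ≫ (sZ j hj ((singleFunctor A 0).obj F)).inv = 0 ↔ g = 0 := by
  constructor
  · intro h
    apply (singleFunctor A 0).map_injective
    rw [Functor.map_zero, ← cancel_mono (sZ j hj ((singleFunctor A 0).obj F)).inv, h, zero_comp]
  · rintro rfl
    rw [Functor.map_zero, zero_comp]

variable [HasExt.{w'} A]

/-- `Hom(S_0 X, (S_0 F)[q]) = 0` for `q ≠ 0` when the positive `Ext` groups vanish. -/
lemma hom_single_eq_zero (X F : A) (hX : ∀ p : ℕ, Subsingleton (Abelian.Ext.{w'} X F (p + 1)))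
    (q : ℤ) (hq : q ≠ 0) (f : (singleFunctor A 0).obj X ⟶ ((singleFunctor A 0).obj F)⟦q⟧) :
    f = 0 := by
  rcases lt_or_gt_of_ne hq with h | h
  · have h1 : (((singleFunctor A 0).obj F)⟦q⟧).IsGE (-q) :=
      t.isGE_shift _ 0 q (-q) (by omega)
    have h2 : (((singleFunctor A 0).obj F)⟦q⟧).IsGE 1 := t.isGE_of_ge _ 1 (-q) (by omega)
    exact hom_eq_zero_of_isGE X _ f
  · obtain ⟨r, hr⟩ : ∃ r : ℕ, q = (r : ℤ) + 1 := ⟨(q - 1).toNat, by omega⟩
    exact hom_eq_zero_of_ext_subsingleton.{w'} ((singleFunctor A 0).obj F) 0 F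
      ((singleFunctorCompHomologyFunctorIso A 0).app F) X q (r + 1) (by push_cast; omega)
      (hX r) f

end single

section main

variable {C : Type u} [SmallCategory C] {J : GrothendieckTopology C}
  {A : Type (u + 1)} [Category.{u} A] [Abelian A] [IsGrothendieckAbelian.{u} A]
  [HasDerivedCategory.{w} A] [HasExt.{w'} A] (sg : SiteGens J A)
  (F : ℕ → A) (t : ∀ n, F (n + 1) ⟶ F n)

/-- eventual surjectivity of `Hom(X, F_{n+1}) → Hom(X, F_n)` gives vanishing `lim¹` of the system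
`Hom(S_0 X, (S_0 F_n)[j])` for `j = 0`. -/
lemma limOne_single (X : A)
    (h2 : ∃ N : ℕ, ∀ n, N ≤ n → ∀ g : X ⟶ F n, ∃ g' : X ⟶ F (n + 1), g' ≫ t n = g)
    (j : ℤ) (hj : j = 0) :
    CohCx.LimOneIsZero (fun n => ((singleFunctor A 0).obj X ⟶ ((singleFunctor A 0).obj (F n))⟦j⟧))
      (fun n => Preadditive.rightComp _ (((singleFunctor A 0).map (t n))⟦j⟧')) := by
  obtain ⟨N, hN⟩ := h2
  apply limOne_of_eventually_surjective N
  intro n hn y
  obtain ⟨g, rfl⟩ := exists_eq_single_map X (F n) j hj y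
  obtain ⟨g', rfl⟩ := hN n hn g
  refine ⟨(singleFunctor A 0).map g' ≫ (sZ j hj _).inv, ?_⟩
  change ((singleFunctor A 0).map g' ≫ (sZ j hj _).inv) ≫ ((singleFunctor A 0).map (t n))⟦j⟧' = _
  rw [Category.assoc, sZ_inv_naturality, ← Category.assoc, ← Functor.map_comp]

variable [HasProduct fun n => (singleFunctor A 0).obj (F n)]

/-- vanishing of `Hom(S_0 X, L[q])`, `q ≠ 0`, for the derived limit `L` of the `S_0 F_n`. -/
lemma hom_rlim_eq_zero (X : A)
    (h1 : ∀ (p n : ℕ), Subsingleton (Abelian.Ext.{w'} X (F n) (p + 1)))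
    (h2 : ∃ N : ℕ, ∀ n, N ≤ n → ∀ g : X ⟶ F n, ∃ g' : X ⟶ F (n + 1), g' ≫ t n = g)
    {L : DerivedCategory A} {a : ∀ n, L ⟶ (singleFunctor A 0).obj (F n)}
    (hL : CohCx.IsRlimVia (fun n => (singleFunctor A 0).obj (F n))
      (fun n => (singleFunctor A 0).map (t n)) L a)
    (q : ℤ) (hq : q ≠ 0) (y : (singleFunctor A 0).obj X ⟶ L⟦q⟧) : y = 0 := by
  refine (Groth.Agent.Lib.Helper5.Milnor.milnor hL _ q).2 ?_ y
    (fun n => hom_single_eq_zero.{w'} X (F n) (fun p => h1 p n) q hq _)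
  by_cases hq1 : q - 1 = 0
  · exact limOne_single F t X h2 (q - 1) hq1
  · apply limOne_of_subsingleton
    intro n
    exact ⟨fun f g => (hom_single_eq_zero.{w'} X (F n) (fun p => h1 p n) (q - 1) hq1 f).trans
      (hom_single_eq_zero.{w'} X (F n) (fun p => h1 p n) (q - 1) hq1 g).symm⟩

variable [HasLimit (Functor.ofOpSequence t)]

omit [IsGrothendieckAbelian.{u} A] [HasExt.{w'} A] in
/-- the comparison map `S_0 (lim F_n) ⟶ L` is injective on `Hom(S_0 X, -[0])`. -/
lemma injAt_comparison (X : A)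
    {L : DerivedCategory A} {a : ∀ n, L ⟶ (singleFunctor A 0).obj (F n)}
    (e : (singleFunctor A 0).obj (limit (Functor.ofOpSequence t)) ⟶ L)
    (he : ∀ n, e ≫ a n = (singleFunctor A 0).map (prG t n)) :
    InjAt e 0 X := by
  intro y hy
  obtain ⟨g, rfl⟩ := exists_eq_single_map X _ 0 rfl y
  rw [single_map_comp_sZ_inv_eq_zero_iff]
  apply hom_ext_prG t
  intro n
  rw [zero_comp]
  have h3 := congrArg (fun z => z ≫ (a n)⟦(0 : ℤ)⟧') hy
  simp only [zero_comp, Category.assoc] at h3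
  rw [← Functor.map_comp, he, sZ_inv_naturality, ← Category.assoc, ← Functor.map_comp] at h3
  exact (single_map_comp_sZ_inv_eq_zero_iff X _ 0 rfl _).1 h3

omit [IsGrothendieckAbelian.{u} A] in
/-- the comparison map `S_0 (lim F_n) ⟶ L` is surjective on `Hom(S_0 X, -[0])`. -/
lemma surjAt_comparison (X : A)
    (h1 : ∀ (p n : ℕ), Subsingleton (Abelian.Ext.{w'} X (F n) (p + 1)))
    {L : DerivedCategory A} {a : ∀ n, L ⟶ (singleFunctor A 0).obj (F n)}
    (hL : CohCx.IsRlimVia (fun n => (singleFunctor A 0).obj (F n))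
      (fun n => (singleFunctor A 0).map (t n)) L a)
    (e : (singleFunctor A 0).obj (limit (Functor.ofOpSequence t)) ⟶ L)
    (he : ∀ n, e ≫ a n = (singleFunctor A 0).map (prG t n)) :
    SurjAt e 0 X := by
  intro z
  choose g hg using fun n => exists_eq_single_map X (F n) 0 rfl (z ≫ (a n)⟦(0 : ℤ)⟧')
  have hcompat : ∀ n, g (n + 1) ≫ t n = g n := by
    intro n
    apply (singleFunctor A 0).map_injective
    rw [← cancel_mono (sZ 0 rfl ((singleFunctor A 0).obj (F n))).inv, Functor.map_comp,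
      Category.assoc, ← sZ_inv_naturality, ← Category.assoc, ← hg (n + 1), ← hg n, Category.assoc,
      ← Functor.map_comp]
    exact congrArg (fun w => z ≫ w⟦(0 : ℤ)⟧') (a_compat hL n)
  refine ⟨(singleFunctor A 0).map (towerLift t g hcompat) ≫ (sZ 0 rfl _).inv, ?_⟩
  rw [← sub_eq_zero]
  refine (Groth.Agent.Lib.Helper5.Milnor.milnor hL _ 0).2 ?_ _ ?_
  · apply limOne_of_subsingleton
    intro n
    exact ⟨fun f g =>
      (hom_single_eq_zero.{w'} X (F n) (fun p => h1 p n) (0 - 1) (by norm_num) f).trans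
      (hom_single_eq_zero.{w'} X (F n) (fun p => h1 p n) (0 - 1) (by norm_num) g).symm⟩
  · intro n
    rw [Preadditive.sub_comp, sub_eq_zero, Category.assoc, Category.assoc, ← Functor.map_comp, he,
      sZ_inv_naturality, ← Category.assoc, ← Functor.map_comp, lift_prG, ← hg n]

open ZeroObject in
/-- **`lim F_n` (in degree `0`) is the derived limit of the tower `(F_n)`**, and is acyclic on the
covering class, when the `F_n` are acyclic on the class and the transition maps are eventually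
surjective on `Hom(G U, -)` for `U` in the class. -/
theorem isRlimVia_single_limit_gens (B : Set C)
    (hB : ∀ U : C, ∃ (ι : Type u) (Y : ι → C) (f : ∀ i, Y i ⟶ U),
      Sieve.ofArrows Y f ∈ J U ∧ ∀ i, Y i ∈ B)
    (h1 : ∀ U ∈ B, ∀ (p n : ℕ), Subsingleton (Abelian.Ext.{w'} (sg.G U) (F n) (p + 1)))
    (h2 : ∀ U ∈ B, ∃ N : ℕ, ∀ n, N ≤ n → ∀ g : sg.G U ⟶ F n,
      ∃ g' : sg.G U ⟶ F (n + 1), g' ≫ t n = g) :
    CohCx.IsRlimVia (fun n => (singleFunctor A 0).obj (F n))
      (fun n => (singleFunctor A 0).map (t n))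
      ((singleFunctor A 0).obj (limit (Functor.ofOpSequence t)))
      (fun n => (singleFunctor A 0).map (prG t n)) ∧
    ∀ U ∈ B, ∀ p : ℕ,
      Subsingleton (Abelian.Ext.{w'} (sg.G U) (limit (Functor.ofOpSequence t)) (p + 1)) := by
  obtain ⟨L, a, hL⟩ := exists_rlim (fun n => (singleFunctor A 0).obj (F n))
    (fun n => (singleFunctor A 0).map (t n))
  obtain ⟨e, he⟩ := exists_lift_to_rlim hL (fun n => (singleFunctor A 0).map (prG t n))
    (fun n => by rw [← Functor.map_comp, prG_comp])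
  have hvan : ∀ U ∈ B, ∀ q : ℤ, q ≠ 0 → ∀ y : (singleFunctor A 0).obj (sg.G U) ⟶ L⟦q⟧, y = 0 :=
    fun U hU q hq y => hom_rlim_eq_zero.{w'} F t (sg.G U) (h1 U hU) (h2 U hU) hL q hq y
  have hiso : IsIso e := by
    rw [DerivedCategory.isIso_iff]
    intro q
    by_cases hq : q = 0
    · subst hq
      have hmono : Mono ((homologyFunctor A 0).map e) := by
        apply mono_of_local sg _ B hB
        intro V hV σ hσ
        apply comp_eq_zero_of_local sg e V 0 _ σ hσ
        intro T hT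
        obtain ⟨ι, Yf, f, hfT, hcov, hYB⟩ :=
          Groth.Agent.Lib.Helper17.RL10.exists_family_in_sieve B hB V T hT
        exact ⟨ι, Yf, f, hfT, hcov, fun i => injAt_comparison F t (sg.G (Yf i)) e he⟩
      have hepi : Epi ((homologyFunctor A 0).map e) := by
        apply epi_of_local sg _ B hB
        intro V hV σ
        obtain ⟨T, hT, hT'⟩ := exists_sieve_lift sg e V 0 σ
        obtain ⟨ι, Yf, f, hfT, hcov, hYB⟩ :=
          Groth.Agent.Lib.Helper17.RL10.exists_family_in_sieve B hB V T hT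
        refine ⟨Sieve.ofArrows Yf f, hcov, ?_⟩
        intro W k hk
        obtain ⟨_, k', _, ⟨i⟩, rfl⟩ := hk
        obtain ⟨ρ, hρ⟩ := hT' (f i) (hfT i)
          (surjAt_comparison.{w'} F t (sg.G (Yf i)) (h1 (Yf i) (hYB i)) hL e he)
        exact ⟨sg.Gm k' ≫ ρ, by rw [Category.assoc, hρ, sg.Gm_comp, Category.assoc]⟩
      exact isIso_of_mono_of_epi _
    · have hz1 : IsZero ((homologyFunctor A q).obj
          ((singleFunctor A 0).obj (limit (Functor.ofOpSequence t)))) := by
        rcases lt_or_gt_of_ne hq with h | h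
        · exact isZero_of_isGE _ 0 q h
        · exact isZero_of_isLE _ 0 q h
      have hz2 : IsZero ((homologyFunctor A q).obj L) := by
        rw [IsZero.iff_id_eq_zero]
        apply sg.gen
        intro U σ
        rw [Category.comp_id]
        obtain ⟨ι, Yf, f, hcov, hYB⟩ := hB U
        apply sg.sep σ _ hcov
        intro W k hk
        obtain ⟨_, k', _, ⟨i⟩, rfl⟩ := hk
        rw [sg.Gm_comp, Category.assoc]
        have h0 : sg.Gm (f i) ≫ σ = 0 := by
          apply comp_eq_zero_of_local sg (0 : L ⟶ 0) (Yf i) q _ _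
            (by rw [Functor.map_zero, comp_zero])
          intro T hT
          obtain ⟨ι', Y', f', hfT, hcov', hYB'⟩ :=
            Groth.Agent.Lib.Helper17.RL10.exists_family_in_sieve B hB (Yf i) T hT
          exact ⟨ι', Y', f', hfT, hcov', fun i' y _ => hvan (Y' i') (hYB' i') q hq y⟩
        rw [h0, comp_zero]
      exact ⟨⟨0, hz1.eq_of_src _ _, hz2.eq_of_src _ _⟩⟩
  refine ⟨isRlimVia_of_iso hL _ e he, ?_⟩
  intro U hU p
  have hs : Subsingleton ((singleFunctor A 0).obj (sg.G U) ⟶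
      ((singleFunctor A 0).obj (limit (Functor.ofOpSequence t)))⟦((p + 1 : ℕ) : ℤ)⟧) := by
    refine ⟨fun f g => ?_⟩
    have hf : ∀ f : (singleFunctor A 0).obj (sg.G U) ⟶
        ((singleFunctor A 0).obj (limit (Functor.ofOpSequence t)))⟦((p + 1 : ℕ) : ℤ)⟧, f = 0 := by
      intro f
      have h3 := hvan U hU ((p + 1 : ℕ) : ℤ) (by push_cast; omega) (f ≫ e⟦((p + 1 : ℕ) : ℤ)⟧')
      rw [← cancel_mono (e⟦((p + 1 : ℕ) : ℤ)⟧'), h3, zero_comp]
    rw [hf f, hf g]
  exact (Abelian.Ext.homEquiv (X := sg.G U) (Y := limit (Functor.ofOpSequence t))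
    (n := p + 1)).subsingleton

end main

end Groth.Agent.Lib.Helper17.SG8
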