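import Groth.Agent.Lib.Helper17.SG7
import Groth.Agent.Lib.Helper17.SG8
import Groth.Agent.Lib.Helper29.QCohCrit

/-!
# Inverse systems of quasi-coherent modules with surjective transition maps on a scheme
-/

set_option autoImplicit false
universe w u

open CategoryTheory Limits Opposite Abelian AlgebraicGeometry

namespace Groth.Agent.Lib.Helper17.SG9

open Groth.Agent.Lib.Helper17.SG1 Groth.Agent.Lib.Helper17.SG2 Groth.Agent.Lib.Helper17.SG3
open Groth.Agent.Lib.Helper17.SG4 Groth.Agent.Lib.Helper17.SG7 Groth.Agent.Lib.Helper17.SG8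
open Groth.Agent.Lib.Helper5.Deg0 Groth.Agent.Lib.Helper5.ModAcyclic

variable (X : Scheme.{u})

/-- `Ext_{O_X}(j_! O_U, M) ≃ H^k(U, M)` (cohomology of the underlying abelian sheaf). -/
lemma nonempty_ext_schemeGens_addEquiv (M : X.Modules) (U : X.Opens) (k : ℕ) :
    Nonempty (Ext.{u} ((schemeGens X).G U) M k ≃+ CohTop.HU (Coh.toAb M) k U) := by
  have hE : HasExt.{u} (SheafOfModules.{u} X.ringCatSheaf) := hasExt_modules X
  have h := @nonempty_ext_free_addEquiv _ _ _ X.ringCatSheaf hE (yoneda.obj U)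
    (fun I _ n => Groth.Agent.Lib.Helper5.PushAcyclic.subsingleton_ext_freeSheaf _ _
      (isTotallyAcyclic_toSheaf X.ringCatSheaf I) U n) M k
  exact h

/-- vanishing of `Ext_{O_X}(j_! O_U, M)` gives vanishing of `H^k(U, M|_U)`. -/
lemma subsingleton_HHon_of_ext (M : X.Modules) (U : X.Opens) (k : ℕ)
    (h : Subsingleton (Ext.{u} ((schemeGens X).G U) M k)) :
    Subsingleton (Coh.HHon X M U k) := by
  obtain ⟨e0⟩ := nonempty_ext_schemeGens_addEquiv X M U k
  have h0 : Subsingleton (CohTop.HU (Coh.toAb M) k U) := e0.symm.toEquiv.subsingleton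
  obtain ⟨e⟩ := Groth.Agent.Lib.Helper22.CohTop.nonempty_HU_addEquiv_H_restr (X := X.carrier) U
    (Coh.toAb M) k
  have h1 : Subsingleton (CohTop.H (CohTop.restr (Coh.toAb M) U) k) :=
    e.symm.toEquiv.subsingleton
  have e2 : Coh.toAb (M.restrict U.ι) ≅ CohTop.restr (Coh.toAb M) U :=
    (fullyFaithfulSheafToPresheaf _ _).preimageIso (Iso.refl _)
  exact Groth.Agent.Lib.Helper22.Cech.subsingleton_H_of_iso e2 k h1

/-- maps from `j_! O_U`, `U` affine, lift along epimorphisms of quasi-coherent modules. -/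
lemma exists_lift_of_epi (U : X.Opens) (hU : IsAffineOpen U) {M N : X.Modules}
    [M.IsQuasicoherent] [N.IsQuasicoherent] (φ : M ⟶ N) [Epi φ]
    (g : (schemeGens X).G U ⟶ N) : ∃ g' : (schemeGens X).G U ⟶ M, g' ≫ φ = g := by
  have hS : (ShortComplex.mk (kernel.ι φ) φ (kernel.condition φ)).ShortExact :=
    { exact := ShortComplex.exact_kernel φ
      mono_f := by dsimp; infer_instance
      epi_g := by dsimp; infer_instance }
  haveI : (kernel φ).IsQuasicoherent := Groth.Agent.Lib.Helper29.QCoh.isQuasicoherent_kernel φ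
  have hsub := subsingleton_ext_schemeGens X (kernel φ) U hU 0
  obtain ⟨x₂, hx₂⟩ := Ext.covariant_sequence_exact₃ ((schemeGens X).G U) hS (Ext.mk₀ g)
    (zero_add 1) (hsub.elim _ _)
  obtain ⟨g', rfl⟩ := (Ext.mk₀_bijective _ _).2 x₂
  rw [Ext.mk₀_comp_mk₀] at hx₂
  exact ⟨g', (Ext.mk₀_bijective _ _).1 hx₂⟩

/-- **`lim F_n = R lim F_n`** for an inverse system of quasi-coherent modules with eventually
surjective transition maps, and `lim F_n` has no higher cohomology on affine opens. -/
theorem isRlimVia_qcoh_tower [HasDerivedCategory.{w} X.Modules] (F : ℕ → X.Modules)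
    (hF : ∀ n, (F n).IsQuasicoherent) (t : ∀ n, F (n + 1) ⟶ F n) (N : ℕ)
    (ht : ∀ n, N ≤ n → Epi (t n))
    [HasProduct fun n => (DerivedCategory.singleFunctor X.Modules 0).obj (F n)] :
    CohCx.IsRlimVia (fun n => (DerivedCategory.singleFunctor X.Modules 0).obj (F n))
      (fun n => (DerivedCategory.singleFunctor X.Modules 0).map (t n))
      ((DerivedCategory.singleFunctor X.Modules 0).obj (limit (Functor.ofOpSequence t)))
      (fun n => (DerivedCategory.singleFunctor X.Modules 0).map (prG t n)) ∧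
    ∀ (U : X.Opens), IsAffineOpen U → ∀ p : ℕ,
      Subsingleton (Coh.HHon X (limit (Functor.ofOpSequence t)) U (p + 1)) := by
  have key := isRlimVia_single_limit_gens.{u, w, u} (schemeGens X) F t
    {V : X.Opens | IsAffineOpen V} (exists_affine_cover X)
    (fun U hU p n => by
      haveI := hF n
      exact subsingleton_ext_schemeGens X (F n) U hU p)
    (fun U hU => ⟨N, fun n hn g => by
      haveI := hF n
      haveI := hF (n + 1)
      haveI := ht n hn
      exact exists_lift_of_epi X U hU (t n) g⟩)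
  exact ⟨key.1, fun U hU p => subsingleton_HHon_of_ext X _ U (p + 1) (key.2 U hU p)⟩

end Groth.Agent.Lib.Helper17.SG9
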