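import Groth.Agent.Lib.Helper17.SG2
import Groth.Agent.Lib.Helper13.QIsoElem

/-!
# Quasi-isomorphisms detected on "sections" (morphisms out of site generators)
-/

set_option autoImplicit false
universe w v u v' u'

open CategoryTheory Limits Opposite CochainComplex

namespace Groth.Agent.Lib.Helper17.SecQis

open Groth.Agent.Lib.Helper17.SG1 Groth.Agent.Lib.Helper17.SG2

section defs

variable {A : Type u'} [Category.{v'} A] [Preadditive A]

/-- every `G`-valued cocycle of `L'` in degree `j` lifts along `ψ` up to a coboundary. -/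
def SecSurj (G : A) {L L' : CochainComplex A ℤ} (ψ : L ⟶ L') (i j k : ℤ) : Prop :=
  ∀ y : G ⟶ L'.X j, y ≫ L'.d j k = 0 → ∃ (z : G ⟶ L.X j) (w : G ⟶ L'.X i),
    z ≫ L.d j k = 0 ∧ y = z ≫ ψ.f j + w ≫ L'.d i j

/-- a `G`-valued cocycle of `L` in degree `j` whose image is a coboundary is a coboundary. -/
def SecInj (G : A) {L L' : CochainComplex A ℤ} (ψ : L ⟶ L') (i j k : ℤ) : Prop :=
  ∀ z : G ⟶ L.X j, z ≫ L.d j k = 0 → (∃ w : G ⟶ L'.X i, z ≫ ψ.f j = w ≫ L'.d i j) →
    ∃ v : G ⟶ L.X i, z = v ≫ L.d i j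

lemma SecSurj.of_eq {G : A} {L L' : CochainComplex A ℤ} {ψ : L ⟶ L'} {j : ℤ}
    (h : SecSurj G ψ (j - 1) j (j + 1)) (i k : ℤ) (hi : i + 1 = j) (hk : j + 1 = k) :
    SecSurj G ψ i j k := by
  obtain rfl : i = j - 1 := by omega
  obtain rfl : k = j + 1 := by omega
  exact h

lemma SecInj.of_eq {G : A} {L L' : CochainComplex A ℤ} {ψ : L ⟶ L'} {j : ℤ}
    (h : SecInj G ψ (j - 1) j (j + 1)) (i k : ℤ) (hi : i + 1 = j) (hk : j + 1 = k) :
    SecInj G ψ i j k := by
  obtain rfl : i = j - 1 := by omega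
  obtain rfl : k = j + 1 := by omega
  exact h

end defs

section cone

variable {A : Type u'} [Category.{v'} A] [Abelian A]

open mappingCone in
/-- `G`-valued cocycles of the mapping cone are coboundaries. -/
lemma cone_boundary (G : A) {L L' : CochainComplex A ℤ} (ψ : L ⟶ L') (h i j k : ℤ)
    (hhi : h + 1 = i) (hij : i + 1 = j) (hjk : j + 1 = k)
    (hinj : SecInj G ψ i j k) (hsurj : SecSurj G ψ h i j)
    (c : G ⟶ (mappingCone ψ).X i) (hc : c ≫ (mappingCone ψ).d i j = 0) :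
    ∃ b : G ⟶ (mappingCone ψ).X h, b ≫ (mappingCone ψ).d h i = c := by
  let a : G ⟶ L.X j := c ≫ (fst ψ).1.v i j hij
  let e : G ⟶ L'.X i := c ≫ (snd ψ).v i i (add_zero i)
  have ha : a ≫ L.d j k = 0 := by
    have h1 := congrArg (fun x => x ≫ (fst ψ).1.v j k hjk) hc
    simp only [Category.assoc, zero_comp] at h1
    rw [d_fst_v ψ i j k hij hjk] at h1
    simpa [a] using h1
  have hae : a ≫ ψ.f j = (-e) ≫ L'.d i j := by
    have h1 := congrArg (fun x => x ≫ (snd ψ).v j j (add_zero j)) hc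
    simp only [Category.assoc, zero_comp] at h1
    rw [d_snd_v ψ i j hij] at h1
    simp only [Preadditive.comp_add] at h1
    rw [Preadditive.neg_comp, eq_neg_iff_add_eq_zero]
    simpa [a, e] using h1
  obtain ⟨v, hv⟩ := hinj a ha ⟨-e, hae⟩
  let e' : G ⟶ L'.X i := e + v ≫ ψ.f i
  have he' : e' ≫ L'.d i j = 0 := by
    have h2 : v ≫ ψ.f i ≫ L'.d i j = a ≫ ψ.f j := by
      rw [ψ.comm, ← Category.assoc, ← hv]
    simp only [e', Preadditive.add_comp, Category.assoc, h2, hae, Preadditive.neg_comp]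
    abel
  obtain ⟨z, w, hz, hzw⟩ := hsurj e' he'
  refine ⟨(z - v) ≫ (inl ψ).v i h (by omega) + w ≫ (inr ψ).f h, ?_⟩
  apply ext_to ψ i j hij
  · simp only [Preadditive.add_comp, Category.assoc, d_fst_v ψ h i j hhi hij,
      Preadditive.comp_neg, inl_v_fst_v_assoc, inr_f_fst_v_assoc, zero_comp, comp_zero, add_zero,
      Preadditive.sub_comp, hz]
    change _ = a
    rw [hv]
    abel
  · simp only [Preadditive.add_comp, Category.assoc, d_snd_v ψ h i hhi, Preadditive.comp_add,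
      inl_v_fst_v_assoc, inl_v_snd_v_assoc, zero_comp, inr_f_fst_v_assoc, inr_f_snd_v_assoc,
      add_zero, zero_add, Preadditive.sub_comp]
    change _ = e
    have : e = e' - v ≫ ψ.f i := by simp [e']
    rw [this, hzw]
    abel

end cone

section site

variable {C : Type u} [Category.{v} C] {J : GrothendieckTopology C}
  {A : Type u'} [Category.{v'} A] [Abelian A] (sg : SiteGens J A)

/-- a complex whose cocycles over a covering class are coboundaries is exact. -/
lemma exactAt_of_sec (K : CochainComplex A ℤ) (B : Set C)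
    (hB : ∀ U : C, ∃ (ι : Type u) (Y : ι → C) (f : ∀ i, Y i ⟶ U),
      Sieve.ofArrows Y f ∈ J U ∧ ∀ i, Y i ∈ B) (i j k : ℤ) (hij : i + 1 = j) (hjk : j + 1 = k)
    (h : ∀ V ∈ B, ∀ c : sg.G V ⟶ K.X j, c ≫ K.d j k = 0 → ∃ b : sg.G V ⟶ K.X i, b ≫ K.d i j = c) :
    K.ExactAt j := by
  rw [HomologicalComplex.exactAt_iff' K i j k (by simp; omega) (by simp; omega),
    ShortComplex.exact_iff_epi_toCycles]
  apply epi_of_local sg _ B hB
  intro V hV σ
  refine ⟨⊤, J.top_mem V, fun Y g _ => ?_⟩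
  obtain ⟨b, hb⟩ := h V hV (σ ≫ (HomologicalComplex.sc' K i j k).iCycles) (by
    rw [Category.assoc]
    have := (HomologicalComplex.sc' K i j k).iCycles_g
    exact (congrArg (fun x => σ ≫ x) this).trans comp_zero)
  refine ⟨sg.Gm g ≫ b, ?_⟩
  rw [Category.assoc]
  congr 1
  rw [← cancel_mono (HomologicalComplex.sc' K i j k).iCycles, Category.assoc,
    ShortComplex.toCycles_i]
  exact hb

/-- **a morphism of complexes which is a quasi-isomorphism on sections over a covering class is a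
quasi-isomorphism.** -/
theorem quasiIso_of_sec {L L' : CochainComplex A ℤ} (ψ : L ⟶ L') (B : Set C)
    (hB : ∀ U : C, ∃ (ι : Type u) (Y : ι → C) (f : ∀ i, Y i ⟶ U),
      Sieve.ofArrows Y f ∈ J U ∧ ∀ i, Y i ∈ B)
    (hinj : ∀ V ∈ B, ∀ j : ℤ, SecInj (sg.G V) ψ (j - 1) j (j + 1))
    (hsurj : ∀ V ∈ B, ∀ j : ℤ, SecSurj (sg.G V) ψ (j - 1) j (j + 1)) : QuasiIso ψ := by
  letI := HasDerivedCategory.standard A
  apply Groth.Agent.Lib.Helper13.QE.quasiIso_of_acyclic_mappingCone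
  intro i
  apply exactAt_of_sec sg _ B hB (i - 1) i (i + 1) (by omega) rfl
  intro V hV c hc
  exact cone_boundary (sg.G V) ψ (i - 1) i (i + 1) (i + 1 + 1) (by omega) rfl rfl
    ((hinj V hV (i + 1)).of_eq _ _ rfl rfl) ((hsurj V hV i).of_eq _ _ (by omega) rfl) c hc

end site

section transfer

variable {A : Type u'} [Category.{v'} A] [Abelian A] {A' : Type u} [Category.{v} A'] [Abelian A']
  (Φ : A ⥤ A') [Φ.Additive] (G : A') (G' : A)
  (e : ∀ M : A, (G ⟶ Φ.obj M) ≃ (G' ⟶ M))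
  (he : ∀ {M N : A} (σ : G ⟶ Φ.obj M) (φ : M ⟶ N), e N (σ ≫ Φ.map φ) = e M σ ≫ φ)
  (hadd : ∀ (M : A) (σ τ : G ⟶ Φ.obj M), e M (σ + τ) = e M σ + e M τ)

include hadd in
lemma e_zero (M : A) : e M 0 = 0 := by
  have := hadd M 0 0
  rw [add_zero] at this
  exact left_eq_add.1 this

include he hadd in
lemma secSurj_map {L L' : CochainComplex A ℤ} (ψ : L ⟶ L') (i j k : ℤ)
    (h : SecSurj G' ψ i j k) :
    SecSurj G ((Φ.mapHomologicalComplex (ComplexShape.up ℤ)).map ψ) i j k := by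
  intro y hy
  have hy' : e _ y ≫ L'.d j k = 0 := by
    have := he y (L'.d j k)
    rw [← this]
    exact (congrArg (e _) hy).trans (e_zero Φ G G' e hadd _)
  obtain ⟨z, w, hz, hzw⟩ := h (e _ y) hy'
  refine ⟨(e (L.X j)).symm z, (e (L'.X i)).symm w, ?_, ?_⟩
  · have h1 : e (L.X k) ((e (L.X j)).symm z ≫ Φ.map (L.d j k)) = e (L.X k) 0 := by
      rw [he, Equiv.apply_symm_apply, hz, e_zero Φ G G' e hadd]
    exact (e (L.X k)).injective h1
  · have h1 : e (L'.X j) y = e (L'.X j) ((e (L.X j)).symm z ≫ Φ.map (ψ.f j) +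
        (e (L'.X i)).symm w ≫ Φ.map (L'.d i j)) := by
      rw [hadd, he, he, Equiv.apply_symm_apply, Equiv.apply_symm_apply]
      exact hzw
    exact (e (L'.X j)).injective h1

include he hadd in
lemma secInj_map {L L' : CochainComplex A ℤ} (ψ : L ⟶ L') (i j k : ℤ)
    (h : SecInj G' ψ i j k) :
    SecInj G ((Φ.mapHomologicalComplex (ComplexShape.up ℤ)).map ψ) i j k := by
  intro z hz ⟨w, hw⟩
  have hz' : e _ z ≫ L.d j k = 0 := by
    have := he z (L.d j k)
    rw [← this]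
    exact (congrArg (e _) hz).trans (e_zero Φ G G' e hadd _)
  have hw' : e _ z ≫ ψ.f j = e _ w ≫ L'.d i j := by
    rw [← he z (ψ.f j), ← he w (L'.d i j)]
    exact congrArg (e _) hw
  obtain ⟨v, hv⟩ := h (e _ z) hz' ⟨e _ w, hw'⟩
  refine ⟨(e (L.X i)).symm v, ?_⟩
  have h1 : e (L.X j) z = e (L.X j) ((e (L.X i)).symm v ≫ Φ.map (L.d i j)) := by
    rw [he, Equiv.apply_symm_apply]
    exact hv
  exact (e (L.X j)).injective h1

end transfer

end Groth.Agent.Lib.Helper17.SecQis
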