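import Groth.Agent.Lib.Helper17.DProd

/-!
# Products in the derived category of a Grothendieck abelian category (any universe of morphisms)
-/

set_option autoImplicit false
universe w v u

open CategoryTheory Limits

namespace Groth.Agent.Lib.Helper17.DProdW

open Groth.Agent.Lib.Helper17.DProd

section Main

open DerivedCategory Groth.Agent.Lib.Helper17.KInjRes

variable {A : Type u} [Category.{v} A] [Abelian A] [IsGrothendieckAbelian.{v} A]
  [HasDerivedCategory.{w} A]

/-- the image in `D(A)` of a product of K-injective complexes is a product -/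
noncomputable def isLimitFanOfIsKInjective {J : Type v} (I : J → CochainComplex A ℤ)
    [∀ j, (I j).IsKInjective] :
    IsLimit (Fan.mk (Q.obj (∏ᶜ I)) (fun j => Q.map (Pi.π I j))) := by
  haveI : (∏ᶜ I).IsKInjective := Groth.Agent.S0480.result I (fun j => inferInstance)
  have key : ∀ (T : DerivedCategory A) (g : ∀ j, T ⟶ Q.obj (I j)),
      ∃ m : T ⟶ Q.obj (∏ᶜ I), ∀ j, m ≫ Q.map (Pi.π I j) = g j := by
    intro T g
    let M := Q.objPreimage T
    let e : Q.obj M ≅ T := Q.objObjPreimageIso T
    choose γ hγ using fun j => Q_map_surjective_of_isKInjective M (I j) (e.hom ≫ g j)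
    refine ⟨e.inv ≫ Q.map (Pi.lift γ), fun j => ?_⟩
    rw [Category.assoc, ← Functor.map_comp, Pi.lift_π, hγ, Iso.inv_hom_id_assoc]
  have uniq : ∀ (T : DerivedCategory A) (m m' : T ⟶ Q.obj (∏ᶜ I)),
      (∀ j, m ≫ Q.map (Pi.π I j) = m' ≫ Q.map (Pi.π I j)) → m = m' := by
    intro T m m' h
    let M := Q.objPreimage T
    let e : Q.obj M ≅ T := Q.objObjPreimageIso T
    obtain ⟨a, ha⟩ := Q_map_surjective_of_isKInjective M (∏ᶜ I) (e.hom ≫ m)
    obtain ⟨b, hb⟩ := Q_map_surjective_of_isKInjective M (∏ᶜ I) (e.hom ≫ m')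
    have hh : ∀ j, Nonempty (Homotopy (a ≫ Pi.π I j) (b ≫ Pi.π I j)) := by
      intro j
      rw [← Q_map_eq_iff_of_isKInjective, Functor.map_comp, Functor.map_comp, ha, hb,
        Category.assoc, Category.assoc, h j]
    obtain ⟨H⟩ := nonempty_homotopy I a b (fun j => (hh j).some)
    have := Q_map_eq_of_homotopy _ H
    rw [ha, hb] at this
    exact (cancel_epi e.hom).1 this
  exact Fan.IsLimit.mk _ (fun s => (key s.pt s.proj).choose)
    (fun s j => (key s.pt s.proj).choose_spec j)
    (fun s m hm => uniq _ _ _ (fun j => by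
      rw [(key s.pt s.proj).choose_spec j]
      exact hm j))

theorem hasProductsOfShape (J : Type v) : HasProductsOfShape J (DerivedCategory A) := by
  constructor
  intro F
  let M : J → CochainComplex A ℤ := fun j => Q.objPreimage (F.obj ⟨j⟩)
  choose I f hI hf _ _ using fun j => exists_kInjective_resolution (M j)
  haveI : ∀ j, (I j).IsKInjective := hI
  haveI : ∀ j, QuasiIso (f j) := hf
  haveI : ∀ j, IsIso (Q.map (f j)) := fun j => inferInstance
  let e : F ≅ Discrete.functor (fun j => Q.obj (I j)) :=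
    Discrete.natIso (fun ⟨j⟩ => (Q.objObjPreimageIso (F.obj ⟨j⟩)).symm ≪≫ asIso (Q.map (f j)))
  haveI : HasLimit (Discrete.functor (fun j => Q.obj (I j))) :=
    ⟨⟨⟨_, isLimitFanOfIsKInjective I⟩⟩⟩
  exact hasLimit_of_iso e.symm

theorem derivedCategory_hasProducts : HasProducts.{v} (DerivedCategory A) :=
  fun J => hasProductsOfShape J

end Main

end Groth.Agent.Lib.Helper17.DProdW
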