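import Groth.Agent.Lib.Helper17.RL9

/-!
# `Hom(S_0 X, K[j])` only depends on the cohomology of `K` in a bounded range
(for `K` bounded below and `X` of finite `Ext`-dimension on the cohomology objects)
-/

set_option autoImplicit false
universe w' w v u

open CategoryTheory Limits Opposite Pretriangulated

namespace Groth.Agent.Lib.Helper17.SG5

open Groth.Agent.Lib.Helper17.RL4 Groth.Agent.Lib.Helper17.RL9
open DerivedCategory DerivedCategory.TStructure

section

variable {A : Type (u + 1)} [Category.{u} A] [Abelian A] [HasDerivedCategory.{w} A]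

lemma rightComp_comp {T : Type*} [Category T] [Preadditive T] (M : T) {X Y Z : T} (f : X ⟶ Y)
    (g : Y ⟶ Z) :
    (Preadditive.rightComp M (f ≫ g) : (M ⟶ X) → (M ⟶ Z)) =
      (Preadditive.rightComp M g) ∘ (Preadditive.rightComp M f) := by
  ext x
  change x ≫ f ≫ g = (x ≫ f) ≫ g
  rw [Category.assoc]

/-- Lemma B: `τ_{<b} M ⟶ M` is bijective on `Hom(S_0 X, -[j])` for `j < b`. -/
lemma truncLTι_bijective (M : DerivedCategory A) (X : A) (j b : ℤ) (hb : j < b) :
    Function.Bijective (Preadditive.rightComp ((singleFunctor A 0).obj X)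
      (((t.truncLTι b).app M)⟦j⟧')) := by
  have hT := inv_rot_of_distTriang _ (t.triangleLTGE_distinguished b M)
  have hGE : ((t.truncGE b).obj M).IsGE b := inferInstance
  have hv0 : ∀ f : (singleFunctor A 0).obj X ⟶
      (((t.triangleLTGE b).obj M).invRotate.obj₁)⟦j⟧, f = 0 := by
    intro f
    change (singleFunctor A 0).obj X ⟶ (((t.truncGE b).obj M)⟦(-1 : ℤ)⟧)⟦j⟧ at f
    have h1 : (((t.truncGE b).obj M)⟦(-1 : ℤ)⟧).IsGE (b + 1) :=
      t.isGE_shift _ b (-1) (b + 1) (by omega)
    have h2 : ((((t.truncGE b).obj M)⟦(-1 : ℤ)⟧)⟦j⟧).IsGE (b + 1 - j) :=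
      t.isGE_shift _ (b + 1) j (b + 1 - j) (by omega)
    have h3 : ((((t.truncGE b).obj M)⟦(-1 : ℤ)⟧)⟦j⟧).IsGE 1 :=
      t.isGE_of_ge _ 1 (b + 1 - j) (by omega)
    exact hom_eq_zero_of_isGE X _ f
  have hv1 : ∀ f : (singleFunctor A 0).obj X ⟶
      (((t.triangleLTGE b).obj M).invRotate.obj₁)⟦j + 1⟧, f = 0 := by
    intro f
    change (singleFunctor A 0).obj X ⟶ (((t.truncGE b).obj M)⟦(-1 : ℤ)⟧)⟦j + 1⟧ at f
    have h1 : (((t.truncGE b).obj M)⟦(-1 : ℤ)⟧).IsGE (b + 1) :=
      t.isGE_shift _ b (-1) (b + 1) (by omega)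
    have h2 : ((((t.truncGE b).obj M)⟦(-1 : ℤ)⟧)⟦j + 1⟧).IsGE (b - j) :=
      t.isGE_shift _ (b + 1) (j + 1) (b - j) (by omega)
    have h3 : ((((t.truncGE b).obj M)⟦(-1 : ℤ)⟧)⟦j + 1⟧).IsGE 1 :=
      t.isGE_of_ge _ 1 (b - j) (by omega)
    exact hom_eq_zero_of_isGE X _ f
  exact ⟨rightComp_injective_of_distTriang _ hT _ j hv0,
    rightComp_surjective_of_distTriang _ hT _ j (j + 1) rfl hv1⟩

variable [HasExt.{w'} A]

/-- Lemma A: `E ⟶ τ_{≥ a} E` is bijective on `Hom(S_0 X, -[j])` when `E` is bounded below and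
`Ext^k(X, H^q(E)) = 0` for `q < a` and `k ≥ j - q`. -/
lemma truncGEπ_bijective (E : DerivedCategory A) (c : ℤ) [E.IsGE c] (X : A) (j : ℤ) :
    ∀ (n : ℕ) (a : ℤ), a ≤ c + n → a ≤ j →
      (∀ q : ℤ, q < a → ∀ k : ℕ, j - q ≤ k →
        Subsingleton (Abelian.Ext.{w'} X ((homologyFunctor A q).obj E) k)) →
      Function.Bijective (Preadditive.rightComp ((singleFunctor A 0).obj X)
        (((t.truncGEπ a).app E)⟦j⟧'))
  | 0, a, hac, _, _ => by
    have : E.IsGE a := t.isGE_of_ge E a c (by omega)
    exact rightComp_bijective_of_isIso _ _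
  | n + 1, a, hac, haj, hv => by
    have ih := truncGEπ_bijective E c X j n (a - 1) (by push_cast at hac; omega) (by omega)
      (fun q hq k hk => hv q (by omega) k hk)
    obtain ⟨r, hr⟩ : ∃ r : ℕ, (r : ℤ) = j - (a - 1) := ⟨(j - (a - 1)).toNat, by omega⟩
    have hstep := natTransTruncGEOfLE_bijective.{w'} E (a - 1) a (by omega) X j r hr
      (hv (a - 1) (by omega) r (by omega)) (hv (a - 1) (by omega) (r + 1) (by push_cast; omega))
    have hfac : (t.truncGEπ a).app E =
        (t.truncGEπ (a - 1)).app E ≫ (t.natTransTruncGEOfLE (a - 1) a (by omega)).app E :=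
      (t.π_natTransTruncGEOfLE_app (a - 1) a (by omega) E).symm
    rw [hfac, Functor.map_comp, rightComp_comp]
    exact hstep.comp ih

omit [HasExt.{w'} A] in
/-- Lemma C: `τ_{<b} τ_{≥a} φ` is an isomorphism when `H^q(φ)` is for `a ≤ q < b`. -/
lemma isIso_truncLT_truncGE_map {K K' : DerivedCategory A} (φ : K ⟶ K') (a b : ℤ)
    (hφ : ∀ q, a ≤ q → q < b → IsIso ((homologyFunctor A q).map φ)) :
    IsIso ((t.truncLT b).map ((t.truncGE a).map φ)) := by
  rw [DerivedCategory.isIso_iff]
  intro q
  by_cases h1 : q < b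
  · by_cases h2 : a ≤ q
    · have := hφ q h2 h1
      have i1 := isIso_homology_truncLTι ((t.truncGE a).obj K) b q h1
      have i1' := isIso_homology_truncLTι ((t.truncGE a).obj K') b q h1
      have i2 := isIso_homology_truncGEπ K a q h2
      have i2' := isIso_homology_truncGEπ K' a q h2
      have s1 : (homologyFunctor A q).map ((t.truncLT b).map ((t.truncGE a).map φ)) ≫
          (homologyFunctor A q).map ((t.truncLTι b).app ((t.truncGE a).obj K')) =
          (homologyFunctor A q).map ((t.truncLTι b).app ((t.truncGE a).obj K)) ≫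
            (homologyFunctor A q).map ((t.truncGE a).map φ) := by
        rw [← Functor.map_comp, ← Functor.map_comp]
        congr 1
        exact (t.truncLTι b).naturality ((t.truncGE a).map φ)
      have s2 : (homologyFunctor A q).map φ ≫ (homologyFunctor A q).map ((t.truncGEπ a).app K') =
          (homologyFunctor A q).map ((t.truncGEπ a).app K) ≫
            (homologyFunctor A q).map ((t.truncGE a).map φ) := by
        rw [← Functor.map_comp, ← Functor.map_comp]
        congr 1
        exact (t.truncGEπ a).naturality φ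
      have j1 : IsIso ((homologyFunctor A q).map ((t.truncGE a).map φ)) := by
        have h3 : (homologyFunctor A q).map ((t.truncGE a).map φ) =
            inv ((homologyFunctor A q).map ((t.truncGEπ a).app K)) ≫
              (homologyFunctor A q).map φ ≫ (homologyFunctor A q).map ((t.truncGEπ a).app K') := by
          rw [s2, IsIso.inv_hom_id_assoc]
        rw [h3]
        infer_instance
      have h4 : (homologyFunctor A q).map ((t.truncLT b).map ((t.truncGE a).map φ)) =
          (homologyFunctor A q).map ((t.truncLTι b).app ((t.truncGE a).obj K)) ≫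
            (homologyFunctor A q).map ((t.truncGE a).map φ) ≫
            inv ((homologyFunctor A q).map ((t.truncLTι b).app ((t.truncGE a).obj K'))) := by
        rw [← Category.assoc, ← s1, Category.assoc, IsIso.hom_inv_id, Category.comp_id]
      rw [h4]
      infer_instance
    · have hz : ∀ Y : DerivedCategory A,
          IsZero ((homologyFunctor A q).obj ((t.truncLT b).obj ((t.truncGE a).obj Y))) := by
        intro Y
        have : ((t.truncLT b).obj ((t.truncGE a).obj Y)).IsGE a := by infer_instance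
        exact isZero_of_isGE _ a q (by omega)
      exact ⟨⟨0, (hz K).eq_of_src _ _, (hz K').eq_of_src _ _⟩⟩
  · have hz : ∀ Y : DerivedCategory A,
        IsZero ((homologyFunctor A q).obj ((t.truncLT b).obj ((t.truncGE a).obj Y))) := by
      intro Y
      exact isZero_of_isLE _ (b - 1) q (by omega)
    exact ⟨⟨0, (hz K).eq_of_src _ _, (hz K').eq_of_src _ _⟩⟩

/-- Lemma D: a morphism between bounded below objects inducing isomorphisms on `H^q` for
`j - d ≤ q ≤ j` is bijective on `Hom(S_0 X, -[j])`, when `X` has `Ext`-dimension `≤ d` on the lower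
cohomology objects. -/
theorem rightComp_bijective_of_isIso_homology {K K' : DerivedCategory A} (φ : K ⟶ K')
    (c : ℤ) [K.IsGE c] [K'.IsGE c] (X : A) (j : ℤ) (d : ℕ)
    (hK : ∀ q : ℤ, q < j - d → ∀ k : ℕ, d < k →
      Subsingleton (Abelian.Ext.{w'} X ((homologyFunctor A q).obj K) k))
    (hK' : ∀ q : ℤ, q < j - d → ∀ k : ℕ, d < k →
      Subsingleton (Abelian.Ext.{w'} X ((homologyFunctor A q).obj K') k))
    (hφ : ∀ q : ℤ, j - d ≤ q → q ≤ j → IsIso ((homologyFunctor A q).map φ)) :
    Function.Bijective (Preadditive.rightComp ((singleFunctor A 0).obj X) (φ⟦j⟧')) := by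
  obtain ⟨n, hn⟩ : ∃ n : ℕ, j - d ≤ c + n := ⟨(j - d - c).toNat, by omega⟩
  have bπ := truncGEπ_bijective.{w'} K c X j n (j - d) hn (by omega)
    (fun q hq k hk => hK q hq k (by omega))
  have bπ' := truncGEπ_bijective.{w'} K' c X j n (j - d) hn (by omega)
    (fun q hq k hk => hK' q hq k (by omega))
  have bι := truncLTι_bijective ((t.truncGE (j - d)).obj K) X j (j + 1) (by omega)
  have bι' := truncLTι_bijective ((t.truncGE (j - d)).obj K') X j (j + 1) (by omega)
  have hiso : IsIso ((t.truncLT (j + 1)).map ((t.truncGE (j - d)).map φ)) :=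
    isIso_truncLT_truncGE_map φ (j - d) (j + 1) (fun q h1 h2 => hφ q h1 (by omega))
  have bττ : Function.Bijective (Preadditive.rightComp ((singleFunctor A 0).obj X)
      (((t.truncLT (j + 1)).map ((t.truncGE (j - d)).map φ))⟦j⟧')) :=
    rightComp_bijective_of_isIso _ _
  -- the middle vertical map
  have s1 : ((t.truncLT (j + 1)).map ((t.truncGE (j - d)).map φ))⟦j⟧' ≫
      ((t.truncLTι (j + 1)).app ((t.truncGE (j - d)).obj K'))⟦j⟧' =
      ((t.truncLTι (j + 1)).app ((t.truncGE (j - d)).obj K))⟦j⟧' ≫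
        ((t.truncGE (j - d)).map φ)⟦j⟧' := by
    rw [← Functor.map_comp, ← Functor.map_comp]
    congr 1
    exact (t.truncLTι (j + 1)).naturality ((t.truncGE (j - d)).map φ)
  have bτ : Function.Bijective (Preadditive.rightComp ((singleFunctor A 0).obj X)
      (((t.truncGE (j - d)).map φ)⟦j⟧')) := by
    have h1 := bι'.comp bττ
    rw [← rightComp_comp, s1, rightComp_comp] at h1
    exact (Function.Bijective.of_comp_iff _ bι).1 h1
  have s2 : φ⟦j⟧' ≫ ((t.truncGEπ (j - d)).app K')⟦j⟧' =
      ((t.truncGEπ (j - d)).app K)⟦j⟧' ≫ ((t.truncGE (j - d)).map φ)⟦j⟧' := by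
    rw [← Functor.map_comp, ← Functor.map_comp]
    congr 1
    exact (t.truncGEπ (j - d)).naturality φ
  have h2 := bτ.comp bπ
  rw [← rightComp_comp, ← s2, rightComp_comp] at h2
  exact (Function.Bijective.of_comp_iff' bπ' _).1 h2

end

end Groth.Agent.Lib.Helper17.SG5
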