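import Groth.Agent.Lib.Helper17.SG2
import Groth.Agent.Lib.Helper17.SG5

/-!
# `H^j(R lim K_n) = H^j(K_n)` for `n ≫ 0` for eventually constant systems of bounded below objects
(Stacks, Cohomology on Sites, derived limits with cohomological dimension bounds)
-/

set_option autoImplicit false
universe w' w v u

open CategoryTheory Limits Opposite Pretriangulated

namespace Groth.Agent.Lib.Helper17.SG6

open Groth.Agent.Lib.Helper17.SG1 Groth.Agent.Lib.Helper17.SG2 Groth.Agent.Lib.Helper17.SG5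
open Groth.Agent.Lib.Helper17.RL2 Groth.Agent.Lib.Helper17.RL5 Groth.Agent.Lib.Helper17.RL9
open DerivedCategory DerivedCategory.TStructure

section gen

variable {A : Type (u + 1)} [Category.{u} A] [Abelian A] [HasDerivedCategory.{w} A]

/-- transition maps induce isomorphisms on `H^q` beyond the index of constancy. -/
lemma isIso_homology_transition (K : ℕ → DerivedCategory A) (t : ∀ n, K (n + 1) ⟶ K n) (q : ℤ)
    (n₀ : ℕ) (h : ∀ n, n₀ ≤ n → IsIso ((homologyFunctor A q).map (t n))) (n : ℕ) (hn : n₀ ≤ n) :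
    ∀ k : ℕ, IsIso ((homologyFunctor A q).map (CohCx.transition K t n k))
  | 0 => by
    change IsIso ((homologyFunctor A q).map (𝟙 (K n)))
    rw [CategoryTheory.Functor.map_id]
    infer_instance
  | k + 1 => by
    change IsIso ((homologyFunctor A q).map (t (n + k) ≫ CohCx.transition K t n k))
    rw [Functor.map_comp]
    have := h (n + k) (by omega)
    have := isIso_homology_transition K t q n₀ h n hn k
    infer_instance

variable [HasExt.{w'} A]

/-- the transition maps are bijective on `Hom(S_0 X, -[j])` for large indices. -/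
lemma transition_bijective (P : ObjectProperty A) (K : ℕ → DerivedCategory A)
    (t : ∀ n, K (n + 1) ⟶ K n)
    (hK : ∀ n, (∀ q : ℤ, P ((homologyFunctor A q).obj (K n))) ∧ ∃ c : ℤ, (K n).IsGE c)
    (n₀ : ℤ → ℕ) (hn₀ : ∀ (q : ℤ) (n : ℕ), n₀ q ≤ n → IsIso ((homologyFunctor A q).map (t n)))
    (X : A) (d : ℕ)
    (hX : ∀ F : A, P F → ∀ k : ℕ, d < k → Subsingleton (Abelian.Ext.{w'} X F k))
    (j : ℤ) (n : ℕ) (hn : ∀ q : ℤ, j - d ≤ q → q ≤ j → n₀ q ≤ n) :
    Function.Bijective (Preadditive.rightComp ((singleFunctor A 0).obj X) ((t n)⟦j⟧')) := by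
  obtain ⟨c1, hc1⟩ := (hK (n + 1)).2
  obtain ⟨c2, hc2⟩ := (hK n).2
  have h1 : (K (n + 1)).IsGE (min c1 c2) := DerivedCategory.TStructure.t.isGE_of_ge _ _ c1 (min_le_left _ _)
  have h2 : (K n).IsGE (min c1 c2) := DerivedCategory.TStructure.t.isGE_of_ge _ _ c2 (min_le_right _ _)
  exact rightComp_bijective_of_isIso_homology.{w'} (t n) (min c1 c2) X j d
    (fun q _ k hk => hX _ ((hK (n + 1)).1 q) k hk)
    (fun q _ k hk => hX _ ((hK n).1 q) k hk)
    (fun q hq1 hq2 => hn₀ q n (hn q hq1 hq2))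

/-- `a N` is bijective on `Hom(S_0 X, -[j])` for `N` large. -/
lemma a_bijective (P : ObjectProperty A) (K : ℕ → DerivedCategory A)
    (t : ∀ n, K (n + 1) ⟶ K n) [HasProduct K]
    (hK : ∀ n, (∀ q : ℤ, P ((homologyFunctor A q).obj (K n))) ∧ ∃ c : ℤ, (K n).IsGE c)
    (n₀ : ℤ → ℕ) (hn₀ : ∀ (q : ℤ) (n : ℕ), n₀ q ≤ n → IsIso ((homologyFunctor A q).map (t n)))
    {L : DerivedCategory A} {a : ∀ n, L ⟶ K n} (hL : CohCx.IsRlimVia K t L a)
    (X : A) (d : ℕ)
    (hX : ∀ F : A, P F → ∀ k : ℕ, d < k → Subsingleton (Abelian.Ext.{w'} X F k))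
    (j : ℤ) (N : ℕ) (hN : ∀ q : ℤ, j - 1 - d ≤ q → q ≤ j → n₀ q ≤ N) :
    Function.Bijective (Preadditive.rightComp ((singleFunctor A 0).obj X) ((a N)⟦j⟧')) := by
  apply rightComp_bijective_of_milnor hL _ j N
  · apply limOne_of_eventually_surjective N
    intro n hn
    exact (transition_bijective.{w'} P K t hK n₀ hn₀ X d hX (j - 1) n
      (fun q h1 h2 => le_trans (hN q (by omega) (by omega)) hn)).2
  · intro n hn
    exact transition_bijective.{w'} P K t hK n₀ hn₀ X d hX j n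
      (fun q h1 h2 => le_trans (hN q (by omega) (by omega)) hn)

end gen

section main

variable {C : Type u} [SmallCategory C] {J : GrothendieckTopology C}
  {A : Type (u + 1)} [Category.{u} A] [Abelian A] [IsGrothendieckAbelian.{u} A]
  [HasDerivedCategory.{w} A] [HasExt.{w'} A] (sg : SiteGens J A)

/-- **`H^j(R lim K_n) = H^j(K_n)` for `n ≫ 0`**, for an inverse system of bounded below objects with
cohomology in `P` and eventually constant cohomology, when the site has enough objects of locally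
bounded `Ext`-dimension on `P`. -/
theorem isIso_homology_rlim_of_eventually_constant (P : ObjectProperty A) (B : Set C)
    (hB : ∀ U : C, ∃ (ι : Type u) (Y : ι → C) (g : ∀ i, Y i ⟶ U),
      Sieve.ofArrows Y g ∈ J U ∧ ∀ i, Y i ∈ B)
    (hA : ∀ V ∈ B, ∃ d : ℕ, ∀ T ∈ J V, ∃ (ι : Type u) (Y : ι → C) (g : ∀ i, Y i ⟶ V),
      (∀ i, T.arrows (g i)) ∧ Sieve.ofArrows Y g ∈ J V ∧
      ∀ (i : ι) (F : A), P F → ∀ k : ℕ, d < k →
        Subsingleton (Abelian.Ext.{w'} (sg.G (Y i)) F k))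
    (K : ℕ → DerivedCategory A) (t : ∀ n, K (n + 1) ⟶ K n) [HasProduct K]
    (hK : ∀ n, (∀ q : ℤ, P ((homologyFunctor A q).obj (K n))) ∧ ∃ c : ℤ, (K n).IsGE c)
    (hconst : ∀ j : ℤ, ∃ n₀ : ℕ, ∀ n, n₀ ≤ n → IsIso ((homologyFunctor A j).map (t n)))
    (L : DerivedCategory A) (a : ∀ n, L ⟶ K n) (hL : CohCx.IsRlimVia K t L a) (j : ℤ) :
    ∃ n₀ : ℕ, ∀ n, n₀ ≤ n → IsIso ((homologyFunctor A j).map (a n)) := by
  choose n₀ hn₀ using hconst
  refine ⟨n₀ j, fun n hn => ?_⟩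
  have hNd : ∀ d : ℕ, ∃ N : ℕ, n ≤ N ∧ ∀ q : ℤ, j - 1 - d ≤ q → q ≤ j → n₀ q ≤ N := by
    intro d
    refine ⟨max n ((Finset.Icc (j - 1 - d) j).sup n₀), le_max_left _ _, fun q h1 h2 => ?_⟩
    exact le_trans (Finset.le_sup (f := n₀) (Finset.mem_Icc.2 ⟨h1, h2⟩)) (le_max_right _ _)
  have hfac : ∀ N, n ≤ N → ∃ β : (homologyFunctor A j).obj (K N) ⟶ (homologyFunctor A j).obj (K n),
      IsIso β ∧ (homologyFunctor A j).map (a N) ≫ β = (homologyFunctor A j).map (a n) := by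
    intro N hN
    obtain ⟨k, rfl⟩ := Nat.exists_eq_add_of_le hN
    refine ⟨(homologyFunctor A j).map (CohCx.transition K t n k),
      isIso_homology_transition K t j (n₀ j) (hn₀ j) n hn k, ?_⟩
    rw [← Functor.map_comp, a_transition hL n k]
  have hmono : Mono ((homologyFunctor A j).map (a n)) := by
    apply mono_of_local sg _ B hB
    intro V hV σ hσ
    obtain ⟨d, hd⟩ := hA V hV
    obtain ⟨N, hnN, hN⟩ := hNd d
    obtain ⟨β, hβ, hβ'⟩ := hfac N hnN
    have hσ' : σ ≫ (homologyFunctor A j).map (a N) = 0 := by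
      rw [← cancel_mono β, Category.assoc, hβ', hσ, zero_comp]
    apply comp_eq_zero_of_local sg (a N) V j _ σ hσ'
    intro T hT
    obtain ⟨ι, Yf, g, hgT, hcov, hv⟩ := hd T hT
    refine ⟨ι, Yf, g, hgT, hcov, fun i => ?_⟩
    exact injAt_of_bijective _ _ _
      (a_bijective.{w'} P K t hK n₀ hn₀ hL (sg.G (Yf i)) d (hv i) j N hN).1
  have hepi : Epi ((homologyFunctor A j).map (a n)) := by
    apply epi_of_local sg _ B hB
    intro V hV σ
    obtain ⟨d, hd⟩ := hA V hV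
    obtain ⟨N, hnN, hN⟩ := hNd d
    obtain ⟨β, hβ, hβ'⟩ := hfac N hnN
    obtain ⟨T, hT, hT'⟩ := exists_sieve_lift sg (a N) V j (σ ≫ inv β)
    obtain ⟨ι, Yf, g, hgT, hcov, hv⟩ := hd T hT
    refine ⟨Sieve.ofArrows Yf g, hcov, ?_⟩
    intro W k hk
    obtain ⟨_, k', _, ⟨i⟩, rfl⟩ := hk
    obtain ⟨ρ, hρ⟩ := hT' (g i) (hgT i) (surjAt_of_surjective _ _ _
      (a_bijective.{w'} P K t hK n₀ hn₀ hL (sg.G (Yf i)) d (hv i) j N hN).2)
    refine ⟨sg.Gm k' ≫ ρ, ?_⟩
    rw [Category.assoc, ← hβ', reassoc_of% hρ, sg.Gm_comp, Category.assoc,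
      IsIso.inv_hom_id, Category.comp_id]
  exact isIso_of_mono_of_epi _

end main

end Groth.Agent.Lib.Helper17.SG6
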