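import Groth.Agent.Lib.Helper17.SG4
import Groth.Agent.Lib.Helper17.SG6
import Groth.Agent.Lib.Helper22.Cech.SchemeLeray
import Groth.Prelude.Def_DCoh2

/-!
# Site generators for `X.Modules` on a scheme, and derived limits in `D_QCoh(O_X)`
-/

set_option autoImplicit false
universe w u

open CategoryTheory Limits Opposite Abelian AlgebraicGeometry

namespace Groth.Agent.Lib.Helper17.SG7

open Groth.Agent.Lib.Helper17.SG1 Groth.Agent.Lib.Helper17.SG2 Groth.Agent.Lib.Helper17.SG3
open Groth.Agent.Lib.Helper17.SG4 Groth.Agent.Lib.Helper17.RL5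

variable (X : Scheme.{u})

instance isGrothendieckAbelian_modules : IsGrothendieckAbelian.{u} X.Modules :=
  Groth.Agent.S0484.result (Opens.grothendieckTopology X) X.ringCatSheaf

instance hasExt_modules : HasExt.{u} X.Modules := hasExt_of_enoughInjectives _

/-- the site generators `O_X[h_U]^#` (`= j_! O_U`) of `X.Modules`. -/
noncomputable def schemeGens : SiteGens (Opens.grothendieckTopology X) X.Modules :=
  modGens X.ringCatSheaf

/-- `Ext^{k+1}(j_! O_U, M) = 0` for `U` affine and `M` quasi-coherent. -/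
lemma subsingleton_ext_schemeGens (M : X.Modules) [M.IsQuasicoherent] (U : X.Opens)
    (hU : IsAffineOpen U) (k : ℕ) :
    Subsingleton (Ext.{u} ((schemeGens X).G U) M (k + 1)) := by
  have h := Groth.Agent.Lib.Helper22.Cech.subsingleton_HU_succ_of_isAffineOpen X M U hU k
  have hE : HasExt.{u} (SheafOfModules.{u} X.ringCatSheaf) := hasExt_modules X
  have h2 := @subsingleton_ext_GR _ _ _ X.ringCatSheaf hE U M (k + 1) h
  exact h2

/-- every open of a scheme is covered by affine opens. -/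
lemma exists_affine_cover (U : X.Opens) :
    ∃ (ι : Type u) (Y : ι → X.Opens) (f : ∀ i, Y i ⟶ U),
      Sieve.ofArrows Y f ∈ Opens.grothendieckTopology X U ∧ ∀ i, Y i ∈ {V : X.Opens | IsAffineOpen V} := by
  refine ⟨{V : X.Opens // IsAffineOpen V ∧ V ≤ U}, fun V => V.1, fun V => homOfLE V.2.2, ?_,
    fun V => V.2.1⟩
  intro x hx
  obtain ⟨_, ⟨V, hV : IsAffineOpen V, rfl⟩, hxV, hVU⟩ :=
    (X.isBasis_affineOpens).exists_subset_of_mem_open hx U.2
  exact ⟨V, homOfLE hVU, ⟨_, 𝟙 _, homOfLE hVU, Presieve.ofArrows.mk (⟨V, hV, hVU⟩ :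
    {V : X.Opens // IsAffineOpen V ∧ V ≤ U}), by simp⟩, hxV⟩

/-- **`E = R lim τ_{≥ -n} E` for `E ∈ D_QCoh(O_X)`** (Stacks 08D4 pattern). -/
theorem isRlimVia_truncTower_scheme [HasDerivedCategory.{w} X.Modules]
    (E : DerivedCategory X.Modules)
    (hE : ∀ i : ℤ, ((DerivedCategory.homologyFunctor X.Modules i).obj E).IsQuasicoherent)
    [HasProduct (CohCx.truncTower E)] :
    CohCx.IsRlimVia (CohCx.truncTower E) (CohCx.truncTowerMap E) E (CohCx.toTruncTower E) := by
  apply isRlimVia_truncTower_gens.{u, w, u} (schemeGens X) E {V : X.Opens | IsAffineOpen V}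
    (exists_affine_cover X)
  intro V hV
  refine ⟨fun _ => 0, fun T hT => ?_⟩
  obtain ⟨ι, Y, f, hfT, hcov, hYB⟩ :=
    Groth.Agent.Lib.Helper17.RL10.exists_family_in_sieve _ (exists_affine_cover X) V T hT
  refine ⟨ι, Y, f, hfT, hcov, fun i m k hk => ?_⟩
  have hk0 : (0 : ℤ) < k := hk
  obtain ⟨k', rfl⟩ : ∃ k', k = k' + 1 := ⟨k - 1, by omega⟩
  haveI := hE (m - ((k' + 1 : ℕ) : ℤ))
  exact subsingleton_ext_schemeGens X _ (Y i) (hYB i) k'

end Groth.Agent.Lib.Helper17.SG7
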