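import Groth.Agent.Lib.Helper17.TD1
import Groth.Agent.Lib.Helper17.SG7
import Groth.Agent.Lib.Helper17.DProdW
import Groth.Agent.S0491
import Groth.Agent.S0007

/-!
# `Hom_{D(O_X)}(O_X, K) = Γ(X, H^0(K))` for `K ∈ D_QCoh(O_X)`, `X` affine
-/

set_option autoImplicit false
universe w u

open CategoryTheory Limits Opposite Pretriangulated AlgebraicGeometry

namespace Groth.Agent.Lib.Helper17.TD3

open Groth.Agent.Lib.Helper17.SG7 Groth.Agent.Lib.Helper17.RL5 Groth.Agent.Lib.Helper17.TD1

variable (X : Scheme.{u})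

/-- the structure sheaf as a module. -/
noncomputable abbrev OX : X.Modules := SheafOfModules.unit X.ringCatSheaf

lemma subsingleton_ext_OX [IsAffine X] (M : X.Modules) [M.IsQuasicoherent] (k : ℕ) (hk : 0 < k) :
    Subsingleton (@Abelian.Ext.{u} X.Modules _ _ (hasExt_modules X) (OX X) M k) := by
  have hE : HasExt.{u} (SheafOfModules.{u} X.ringCatSheaf) := hasExt_modules X
  obtain ⟨e⟩ := @Groth.Agent.S0491.result _ _ (Opens.grothendieckTopology X) X.ringCatSheaf hE M k
  have h := Groth.Agent.S0007.result X M k hk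
  exact e.toEquiv.subsingleton

/-- **`Hom_{D(O_X)}(O_X, K) = Γ(X, H^0 K)`** for `X` affine and `K ∈ D_QCoh(O_X)`. -/
theorem H0_bijective_OX [IsAffine X] [HasDerivedCategory.{w} X.Modules]
    (K : DerivedCategory X.Modules)
    (hK : ∀ i : ℤ, ((DerivedCategory.homologyFunctor X.Modules i).obj K).IsQuasicoherent) :
    Function.Bijective (H0 (OX X) K) := by
  have hE : HasExt.{u} X.Modules := hasExt_modules X
  haveI : HasProducts.{u} (DerivedCategory X.Modules) :=
    Groth.Agent.Lib.Helper17.DProdW.derivedCategory_hasProducts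
  haveI := hasProductsOfShape_of_small.{u} (DerivedCategory X.Modules) ℕ
  have hR := isRlimVia_truncTower_scheme X K hK
  have hv : @VanishAbove.{u} X.Modules _ _ _ hE K (OX X) 0 := by
    intro m k hk
    have hk0 : 0 < k := by simpa using hk
    haveI := hK (m - (k : ℤ))
    exact subsingleton_ext_OX X _ k hk0
  exact @H0_bijective.{u} X.Modules _ _ _ hE K _ hR (OX X) hv

end Groth.Agent.Lib.Helper17.TD3
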