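import Groth.Agent.Lib.Helper17.ThetaCls
import Groth.Agent.Lib.Helper17.TD3
import Groth.Agent.Lib.Helper17.SG9
import Groth.Agent.Lib.Helper17.SecQis

set_option autoImplicit false
universe w u

open CategoryTheory Limits Opposite Pretriangulated AlgebraicGeometry

namespace Groth.Agent.Lib.Helper17.QcSec

open Groth.Agent.Lib.Helper17.SG1 Groth.Agent.Lib.Helper17.SG7 Groth.Agent.Lib.Helper17.RL5
open Groth.Agent.Lib.Helper17.RL8 Groth.Agent.Lib.Helper17.RL9 Groth.Agent.Lib.Helper17.RL10
open Groth.Agent.Lib.Helper17.HDU1 Groth.Agent.Lib.Helper17.RL1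
open Groth.Agent.Lib.Helper17.ThetaCls Groth.Agent.Lib.Helper17.SecQis
open Groth.Agent.Lib.Helper17.SG3 Groth.Agent.Lib.Helper20.FreeSheaf

lemma β_add' {C : Type u} [SmallCategory C] {J : GrothendieckTopology C} (R : Sheaf J RingCat.{u})
    (L : Cᵒᵖ ⥤ Type u) (F : SheafOfModules.{u} R)
    (f g : Groth.Agent.Lib.Helper5.Deg0.freeR R L ⟶ F) :
    β R L F (f + g) = β R L F f + β R L F g := by
  unfold β
  rw [Functor.map_add, Preadditive.comp_add]

variable (X : Scheme.{u})

section

variable [HasDerivedCategory.{w} X.Modules]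

lemma isQCoh_shift (K : DerivedCategory X.Modules)
    (hK : ∀ i : ℤ, ((DerivedCategory.homologyFunctor X.Modules i).obj K).IsQuasicoherent) (q i : ℤ) :
    ((DerivedCategory.homologyFunctor X.Modules i).obj (K⟦q⟧)).IsQuasicoherent :=
  (SheafOfModules.isQuasicoherent X.ringCatSheaf).prop_of_iso
    (((DerivedCategory.homologyFunctor X.Modules 0).shiftIso q i (q + i) rfl).app K).symm
      (hK (q + i))

/-- **`Hom_{D(O_X)}(j_! O_U, K[q]) = Γ(U, H^q K)`** for `U` affine and `K ∈ D_QCoh(O_X)`. -/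
theorem θ_bijective_schemeGens (U : X.Opens) (hU : IsAffineOpen U)
    (K : DerivedCategory X.Modules)
    (hK : ∀ i : ℤ, ((DerivedCategory.homologyFunctor X.Modules i).obj K).IsQuasicoherent) (q : ℤ) :
    Function.Bijective (θ ((schemeGens X).G U) q K) := by
  apply θ_bijective_of_shift
  have hE : HasExt.{u} X.Modules := hasExt_modules X
  haveI : HasProducts.{u} (DerivedCategory X.Modules) :=
    Groth.Agent.Lib.Helper17.DProdW.derivedCategory_hasProducts
  haveI := hasProductsOfShape_of_small.{u} (DerivedCategory X.Modules) ℕ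
  have hK' := isQCoh_shift X K hK q
  have hR := isRlimVia_truncTower_scheme X (K⟦q⟧) hK'
  have hv : @VanishAbove.{u} X.Modules _ _ _ hE (K⟦q⟧) ((schemeGens X).G U) 0 := by
    intro m k hk
    have hk0 : 0 < k := by simpa using hk
    obtain ⟨k', rfl⟩ : ∃ k', k = k' + 1 := ⟨k - 1, by omega⟩
    haveI := hK' (m - ((k' + 1 : ℕ) : ℤ))
    exact subsingleton_ext_schemeGens X _ U hU k'
  exact @θ_zero_bijective.{u} X.Modules _ _ _ hE (K⟦q⟧) _ hR _ hv

end


section sections

/-- morphisms out of the generator `j_! O_U` are sections over `U`. -/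
noncomputable def sec (U : X.Opens) (M : X.Modules) :
    ((schemeGens X).G U ⟶ M) ≃
      ((SheafOfModules.toSheaf X.ringCatSheaf).obj M).obj.obj (op U) :=
  (Equiv.ofBijective _ (β_bijective X.ringCatSheaf (yoneda.obj U) M)).trans
    (a (Opens.grothendieckTopology X) U _)

lemma sec_comp (U : X.Opens) {M N : X.Modules} (σ : (schemeGens X).G U ⟶ M) (φ : M ⟶ N) :
    sec X U N (σ ≫ φ) =
      ((SheafOfModules.toSheaf X.ringCatSheaf).map φ).hom.app (op U) (sec X U M σ) := by
  have h1 : sec X U N (σ ≫ φ) = a (Opens.grothendieckTopology X) U _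
    (β X.ringCatSheaf (yoneda.obj U) N (σ ≫ φ)) := rfl
  have h2 := β_comp X.ringCatSheaf (yoneda.obj U) σ φ
  have h3 := a_nat (Opens.grothendieckTopology X) U (β X.ringCatSheaf (yoneda.obj U) M σ)
    ((SheafOfModules.toSheaf X.ringCatSheaf).map φ)
  exact h1.trans ((congrArg _ h2).trans h3)

lemma sec_add (U : X.Opens) (M : X.Modules) (σ τ : (schemeGens X).G U ⟶ M) :
    sec X U M (σ + τ) = sec X U M σ + sec X U M τ := by
  have h1 : sec X U M (σ + τ) = a (Opens.grothendieckTopology X) U _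
    (β X.ringCatSheaf (yoneda.obj U) M (σ + τ)) := rfl
  have h2 : β X.ringCatSheaf (yoneda.obj U) M (σ + τ) =
      β X.ringCatSheaf (yoneda.obj U) M σ + β X.ringCatSheaf (yoneda.obj U) M τ :=
    β_add' X.ringCatSheaf (yoneda.obj U) M σ τ
  have h3 := a_add (Opens.grothendieckTopology X) U (β X.ringCatSheaf (yoneda.obj U) M σ)
    (β X.ringCatSheaf (yoneda.obj U) M τ)
  exact h1.trans ((congrArg _ h2).trans h3)

variable {X} in
/-- sections of `f_* M` over `V` are sections of `M` over `f⁻¹ V`, in terms of generators. -/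
noncomputable def pushEquiv {S : Scheme.{u}} (f : X ⟶ S) (V : S.Opens) (M : X.Modules) :
    ((schemeGens S).G V ⟶ (Scheme.Modules.pushforward f).obj M) ≃
      ((schemeGens X).G (f ⁻¹ᵁ V) ⟶ M) :=
  (sec S V _).trans (sec X (f ⁻¹ᵁ V) M).symm

variable {X} in
lemma sec_pushEquiv {S : Scheme.{u}} (f : X ⟶ S) (V : S.Opens) (M : X.Modules)
    (σ : (schemeGens S).G V ⟶ (Scheme.Modules.pushforward f).obj M) :
    sec X (f ⁻¹ᵁ V) M (pushEquiv f V M σ) = sec S V _ σ :=
  Equiv.apply_symm_apply _ _

variable {X} in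
lemma pushEquiv_comp {S : Scheme.{u}} (f : X ⟶ S) (V : S.Opens) {M N : X.Modules}
    (σ : (schemeGens S).G V ⟶ (Scheme.Modules.pushforward f).obj M) (φ : M ⟶ N) :
    pushEquiv f V N (σ ≫ (Scheme.Modules.pushforward f).map φ) = pushEquiv f V M σ ≫ φ := by
  apply (sec X (f ⁻¹ᵁ V) N).injective
  refine (sec_pushEquiv f V N _).trans ?_
  refine (sec_comp S V σ _).trans ?_
  refine Eq.trans ?_ (sec_comp X (f ⁻¹ᵁ V) (pushEquiv f V M σ) φ).symm
  refine Eq.trans ?_ (congrArg _ (sec_pushEquiv f V M σ).symm)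
  rfl

variable {X} in
lemma pushEquiv_add {S : Scheme.{u}} (f : X ⟶ S) (V : S.Opens) (M : X.Modules)
    (σ τ : (schemeGens S).G V ⟶ (Scheme.Modules.pushforward f).obj M) :
    pushEquiv f V M (σ + τ) = pushEquiv f V M σ + pushEquiv f V M τ := by
  apply (sec X (f ⁻¹ᵁ V) M).injective
  refine (sec_pushEquiv f V M _).trans ?_
  refine (sec_add S V _ σ τ).trans ?_
  refine Eq.trans ?_ (sec_add X (f ⁻¹ᵁ V) M _ _).symm
  exact congrArg₂ (· + ·) (sec_pushEquiv f V M σ).symm (sec_pushEquiv f V M τ).symm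

end sections


section lemmas

variable {X}

open DerivedCategory in
/-- a cocycle over an affine open of a K-injective complex with quasi-coherent cohomology whose
cohomology class vanishes is a coboundary. -/
lemma boundary_of_hcls_eq_zero (U : X.Opens) (hU : IsAffineOpen U)
    (I : CochainComplex X.Modules ℤ) [I.IsKInjective]
    (hI : ∀ i : ℤ, (I.homology i).IsQuasicoherent) (i : ℤ)
    (y : (schemeGens X).G U ⟶ I.X i) (hy : y ≫ I.d i (i + 1) = 0) (h : hcls I i y hy = 0) :
    ∃ w : (schemeGens X).G U ⟶ I.X (i - 1), w ≫ I.d (i - 1) i = y := by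
  letI := HasDerivedCategory.standard X.Modules
  have hK : ∀ i : ℤ, ((homologyFunctor X.Modules i).obj (Q.obj I)).IsQuasicoherent := fun i =>
    (SheafOfModules.isQuasicoherent X.ringCatSheaf).prop_of_iso
      ((homologyFunctorFactors X.Modules i).app I).symm (hI i)
  have hb := θ_bijective_schemeGens X U hU (Q.obj I) hK i
  have h1 : θ ((schemeGens X).G U) i (Q.obj I) (clsD I i y hy) = 0 := by
    rw [θ_clsD, h, zero_comp]
  have h2 : clsD I i y hy = 0 := hb.1 (h1.trans (map_zero _).symm)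
  exact (clsD_eq_zero_iff I i y hy).1 h2

open DerivedCategory in
/-- every section over an affine open of a cohomology sheaf of a K-injective complex with
quasi-coherent cohomology is the class of a cocycle. -/
lemma exists_hcls_eq (U : X.Opens) (hU : IsAffineOpen U)
    (I : CochainComplex X.Modules ℤ) [I.IsKInjective]
    (hI : ∀ i : ℤ, (I.homology i).IsQuasicoherent) (i : ℤ)
    (σ : (schemeGens X).G U ⟶ I.homology i) :
    ∃ (y : (schemeGens X).G U ⟶ I.X i) (hy : y ≫ I.d i (i + 1) = 0), hcls I i y hy = σ := by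
  letI := HasDerivedCategory.standard X.Modules
  have hK : ∀ i : ℤ, ((homologyFunctor X.Modules i).obj (Q.obj I)).IsQuasicoherent := fun i =>
    (SheafOfModules.isQuasicoherent X.ringCatSheaf).prop_of_iso
      ((homologyFunctorFactors X.Modules i).app I).symm (hI i)
  have hb := θ_bijective_schemeGens X U hU (Q.obj I) hK i
  obtain ⟨x, hx⟩ := hb.2 (σ ≫ (homologyFunctorFactors X.Modules i).inv.app I)
  obtain ⟨y, hy, rfl⟩ := clsD_surjective I i x
  refine ⟨y, hy, ?_⟩
  rw [θ_clsD] at hx
  haveI : Mono ((homologyFunctorFactors X.Modules i).inv.app I) :=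
    inferInstanceAs (Mono ((homologyFunctorFactors X.Modules i).app I).inv)
  exact (cancel_mono ((homologyFunctorFactors X.Modules i).inv.app I)).1 hx

lemma isQuasicoherent_cycles (F : CochainComplex X.Modules ℤ)
    (hF : ∀ n : ℤ, (F.X n).IsQuasicoherent) (i : ℤ) : (F.cycles i).IsQuasicoherent := by
  haveI := hF i
  haveI := hF (i + 1)
  have e : F.cycles i ≅ kernel (F.d i (i + 1)) :=
    IsLimit.conePointUniqueUpToIso (F.cyclesIsKernel i (i + 1) (by simp))
      (limit.isLimit (parallelPair (F.d i (i + 1)) 0))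
  exact (SheafOfModules.isQuasicoherent X.ringCatSheaf).prop_of_iso e.symm
    (Groth.Agent.Lib.Helper29.QCoh.isQuasicoherent_kernel _)

lemma isQuasicoherent_homology (F : CochainComplex X.Modules ℤ)
    (hF : ∀ n : ℤ, (F.X n).IsQuasicoherent) (i : ℤ) : (F.homology i).IsQuasicoherent := by
  haveI := hF (i - 1)
  haveI := isQuasicoherent_cycles F hF i
  have e : F.homology i ≅ cokernel (F.toCycles (i - 1) i) :=
    IsColimit.coconePointUniqueUpToIso (F.homologyIsCokernel (i - 1) i (by simp))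
      (colimit.isColimit (parallelPair (F.toCycles (i - 1) i) 0))
  exact (SheafOfModules.isQuasicoherent X.ringCatSheaf).prop_of_iso e.symm
    (Groth.Agent.Lib.Helper29.QCoh.isQuasicoherent_cokernel _)

/-- sections over an affine open of a cohomology sheaf of a complex of quasi-coherent modules are
classes of cocycles. -/
lemma exists_hcls_eq_of_qcoh (U : X.Opens) (hU : IsAffineOpen U)
    (F : CochainComplex X.Modules ℤ) (hF : ∀ n : ℤ, (F.X n).IsQuasicoherent) (i : ℤ)
    (σ : (schemeGens X).G U ⟶ F.homology i) :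
    ∃ (z : (schemeGens X).G U ⟶ F.X i) (hz : z ≫ F.d i (i + 1) = 0), hcls F i z hz = σ := by
  haveI := isQuasicoherent_cycles F hF i
  haveI := isQuasicoherent_homology F hF i
  obtain ⟨τ, hτ⟩ := Groth.Agent.Lib.Helper17.SG9.exists_lift_of_epi X U hU (F.homologyπ i) σ
  refine ⟨τ ≫ F.iCycles i, by simp, ?_⟩
  rw [← hτ]
  unfold hcls
  congr 1
  rw [← cancel_mono (F.iCycles i)]
  simp

/-- a cocycle over an affine open of a complex of quasi-coherent modules with vanishing class is a
coboundary. -/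
lemma boundary_of_hcls_eq_zero_of_qcoh (U : X.Opens) (hU : IsAffineOpen U)
    (F : CochainComplex X.Modules ℤ) (hF : ∀ n : ℤ, (F.X n).IsQuasicoherent) (i : ℤ)
    (z : (schemeGens X).G U ⟶ F.X i) (hz : z ≫ F.d i (i + 1) = 0) (h : hcls F i z hz = 0) :
    ∃ v : (schemeGens X).G U ⟶ F.X (i - 1), z = v ≫ F.d (i - 1) i := by
  haveI := hF (i - 1)
  haveI := isQuasicoherent_cycles F hF i
  haveI := isQuasicoherent_homology F hF i
  have hex := exact_toCycles_homologyπ F i
  have hepi : Epi (kernel.lift (F.homologyπ i) (F.toCycles (i - 1) i)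
      (F.toCycles_comp_homologyπ (i - 1) i)) :=
    (ShortComplex.exact_iff_epi_kernel_lift _).1 hex
  obtain ⟨v, hv⟩ := Groth.Agent.Lib.Helper17.SG9.exists_lift_of_epi X U hU
    (kernel.lift (F.homologyπ i) (F.toCycles (i - 1) i) (F.toCycles_comp_homologyπ (i - 1) i))
    (kernel.lift (F.homologyπ i) (F.liftCycles z (i + 1) (by simp) hz) h)
  refine ⟨v, ?_⟩
  have h1 := congrArg (fun x => x ≫ kernel.ι (F.homologyπ i) ≫ F.iCycles i) hv
  simp only [Category.assoc, kernel.lift_ι_assoc, HomologicalComplex.toCycles_i,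
    HomologicalComplex.liftCycles_i] at h1
  exact h1.symm

/-- **sections over an affine open of a quasi-isomorphism from a complex of quasi-coherent modules
to a K-injective complex: surjectivity on cohomology.** -/
theorem secSurj_of_quasiIso (U : X.Opens) (hU : IsAffineOpen U)
    {F J : CochainComplex X.Modules ℤ} (hF : ∀ n : ℤ, (F.X n).IsQuasicoherent) [J.IsKInjective]
    (φ : F ⟶ J) [QuasiIso φ] (i : ℤ) :
    SecSurj ((schemeGens X).G U) φ (i - 1) i (i + 1) := by
  haveI hiso : ∀ n : ℤ, IsIso (HomologicalComplex.homologyMap φ n) := fun n =>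
    (quasiIsoAt_iff_isIso_homologyMap φ n).1 inferInstance
  have hJ : ∀ n : ℤ, (J.homology n).IsQuasicoherent := fun n =>
    (SheafOfModules.isQuasicoherent X.ringCatSheaf).prop_of_iso
      (@asIso _ _ _ _ (HomologicalComplex.homologyMap φ n) (hiso n))
      (isQuasicoherent_homology F hF n)
  intro y hy
  obtain ⟨z, hz, hzσ⟩ := exists_hcls_eq_of_qcoh U hU F hF i
    (hcls J i y hy ≫ inv (HomologicalComplex.homologyMap φ i))
  have hzφ : (z ≫ φ.f i) ≫ J.d i (i + 1) = 0 := by
    rw [Category.assoc, φ.comm, reassoc_of% hz, zero_comp]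
  have h1 : hcls J i (z ≫ φ.f i) hzφ = hcls J i y hy := by
    rw [← hcls_map F i φ z hz, hzσ, Category.assoc, IsIso.inv_hom_id, Category.comp_id]
  have hd : (y - z ≫ φ.f i) ≫ J.d i (i + 1) = 0 := by
    rw [Preadditive.sub_comp, hy, hzφ, sub_zero]
  have h2 : hcls J i (y - z ≫ φ.f i) hd = 0 := by
    have h3 := hcls_add J i (y - z ≫ φ.f i) (z ≫ φ.f i) hd hzφ
    have h4 : hcls J i (y - z ≫ φ.f i + z ≫ φ.f i)
        (by rw [Preadditive.add_comp, hd, hzφ, add_zero]) = hcls J i y hy := by
      congr 1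
      abel
    rw [h4, h1] at h3
    exact right_eq_add.1 h3
  obtain ⟨w, hw⟩ := boundary_of_hcls_eq_zero U hU J hJ i _ hd h2
  refine ⟨z, w, hz, ?_⟩
  rw [hw]
  abel

/-- injectivity on cohomology of sections over an affine open. -/
theorem secInj_of_quasiIso (U : X.Opens) (hU : IsAffineOpen U)
    {F J : CochainComplex X.Modules ℤ} (hF : ∀ n : ℤ, (F.X n).IsQuasicoherent)
    (φ : F ⟶ J) [QuasiIso φ] (i : ℤ) :
    SecInj ((schemeGens X).G U) φ (i - 1) i (i + 1) := by
  haveI hiso : ∀ n : ℤ, IsIso (HomologicalComplex.homologyMap φ n) := fun n =>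
    (quasiIsoAt_iff_isIso_homologyMap φ n).1 inferInstance
  intro z hz ⟨w, hw⟩
  have hzφ : (z ≫ φ.f i) ≫ J.d i (i + 1) = 0 := by
    rw [Category.assoc, φ.comm, reassoc_of% hz, zero_comp]
  have h1 : hcls F i z hz ≫ HomologicalComplex.homologyMap φ i = 0 := by
    rw [hcls_map]
    exact hcls_eq_zero_of_boundary J i _ hzφ w hw.symm
  have h2 : hcls F i z hz = 0 := by
    have := congrArg (fun x => x ≫ inv (HomologicalComplex.homologyMap φ i)) h1
    simpa using this
  exact boundary_of_hcls_eq_zero_of_qcoh U hU F hF i z hz h2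

/-- **for an affine morphism `f`, `f_*` preserves quasi-isomorphisms from complexes of
quasi-coherent modules to K-injective complexes.** -/
theorem quasiIso_pushforward_of_affine {S : Scheme.{u}} (f : X ⟶ S) [IsAffineHom f]
    {F J : CochainComplex X.Modules ℤ} (hF : ∀ n : ℤ, (F.X n).IsQuasicoherent) [J.IsKInjective]
    (φ : F ⟶ J) [QuasiIso φ] :
    QuasiIso (((Scheme.Modules.pushforward f).mapHomologicalComplex (ComplexShape.up ℤ)).map φ) := by
  apply quasiIso_of_sec (schemeGens S) _ {V : S.Opens | IsAffineOpen V} (exists_affine_cover S)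
  · intro V hV i
    exact secInj_map (Scheme.Modules.pushforward f) _ _ (pushEquiv f V)
      (fun σ ψ => pushEquiv_comp f V σ ψ) (fun M σ τ => pushEquiv_add f V M σ τ) φ _ _ _
      (secInj_of_quasiIso (f ⁻¹ᵁ V) (IsAffineOpen.preimage hV f) hF φ i)
  · intro V hV i
    exact secSurj_map (Scheme.Modules.pushforward f) _ _ (pushEquiv f V)
      (fun σ ψ => pushEquiv_comp f V σ ψ) (fun M σ τ => pushEquiv_add f V M σ τ) φ _ _ _
      (secSurj_of_quasiIso (f ⁻¹ᵁ V) (IsAffineOpen.preimage hV f) hF φ i)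

end lemmas

end Groth.Agent.Lib.Helper17.QcSec
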