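import Mathlib
import Groth.Prelude.Def_WeakSerre
import Groth.Agent.Lib.Helper9.WayOut

/-!
# Objects of the derived category with cohomology in a weak Serre subcategory
-/

set_option autoImplicit false
set_option linter.unusedSectionVars false
set_option linter.style.haveILetI false

open CategoryTheory CategoryTheory.Limits DerivedCategory CategoryTheory.Pretriangulated

universe w v u

namespace Groth.Agent.Lib.Helper17.CohIn

open WSerre

section FiveTerm

variable {C : Type u} [Category.{v} C] [Abelian C] (P : ObjectProperty C) [IsWeakSerre P]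

/-- the middle term of a five term exact sequence with outer terms in a weak Serre class
is in the class -/
theorem prop_of_five {X₁ X₂ X₃ X₄ X₅ : C} (a : X₁ ⟶ X₂) (b : X₂ ⟶ X₃) (c : X₃ ⟶ X₄) (d : X₄ ⟶ X₅)
    (hab : a ≫ b = 0) (hbc : b ≫ c = 0) (hcd : c ≫ d = 0)
    (h₂ : (ShortComplex.mk a b hab).Exact) (h₃ : (ShortComplex.mk b c hbc).Exact)
    (h₄ : (ShortComplex.mk c d hcd).Exact)
    (p₁ : P X₁) (p₂ : P X₂) (p₄ : P X₄) (p₅ : P X₅) : P X₃ := by
  have pC : P (cokernel a) := P.prop_cokernel a p₁ p₂
  have pK : P (kernel d) := P.prop_kernel d p₄ p₅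
  let i : cokernel a ⟶ X₃ := cokernel.desc a b hab
  let q : X₃ ⟶ kernel d := kernel.lift d c hcd
  haveI : Mono i := (ShortComplex.mk a b hab).exact_iff_mono_cokernel_desc.1 h₂
  haveI : Epi q := (ShortComplex.mk c d hcd).exact_iff_epi_kernel_lift.1 h₄
  have hiq : i ≫ q = 0 := by
    rw [← cancel_epi (cokernel.π a), ← cancel_mono (kernel.ι d)]
    simp [i, q, hbc]
  have hic : i ≫ c = 0 := by
    rw [← cancel_epi (cokernel.π a)]
    simp [i, hbc]
  have e1 : (ShortComplex.mk i c hic).Exact := by
    let φ : ShortComplex.mk b c hbc ⟶ ShortComplex.mk i c hic :=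
      { τ₁ := cokernel.π a
        τ₂ := 𝟙 _
        τ₃ := 𝟙 _
        comm₁₂ := by simp [i]
        comm₂₃ := by simp }
    haveI : Epi φ.τ₁ := by dsimp [φ]; infer_instance
    haveI : IsIso φ.τ₂ := by dsimp [φ]; infer_instance
    haveI : Mono φ.τ₃ := by dsimp [φ]; infer_instance
    exact (ShortComplex.exact_iff_of_epi_of_isIso_of_mono φ).1 h₃
  have e2 : (ShortComplex.mk i q hiq).Exact := by
    let φ : ShortComplex.mk i q hiq ⟶ ShortComplex.mk i c hic :=
      { τ₁ := 𝟙 _
        τ₂ := 𝟙 _
        τ₃ := kernel.ι d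
        comm₁₂ := by simp
        comm₂₃ := by simp [q] }
    haveI : Epi φ.τ₁ := by dsimp [φ]; infer_instance
    haveI : IsIso φ.τ₂ := by dsimp [φ]; infer_instance
    haveI : Mono φ.τ₃ := by dsimp [φ]; infer_instance
    exact (ShortComplex.exact_iff_of_epi_of_isIso_of_mono φ).2 e1
  have hS : (ShortComplex.mk i q hiq).ShortExact := { exact := e2 }
  exact P.prop_X₂_of_shortExact hS pC pK

end FiveTerm

section Derived

variable {C : Type u} [Category.{v} C] [Abelian C] [HasDerivedCategory.{w} C]
  (A : ObjectProperty C)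

instance [A.IsClosedUnderIsomorphisms] : (cohIn A).IsClosedUnderIsomorphisms where
  of_iso e hX i := A.prop_of_iso ((homologyFunctor C i).mapIso e) (hX i)

/-- `D_A` is stable under extensions in distinguished triangles. -/
theorem cohIn_ext₂ [IsWeakSerre A] (T : Triangle (DerivedCategory C)) (hT : T ∈ distTriang _)
    (h₁ : cohIn A T.obj₁) (h₃ : cohIn A T.obj₃) : cohIn A T.obj₂ := by
  intro n
  exact prop_of_five A (HomologySequence.δ T (n - 1) n (by omega))
    ((homologyFunctor C n).map T.mor₁) ((homologyFunctor C n).map T.mor₂)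
    (HomologySequence.δ T n (n + 1) rfl)
    (HomologySequence.δ_comp T hT (n - 1) n (by omega))
    (by rw [← Functor.map_comp, comp_distTriang_mor_zero₁₂ _ hT, Functor.map_zero])
    (HomologySequence.comp_δ T hT n (n + 1) rfl)
    (HomologySequence.exact₁ T hT (n - 1) n (by omega))
    (HomologySequence.exact₂ T hT n)
    (HomologySequence.exact₃ T hT n (n + 1) rfl)
    (h₃ (n - 1)) (h₁ n) (h₃ n) (h₁ (n + 1))

theorem cohIn_shift [A.IsClosedUnderIsomorphisms] (X : DerivedCategory C) (n : ℤ)
    (h : cohIn A X) : cohIn A (X⟦n⟧) := by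
  intro i
  exact A.prop_of_iso (((homologyFunctor C 0).shiftIso n i (n + i) rfl).app X).symm (h (n + i))

theorem cohIn_of_isZero [A.ContainsZero] [A.IsClosedUnderIsomorphisms] (X : DerivedCategory C)
    (h : IsZero X) : cohIn A X := by
  intro i
  exact A.prop_of_isZero ((homologyFunctor C i).map_isZero h)

theorem cohIn_single [A.ContainsZero] [A.IsClosedUnderIsomorphisms] (F : C) (hF : A F) (n : ℤ) :
    cohIn A ((singleFunctor C n).obj F) := by
  intro i
  by_cases h : i = n
  · subst h
    exact A.prop_of_iso ((singleFunctorCompHomologyFunctorIso C i).app F).symm hF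
  · apply A.prop_of_isZero
    rcases lt_or_gt_of_ne h with h | h
    · exact ((singleFunctor C n).obj F).isZero_of_isGE n i h
    · exact ((singleFunctor C n).obj F).isZero_of_isLE n i h

end Derived

section Devissage

variable {C : Type u} [Category.{v} C] [Abelian C] [HasDerivedCategory.{w} C]
  (P : ObjectProperty C) [P.IsClosedUnderIsomorphisms]
  (𝒯 : ObjectProperty (DerivedCategory C)) [𝒯.IsClosedUnderIsomorphisms]

open Groth.Agent.Lib.Helper9

/-- devissage for object properties: bounded case -/
theorem prop_of_bounded_aux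
    (hext : ∀ T ∈ distTriang (DerivedCategory C), 𝒯 T.obj₁ → 𝒯 T.obj₃ → 𝒯 T.obj₂)
    (hsingle : ∀ (X : C) (n : ℤ), P X → 𝒯 ((singleFunctor C n).obj X))
    (hzero : ∀ Z : DerivedCategory C, IsZero Z → 𝒯 Z)
    (hP0 : ∀ Z : C, IsZero Z → P Z) (k : ℕ) :
    ∀ (X : DerivedCategory C) (a b : ℤ), X.IsGE a → X.IsLE b → b - a < k →
      (∀ i : ℤ, P ((homologyFunctor C i).obj X)) → 𝒯 X := by
  induction k with
  | zero =>
    intro X a b _ _ hab _
    exact hzero X (TStructure.t.isZero X b a (by simpa using hab))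
  | succ k ih =>
    intro X a b hXa hXb hab hX
    by_cases hba : b < a
    · exact hzero X (TStructure.t.isZero X b a hba)
    · have hT := TStructure.t.triangleLTGE_distinguished b X
      refine hext _ hT ?_ ?_
      · show 𝒯 ((TStructure.t.truncLT b).obj X)
        have h1 : ((TStructure.t.truncLT b).obj X).IsGE a := inferInstance
        have h2 : ((TStructure.t.truncLT b).obj X).IsLE (b - 1) := inferInstance
        exact ih _ a (b - 1) h1 h2 (by push_cast at hab; omega)
          (prop_homology_truncLT P hP0 X b hX)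
      · show 𝒯 ((TStructure.t.truncGE b).obj X)
        have h1 : ((TStructure.t.truncGE b).obj X).IsGE b := inferInstance
        have h2 : ((TStructure.t.truncGE b).obj X).IsLE b := inferInstance
        obtain ⟨Y, ⟨e⟩⟩ := exists_iso_singleFunctor_obj_of_isGE_of_isLE
          ((TStructure.t.truncGE b).obj X) b
        have hY : P Y := by
          have e' : (homologyFunctor C b).obj ((TStructure.t.truncGE b).obj X) ≅ Y :=
            (homologyFunctor C b).mapIso e ≪≫ (singleFunctorCompHomologyFunctorIso C b).app Y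
          exact P.prop_of_iso e' (prop_homology_truncGE P hP0 X b hX b)
        exact 𝒯.prop_of_iso e.symm (hsingle Y b hY)

theorem prop_of_bounded
    (hext : ∀ T ∈ distTriang (DerivedCategory C), 𝒯 T.obj₁ → 𝒯 T.obj₃ → 𝒯 T.obj₂)
    (hsingle : ∀ (X : C) (n : ℤ), P X → 𝒯 ((singleFunctor C n).obj X))
    (hzero : ∀ Z : DerivedCategory C, IsZero Z → 𝒯 Z)
    (hP0 : ∀ Z : C, IsZero Z → P Z)
    (X : DerivedCategory C) (a b : ℤ) [hXa : X.IsGE a] [hXb : X.IsLE b]
    (hX : ∀ i : ℤ, P ((homologyFunctor C i).obj X)) : 𝒯 X :=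
  prop_of_bounded_aux P 𝒯 hext hsingle hzero hP0 (b - a + 1).toNat X a b hXa hXb (by omega) hX

end Devissage

end Groth.Agent.Lib.Helper17.CohIn
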