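import Mathlib
import Groth.Prelude.Def_Koszul
import Groth.Prelude.Def_KZero
import Groth.Prelude.Def_DRing2
import Groth.Agent.Lib.Helper13.DRingPC
import Groth.Agent.Lib.Helper17.K0Der

/-!
# K₀ of perfect complexes supported at the closed point of a regular local ring:
the Koszul complex is a resolution of the residue field, dévissage of finite length modules.
-/

set_option autoImplicit false
set_option linter.style.haveILetI false

universe u

open CategoryTheory CategoryTheory.Limits DerivedCategory Pretriangulated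

attribute [local instance] HasDerivedCategory.standard

namespace Groth.Agent.Lib.Helper17.KosK0

variable (R : Type u) [CommRing R]

/-- the cone of a morphism isomorphic to the first map of a short exact sequence -/
lemma cone_iso_of_shortExact (S : ShortComplex (ModuleCat.{u} R)) (hS : S.ShortExact)
    (T : Triangle (DerivedCategory (ModuleCat.{u} R))) (hT : T ∈ distTriang _)
    (e₁ : T.obj₁ ≅ (singleFunctor (ModuleCat.{u} R) 0).obj S.X₁)
    (e₂ : T.obj₂ ≅ (singleFunctor (ModuleCat.{u} R) 0).obj S.X₂)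
    (comm : T.mor₁ ≫ e₂.hom = e₁.hom ≫ (singleFunctor (ModuleCat.{u} R) 0).map S.f) :
    Nonempty (T.obj₃ ≅ (singleFunctor (ModuleCat.{u} R) 0).obj S.X₃) :=
  ⟨Triangle.π₃.mapIso (isoTriangleOfIso₁₂ T hS.singleTriangle hT hS.singleTriangle_distinguished
    e₁ e₂ comm)⟩

/-- the short complex `R/I → R/I → R/(I + (f))` -/
noncomputable def quotSC (I : Ideal R) (f : R) : ShortComplex (ModuleCat.{u} R) :=
  ShortComplex.mk (f • 𝟙 (ModuleCat.of R (R ⧸ I)))
    (ModuleCat.ofHom (Submodule.factor (le_sup_right : I ≤ Ideal.span {f} ⊔ I))) (by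
      refine ModuleCat.hom_ext (LinearMap.ext fun x => ?_)
      obtain ⟨r, rfl⟩ := Submodule.Quotient.mk_surjective _ x
      change Submodule.factor (le_sup_right : I ≤ Ideal.span {f} ⊔ I)
        (f • (Submodule.Quotient.mk r : R ⧸ I)) = 0
      rw [← Submodule.Quotient.mk_smul]
      change (Submodule.Quotient.mk (f • r) : R ⧸ (Ideal.span {f} ⊔ I)) = 0
      rw [Submodule.Quotient.mk_eq_zero, smul_eq_mul]
      exact Ideal.mem_sup_left (Ideal.mul_mem_right r _ (Ideal.mem_span_singleton_self f)))

lemma quotSC_shortExact (I : Ideal R) (f : R) (hf : IsSMulRegular (R ⧸ I) f) :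
    (quotSC R I f).ShortExact := by
  have h1 : Mono (quotSC R I f).f := by
    rw [ModuleCat.mono_iff_injective]
    exact hf
  have h2 : Epi (quotSC R I f).g := by
    rw [ModuleCat.epi_iff_surjective]
    intro x
    obtain ⟨r, rfl⟩ := Submodule.Quotient.mk_surjective _ x
    exact ⟨Submodule.Quotient.mk r, rfl⟩
  refine ShortComplex.ShortExact.mk ?_
  rw [ShortComplex.moduleCat_exact_iff]
  intro x hx
  obtain ⟨r, rfl⟩ := Submodule.Quotient.mk_surjective _ x
  change Submodule.factor (le_sup_right : I ≤ Ideal.span {f} ⊔ I)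
    (Submodule.Quotient.mk r : R ⧸ I) = 0 at hx
  change (Submodule.Quotient.mk r : R ⧸ (Ideal.span {f} ⊔ I)) = 0 at hx
  rw [Submodule.Quotient.mk_eq_zero, Submodule.mem_sup] at hx
  obtain ⟨y, hy, z, hz, rfl⟩ := hx
  obtain ⟨a, rfl⟩ := Ideal.mem_span_singleton'.1 hy
  refine ⟨Submodule.Quotient.mk a, ?_⟩
  change f • (Submodule.Quotient.mk a : R ⧸ I) = _
  rw [← Submodule.Quotient.mk_smul, eq_comm, Submodule.Quotient.eq]
  simp only [smul_eq_mul]
  rw [mul_comm a f, add_sub_cancel_left]
  exact hz

/-- regularity in the order needed by the mapping-cone model -/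
def KReg : List R → Prop
  | [] => True
  | f :: l => IsSMulRegular (R ⧸ Ideal.ofList l) f ∧ KReg l

theorem koszul_iso : ∀ (fs : List R), KReg R fs →
    Nonempty (Q.obj (Koszul.koszul R fs) ≅
      (singleFunctor (ModuleCat.{u} R) 0).obj (ModuleCat.of R (R ⧸ Ideal.ofList fs)))
  | [], _ => by
    have e1 : Q.obj (Koszul.koszul R []) ≅
        (singleFunctor (ModuleCat.{u} R) 0).obj (ModuleCat.of R R) :=
      ((singleFunctorIsoCompQ (ModuleCat.{u} R) 0).app (ModuleCat.of R R)).symm
    have e2 : ModuleCat.of R R ≅ ModuleCat.of R (R ⧸ Ideal.ofList ([] : List R)) :=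
      (LinearEquiv.toModuleIso (Submodule.quotEquivOfEqBot _ (by simp)).symm)
    exact ⟨e1 ≪≫ (singleFunctor _ 0).mapIso e2⟩
  | f :: l, h => by
    obtain ⟨e⟩ := koszul_iso l h.2
    let T := Q.mapTriangle.obj
      (CochainComplex.mappingCone.triangle (f • 𝟙 (Koszul.koszul R l)))
    have hT : T ∈ distTriang _ := mappingCone_triangle_distinguished _
    obtain ⟨e3⟩ := cone_iso_of_shortExact R (quotSC R (Ideal.ofList l) f)
      (quotSC_shortExact R _ f h.1) T hT e e (by
        change Q.map (f • 𝟙 _) ≫ e.hom = e.hom ≫ (singleFunctor _ 0).map (f • 𝟙 _)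
        rw [Functor.map_smul, Functor.map_smul]
        simp)
    have e4 : (quotSC R (Ideal.ofList l) f).X₃ ≅ ModuleCat.of R (R ⧸ Ideal.ofList (f :: l)) :=
      (Submodule.quotEquivOfEq _ _ (Ideal.ofList_cons f l).symm).toModuleIso
    exact ⟨e3 ≪≫ (singleFunctor _ 0).mapIso e4⟩

lemma kreg_of_rev : ∀ fs : List R, RingTheory.Sequence.IsWeaklyRegular R fs.reverse → KReg R fs
  | [], _ => trivial
  | f :: l, h => by
    rw [List.reverse_cons, RingTheory.Sequence.isWeaklyRegular_append_iff,
      RingTheory.Sequence.isWeaklyRegular_singleton_iff] at h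
    obtain ⟨h1, h2⟩ := h
    refine ⟨?_, kreg_of_rev l h1⟩
    have hI : (Ideal.ofList l.reverse • ⊤ : Submodule R R) = Ideal.ofList l := by
      rw [smul_eq_mul, Ideal.mul_top]
      exact congrArg Ideal.span (Set.ext fun x => List.mem_reverse)
    exact ((Submodule.quotEquivOfEq _ _ hI).isSMulRegular_congr f).1 h2

lemma kreg_of_isRegular [IsNoetherianRing R] [IsLocalRing R] (fs : List R)
    (hreg : RingTheory.Sequence.IsRegular R fs) : KReg R fs :=
  kreg_of_rev R fs (IsLocalRing.isRegular_of_perm hreg (List.reverse_perm fs).symm).toIsWeaklyRegular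

/-- finite length modules -/
def FL : ObjectProperty (ModuleCat.{u} R) := fun M => IsFiniteLength R M

instance : (FL R).IsClosedUnderIsomorphisms where
  of_iso e h := LinearEquiv.isFiniteLength e.toLinearEquiv h

instance : (FL R).ContainsZero where
  exists_zero := ⟨ModuleCat.of R PUnit, ModuleCat.isZero_of_subsingleton _,
    IsFiniteLength.of_subsingleton⟩

instance : (FL R).IsClosedUnderKernels where
  kernels_le := by
    rintro K ⟨f, k, hk, hf⟩
    have : Mono k.ι := Fork.IsLimit.mono hk
    exact IsFiniteLength.of_injective (f := k.ι.hom) hf.1 ((ModuleCat.mono_iff_injective k.ι).1 this)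

section Local

variable [IsLocalRing R]

lemma isSimpleModule_residue : IsSimpleModule R (R ⧸ IsLocalRing.maximalIdeal R) :=
  isSimpleModule_iff_quot_maximal.2 ⟨_, inferInstance, ⟨LinearEquiv.refl _ _⟩⟩

open scoped IsSimpleOrder in
lemma fl_residue : IsFiniteLength R (R ⧸ IsLocalRing.maximalIdeal R) := by
  have := isSimpleModule_residue R
  exact isFiniteLength_iff_isNoetherian_isArtinian.2 ⟨inferInstance, inferInstance⟩

/-- dévissage of finite length modules over a local ring -/
theorem fl_induction (motive : ModuleCat.{u} R → Prop)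
    (hiso : ∀ M N : ModuleCat.{u} R, (M ≅ N) → motive M → motive N)
    (hzero : ∀ M : ModuleCat.{u} R, IsZero M → motive M)
    (hext : ∀ S : ShortComplex (ModuleCat.{u} R), S.ShortExact → motive S.X₁ → motive S.X₃ →
      motive S.X₂)
    (hk : motive (ModuleCat.of R (R ⧸ IsLocalRing.maximalIdeal R))) :
    ∀ (M : ModuleCat.{u} R), IsFiniteLength R M → motive M := by
  suffices H : ∀ (M : Type u) [AddCommGroup M] [Module R M], IsFiniteLength R M →
      motive (ModuleCat.of R M) from fun M hM => H M hM
  intro M _ _ hM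
  induction hM with
  | of_subsingleton => exact hzero _ (ModuleCat.isZero_of_subsingleton _)
  | @of_simple_quotient M _ _ N hs _ ih =>
    obtain ⟨I, hI, ⟨e⟩⟩ := isSimpleModule_iff_quot_maximal.1 hs
    obtain rfl := IsLocalRing.eq_maximalIdeal hI
    let S : ShortComplex (ModuleCat.{u} R) :=
      ShortComplex.mk (ModuleCat.ofHom N.subtype) (ModuleCat.ofHom N.mkQ) (by
        ext x
        simp)
    have hS : S.ShortExact := by
      have h1 : Mono S.f := (ModuleCat.mono_iff_injective _).2 N.injective_subtype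
      have h2 : Epi S.g := (ModuleCat.epi_iff_surjective _).2 N.mkQ_surjective
      refine ShortComplex.ShortExact.mk ?_
      rw [ShortComplex.moduleCat_exact_iff]
      intro x hx
      have hx' : N.mkQ x = 0 := hx
      rw [Submodule.mkQ_apply, Submodule.Quotient.mk_eq_zero] at hx'
      exact ⟨⟨x, hx'⟩, rfl⟩
    exact hext S hS ih (hiso _ _ e.symm.toModuleIso hk)

omit [IsLocalRing R] in
lemma fl_of_exact {N₁ N₂ N₃ : Type u} [AddCommGroup N₁] [Module R N₁] [AddCommGroup N₂] [Module R N₂]
    [AddCommGroup N₃] [Module R N₃] (f : N₁ →ₗ[R] N₂) (g : N₂ →ₗ[R] N₃)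
    (hfg : Function.Exact f g)
    (h1 : IsFiniteLength R N₁) (h3 : IsFiniteLength R N₃) : IsFiniteLength R N₂ := by
  rw [isFiniteLength_iff_isNoetherian_isArtinian] at h1 h3 ⊢
  obtain ⟨_, _⟩ := h1
  obtain ⟨_, _⟩ := h3
  have hr : LinearMap.range f = LinearMap.ker g := (LinearMap.exact_iff.1 hfg).symm
  exact ⟨isNoetherian_of_range_eq_ker f g hr, isArtinian_of_range_eq_ker f g hr⟩

lemma zeroLocus_max : PrimeSpectrum.zeroLocus (IsLocalRing.maximalIdeal R : Set R) =
    {IsLocalRing.closedPoint R} := by
  ext p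
  rw [PrimeSpectrum.mem_zeroLocus, Set.mem_singleton_iff]
  constructor
  · intro h
    exact PrimeSpectrum.ext ((IsLocalRing.maximalIdeal.isMaximal R).eq_of_le p.2.ne_top h).symm
  · rintro rfl
    exact le_rfl

lemma support_residue : Module.support R (R ⧸ IsLocalRing.maximalIdeal R) =
    {IsLocalRing.closedPoint R} := by
  rw [Module.support_eq_zeroLocus, Ideal.annihilator_quotient]
  exact zeroLocus_max R

theorem fl_of_finite_of_support [IsNoetherianRing R] (M : Type u) [AddCommGroup M] [Module R M]
    [hM : Module.Finite R M] (h : Module.support R M ⊆ {IsLocalRing.closedPoint R}) :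
    IsFiniteLength R M := by
  induction hM using IsNoetherianRing.induction_on_isQuotientEquivQuotientPrime R with
  | subsingleton N => exact IsFiniteLength.of_subsingleton
  | quotient N p f =>
    rw [f.support_eq, Module.support_eq_zeroLocus, Ideal.annihilator_quotient] at h
    have hp : p = IsLocalRing.closedPoint R := h (by
      rw [PrimeSpectrum.mem_zeroLocus])
    subst hp
    exact f.symm.isFiniteLength (fl_residue R)
  | exact N₁ N₂ N₃ f g hf hg hfg h₁ h₃ =>
    rw [Module.support_of_exact hfg hf hg] at h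
    exact fl_of_exact R f g hfg (h₁ (Set.subset_union_left.trans h))
      (h₃ (Set.subset_union_right.trans h))

theorem support_of_fl (M : ModuleCat.{u} R) (hM : IsFiniteLength R M) :
    Module.support R M ⊆ {IsLocalRing.closedPoint R} := by
  refine fl_induction R (fun M => Module.support R M ⊆ {IsLocalRing.closedPoint R})
    ?_ ?_ ?_ ?_ M hM
  · intro M N e h
    rw [← e.toLinearEquiv.support_eq]
    exact h
  · intro M hM
    have := ModuleCat.subsingleton_of_isZero hM
    rw [Module.support_eq_empty]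
    exact Set.empty_subset _
  · intro S hS h1 h3
    rw [Module.support_of_exact (f := S.f.hom) (g := S.g.hom)
      ((ShortComplex.ShortExact.moduleCat_exact_iff_function_exact S).1 hS.exact)
      ((ModuleCat.mono_iff_injective _).1 hS.mono_f) ((ModuleCat.epi_iff_surjective _).1 hS.epi_g)]
    exact Set.union_subset h1 h3
  · exact (support_residue R).le

end Local

open Groth.Agent.Lib.Helper13 Groth.Agent.Lib.Helper17.K0Der

theorem koszul_isPerf : ∀ fs : List R, PC.IsPerf (DR.Pfp R) (Q.obj (Koszul.koszul R fs))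
  | [] => (PC.isPerf_single 0 (X := ModuleCat.of R R)
      (⟨inferInstance, inferInstance⟩ : DR.Pfp R (ModuleCat.of R R))).of_iso
        ((singleFunctorIsoCompQ (ModuleCat.{u} R) 0).app (ModuleCat.of R R))
  | f :: l => PC.isPerf_obj₃ DR.Pfp_prod DR.hlift_Pfp
      (Q.mapTriangle.obj (CochainComplex.mappingCone.triangle (f • 𝟙 (Koszul.koszul R l))))
      (mappingCone_triangle_distinguished _) (koszul_isPerf l) (koszul_isPerf l)

section Local

variable [IsLocalRing R]

/-- the predicate of the statement -/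
abbrev PP : ObjectProperty (DerivedCategory (ModuleCat.{u} R)) := fun K : Dual.D R =>
  DRing.IsPerfect R K ∧
    ∀ i : ℤ, Module.support R (Dual.HD R K i) ⊆ {IsLocalRing.closedPoint R}

variable (fs : List R) (hreg : KReg R fs) (hgen : Ideal.ofList fs = IsLocalRing.maximalIdeal R)

include hreg hgen

lemma koszul_iso_residue : Nonempty (Q.obj (Koszul.koszul R fs) ≅
    (singleFunctor (ModuleCat.{u} R) 0).obj
      (ModuleCat.of R (R ⧸ IsLocalRing.maximalIdeal R))) := by
  rw [← hgen]
  exact koszul_iso R fs hreg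

lemma isPerf_residue : PC.IsPerf (DR.Pfp R) ((singleFunctor (ModuleCat.{u} R) 0).obj
    (ModuleCat.of R (R ⧸ IsLocalRing.maximalIdeal R))) := by
  obtain ⟨e⟩ := koszul_iso_residue R fs hreg hgen
  exact (koszul_isPerf R fs).of_iso e

lemma isPerf_of_fl (M : ModuleCat.{u} R) (hM : IsFiniteLength R M) :
    PC.IsPerf (DR.Pfp R) ((singleFunctor (ModuleCat.{u} R) 0).obj M) := by
  refine fl_induction R (fun M => PC.IsPerf (DR.Pfp R) ((singleFunctor (ModuleCat.{u} R) 0).obj M))
    ?_ ?_ ?_ ?_ M hM
  · intro M N e h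
    exact h.of_iso ((singleFunctor _ 0).mapIso e)
  · intro M hM
    exact PC.isPerf_of_isZero ((singleFunctor _ 0).map_isZero hM)
  · intro S hS h1 h3
    exact PC.isPerf_obj₂ DR.Pfp_prod DR.hlift_Pfp hS.singleTriangle
      hS.singleTriangle_distinguished h1 h3
  · exact isPerf_residue R fs hreg hgen

lemma PP_of_PD (K : DerivedCategory (ModuleCat.{u} R)) (hK : PD (FL R) K) : PP R K := by
  obtain ⟨h1, a, b, ha, hb⟩ := hK
  refine ⟨PC.isPerf_of_homology DR.Pfp_prod DR.hlift_Pfp K a b ?_
    (fun i => isPerf_of_fl R fs hreg hgen _ (h1 i)), fun i => support_of_fl R _ (h1 i)⟩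
  rintro i (hi | hi)
  · exact isZero_of_isGE K a i hi
  · exact isZero_of_isLE K b i hi

omit [IsLocalRing R] hreg hgen in
lemma finite_homology [IsNoetherianRing R] (E : CochainComplex (ModuleCat.{u} R) ℤ) (i : ℤ)
    (h : Module.Finite R (E.X i)) : Module.Finite R (E.homology i) := by
  have : IsNoetherian R (E.X i) := inferInstance
  have h1 : Module.Finite R (E.cycles i) :=
    Module.Finite.of_injective (E.iCycles i).hom ((ModuleCat.mono_iff_injective _).1 inferInstance)
  exact Module.Finite.of_surjective (E.homologyπ i).hom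
    ((ModuleCat.epi_iff_surjective _).1 inferInstance)

omit hreg hgen in
lemma PD_of_PP [IsNoetherianRing R] (K : DerivedCategory (ModuleCat.{u} R)) (hK : PP R K) :
    PD (FL R) K := by
  obtain ⟨⟨E, a, b, hv, hP, ⟨e⟩⟩, hsupp⟩ := hK
  have hfin : ∀ i : ℤ, Module.Finite R ((homologyFunctor (ModuleCat.{u} R) i).obj K) := by
    intro i
    have : Module.Finite R
        ((HomologicalComplex.homologyFunctor (ModuleCat.{u} R) (ComplexShape.up ℤ) i).obj E) :=
      finite_homology R E i (hP i).1
    exact Module.Finite.equiv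
      (((homologyFunctorFactors (ModuleCat.{u} R) i).app E).symm ≪≫
        (homologyFunctor (ModuleCat.{u} R) i).mapIso e).toLinearEquiv
  refine ⟨fun i => ?_, a, b, ?_, ?_⟩
  · have := hfin i
    exact fl_of_finite_of_support R _ (hsupp i)
  · have : E.IsStrictlyGE a := by
      rw [CochainComplex.isStrictlyGE_iff]
      exact fun i hi => hv i (Or.inl hi)
    have : (Q.obj E).IsGE a := inferInstance
    exact TStructure.t.isGE_of_iso e a
  · have : E.IsStrictlyLE b := by
      rw [CochainComplex.isStrictlyLE_iff]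
      exact fun i hi => hv i (Or.inr hi)
    have : (Q.obj E).IsLE b := inferInstance
    exact TStructure.t.isLE_of_iso e b

lemma PP_eq_PD [IsNoetherianRing R] : PP R = PD (FL R) :=
  funext fun K => propext ⟨PD_of_PP R K, PP_of_PD R fs hreg hgen K⟩

omit hreg hgen in
lemma clSub_mem (M : ModuleCat.{u} R) (hM : FL R M) :
    KZero.clSub (FL R) M ∈ AddSubgroup.closure
      {KZero.clSub (FL R) (ModuleCat.of R (R ⧸ IsLocalRing.maximalIdeal R))} := by
  refine fl_induction R (fun M => FL R M → KZero.clSub (FL R) M ∈ AddSubgroup.closure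
      {KZero.clSub (FL R) (ModuleCat.of R (R ⧸ IsLocalRing.maximalIdeal R))}) ?_ ?_ ?_ ?_ M hM hM
  · intro M N e h hN
    have hM : FL R M := (FL R).prop_of_iso e.symm hN
    rw [← clSub_of_iso (FL R) e hM]
    exact h hM
  · intro M hM _
    rw [clSub_of_isZero (FL R) hM]
    exact zero_mem _
  · intro S hS h1 h3 h2
    have hX1 : FL R S.X₁ := IsFiniteLength.of_injective (f := S.f.hom) h2
      ((ModuleCat.mono_iff_injective _).1 hS.mono_f)
    have hX3 : FL R S.X₃ := IsFiniteLength.of_surjective (f := S.g.hom) h2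
      ((ModuleCat.epi_iff_surjective _).1 hS.epi_g)
    rw [clSub_of_shortExact (FL R) S hS hX1 h2 hX3]
    exact add_mem (h1 hX1) (h3 hX3)
  · intro _
    exact AddSubgroup.subset_closure rfl

omit hreg hgen in
lemma closure_clSub_eq_top :
    AddSubgroup.closure
      {KZero.clSub (FL R) (ModuleCat.of R (R ⧸ IsLocalRing.maximalIdeal R))} = ⊤ := by
  rw [eq_top_iff]
  suffices H : ∀ y : KZero.K0sub (FL R), y ∈ AddSubgroup.closure
      {KZero.clSub (FL R) (ModuleCat.of R (R ⧸ IsLocalRing.maximalIdeal R))} from fun y _ => H y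
  intro y
  induction y using QuotientAddGroup.induction_on with
  | H y =>
    induction y using FreeAbelianGroup.induction_on with
    | zero => exact zero_mem _
    | of K =>
      have h1 : ((FreeAbelianGroup.of K : FreeAbelianGroup (Subtype (FL R))) :
          KZero.K0sub (FL R)) = KZero.clSub (FL R) K.1 := (clSub_eq (FL R) K.2).symm
      rw [h1]
      exact clSub_mem R K.1 K.2
    | neg K h =>
      rw [QuotientAddGroup.mk_neg]
      exact neg_mem h
    | add x y hx hy =>
      rw [QuotientAddGroup.mk_add]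
      exact add_mem hx hy

theorem main [IsNoetherianRing R] :
    AddSubgroup.closure {KZero.clTr (PP R) (Q.obj (Koszul.koszul R fs))} = ⊤ := by
  rw [PP_eq_PD R fs hreg hgen]
  obtain ⟨e, he⟩ := K0Der.main (FL R)
  obtain ⟨i⟩ := koszul_iso_residue R fs hreg hgen
  have hfl : FL R (ModuleCat.of R (R ⧸ IsLocalRing.maximalIdeal R)) := fl_residue R
  have hk : PD (FL R) ((singleFunctor (ModuleCat.{u} R) 0).obj
      (ModuleCat.of R (R ⧸ IsLocalRing.maximalIdeal R))) := PD_single (FL R) hfl 0
  rw [clTr_of_iso (PD (FL R)) (PD_zero (FL R)) i (PD_of_iso (FL R) i.symm hk) hk,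
    ← he _ hfl]
  have := congrArg (AddSubgroup.map e.toAddMonoidHom) (closure_clSub_eq_top R)
  rw [AddMonoidHom.map_closure, Set.image_singleton] at this
  rw [show (e.toAddMonoidHom _) = e _ from rfl] at this
  rw [this]
  exact AddSubgroup.map_top_of_surjective _ e.surjective

end Local

end Groth.Agent.Lib.Helper17.KosK0
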