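import Mathlib
import Groth.Agent.Lib.Helper21.FibDim1
import Groth.Agent.Lib.Helper21.FibDim4
import Groth.Agent.Lib.Helper21.FibDim5
import Groth.Agent.Lib.Helper21.FibDim6
import Groth.Agent.Lib.Helper21.ChartPt6
import Groth.Agent.Lib.Helper21.Img1
import Groth.Agent.Lib.Helper21.RegularLocal

/-!
# A lower bound for the dimension of local rings of pure-dimensional schemes over a field
-/

set_option autoImplicit false

universe u

open CategoryTheory Limits Opposite AlgebraicGeometry TopologicalSpace

namespace Groth.Agent.Lib.Helper17.RegDim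

open Groth.Agent.Lib.Helper21.FibDim Groth.Agent.Lib.Helper21.ChartPt


/-- on a scheme locally of finite type and of pure dimension `n` over a field, a point whose
closure has dimension at most `r` has a local ring of dimension at least `n - r` -/
theorem le_ringKrullDim_stalk (k : Type u) [Field k] (P : Scheme.{u})
    [P.Over (Spec (CommRingCat.of k))] [LocallyOfFiniteType (P ↘ Spec (CommRingCat.of k))] (n : ℕ)
    (hP : ∀ Z : Set ↥P, Z ∈ irreducibleComponents ↥P → topologicalKrullDim ↥Z = (n : WithBot ℕ∞))
    (x : P) (r : ℕ) (hx : topologicalKrullDim ↥(closure ({x} : Set P)) ≤ (r : WithBot ℕ∞)) :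
    ((n - r : ℕ) : WithBot ℕ∞) ≤ ringKrullDim (P.presheaf.stalk x) := by
  haveI : IsLocallyNoetherian P :=
    LocallyOfFiniteType.isLocallyNoetherian (P ↘ Spec (CommRingCat.of k))
  obtain ⟨a, ha⟩ := exists_nat_trdeg k P x
  have h1 := topologicalKrullDim_closure_singleton k P x a ha
  have har : a ≤ r := by
    rw [h1] at hx
    exact_mod_cast hx
  obtain ⟨b, hb⟩ := Groth.Agent.Lib.Helper21.exists_nat_eq_ringKrullDim (R := P.presheaf.stalk x)
  have h2 := localDim_eq_add k P x a b ha hb
  obtain ⟨N, hN, -, hle⟩ := exists_localDim_eq_trdeg k P x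
  have hNab : N = a + b := by
    rw [hN] at h2
    exact_mod_cast h2
  have hZ : irreducibleComponent x ∈ irreducibleComponents ↥P :=
    irreducibleComponent_mem_irreducibleComponents x
  obtain ⟨ξ, hξ⟩ := exists_isGenericPoint_of_mem_irreducibleComponents _ hZ
  have hξx : ξ ⤳ x := hξ.specializes mem_irreducibleComponent
  obtain ⟨s, hs⟩ := exists_nat_trdeg k P ξ
  have h3 := topologicalKrullDim_closure_singleton k P ξ s hs
  have hsn : s = n := by
    rw [hξ.def, hP _ hZ] at h3
    exact_mod_cast h3.symm
  have h4 := hle ξ hξx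
  rw [hs] at h4
  have h5 : s ≤ N := by exact_mod_cast h4
  rw [hb]
  have : n - r ≤ b := by omega
  exact_mod_cast this

end Groth.Agent.Lib.Helper17.RegDim
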