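import Mathlib
import Groth.Agent.Lib.Helper25.HypTwist2
import Groth.Agent.Lib.Helper25.ChartPoly4
import Groth.Agent.Lib.Helper17.RegDim
import Groth.Agent.Lib.Helper29.VA7

/-!
# Projective space over a field is regular, and the dimension formula for its local rings
-/

set_option autoImplicit false

universe u

open CategoryTheory Limits AlgebraicGeometry TopologicalSpace Opposite

namespace Groth.Agent.Lib.Helper17.PnReg

open Groth.Agent.Lib.Helper25.BertiniPn Groth.Agent.Lib.Helper25.ChartPoly
  Groth.Agent.Lib.Helper21.FibDim Groth.Agent.Lib.Helper21.ChartPt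

variable (k : Type u) [Field k] (n : ℕ)

instance locallyOfFiniteType_toSpec : LocallyOfFiniteType (CohB1.ProjSpace.toSpec n k) :=
  haveI : IsProper (CohB1.ProjSpace.toSpec n k) :=
    Groth.Agent.Lib.Helper29.QCoh.isProper_toSpec n k
  inferInstance

instance locallyOfFiniteType_over :
    LocallyOfFiniteType (CohB1.ProjSpace n k ↘ Spec (CommRingCat.of k)) :=
  locallyOfFiniteType_toSpec k n

instance isLocallyNoetherian : IsLocallyNoetherian (CohB1.ProjSpace n k) :=
  LocallyOfFiniteType.isLocallyNoetherian (CohB1.ProjSpace.toSpec n k)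

/-- the chart isomorphism as a ring equivalence -/
noncomputable def chartEquiv (j : Fin (n + 1)) :
    MvPolynomial {i : Fin (n + 1) // i ≠ j} k ≃+* Γ(CohB1.ProjSpace n k, (chartA k n j).1) :=
  RingEquiv.ofBijective (ThetaA k n j) (ThetaA_bijective k n j)

theorem isRegularRing_chart (j : Fin (n + 1)) :
    IsRegularRing Γ(CohB1.ProjSpace n k, (chartA k n j).1) :=
  IsRegularRing.of_ringEquiv (chartEquiv k n j)

theorem ringKrullDim_chart (j : Fin (n + 1)) :
    ringKrullDim Γ(CohB1.ProjSpace n k, (chartA k n j).1) = n := by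
  rw [← ringKrullDim_eq_of_ringEquiv (chartEquiv k n j),
    MvPolynomial.ringKrullDim_of_isNoetherianRing, ringKrullDim_eq_zero_of_field, zero_add]
  have : Nat.card {i : Fin (n + 1) // i ≠ j} = n := by
    rw [Nat.card_eq_fintype_card, Fintype.card_subtype_compl, Fintype.card_fin,
      Fintype.card_subtype_eq]
    omega
  rw [this]

theorem exists_mem_chart (p : CohB1.ProjSpace n k) : ∃ j : Fin (n + 1), p ∈ (chartA k n j).1 := by
  have hp : p ∈ (⨆ j : Fin (n + 1), (chartA k n j).1) := by
    rw [iSup_chartA_eq_top]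
    trivial
  simpa [Opens.mem_iSup] using hp

/-- **projective space over a field is regular** -/
theorem isRegularLocalRing_stalk (p : CohB1.ProjSpace n k) :
    IsRegularLocalRing ((CohB1.ProjSpace n k).presheaf.stalk p) := by
  obtain ⟨j, hj⟩ := exists_mem_chart k n p
  have hW : IsAffineOpen (chartA k n j).1 := (chartA k n j).2
  letI : Algebra Γ(CohB1.ProjSpace n k, (chartA k n j).1)
      ((CohB1.ProjSpace n k).presheaf.stalk p) :=
    TopCat.Presheaf.algebra_section_stalk (CohB1.ProjSpace n k).presheaf ⟨p, hj⟩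
  haveI hloc : IsLocalization.AtPrime ((CohB1.ProjSpace n k).presheaf.stalk p)
      (hW.primeIdealOf ⟨p, hj⟩).asIdeal := hW.isLocalization_stalk ⟨p, hj⟩
  haveI := isRegularRing_chart k n j
  let e : Localization.AtPrime (hW.primeIdealOf ⟨p, hj⟩).asIdeal ≃ₐ[Γ(CohB1.ProjSpace n k,
      (chartA k n j).1)] (CohB1.ProjSpace n k).presheaf.stalk p :=
    IsLocalization.algEquiv (hW.primeIdealOf ⟨p, hj⟩).asIdeal.primeCompl _ _
  exact IsRegularLocalRing.of_ringEquiv e.toRingEquiv

/-- **the dimension formula on projective space**: `trdeg κ(z) + dim O_z = n` -/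
theorem trdeg_add_dim (z : CohB1.ProjSpace n k) (a b : ℕ)
    (ha : @Algebra.trdeg k ((CohB1.ProjSpace n k).residueField z) _ _
      (Curv2.resAlgebra k (CohB1.ProjSpace n k) z) = a)
    (hb : ringKrullDim ((CohB1.ProjSpace n k).presheaf.stalk z) = b) : a + b = n := by
  have h2 := localDim_eq_add k (CohB1.ProjSpace n k) z a b ha hb
  obtain ⟨N, hN, ⟨y, hyz, hy⟩, hle⟩ := exists_localDim_eq_trdeg k (CohB1.ProjSpace n k) z
  have hNab : N = a + b := by
    rw [hN] at h2
    exact_mod_cast h2
  have h3 : N ≤ n := by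
    obtain ⟨j, hj⟩ := exists_mem_chart k n y
    obtain ⟨s, hs1, hs2⟩ :=
      exists_nat_trdeg_eq_and_dim_quotient k (CohB1.ProjSpace n k) (chartA k n j).2 y hj
    have h5 : (s : WithBot ℕ∞) ≤ n := by
      rw [← hs2, ← ringKrullDim_chart k n j]
      exact ringKrullDim_quotient_le _
    have hsN : s = N := by
      rw [hs1] at hy
      exact_mod_cast hy
    rw [hsN] at h5
    exact_mod_cast h5
  have h4 : n ≤ N := by
    obtain ⟨j, hj⟩ := exists_mem_chart k n z
    haveI : Nonempty (chartA k n j).1 := ⟨⟨z, hj⟩⟩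
    have hη : genericPoint (CohB1.ProjSpace n k) ∈ (chartA k n j).1 :=
      ((genericPoint_spec (CohB1.ProjSpace n k)).mem_open_set_iff (chartA k n j).1.isOpen).mpr
        ⟨z, Set.mem_inter trivial hj⟩
    obtain ⟨s, hs1, hs2⟩ := exists_nat_trdeg_eq_and_dim_quotient k (CohB1.ProjSpace n k)
      (chartA k n j).2 (genericPoint (CohB1.ProjSpace n k)) hη
    have hprime : ((chartA k n j).2.primeIdealOf
        ⟨genericPoint (CohB1.ProjSpace n k), hη⟩).asIdeal = ⊥ := by
      rw [IsAffineOpen.primeIdealOf_genericPoint, genericPoint_eq_bot_of_affine]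
      rfl
    rw [hprime, ringKrullDim_eq_of_ringEquiv (RingEquiv.quotientBot _), ringKrullDim_chart] at hs2
    have hsn : s = n := by exact_mod_cast hs2.symm
    have h5 := hle (genericPoint (CohB1.ProjSpace n k)) (genericPoint_specializes z)
    rw [hs1, hsn] at h5
    exact_mod_cast h5
  omega

end Groth.Agent.Lib.Helper17.PnReg
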