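import Mathlib
import Groth.Agent.Lib.Helper17.SheafBasis

/-!
# Pushforward of modules along a closed immersion is fully faithful
-/

set_option autoImplicit false

universe u

open CategoryTheory Limits AlgebraicGeometry TopologicalSpace Opposite

namespace Groth.Agent.Lib.Helper17.ClImmFull

open Groth.Agent.Lib.Helper17.SheafBasis

variable {Z X : Scheme.{u}} (i : Z ⟶ X)

/-- the largest open of `X` whose preimage is contained in `U` -/
def T (U : Z.Opens) : X.Opens := sSup {W : X.Opens | i ⁻¹ᵁ W ≤ U}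

lemma T_mono {U U' : Z.Opens} (h : U' ≤ U) : T i U' ≤ T i U :=
  sSup_le_sSup (fun _ hW => le_trans hW h)

lemma preimage_T_le (U : Z.Opens) : i ⁻¹ᵁ T i U ≤ U := by
  intro z hz
  obtain ⟨W, hW, hzW⟩ := Opens.mem_sSup.1 hz
  exact hW hzW

lemma le_T (W : X.Opens) : W ≤ T i (i ⁻¹ᵁ W) :=
  le_sSup (show i ⁻¹ᵁ W ≤ i ⁻¹ᵁ W from le_refl _)

lemma le_preimage_T [IsClosedImmersion i] (U : Z.Opens) : U ≤ i ⁻¹ᵁ T i U := by
  obtain ⟨t, ht, hU⟩ := i.isClosedEmbedding.isInducing.isOpen_iff.1 U.2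
  have hW : i ⁻¹ᵁ (⟨t, ht⟩ : X.Opens) = U := Opens.ext hU
  intro z hz
  have h1 : z ∈ i ⁻¹ᵁ (⟨t, ht⟩ : X.Opens) := hW ▸ hz
  have h2 : (⟨t, ht⟩ : X.Opens) ≤ T i U := le_sSup (by show i ⁻¹ᵁ _ ≤ U; rw [hW])
  exact h2 h1

variable {M N : Z.Modules}
  (φ : (Scheme.Modules.pushforward i).obj M ⟶ (Scheme.Modules.pushforward i).obj N)

/-- `φ` on sections over `W`, with explicit types -/
noncomputable def phiApp (W : X.Opens) : Γ(M, i ⁻¹ᵁ W) →+ Γ(N, i ⁻¹ᵁ W) :=
  (φ.app W).hom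

lemma pre_mono {W' W : X.Opens} (h : W' ≤ W) : i ⁻¹ᵁ W' ≤ i ⁻¹ᵁ W := fun _ hz => h hz

lemma map_self {Y : Scheme.{u}} (P : TopCat.Presheaf Ab.{u} Y) {U : Y.Opens} (f : U ⟶ U)
    (s : P.obj (op U)) : P.map f.op s = s := by
  have : f = 𝟙 U := Subsingleton.elim _ _
  rw [this, op_id, P.map_id]
  rfl

lemma phiApp_res {W W' : X.Opens} (h : W' ≤ W) (s : Γ(M, i ⁻¹ᵁ W)) :
    phiApp i φ W' (M.presheaf.map (homOfLE (pre_mono i h)).op s) =
    N.presheaf.map (homOfLE (pre_mono i h)).op (phiApp i φ W s) :=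
  NatTrans.naturality_apply φ.mapPresheaf (homOfLE h).op s

lemma phiApp_smul (W : X.Opens) (r : Γ(X, W)) (s : Γ(M, i ⁻¹ᵁ W)) :
    phiApp i φ W ((i.app W r) • s) = (i.app W r) • phiApp i φ W s :=
  Scheme.Modules.Hom.app_smul φ r s


variable [IsClosedImmersion i]

/-- the candidate preimage on sections -/
noncomputable def psiFun (U : Z.Opens) : Γ(M, U) →+ Γ(N, U) :=
  (N.presheaf.map (homOfLE (le_preimage_T i U)).op).hom.comp
    ((phiApp i φ (T i U)).comp (M.presheaf.map (homOfLE (preimage_T_le i U)).op).hom)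

lemma psiFun_apply (U : Z.Opens) (s : Γ(M, U)) :
    psiFun i φ U s = N.presheaf.map (homOfLE (le_preimage_T i U)).op
      (phiApp i φ (T i U) (M.presheaf.map (homOfLE (preimage_T_le i U)).op s)) := rfl

/-- on preimages, `psiFun` is `φ` -/
lemma psiFun_preimage (W : X.Opens) (s : Γ(M, i ⁻¹ᵁ W)) :
    psiFun i φ (i ⁻¹ᵁ W) s = phiApp i φ W s := by
  rw [psiFun_apply]
  have h1 := phiApp_res i φ (le_T i W)
    (M.presheaf.map (homOfLE (preimage_T_le i (i ⁻¹ᵁ W))).op s)
  rw [map_map_apply M.presheaf _ _ (𝟙 _), map_self] at h1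
  exact h1.symm


lemma psiFun_res {U V : Z.Opens} (h : V ≤ U) (s : Γ(M, U)) :
    psiFun i φ V (M.presheaf.map (homOfLE h).op s) =
      N.presheaf.map (homOfLE h).op (psiFun i φ U s) := by
  rw [psiFun_apply, psiFun_apply]
  have h1 := phiApp_res i φ (T_mono i h) (M.presheaf.map (homOfLE (preimage_T_le i U)).op s)
  rw [map_map_apply M.presheaf _ _ (homOfLE ((preimage_T_le i V).trans h))] at h1
  rw [map_map_apply M.presheaf _ _ (homOfLE ((preimage_T_le i V).trans h)), h1,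
    map_map_apply N.presheaf _ _ (homOfLE (h.trans (le_preimage_T i U))),
    map_map_apply N.presheaf _ _ (homOfLE (h.trans (le_preimage_T i U)))]


lemma ring_map_map {Y : Scheme.{u}} {U V W : Y.Opens} (f : U ⟶ V) (g : V ⟶ W) (h : U ⟶ W)
    (s : Γ(Y, W)) : Y.presheaf.map f.op (Y.presheaf.map g.op s) = Y.presheaf.map h.op s := by
  rw [← CommRingCat.comp_apply, ← Y.presheaf.map_comp, ← op_comp]
  rfl

/-- local lifting of functions along a closed immersion -/
lemma exists_lift (U : Z.Opens) (r : Γ(Z, U)) (z : Z) (hz : z ∈ U) :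
    ∃ (V : X.Opens) (hV : i ⁻¹ᵁ V ≤ U) (r' : Γ(X, V)), i z ∈ V ∧
      i.app V r' = Z.presheaf.map (homOfLE hV).op r := by
  obtain ⟨t, ht⟩ := (inferInstance : SurjectiveOnStalks i).stalkMap_surjective z
    (Z.presheaf.germ U z hz r)
  obtain ⟨V₀, hzV₀, r₀, rfl⟩ := X.presheaf.exists_germ_eq (x := i z) t
  rw [Scheme.Hom.germ_stalkMap_apply] at ht
  obtain ⟨W', hzW', iU, iV, hW'⟩ := Z.presheaf.germ_eq z hzV₀ hz _ _ ht
  have hV : i ⁻¹ᵁ (V₀ ⊓ T i W') ≤ U := fun y hy => iV.le (preimage_T_le i W' hy.2)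
  refine ⟨V₀ ⊓ T i W', hV, X.presheaf.map (homOfLE inf_le_left).op r₀,
    ⟨hzV₀, le_preimage_T i W' hzW'⟩, ?_⟩
  have hle : i ⁻¹ᵁ (V₀ ⊓ T i W') ≤ W' := fun y hy => preimage_T_le i W' hy.2
  have n1 := congrArg (fun f => f r₀)
    (congrArg (fun f => f.hom) (i.naturality (homOfLE (inf_le_left : V₀ ⊓ T i W' ≤ V₀)).op))
  have h2 := congrArg (Z.presheaf.map (homOfLE hle).op) hW'
  rw [ring_map_map _ _ (homOfLE (pre_mono i (inf_le_left : V₀ ⊓ T i W' ≤ V₀))),
    ring_map_map _ _ (homOfLE hV)] at h2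
  rw [← h2]
  exact n1


lemma psiFun_smul (U : Z.Opens) (r : Γ(Z, U)) (m : Γ(M, U)) :
    psiFun i φ U (r • m) = r • psiFun i φ U m := by
  choose V hV r' hzV hr' using exists_lift i U r
  let G : TopCat.Sheaf Ab.{u} Z := ⟨N.presheaf, N.isSheaf⟩
  let ι := {z : Z // z ∈ U}
  refine G.eq_of_locally_eq' (fun z : ι => i ⁻¹ᵁ V z.1 z.2) U (fun z => homOfLE (hV z.1 z.2)) ?_
    _ _ ?_
  · intro z hz
    exact Opens.mem_iSup.2 ⟨⟨z, hz⟩, hzV z hz⟩
  · rintro ⟨z, hz⟩
    show N.presheaf.map _ _ = N.presheaf.map _ _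
    rw [← psiFun_res, Scheme.Modules.map_smul, Scheme.Modules.map_smul, ← psiFun_res, ← hr' z hz,
      psiFun_preimage, psiFun_preimage, phiApp_smul]


/-- the preimage of `φ` under `i_*` -/
noncomputable def preimage : M ⟶ N :=
  ⟨PresheafOfModules.homMk
    { app := fun U => AddCommGrpCat.ofHom (psiFun i φ U.unop)
      naturality := by
        intro U V f
        ext s
        exact psiFun_res i φ (leOfHom f.unop) s }
    (fun U r m => psiFun_smul i φ U.unop r m)⟩

lemma preimage_app (U : Z.Opens) (s : Γ(M, U)) :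
    (preimage i φ).app U s = psiFun i φ U s := rfl

theorem map_preimage : (Scheme.Modules.pushforward i).map (preimage i φ) = φ := by
  ext W s
  exact psiFun_preimage i φ W s

instance full_pushforward : (Scheme.Modules.pushforward i).Full where
  map_surjective φ := ⟨preimage i φ, map_preimage i φ⟩


lemma app_res {Y : Scheme.{u}} {A B : Y.Modules} (f : A ⟶ B) {U V : Y.Opens} (h : U ⟶ V)
    (s : Γ(A, V)) :
    f.app U (A.presheaf.map h.op s) = B.presheaf.map h.op (f.app V s) :=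
  NatTrans.naturality_apply f.mapPresheaf h.op s

instance faithful_pushforward : (Scheme.Modules.pushforward i).Faithful where
  map_injective {A B} f g h := by
    ext U s
    have h1 : ∀ t : Γ(A, i ⁻¹ᵁ T i U), f.app (i ⁻¹ᵁ T i U) t = g.app (i ⁻¹ᵁ T i U) t := by
      intro t
      exact congrArg (fun k : (Scheme.Modules.pushforward i).obj A ⟶
        (Scheme.Modules.pushforward i).obj B => k.app (T i U) t) h
    have key : ∀ k : A ⟶ B, k.app U s = B.presheaf.map (homOfLE (le_preimage_T i U)).op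
        (k.app (i ⁻¹ᵁ T i U) (A.presheaf.map (homOfLE (preimage_T_le i U)).op s)) := by
      intro k
      rw [← app_res, map_map_apply A.presheaf _ _ (𝟙 _), map_self]
    show f.app U s = g.app U s
    rw [key f, key g, h1]

/-- pushforward along a closed immersion reflects isomorphism classes -/
noncomputable def isoOfPushforwardIso {A B : Z.Modules}
    (e : (Scheme.Modules.pushforward i).obj A ≅ (Scheme.Modules.pushforward i).obj B) : A ≅ B :=
  (Scheme.Modules.pushforward i).preimageIso e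

end Groth.Agent.Lib.Helper17.ClImmFull
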