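import Mathlib
import Groth.Prelude.Def_DiffOp
import Groth.Agent.Lib.Helper5.DiffOp

/-!
# Divided-power differential operators: orders and the basis property (EGA IV 16.11.2)
-/

set_option autoImplicit false
set_option linter.style.haveILetI false
set_option linter.unusedSectionVars false

open scoped TensorProduct
open Groth.Agent.Lib.Helper5.DiffOp Diff16

namespace Groth.Agent.Lib.Helper17.DivPowOps

universe u

variable {A B : Type u} [CommRing A] [CommRing B] [Algebra A B]
  {ι : Type} [Fintype ι] [DecidableEq ι] (z : ι → B)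

/-- monomials in the `z i` -/
def mon (q : ι → ℕ) : B := ∏ i, z i ^ q i

/-- degree -/
def deg (q : ι → ℕ) : ℕ := ∑ i, q i

theorem mon_zero : mon z (0 : ι → ℕ) = 1 := by simp [mon]

theorem prod_update {M : Type*} [CommMonoid M] (f : ι → ℕ → M) (q : ι → ℕ) (i : ι) (v : ℕ) :
    ∏ j, f j (Function.update q i v j) = f i v * ∏ j ∈ Finset.univ.erase i, f j (q j) := by
  rw [← Finset.mul_prod_erase Finset.univ _ (Finset.mem_univ i), Function.update_self]
  congr 1
  refine Finset.prod_congr rfl (fun j hj => ?_)
  rw [Function.update_of_ne (Finset.ne_of_mem_erase hj)]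

theorem prod_split {M : Type*} [CommMonoid M] (f : ι → M) (i : ι) :
    ∏ j, f j = f i * ∏ j ∈ Finset.univ.erase i, f j :=
  (Finset.mul_prod_erase Finset.univ _ (Finset.mem_univ i)).symm

theorem mon_update_succ (q : ι → ℕ) (i : ι) :
    mon z (Function.update q i (q i + 1)) = z i * mon z q := by
  unfold mon
  rw [prod_update (fun j e => z j ^ e) q i (q i + 1), prod_split (fun j => z j ^ q j) i,
    pow_succ']
  ring

theorem deg_update_succ (q : ι → ℕ) (i : ι) :
    deg (Function.update q i (q i + 1)) = deg q + 1 := by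
  unfold deg
  have h1 := prod_update (M := Multiplicative ℕ) (fun _ e => Multiplicative.ofAdd e) q i (q i + 1)
  have h2 := prod_split (M := Multiplicative ℕ) (fun j => Multiplicative.ofAdd (q j)) i
  have h1' : ∑ j, Function.update q i (q i + 1) j =
      (q i + 1) + ∑ j ∈ Finset.univ.erase i, q j := by
    rw [← Finset.add_sum_erase Finset.univ _ (Finset.mem_univ i), Function.update_self]
    congr 1
    refine Finset.sum_congr rfl (fun j hj => ?_)
    rw [Function.update_of_ne (Finset.ne_of_mem_erase hj)]
  have h2' : ∑ j, q j = q i + ∑ j ∈ Finset.univ.erase i, q j :=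
    (Finset.add_sum_erase Finset.univ _ (Finset.mem_univ i)).symm
  rw [h1', h2']
  ring

section Uniq

variable {z}
variable (hz : Submodule.span B (Set.range fun i => KaehlerDifferential.D A B (z i)) = ⊤)
include hz

/-- a finite-order operator vanishing on all monomials is zero -/
theorem eq_zero_of_vanish_mon (m : ℕ) (E : B →ₗ[A] B) (hE : IsDiffOpLE A B B B m E)
    (h0 : ∀ q : ι → ℕ, E (mon z q) = 0) : E = 0 := by
  refine eq_zero_of_vanish_adjoin z hz m E hE fun c hc => ?_
  rw [Algebra.adjoin_range_eq_range_aeval] at hc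
  obtain ⟨P, rfl⟩ := hc
  change E (MvPolynomial.aeval z P) = 0
  induction P using MvPolynomial.induction_on' with
  | monomial q a =>
    rw [MvPolynomial.aeval_monomial, ← Algebra.smul_def, map_smul, Finsupp.prod_fintype]
    · have := h0 (fun i => q i)
      unfold mon at this
      rw [this, smul_zero]
    · intro i; exact pow_zero _
  | add P Q hP hQ => rw [map_add, map_add, hP, hQ, add_zero]

/-- Lemma V: an operator of order `≤ m` vanishing on the monomials of degree `≤ m` is zero. -/
theorem eq_zero_of_vanish_mon_le (m : ℕ) (E : B →ₗ[A] B) (hE : IsDiffOpLE A B B B m E)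
    (h0 : ∀ q : ι → ℕ, deg q ≤ m → E (mon z q) = 0) : E = 0 := by
  induction m generalizing E with
  | zero =>
    apply eq_zero_of_isDiffOpLE_zero hE
    have := h0 0 (by simp [deg])
    rwa [mon_zero] at this
  | succ m ih =>
    have hcomm : ∀ i, Diff16.commutator A B B B E (z i) = 0 := by
      intro i
      apply ih _ (hE (z i))
      intro q hq
      simp only [Diff16.commutator, LinearMap.sub_apply, LinearMap.comp_apply,
        LinearMap.restrictScalars_apply, LinearMap.lsmul_apply, smul_eq_mul]
      rw [← mon_update_succ, h0 _ (by rw [deg_update_succ]; omega), h0 _ (by omega), mul_zero,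
        sub_zero]
    have hzi : ∀ i b, E (z i * b) = z i * E b := by
      intro i b
      have := congrArg (fun f => f b) (hcomm i)
      simp only [Diff16.commutator, LinearMap.sub_apply, LinearMap.comp_apply,
        LinearMap.restrictScalars_apply, LinearMap.lsmul_apply, smul_eq_mul,
        LinearMap.zero_apply] at this
      exact sub_eq_zero.mp this
    -- the submonoid of elements commuting with E
    let S : Submonoid B :=
      { carrier := {c | ∀ b, E (c * b) = c * E b}
        one_mem' := fun b => by simp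
        mul_mem' := fun {c c'} hc hc' b => by
          rw [mul_assoc, hc, hc', mul_assoc] }
    have hS : ∀ q : ι → ℕ, mon z q ∈ S := fun q =>
      Submonoid.prod_mem S (fun i _ => Submonoid.pow_mem S (hzi i) _)
    have h1 : E 1 = 0 := by
      have := h0 0 (by simp [deg])
      rwa [mon_zero] at this
    apply eq_zero_of_vanish_mon hz (m + 1) E hE
    intro q
    have := hS q 1
    rw [mul_one] at this
    rw [this, h1, mul_zero]

end Uniq

section Order

variable {z}
variable (Dp : (ι → ℕ) → (B →ₗ[A] B))
  (hDz : ∀ p q : ι → ℕ, Dp p (mon z q) =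
    ((∏ i, Nat.choose (q i) (p i) : ℕ) : B) * mon z (fun i => q i - p i))

include hDz in
theorem comm_mon (p q : ι → ℕ) (i : ι) :
    Dp p (z i * mon z q) - z i * Dp p (mon z q) =
      if p i = 0 then 0 else Dp (Function.update p i (p i - 1)) (mon z q) := by
  rw [← mon_update_succ, hDz, hDz]
  set R1 : ℕ := ∏ j ∈ Finset.univ.erase i, Nat.choose (q j) (p j) with hR1
  set R2 : B := ∏ j ∈ Finset.univ.erase i, z j ^ (q j - p j) with hR2
  have e1 : (∏ j, Nat.choose (Function.update q i (q i + 1) j) (p j)) =
      Nat.choose (q i + 1) (p i) * R1 :=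
    prod_update (fun j e => Nat.choose e (p j)) q i (q i + 1)
  have e2 : mon z (fun j => Function.update q i (q i + 1) j - p j) =
      z i ^ (q i + 1 - p i) * R2 := by
    unfold mon
    exact prod_update (fun j e => z j ^ (e - p j)) q i (q i + 1)
  have e3 : (∏ j, Nat.choose (q j) (p j)) = Nat.choose (q i) (p i) * R1 :=
    prod_split (fun j => Nat.choose (q j) (p j)) i
  have e4 : mon z (fun j => q j - p j) = z i ^ (q i - p i) * R2 := by
    unfold mon
    exact prod_split (fun j => z j ^ (q j - p j)) i
  rw [e1, e2, e3, e4]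
  by_cases hpi : p i = 0
  · rw [if_pos hpi, hpi]
    simp only [Nat.choose_zero_right, Nat.sub_zero, one_mul, pow_succ']
    ring
  · rw [if_neg hpi, hDz]
    obtain ⟨t, ht⟩ := Nat.exists_eq_succ_of_ne_zero hpi
    have e5 : (∏ j, Nat.choose (q j) (Function.update p i (p i - 1) j)) =
        Nat.choose (q i) (p i - 1) * R1 := by
      rw [prod_split (fun j => Nat.choose (q j) (Function.update p i (p i - 1) j)) i,
        Function.update_self]
      congr 1
      refine Finset.prod_congr rfl (fun j hj => ?_)
      rw [Function.update_of_ne (Finset.ne_of_mem_erase hj)]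
    have e6 : mon z (fun j => q j - Function.update p i (p i - 1) j) =
        z i ^ (q i - (p i - 1)) * R2 := by
      unfold mon
      rw [prod_split (fun j => z j ^ (q j - Function.update p i (p i - 1) j)) i,
        Function.update_self]
      congr 1
      refine Finset.prod_congr rfl (fun j hj => ?_)
      rw [Function.update_of_ne (Finset.ne_of_mem_erase hj)]
    rw [e5, e6, ht]
    simp only [Nat.succ_eq_add_one, Nat.add_sub_cancel, Nat.add_sub_add_right]
    rw [Nat.choose_succ_succ']
    by_cases hq : t + 1 ≤ q i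
    · have : q i - t = (q i - (t + 1)) + 1 := by omega
      rw [this, pow_succ']
      push_cast
      ring
    · have hc : Nat.choose (q i) (t + 1) = 0 := Nat.choose_eq_zero_of_lt (by omega)
      rw [hc]
      push_cast
      ring

/-- pure ideal theory -/
theorem ideal_pow_le_of_le_sup_sq {R : Type*} [CommRing R] (I J₀ J : Ideal R) (s k : ℕ)
    (h1 : I ≤ J₀ ⊔ I ^ 2) (h2 : I ^ s * J₀ ≤ J) (h3 : I ^ (k + 1) ≤ J) : I ^ (s + 1) ≤ J := by
  have key : ∀ j : ℕ, I ^ (s + 1) ≤ J ⊔ I ^ (s + 1 + j) := by
    intro j
    induction j with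
    | zero => exact le_sup_right
    | succ j ih =>
      refine ih.trans (sup_le le_sup_left ?_)
      have e : I ^ (s + 1 + j) = I ^ (s + j) * I := by
        rw [← pow_succ]; congr 1; ring
      rw [e]
      calc I ^ (s + j) * I ≤ I ^ (s + j) * (J₀ ⊔ I ^ 2) := Ideal.mul_mono_right h1
        _ = I ^ (s + j) * J₀ ⊔ I ^ (s + j) * I ^ 2 := Ideal.mul_sup _ _ _
        _ ≤ J ⊔ I ^ (s + 1 + (j + 1)) := by
          refine sup_le_sup ?_ ?_
          · exact (Ideal.mul_mono_left (Ideal.pow_le_pow_right (Nat.le_add_right s j))).trans h2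
          · rw [← pow_add]
            apply le_of_eq
            congr 1
            ring
  refine (key k).trans (sup_le le_rfl ?_)
  exact (Ideal.pow_le_pow_right (by omega)).trans h3

variable (hz : Submodule.span B (Set.range fun i => KaehlerDifferential.D A B (z i)) = ⊤)
  (hD : ∀ p, ∃ k : ℕ, IsDiffOpLE A B B B k (Dp p))

include hz hD hDz

theorem commutator_eq (p : ι → ℕ) (i : ι) :
    Diff16.commutator A B B B (Dp p) (z i) =
      if p i = 0 then 0 else Dp (Function.update p i (p i - 1)) := by
  obtain ⟨k, hk⟩ := hD p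
  obtain ⟨k', hk'⟩ := hD (Function.update p i (p i - 1))
  have h1 : IsDiffOpLE A B B B (k + k') (Diff16.commutator A B B B (Dp p) (z i)) := by
    have : IsDiffOpLE A B B B (k + k' + 1) (Dp p) :=
      isDiffOpLE_of_le (by omega) hk
    exact this (z i)
  have h2 : IsDiffOpLE A B B B (k + k')
      (if p i = 0 then (0 : B →ₗ[A] B) else Dp (Function.update p i (p i - 1))) := by
    split_ifs
    · exact isDiffOpLE_zero _
    · exact isDiffOpLE_of_le (by omega) hk'
  have h3 := eq_zero_of_vanish_mon hz (k + k') _ (isDiffOpLE_sub h1 h2) (fun q => by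
    have := comm_mon Dp hDz p q i
    simp only [LinearMap.sub_apply, Diff16.commutator, LinearMap.comp_apply,
      LinearMap.restrictScalars_apply, LinearMap.lsmul_apply, smul_eq_mul]
    rw [this]
    split_ifs <;> simp)
  exact sub_eq_zero.mp h3

theorem order_le (p : ι → ℕ) : IsDiffOpLE A B B B (deg p) (Dp p) := by
  have main : ∀ (d : ℕ) (p : ι → ℕ), deg p = d → IsDiffOpLE A B B B d (Dp p) := by
    intro d
    induction d with
    | zero =>
      intro p hp
      -- all commutators vanish
      have hp0 : ∀ i, p i = 0 := by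
        intro i
        have : p i ≤ deg p := Finset.single_le_sum (f := p) (fun _ _ => Nat.zero_le _)
          (Finset.mem_univ i)
        omega
      obtain ⟨k, hk⟩ := hD p
      rw [isDiffOpLE_iff_pow_le] at hk ⊢
      have := ideal_pow_le_of_le_sup_sq (KaehlerDifferential.ideal A B)
        (Ideal.span (Set.range fun i => δ A B (z i))) (ann (Dp p)) 0 k
        (ideal_le_span_sup_sq z hz) (by
          rw [pow_zero, one_mul, Ideal.span_le]
          rintro _ ⟨i, rfl⟩
          show act A B B B (δ A B (z i)) (Dp p) = 0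
          rw [act_δ, commutator_eq Dp hDz hz hD p i, if_pos (hp0 i)]) hk
      exact this
    | succ d ih =>
      intro p hp
      obtain ⟨k, hk⟩ := hD p
      rw [isDiffOpLE_iff_pow_le] at hk ⊢
      refine ideal_pow_le_of_le_sup_sq (KaehlerDifferential.ideal A B)
        (Ideal.span (Set.range fun i => δ A B (z i))) (ann (Dp p)) (d + 1) k
        (ideal_le_span_sup_sq z hz) ?_ hk
      rw [Ideal.mul_le]
      intro x hx y hy
      induction hy using Submodule.span_induction with
      | mem y hy =>
        obtain ⟨i, rfl⟩ := hy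
        show act A B B B (x * δ A B (z i)) (Dp p) = 0
        rw [act_mul, act_δ, commutator_eq Dp hDz hz hD p i]
        split_ifs with hpi
        · rw [map_zero]
        · have hdeg : deg (Function.update p i (p i - 1)) = d := by
            have h1 := deg_update_succ (Function.update p i (p i - 1)) i
            rw [Function.update_self, Function.update_idem] at h1
            have : p i - 1 + 1 = p i := by omega
            rw [this, Function.update_eq_self] at h1
            omega
          have := ih _ hdeg
          rw [isDiffOpLE_iff_pow_le] at this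
          exact this hx
      | zero => rw [mul_zero]; exact Ideal.zero_mem _
      | add y y' _ _ hy hy' => rw [mul_add]; exact Ideal.add_mem _ hy hy'
      | smul r y _ hy =>
        rw [smul_eq_mul, mul_left_comm]
        exact Ideal.mul_mem_left _ _ hy
  exact main _ p rfl

end Order

section Basis

variable {z}
variable (m : ℕ)

/-- the index set of multi-indices of degree `≤ m` -/
abbrev Q (ι : Type) [Fintype ι] (m : ℕ) : Type := {p : ι → ℕ // ∑ i, p i ≤ m}

theorem Q_finite : Finite (Q ι m) := by
  refine Finite.of_injective (fun p : Q ι m => (fun i => (⟨p.1 i, ?_⟩ : Fin (m + 1)))) ?_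
  · have : p.1 i ≤ ∑ j, p.1 j := Finset.single_le_sum (f := p.1) (fun _ _ => Nat.zero_le _)
      (Finset.mem_univ i)
    have := p.2
    omega
  · intro p p' h
    apply Subtype.ext
    funext i
    have := congrFun h i
    exact congrArg Fin.val this

variable (z) in
/-- the transition matrix -/
noncomputable def T [Fintype (Q ι m)] : Matrix (Q ι m) (Q ι m) B :=
  fun q p => ((∏ i, Nat.choose (q.1 i) (p.1 i) : ℕ) : B) * mon z (fun i => q.1 i - p.1 i)

theorem T_self [Fintype (Q ι m)] (q : Q ι m) : T z m q q = 1 := by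
  simp [T, mon]

theorem T_eq_zero [Fintype (Q ι m)] (q p : Q ι m) (hne : q ≠ p) (hdeg : deg q.1 ≤ deg p.1) :
    T z m q p = 0 := by
  have : ∃ i, q.1 i < p.1 i := by
    by_contra hcon
    push Not at hcon
    have hle : ∀ i ∈ Finset.univ, p.1 i ≤ q.1 i := fun i _ => hcon i
    have hsum : deg p.1 ≤ deg q.1 := Finset.sum_le_sum hle
    have heq : deg p.1 = deg q.1 := le_antisymm hsum hdeg
    have := (Finset.sum_eq_sum_iff_of_le hle).mp heq
    apply hne
    apply Subtype.ext
    funext i
    exact (this i (Finset.mem_univ i)).symm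
  obtain ⟨i, hi⟩ := this
  have h0 : (∏ i, Nat.choose (q.1 i) (p.1 i)) = 0 :=
    Finset.prod_eq_zero (Finset.mem_univ i) (Nat.choose_eq_zero_of_lt hi)
  simp [T, h0]

theorem nil_pow_apply [Fintype (Q ι m)] [DecidableEq (Q ι m)] (k : ℕ) (q p : Q ι m)
    (h : deg q.1 < deg p.1 + k) : ((T z m - 1) ^ k) q p = 0 := by
  induction k generalizing q p with
  | zero =>
    rw [pow_zero]
    apply Matrix.one_apply_ne
    rintro rfl
    omega
  | succ k ih =>
    rw [pow_succ, Matrix.mul_apply]
    refine Finset.sum_eq_zero (fun r _ => ?_)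
    by_cases hr : deg r.1 ≤ deg p.1
    · have : (T z m - 1) r p = 0 := by
        by_cases hrp : r = p
        · subst hrp
          rw [Matrix.sub_apply, T_self, Matrix.one_apply_eq, sub_self]
        · rw [Matrix.sub_apply, T_eq_zero m r p hrp hr, Matrix.one_apply_ne hrp, sub_zero]
      rw [this, mul_zero]
    · rw [ih q r (by omega), zero_mul]

theorem T_isUnit [Fintype (Q ι m)] [DecidableEq (Q ι m)] : IsUnit (T z m) := by
  have hnil : IsNilpotent (T z m - 1) := by
    refine ⟨m + 1, ?_⟩
    ext q p
    rw [nil_pow_apply m (m + 1) q p (by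
      have := q.2
      unfold deg
      omega)]
    rfl
  have := hnil.isUnit_one_add
  rwa [add_sub_cancel] at this

end Basis

section Main

variable {z}
variable (Dp : (ι → ℕ) → (B →ₗ[A] B))
  (hDz : ∀ p q : ι → ℕ, Dp p (mon z q) =
    ((∏ i, Nat.choose (q i) (p i) : ℕ) : B) * mon z (fun i => q i - p i))
  (m : ℕ)

include hDz in
theorem apply_sum [Fintype (Q ι m)] (a : Q ι m → B) (q : Q ι m) :
    (∑ p, a p • Dp p.1) (mon z q.1) = (T z m).mulVec a q := by
  rw [LinearMap.sum_apply]
  unfold Matrix.mulVec dotProduct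
  refine Finset.sum_congr rfl (fun p _ => ?_)
  rw [LinearMap.smul_apply, hDz, smul_eq_mul]
  unfold T
  ring

variable (hz : Submodule.span B (Set.range fun i => KaehlerDifferential.D A B (z i)) = ⊤)
  (hD : ∀ p, ∃ k : ℕ, IsDiffOpLE A B B B k (Dp p))

include hz hD hDz

theorem exists_coeff [Fintype (Q ι m)] [DecidableEq (Q ι m)] (D : B →ₗ[A] B)
    (hDm : IsDiffOpLE A B B B m D) : ∃ a : Q ι m → B, D = ∑ p, a p • Dp p.1 := by
  obtain ⟨u, hu⟩ := T_isUnit (z := z) m
  let v : Q ι m → B := fun q => D (mon z q.1)
  refine ⟨(↑u⁻¹ : Matrix (Q ι m) (Q ι m) B).mulVec v, ?_⟩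
  set a := (↑u⁻¹ : Matrix (Q ι m) (Q ι m) B).mulVec v with ha
  have hTa : (T z m).mulVec a = v := by
    rw [ha, Matrix.mulVec_mulVec, ← hu, Units.mul_inv, Matrix.one_mulVec]
  have hS : IsDiffOpLE A B B B m (∑ p, a p • Dp p.1) := by
    refine Finset.sum_induction _ (fun E => IsDiffOpLE A B B B m E)
      (fun _ _ h h' => isDiffOpLE_add h h') (isDiffOpLE_zero _) (fun p _ => ?_)
    exact isDiffOpLE_smul (isDiffOpLE_of_le p.2 (order_le Dp hDz hz hD p.1)) _
  have hE : IsDiffOpLE A B B B m (D - ∑ p, a p • Dp p.1) := isDiffOpLE_sub hDm hS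
  have := eq_zero_of_vanish_mon_le hz m _ hE (fun q hq => by
    rw [LinearMap.sub_apply, apply_sum Dp hDz m a ⟨q, hq⟩, hTa]
    exact sub_self _)
  exact sub_eq_zero.mp this

omit hz hD in
theorem coeff_unique [Fintype (Q ι m)] [DecidableEq (Q ι m)] (a b : Q ι m → B)
    (h : ∑ p, a p • Dp p.1 = ∑ p, b p • Dp p.1) : a = b := by
  obtain ⟨u, hu⟩ := T_isUnit (z := z) m
  have hT : (T z m).mulVec a = (T z m).mulVec b := by
    funext q
    rw [← apply_sum Dp hDz m a q, ← apply_sum Dp hDz m b q, h]
  have := congrArg (fun w => (↑u⁻¹ : Matrix (Q ι m) (Q ι m) B).mulVec w) hT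
  simpa only [Matrix.mulVec_mulVec, ← hu, Units.inv_mul, Matrix.one_mulVec] using this

theorem main :
    (∀ p, IsDiffOpLE A B B B (∑ i, p i) (Dp p)) ∧
      ∀ (m : ℕ) (D : B →ₗ[A] B), IsDiffOpLE A B B B m D →
        ∃! a : {p : ι → ℕ // ∑ i, p i ≤ m} →₀ B, D = a.sum fun p c => c • Dp p.1 := by
  refine ⟨fun p => order_le Dp hDz hz hD p, fun m D hDm => ?_⟩
  haveI := Q_finite (ι := ι) m
  letI := Fintype.ofFinite (Q ι m)
  classical
  have hsum : ∀ a : Q ι m →₀ B, (a.sum fun p c => c • Dp p.1) = ∑ p, a p • Dp p.1 := by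
    intro a
    rw [Finsupp.sum_fintype]
    intro i
    exact zero_smul _ _
  obtain ⟨a, ha⟩ := exists_coeff Dp hDz m hz hD D hDm
  refine ⟨Finsupp.equivFunOnFinite.symm a, ?_, ?_⟩
  · show D = _
    rw [hsum, ha]
    rfl
  · intro b hb
    change D = _ at hb
    rw [hsum] at hb
    have := coeff_unique Dp hDz m (fun p => b p) a (hb.symm.trans ha)
    ext p
    exact congrFun this p

end Main

end Groth.Agent.Lib.Helper17.DivPowOps
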