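import Mathlib

/-!
# Annihilators of finitely generated ideals commute with flat base change
-/

namespace Groth.Agent.Lib.Helper17.AnnFlat

open TensorProduct

universe u v

theorem mem_annihilator_smul_top {T : Type u} [CommRing T] {F : Type v} [AddCommGroup F]
    [Module T F] [Module.Flat T F] {ι : Type*} [Fintype ι] [DecidableEq ι] (x : ι → T) (w : F)
    (hw : ∀ i, x i • w = 0) :
    w ∈ (Ideal.span (Set.range x)).annihilator • (⊤ : Submodule T F) := by
  let g : T →ₗ[T] (ι → T) := LinearMap.pi (fun i => LinearMap.mul T T (x i))
  let C : Ideal T := LinearMap.ker g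
  have hC : C ≤ (Ideal.span (Set.range x)).annihilator := by
    intro c hc
    rw [Submodule.mem_annihilator_span]
    rintro ⟨_, i, rfl⟩
    have : g c i = 0 := by rw [LinearMap.mem_ker.mp hc]; rfl
    show c * x i = 0
    rw [mul_comm]
    exact this
  have hex : Function.Exact (C.subtype.lTensor F) (g.lTensor F) :=
    Module.Flat.lTensor_exact F (LinearMap.exact_subtype_ker_map g)
  have h0 : (g.lTensor F) (w ⊗ₜ[T] (1 : T)) = 0 := by
    rw [LinearMap.lTensor_tmul]
    have : g 1 = ∑ i, x i • (Pi.single i (1 : T) : ι → T) := by
      ext j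
      simp [g, Finset.sum_apply, Pi.single_apply]
    rw [this, TensorProduct.tmul_sum]
    refine Finset.sum_eq_zero (fun i _ => ?_)
    rw [TensorProduct.tmul_smul, TensorProduct.smul_tmul', hw i, TensorProduct.zero_tmul]
  obtain ⟨z, hz⟩ := (hex _).1 h0
  have key : ∀ z : F ⊗[T] C, TensorProduct.rid T F ((C.subtype.lTensor F) z) ∈
      C • (⊤ : Submodule T F) := by
    intro z
    induction z using TensorProduct.induction_on with
    | zero => simp
    | tmul x c =>
      rw [LinearMap.lTensor_tmul, TensorProduct.rid_tmul]
      exact Submodule.smul_mem_smul c.2 trivial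
    | add a b ha hb =>
      rw [map_add, map_add]
      exact Submodule.add_mem _ ha hb
  have := key z
  rw [hz, TensorProduct.rid_tmul, one_smul] at this
  exact Submodule.smul_mono_left hC this

theorem annihilator_map_of_flat {T T' : Type*} [CommRing T] [CommRing T'] [Algebra T T']
    [Module.Flat T T'] (I : Ideal T) (hI : I.FG) :
    (I.map (algebraMap T T')).annihilator = I.annihilator.map (algebraMap T T') := by
  classical
  apply le_antisymm
  · obtain ⟨s, rfl⟩ := hI
    intro w hw
    have h1 : ∀ i : s, (i : T) • w = 0 := by
      intro i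
      rw [Algebra.smul_def, mul_comm]
      have := Submodule.mem_annihilator.mp hw (algebraMap T T' i)
        (Ideal.mem_map_of_mem _ (Ideal.subset_span i.2))
      exact this
    have h2 := mem_annihilator_smul_top (F := T') (fun i : s => (i : T)) w h1
    have h3 : Set.range (fun i : s => (i : T)) = (s : Set T) := Subtype.range_coe
    rw [h3] at h2
    have h4 := Ideal.smul_top_eq_map (R := T) (S := T') (Ideal.span (s : Set T)).annihilator
    rw [h4] at h2
    exact h2
  · rw [Ideal.map_le_iff_le_comap]
    intro a ha
    rw [Ideal.mem_comap, Ideal.map, Submodule.mem_annihilator_span]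
    rintro ⟨_, y, hy, rfl⟩
    show algebraMap T T' a * algebraMap T T' y = 0
    rw [← map_mul]
    have : a * y = 0 := Submodule.mem_annihilator.mp ha y hy
    rw [this, map_zero]

end Groth.Agent.Lib.Helper17.AnnFlat
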