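import Mathlib
import Groth.Prelude.Def_Disc
import Groth.Agent.Lib.Helper17.AnnFlat

/-!
# Transfer of the Noether different along flat maps of `B ⊗ B`
-/

set_option linter.style.haveILetI false

namespace Groth.Agent.Lib.Helper17.DiscTransfer

open TensorProduct

universe u

theorem noetherDifferent_transfer {A B A' B' : Type u} [CommRing A] [CommRing B] [CommRing A']
    [CommRing B'] [Algebra A B] [Algebra A' B']
    (ψ : B →+* B') (φ : B ⊗[A] B →+* B' ⊗[A'] B')
    (h1 : ∀ x, Algebra.TensorProduct.lmul' (S := B') A' (φ x) =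
      ψ (Algebra.TensorProduct.lmul' (S := B) A x))
    (hflat : φ.Flat)
    (hfg : (RingHom.ker (Algebra.TensorProduct.lmul' (S := B) A)).FG)
    (h3 : ∀ b' : B', (1 : B') ⊗ₜ[A'] b' - b' ⊗ₜ[A'] (1 : B') ∈
      (RingHom.ker (Algebra.TensorProduct.lmul' (S := B) A)).map φ) :
    Disc.noetherDifferent A' B' = (Disc.noetherDifferent A B).map ψ := by
  have hker : RingHom.ker (Algebra.TensorProduct.lmul' (S := B') A') =
      (RingHom.ker (Algebra.TensorProduct.lmul' (S := B) A)).map φ := by
    apply le_antisymm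
    · have := KaehlerDifferential.span_range_eq_ideal A' B'
      show KaehlerDifferential.ideal A' B' ≤ _
      rw [← this, Ideal.span_le]
      rintro _ ⟨b', rfl⟩
      exact h3 b'
    · rw [Ideal.map_le_iff_le_comap]
      intro x hx
      rw [Ideal.mem_comap, RingHom.mem_ker, h1, (RingHom.mem_ker).mp hx, map_zero]
  letI := φ.toAlgebra
  haveI : Module.Flat (B ⊗[A] B) (B' ⊗[A'] B') := hflat
  have hann := Groth.Agent.Lib.Helper17.AnnFlat.annihilator_map_of_flat
    (T := B ⊗[A] B) (T' := B' ⊗[A'] B') _ hfg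
  have hφ : algebraMap (B ⊗[A] B) (B' ⊗[A'] B') = φ := rfl
  rw [hφ] at hann
  unfold Disc.noetherDifferent
  rw [hker, hann]
  show Ideal.map (Algebra.TensorProduct.lmul' (S := B') A' : B' ⊗[A'] B' →+* B')
    (Ideal.map φ _) = Ideal.map ψ (Ideal.map (Algebra.TensorProduct.lmul' (S := B) A :
      B ⊗[A] B →+* B) _)
  rw [Ideal.map_map, Ideal.map_map]
  congr 1
  exact RingHom.ext h1

end Groth.Agent.Lib.Helper17.DiscTransfer
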