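import Mathlib
import Groth.Prelude.Def_Disc
import Groth.Agent.Lib.Helper17.DiscTransfer

/-!
# Noether different and flat epimorphisms / open immersions
-/

set_option linter.style.haveILetI false

namespace Groth.Agent.Lib.Helper17.DiscTransfer

open TensorProduct AlgebraicGeometry CategoryTheory

universe u

theorem noetherDifferent_of_flat_epi {A B₀ B₁ : Type u} [CommRing A] [CommRing B₀] [CommRing B₁]
    [Algebra A B₀] [Algebra A B₁] [Algebra B₀ B₁] [IsScalarTower A B₀ B₁]
    [Algebra.FiniteType A B₀] [Module.Flat B₀ B₁]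
    (hepi : ∀ (R : Type u) [CommRing R] (g h : B₁ →+* R),
      g.comp (algebraMap B₀ B₁) = h.comp (algebraMap B₀ B₁) → g = h) :
    Disc.noetherDifferent A B₁ = (Disc.noetherDifferent A B₀).map (algebraMap B₀ B₁) := by
  let f : B₀ →ₐ[A] B₁ := IsScalarTower.toAlgHom A B₀ B₁
  have hf : f.toRingHom.Flat := by
    show (algebraMap B₀ B₁).Flat
    rw [RingHom.flat_algebraMap_iff]
    infer_instance
  have hflat : (Algebra.TensorProduct.map f f).toRingHom.Flat :=
    RingHom.Flat.tensorProductMap (R := A) (S := A) hf hf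
  refine noetherDifferent_transfer (algebraMap B₀ B₁) (Algebra.TensorProduct.map f f).toRingHom
    ?_ hflat (KaehlerDifferential.ideal_fg A B₀) ?_
  · intro x
    induction x using TensorProduct.induction_on with
    | zero => simp
    | tmul a b =>
      show Algebra.TensorProduct.lmul' A (Algebra.TensorProduct.map f f (a ⊗ₜ b)) = _
      simp [f]
    | add x y hx hy =>
      simp only [map_add] at hx hy ⊢
      rw [hx, hy]
  · intro b'
    set I : Ideal (B₁ ⊗[A] B₁) := (RingHom.ker (Algebra.TensorProduct.lmul' (S := B₀) A)).map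
      (Algebra.TensorProduct.map f f).toRingHom with hI
    have key := hepi (B₁ ⊗[A] B₁ ⧸ I)
      ((Ideal.Quotient.mk I).comp (Algebra.TensorProduct.includeRight (R := A) (A := B₁) (B := B₁)).toRingHom)
      ((Ideal.Quotient.mk I).comp (Algebra.TensorProduct.includeLeft (R := A) (S := A) (A := B₁) (B := B₁)).toRingHom)
      (by
        ext b
        simp only [RingHom.comp_apply]
        rw [Ideal.Quotient.eq]
        show (1 : B₁) ⊗ₜ[A] (algebraMap B₀ B₁ b) - (algebraMap B₀ B₁ b) ⊗ₜ[A] (1 : B₁) ∈ I
        have h1 : (1 : B₀) ⊗ₜ[A] b - b ⊗ₜ[A] (1 : B₀) ∈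
            RingHom.ker (Algebra.TensorProduct.lmul' (S := B₀) A) :=
          KaehlerDifferential.one_smul_sub_smul_one_mem_ideal A b
        have h2 := Ideal.mem_map_of_mem (Algebra.TensorProduct.map f f).toRingHom h1
        have h3 : (Algebra.TensorProduct.map f f).toRingHom
            ((1 : B₀) ⊗ₜ[A] b - b ⊗ₜ[A] (1 : B₀)) =
            (1 : B₁) ⊗ₜ[A] (algebraMap B₀ B₁ b) - (algebraMap B₀ B₁ b) ⊗ₜ[A] (1 : B₁) := by
          simp [f]
        rw [← h3]
        exact h2)
    have := congrArg (fun g => g b') key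
    simp only [RingHom.comp_apply] at this
    rw [Ideal.Quotient.eq] at this
    exact this

theorem noetherDifferent_openImmersion {A B' B : Type u} [CommRing A] [CommRing B']
    [CommRing B] [Algebra A B'] [Algebra A B] [Algebra B' B] [IsScalarTower A B' B]
    [Algebra.FiniteType A B']
    (h : IsOpenImmersion (Spec.map (CommRingCat.ofHom (algebraMap B' B)))) :
    Disc.noetherDifferent A B = (Disc.noetherDifferent A B').map (algebraMap B' B) := by
  haveI : Module.Flat B' B := by
    have h1 : Flat (Spec.map (CommRingCat.ofHom (algebraMap B' B))) := inferInstance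
    rw [HasRingHomProperty.Spec_iff (P := @Flat)] at h1
    exact RingHom.flat_algebraMap_iff.mp h1
  apply noetherDifferent_of_flat_epi
  intro R _ g k hgk
  have h1 : Spec.map (CommRingCat.ofHom g) ≫ Spec.map (CommRingCat.ofHom (algebraMap B' B)) =
      Spec.map (CommRingCat.ofHom k) ≫ Spec.map (CommRingCat.ofHom (algebraMap B' B)) := by
    rw [← Spec.map_comp, ← Spec.map_comp, ← CommRingCat.ofHom_comp, ← CommRingCat.ofHom_comp, hgk]
  have h2 := (cancel_mono _).mp h1
  have h3 := Spec.map_injective h2
  exact congrArg CommRingCat.Hom.hom h3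

end Groth.Agent.Lib.Helper17.DiscTransfer
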