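import Mathlib
import Groth.Agent.Helper19.ClImmUnit
import Groth.Agent.Lib.Helper29.ProjF1
import Groth.Agent.Lib.Helper12.ModLim5

/-!
# The unit `G ⟶ i_* i^* G` of a closed immersion: surjectivity and kernel on affine opens
-/

set_option autoImplicit false
set_option maxHeartbeats 4000000
set_option synthInstance.maxHeartbeats 400000
set_option backward.isDefEq.respectTransparency.types true
set_option maxRecDepth 8000

universe u

open CategoryTheory Limits AlgebraicGeometry TopologicalSpace Opposite TensorProduct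

namespace Groth.Agent.Lib.Helper17.AmpGlue

open Groth.Agent.Lib.Helper29.QCoh Groth.Agent.Helper19.PullUnit

variable {Z X : Scheme.{u}} (i : Z ⟶ X) [IsClosedImmersion i] (G : X.Modules)

theorem one_tmul_surjective {A B M : Type*} [CommRing A] [CommRing B] [Algebra A B]
    [AddCommGroup M] [Module A M] (hs : Function.Surjective (algebraMap A B)) :
    Function.Surjective (fun m : M => (1 : B) ⊗ₜ[A] m) := by
  intro t
  induction t using TensorProduct.induction_on with
  | zero => exact ⟨0, by simp⟩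
  | tmul b m =>
    obtain ⟨a, rfl⟩ := hs b
    refine ⟨a • m, ?_⟩
    change (1 : B) ⊗ₜ[A] (a • m) = algebraMap A B a ⊗ₜ[A] m
    rw [TensorProduct.tmul_smul, TensorProduct.smul_tmul', Algebra.smul_def, mul_one]
  | add x y hx hy =>
    obtain ⟨m, hm⟩ := hx
    obtain ⟨m', hm'⟩ := hy
    refine ⟨m + m', ?_⟩
    change (1 : B) ⊗ₜ[A] (m + m') = x + y
    rw [TensorProduct.tmul_add]
    exact congrArg₂ (· + ·) hm hm'

/-- on an affine open, the unit is `m ↦ 1 ⊗ m` up to a linear equivalence: surjectivity and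
description of the kernel -/
theorem unit_app_facts [G.IsQuasicoherent] (U : X.affineOpens) :
    Function.Surjective (((Scheme.Modules.pullbackPushforwardAdjunction i).unit.app G).app U.1) ∧
    ∀ m : Γ(G, U.1), ((Scheme.Modules.pullbackPushforwardAdjunction i).unit.app G).app U.1 m = 0 →
      m ∈ (i.ker.ideal U) • (⊤ : Submodule Γ(X, U.1) Γ(G, U.1)) := by
  have hV : IsAffineOpen (i ⁻¹ᵁ U.1) := U.2.preimage i
  letI alg := (i.appLE U.1 (i ⁻¹ᵁ U.1) le_rfl).hom.toAlgebra
  have happ : (i.appLE U.1 (i ⁻¹ᵁ U.1) le_rfl) = i.app U.1 :=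
    (Scheme.Hom.app_eq_appLE _).symm
  have hs : Function.Surjective
      (algebraMap Γ(X, U.1) Γ(Z, i ⁻¹ᵁ U.1)) := by
    change Function.Surjective (i.appLE U.1 (i ⁻¹ᵁ U.1) le_rfl).hom
    rw [happ]
    exact i.app_surjective U.1 U.2
  have hk : RingHom.ker (algebraMap Γ(X, U.1) Γ(Z, i ⁻¹ᵁ U.1)) ≤ i.ker.ideal U := by
    change RingHom.ker (i.appLE U.1 (i ⁻¹ᵁ U.1) le_rfl).hom ≤ _
    rw [happ, ← Scheme.Hom.ker_apply]
  have key : ∀ m : Γ(G, U.1),
      pullbackSectionsEquiv i G hV U.2 le_rfl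
        (pullSect i G U.1 m) =
        (1 : Γ(Z, i ⁻¹ᵁ U.1)) ⊗ₜ[Γ(X, U.1)] m := by
    intro m
    have h := Groth.Agent.Helper19.PullUnit.pullbackSectionsEquiv_pullSect i G hV U.2
      le_rfl m
    have h' : res ((Scheme.Modules.pullback i).obj G) le_rfl
        (pullSect i G U.1 m) = pullSect i G U.1 m := res_self _ _
    have h2 : pullbackSectionsEquiv i G hV U.2 le_rfl
        (res ((Scheme.Modules.pullback i).obj G) le_rfl
          (pullSect i G U.1 m)) =
        (1 : Γ(Z, i ⁻¹ᵁ U.1)) ⊗ₜ[Γ(X, U.1)] m := h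
    rw [h'] at h2
    exact h2
  constructor
  · change Function.Surjective (fun m => pullSect i G U.1 m)
    intro t
    obtain ⟨m, hm⟩ := one_tmul_surjective (M := Γ(G, U.1)) hs
      (pullbackSectionsEquiv i G hV U.2 le_rfl t)
    refine ⟨m, ?_⟩
    apply (pullbackSectionsEquiv i G hV U.2 le_rfl).injective
    rw [key m]
    exact hm
  · intro m hm
    have h0 : pullSect i G U.1 m = 0 := hm
    have h1 : (1 : Γ(Z, i ⁻¹ᵁ U.1)) ⊗ₜ[Γ(X, U.1)] m = 0 := by
      rw [← key m, h0, map_zero]
    have h2 := Groth.Agent.Helper19.PullNat.mem_smul_top_of_one_tmul_eq_zero hs m h1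
    exact Submodule.smul_mono_left hk h2

theorem epi_unit [G.IsQuasicoherent] :
    Epi ((Scheme.Modules.pullbackPushforwardAdjunction i).unit.app G) :=
  Groth.Agent.Lib.Helper29.QCoh.ProjF.epi_of_app_surjective_affine _ (fun U hU => (unit_app_facts i G ⟨U, hU⟩).1)

end Groth.Agent.Lib.Helper17.AmpGlue
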