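import Mathlib
import Groth.Agent.Lib.Helper17.AG1
import Groth.Agent.Lib.Helper12.Fin14
import Groth.Agent.Lib.Helper12.Dev2
import Groth.Agent.Lib.Lead.TwistExact
import Groth.Agent.Lib.Lead.Koszul.ClosedSub
import Groth.Agent.Lib.Lead.Koszul.HHBasic
import Groth.Agent.Lib.Lead.Pn.TwistZero
import Groth.Agent.Lib.Helper29.PullTensor
import Groth.Agent.Lib.Helper29.TensorIso
import Groth.Agent.S0051

/-!
# Ampleness from ampleness on two closed subschemes `V(I)`, `V(J)` with `I J = 0`
-/

set_option autoImplicit false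
set_option maxHeartbeats 4000000
set_option synthInstance.maxHeartbeats 400000
set_option backward.isDefEq.respectTransparency.types false

universe u

open CategoryTheory Limits AlgebraicGeometry TopologicalSpace Opposite

namespace Groth.Agent.Lib.Helper17.AmpGlue

open Groth.Agent.Lib.Helper29.QCoh Groth.Agent.Lib.Lead.TwistExact

variable {Z X : Scheme.{u}}

/-- Serre vanishing on `X` for direct images of coherent modules from a closed subscheme on which
`L` is ample -/
theorem exists_vanishing_push (A : Type u) [CommRing A] [IsNoetherianRing A]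
    (f : X ⟶ Spec (CommRingCat.of A)) [IsProper f]
    (ι : Z ⟶ X) [IsClosedImmersion ι] (L : X.Modules) (hL : PicF.IsInvertible L)
    (hιL : CohB1.IsAmple ((Scheme.Modules.pullback ι).obj L)) (G : Z.Modules) (hG : Coh.IsCoh G) :
    ∃ n₀ : ℕ, ∀ n : ℕ, n₀ ≤ n → ∀ q : ℕ, Subsingleton (Coh.HH X
      (CohB1.tensorMod ((Scheme.Modules.pushforward ι).obj G) (CohB1.tensorPow L n)) (q + 1)) := by
  haveI : IsProper (ι ≫ f) := inferInstance
  obtain ⟨n₀, h⟩ := Groth.Agent.Lib.Helper12.H12Fin.serre_vanishing_of_isAmple A (ι ≫ f) _ hιL G hG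
  refine ⟨n₀, fun n hn q => ?_⟩
  have hLn : PicF.IsInvertible (CohB1.tensorPow L n) := isInvertible_tensorPow hL n
  have hLnf : FlatMod.IsFinLocFree (CohB1.tensorPow L n) :=
    isFinLocFree_of_isFinLocFreeOfRank ((isInvertible_iff_isFinLocFreeOfRank_one _).mp hLn)
  haveI : (CohB1.tensorPow L n).IsQuasicoherent := isQuasicoherent_of_isInvertible hLn
  haveI := hG.1
  refine (Groth.Agent.Lib.Lead.Koszul.subsingleton_HH_iff_push ι (CohB1.tensorPow L n) hLnf G
    (q + 1)).1 ?_
  obtain ⟨e⟩ := nonempty_pullbackTensorPowIso ι hL n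
  exact Groth.Agent.Lib.Lead.Pn.subsingleton_HH_of_iso (tensorCongr (Iso.refl G) e.symm) (q + 1)
    (h n hn q)

/-- the kernel of the unit `M ⟶ j_* j^* M` for `j : V(J) → X` is killed by `I` when `I J = 0` -/
theorem kernel_killed_aux (I J : X.IdealSheafData) (hIJ : I * J = ⊥) (M N : X.Modules)
    (η : M ⟶ N) (U : X.affineOpens)
    (hη : ∀ m : Γ(M, U.1), η.app U.1 m = 0 →
      m ∈ (J.ideal U) • (⊤ : Submodule Γ(X, U.1) Γ(M, U.1)))
    (a : Γ(X, U.1)) (ha : a ∈ I.ideal U)
    (s : Γ(kernel η, U.1)) :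
    a • s = 0 := by
  apply Groth.Agent.Lib.Helper12.H12ModLim.app_injective_of_mono (kernel.ι η) U.1
  rw [map_zero, Scheme.Modules.Hom.app_smul]
  have h0 : η.app U.1 ((kernel.ι η).app U.1 s) = 0 := by
    have h1 := congrArg (fun φ : kernel η ⟶ _ => φ.app U.1 s) (kernel.condition η)
    exact h1
  have h2 := hη _ h0
  have key : ∀ m ∈ J.ideal U • (⊤ : Submodule Γ(X, U.1) Γ(M, U.1)), a • m = 0 := by
    intro m hm
    refine Submodule.smul_induction_on hm (fun j hj m' _ => ?_) (fun x y hx hy => ?_)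
    · have hz : a * j = 0 := by
        have h3 : a * j ∈ (I * J).ideal U := by
          rw [Scheme.IdealSheafData.ideal_mul]
          exact Ideal.mul_mem_mul ha hj
        rw [hIJ, Scheme.IdealSheafData.ideal_bot] at h3
        exact h3
      rw [smul_smul, hz, zero_smul]
    · rw [smul_add, hx, hy, add_zero]
  exact key _ h2

theorem kernel_unit_killed (I J : X.IdealSheafData) (hIJ : I * J = ⊥) (M : X.Modules)
    [M.IsQuasicoherent] (U : X.affineOpens) (a : Γ(X, U.1)) (ha : a ∈ I.ideal U)
    (s : Γ(kernel ((Scheme.Modules.pullbackPushforwardAdjunction J.subschemeι).unit.app M), U.1)) :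
    a • s = 0 := by
  refine kernel_killed_aux I J hIJ M _ _ U (fun m hm => ?_) a ha s
  have h2 := (unit_app_facts J.subschemeι M U).2 m hm
  rw [Scheme.IdealSheafData.ker_subschemeι] at h2
  exact h2

theorem isAmple_of_mul_eq_bot (A : Type u) [CommRing A] [IsNoetherianRing A]
    (f : X ⟶ Spec (CommRingCat.of A)) [IsProper f] (L : X.Modules) (hL : PicF.IsInvertible L)
    (I J : X.IdealSheafData) (hIJ : I * J = ⊥)
    (hI : CohB1.IsAmple ((Scheme.Modules.pullback I.subschemeι).obj L))
    (hJ : CohB1.IsAmple ((Scheme.Modules.pullback J.subschemeι).obj L)) :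
    CohB1.IsAmple L := by
  haveI : IsLocallyNoetherian X := LocallyOfFiniteType.isLocallyNoetherian f
  rw [Groth.Agent.S0051.result A X f L hL]
  intro M hM
  haveI := hM.1
  haveI := hM.2
  set η := (Scheme.Modules.pullbackPushforwardAdjunction J.subschemeι).unit.app M with hη
  haveI : Epi η := epi_unit J.subschemeι M
  -- coherence
  have hc1 : Coh.IsCoh ((Scheme.Modules.pullback J.subschemeι).obj M) :=
    ⟨isQuasicoherent_pullback _ M, isFiniteType_pullback _ M⟩
  haveI := hc1.1
  haveI := hc1.2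
  have hc3 : Coh.IsCoh ((Scheme.Modules.pushforward J.subschemeι).obj
      ((Scheme.Modules.pullback J.subschemeι).obj M)) :=
    ⟨isQuasicoherent_pushforward_of_isAffineHom _ _, isFiniteType_pushforward_of_isFinite _ _⟩
  have hcK : Coh.IsCoh (kernel η) := Groth.Agent.Lib.Helper12.H12Dev.isCoh_kernel η hM hc3
  haveI := hcK.1
  haveI := hcK.2
  -- the kernel comes from `V(I)`
  haveI : IsIso ((Scheme.Modules.pullbackPushforwardAdjunction I.subschemeι).unit.app (kernel η)) :=
    Groth.Agent.Helper19.ClImmUnit.isIso_unit_of_killed I.subschemeι (kernel η)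
      (fun U a ha s => kernel_unit_killed I J hIJ M U a
        (by rw [Scheme.IdealSheafData.ker_subschemeι] at ha; exact ha) s)
  have hcK' : Coh.IsCoh ((Scheme.Modules.pullback I.subschemeι).obj (kernel η)) :=
    ⟨isQuasicoherent_pullback _ _, isFiniteType_pullback _ _⟩
  obtain ⟨n₁, h₁⟩ := exists_vanishing_push A f I.subschemeι L hL hI _ hcK'
  obtain ⟨n₃, h₃⟩ := exists_vanishing_push A f J.subschemeι L hL hJ _ hc1
  refine ⟨max n₁ n₃, fun n hn p hp => ?_⟩
  obtain ⟨q, rfl⟩ : ∃ q, p = q + 1 := ⟨p - 1, by omega⟩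
  -- the short exact sequence
  let S : ShortComplex X.Modules := ShortComplex.mk (kernel.ι η) η (kernel.condition η)
  have hS : S.ShortExact := by
    haveI : Mono S.f := inferInstanceAs (Mono (kernel.ι η))
    haveI : Epi S.g := inferInstanceAs (Epi η)
    exact ShortComplex.ShortExact.mk (ShortComplex.exact_of_f_is_kernel _ (kernelIsKernel _))
  have hLn : PicF.IsInvertible (CohB1.tensorPow L n) := isInvertible_tensorPow hL n
  have hS' := shortExact_map_tensorRight (isFlat_of_isInvertible hLn) S hS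
  have e1 := asIso ((Scheme.Modules.pullbackPushforwardAdjunction I.subschemeι).unit.app (kernel η))
  have hX₁ : Subsingleton (Coh.HH X (S.map (tensorRight (CohB1.tensorPow L n))).X₁ (q + 1)) :=
    Groth.Agent.Lib.Lead.Pn.subsingleton_HH_of_iso
      (tensorCongr e1.symm (Iso.refl (CohB1.tensorPow L n))) (q + 1)
      (h₁ n (le_trans (le_max_left _ _) hn) q)
  have hX₃ : Subsingleton (Coh.HH X (S.map (tensorRight (CohB1.tensorPow L n))).X₃ (q + 1)) :=
    h₃ n (le_trans (le_max_right _ _) hn) q
  exact Groth.Agent.Lib.Lead.Koszul.subsingleton_HH_X₂ _ hS' (q + 1) hX₁ hX₃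

end Groth.Agent.Lib.Helper17.AmpGlue
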