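import Mathlib
import Groth.Agent.Lib.Helper17.AG2

/-!
# Ampleness from ampleness on closed subschemes `V(I₁), …, V(Iₙ)` with `I₁ ⋯ Iₙ = 0`,
and ampleness on irreducible components
-/

set_option autoImplicit false
set_option maxHeartbeats 4000000
set_option synthInstance.maxHeartbeats 400000
set_option backward.isDefEq.respectTransparency.types false

universe u

open CategoryTheory Limits AlgebraicGeometry TopologicalSpace Opposite

namespace Groth.Agent.Lib.Helper17.AmpGlue

open Groth.Agent.Lib.Helper29.QCoh Groth.Agent.Lib.Lead.TwistExact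

variable {X : Scheme.{u}}

/-- `M` is killed by the ideal sheaf `K` -/
def Killed (K : X.IdealSheafData) (M : X.Modules) : Prop :=
  ∀ (U : X.affineOpens) (a : Γ(X, U.1)), a ∈ K.ideal U → ∀ s : Γ(M, U.1), a • s = 0

/-- Serre vanishing for `M` with respect to `L` -/
def Vanishes (L M : X.Modules) : Prop :=
  ∃ n₀ : ℕ, ∀ n : ℕ, n₀ ≤ n → ∀ q : ℕ,
    Subsingleton (Coh.HH X (CohB1.tensorMod M (CohB1.tensorPow L n)) (q + 1))

theorem isCoh_kernel_unit [IsLocallyNoetherian X] (I : X.IdealSheafData) (M : X.Modules) (hM : Coh.IsCoh M) :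
    Coh.IsCoh (kernel ((Scheme.Modules.pullbackPushforwardAdjunction I.subschemeι).unit.app M)) := by
  haveI := hM.1
  haveI := hM.2
  have hc1 : Coh.IsCoh ((Scheme.Modules.pullback I.subschemeι).obj M) :=
    ⟨isQuasicoherent_pullback _ M, isFiniteType_pullback _ M⟩
  haveI := hc1.1
  haveI := hc1.2
  have hc3 : Coh.IsCoh ((Scheme.Modules.pushforward I.subschemeι).obj
      ((Scheme.Modules.pullback I.subschemeι).obj M)) :=
    ⟨isQuasicoherent_pushforward_of_isAffineHom _ _, isFiniteType_pushforward_of_isFinite _ _⟩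
  exact Groth.Agent.Lib.Helper12.H12Dev.isCoh_kernel _ hM hc3

theorem vanishes_of_killed (A : Type u) [CommRing A] [IsNoetherianRing A]
    (f : X ⟶ Spec (CommRingCat.of A)) [IsProper f] (L : X.Modules) (hL : PicF.IsInvertible L)
    (I : X.IdealSheafData)
    (hI : CohB1.IsAmple ((Scheme.Modules.pullback I.subschemeι).obj L))
    (M : X.Modules) (hM : Coh.IsCoh M) (hk : Killed I M) : Vanishes L M := by
  haveI := hM.1
  haveI := hM.2
  haveI : IsIso ((Scheme.Modules.pullbackPushforwardAdjunction I.subschemeι).unit.app M) :=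
    Groth.Agent.Helper19.ClImmUnit.isIso_unit_of_killed I.subschemeι M
      (fun U a ha s => hk U a
        (by rw [Scheme.IdealSheafData.ker_subschemeι] at ha; exact ha) s)
  have hc : Coh.IsCoh ((Scheme.Modules.pullback I.subschemeι).obj M) :=
    ⟨isQuasicoherent_pullback _ _, isFiniteType_pullback _ _⟩
  obtain ⟨n₁, h₁⟩ := exists_vanishing_push A f I.subschemeι L hL hI _ hc
  refine ⟨n₁, fun n hn q => ?_⟩
  have e1 := asIso ((Scheme.Modules.pullbackPushforwardAdjunction I.subschemeι).unit.app M)
  exact Groth.Agent.Lib.Lead.Pn.subsingleton_HH_of_iso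
    (tensorCongr e1.symm (Iso.refl (CohB1.tensorPow L n))) (q + 1) (h₁ n hn q)

theorem vanishes_of_kernel (A : Type u) [CommRing A] [IsNoetherianRing A]
    (f : X ⟶ Spec (CommRingCat.of A)) [IsProper f] (L : X.Modules) (hL : PicF.IsInvertible L)
    (I : X.IdealSheafData)
    (hI : CohB1.IsAmple ((Scheme.Modules.pullback I.subschemeι).obj L))
    (M : X.Modules) (hM : Coh.IsCoh M)
    (hK : Vanishes L
      (kernel ((Scheme.Modules.pullbackPushforwardAdjunction I.subschemeι).unit.app M))) :
    Vanishes L M := by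
  haveI := hM.1
  haveI := hM.2
  haveI : Epi ((Scheme.Modules.pullbackPushforwardAdjunction I.subschemeι).unit.app M) :=
    epi_unit I.subschemeι M
  have hc1 : Coh.IsCoh ((Scheme.Modules.pullback I.subschemeι).obj M) :=
    ⟨isQuasicoherent_pullback _ M, isFiniteType_pullback _ M⟩
  obtain ⟨n₁, h₁⟩ := hK
  obtain ⟨n₃, h₃⟩ := exists_vanishing_push A f I.subschemeι L hL hI _ hc1
  refine ⟨max n₁ n₃, fun n hn q => ?_⟩
  let S : ShortComplex X.Modules := ShortComplex.mk
    (kernel.ι ((Scheme.Modules.pullbackPushforwardAdjunction I.subschemeι).unit.app M))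
    ((Scheme.Modules.pullbackPushforwardAdjunction I.subschemeι).unit.app M) (kernel.condition _)
  have hS : S.ShortExact := by
    haveI : Mono S.f := inferInstanceAs (Mono (kernel.ι
      ((Scheme.Modules.pullbackPushforwardAdjunction I.subschemeι).unit.app M)))
    haveI : Epi S.g := inferInstanceAs
      (Epi ((Scheme.Modules.pullbackPushforwardAdjunction I.subschemeι).unit.app M))
    exact ShortComplex.ShortExact.mk (ShortComplex.exact_of_f_is_kernel _ (kernelIsKernel _))
  have hLn : PicF.IsInvertible (CohB1.tensorPow L n) := isInvertible_tensorPow hL n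
  have hS' := shortExact_map_tensorRight (isFlat_of_isInvertible hLn) S hS
  have hX₁ : Subsingleton (Coh.HH X (S.map (tensorRight (CohB1.tensorPow L n))).X₁ (q + 1)) :=
    h₁ n (le_trans (le_max_left _ _) hn) q
  have hX₃ : Subsingleton (Coh.HH X (S.map (tensorRight (CohB1.tensorPow L n))).X₃ (q + 1)) :=
    h₃ n (le_trans (le_max_right _ _) hn) q
  exact Groth.Agent.Lib.Lead.Koszul.subsingleton_HH_X₂ _ hS' (q + 1) hX₁ hX₃

theorem killed_kernel_aux (I J : X.IdealSheafData) (M N : X.Modules)
    (η : M ⟶ N) (hk : Killed (I * J) M) (U : X.affineOpens)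
    (hη : ∀ m : Γ(M, U.1), η.app U.1 m = 0 →
      m ∈ (I.ideal U) • (⊤ : Submodule Γ(X, U.1) Γ(M, U.1)))
    (b : Γ(X, U.1)) (hb : b ∈ J.ideal U)
    (s : Γ(kernel η, U.1)) :
    b • s = 0 := by
  apply Groth.Agent.Lib.Helper12.H12ModLim.app_injective_of_mono (kernel.ι η) U.1
  rw [map_zero, Scheme.Modules.Hom.app_smul]
  have h0 : η.app U.1 ((kernel.ι η).app U.1 s) = 0 := by
    have h1 := congrArg (fun φ : kernel η ⟶ _ => φ.app U.1 s) (kernel.condition η)
    exact h1
  have h2 := hη _ h0
  have key : ∀ m ∈ I.ideal U • (⊤ : Submodule Γ(X, U.1) Γ(M, U.1)), b • m = 0 := by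
    intro m hm
    refine Submodule.smul_induction_on hm (fun a ha m' _ => ?_) (fun x y hx hy => ?_)
    · have h3 : a * b ∈ (I * J).ideal U := by
        rw [Scheme.IdealSheafData.ideal_mul]
        exact Ideal.mul_mem_mul ha hb
      rw [smul_smul, mul_comm]
      exact hk U _ h3 m'
    · rw [smul_add, hx, hy, add_zero]
  exact key _ h2

theorem killed_kernel (I J : X.IdealSheafData) (M : X.Modules) [M.IsQuasicoherent]
    (hk : Killed (I * J) M) :
    Killed J (kernel ((Scheme.Modules.pullbackPushforwardAdjunction I.subschemeι).unit.app M)) := by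
  intro U b hb s
  refine killed_kernel_aux I J M _ _ hk U (fun m hm => ?_) b hb s
  have h2 := (unit_app_facts I.subschemeι M U).2 m hm
  rw [Scheme.IdealSheafData.ker_subschemeι] at h2
  exact h2

theorem vanishes_of_list (A : Type u) [CommRing A] [IsNoetherianRing A]
    (f : X ⟶ Spec (CommRingCat.of A)) [IsProper f] (L : X.Modules) (hL : PicF.IsInvertible L) :
    ∀ (l : List X.IdealSheafData) (I : X.IdealSheafData),
      (∀ J ∈ I :: l, CohB1.IsAmple ((Scheme.Modules.pullback J.subschemeι).obj L)) →
      ∀ M : X.Modules, Coh.IsCoh M → Killed (I * l.prod) M → Vanishes L M := by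
  intro l
  induction l with
  | nil =>
    intro I h M hM hk
    refine vanishes_of_killed A f L hL I (h I List.mem_cons_self) M hM ?_
    rw [List.prod_nil, mul_one] at hk
    exact hk
  | cons J l ih =>
    intro I h M hM hk
    haveI := hM.1
    haveI : IsLocallyNoetherian X := LocallyOfFiniteType.isLocallyNoetherian f
    refine vanishes_of_kernel A f L hL I (h I List.mem_cons_self) M hM ?_
    refine ih J (fun J' hJ' => h J' (List.mem_cons_of_mem _ hJ')) _
      (isCoh_kernel_unit I M hM) ?_
    rw [List.prod_cons] at hk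
    exact killed_kernel I (J * l.prod) M hk

theorem isAmple_of_list (A : Type u) [CommRing A] [IsNoetherianRing A]
    (f : X ⟶ Spec (CommRingCat.of A)) [IsProper f] (L : X.Modules) (hL : PicF.IsInvertible L)
    (I : X.IdealSheafData) (l : List X.IdealSheafData)
    (h : ∀ J ∈ I :: l, CohB1.IsAmple ((Scheme.Modules.pullback J.subschemeι).obj L))
    (hprod : I * l.prod = ⊥) : CohB1.IsAmple L := by
  haveI : IsLocallyNoetherian X := LocallyOfFiniteType.isLocallyNoetherian f
  rw [Groth.Agent.S0051.result A X f L hL]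
  intro M hM
  obtain ⟨n₀, h₀⟩ := vanishes_of_list A f L hL l I h M hM (by
    rw [hprod]
    intro U a ha s
    rw [Scheme.IdealSheafData.ideal_bot] at ha
    have ha' : a = 0 := ha
    rw [ha', zero_smul])
  refine ⟨n₀, fun n hn p hp => ?_⟩
  obtain ⟨q, rfl⟩ : ∃ q, p = q + 1 := ⟨p - 1, by omega⟩
  exact h₀ n hn q

/-! ### the nilradical is nilpotent -/

theorem exists_nilradical_pow_eq_bot [IsLocallyNoetherian X] [CompactSpace X] :
    ∃ m : ℕ, X.nilradical ^ m = ⊥ := by
  let 𝒰 := X.affineCover.finiteSubcover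
  let U : 𝒰.I₀ → X.affineOpens := fun i => ⟨(𝒰.f i).opensRange, isAffineOpen_opensRange _⟩
  have hU : ⨆ i, (U i).1 = ⊤ := 𝒰.iSup_opensRange
  have hnil : ∀ i, ∃ m : ℕ, (X.nilradical.ideal (U i)) ^ m = ⊥ := fun i => by
    haveI : IsNoetherianRing Γ(X, (U i).1) := IsLocallyNoetherian.component_noetherian (U i)
    have := IsNoetherianRing.isNilpotent_nilradical Γ(X, (U i).1)
    exact this
  choose m hm using hnil
  obtain ⟨m₀, hm₀⟩ : ∃ m₀, ∀ i, m i ≤ m₀ := by
    obtain ⟨b, hb⟩ := (Set.finite_range m).bddAbove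
    exact ⟨b, fun i => hb ⟨i, rfl⟩⟩
  refine ⟨m₀, Scheme.IdealSheafData.ext_of_iSup_eq_top U hU (fun i => ?_)⟩
  rw [Scheme.IdealSheafData.ideal_pow, Scheme.IdealSheafData.ideal_bot]
  change (X.nilradical.ideal (U i)) ^ m₀ = ⊥
  exact le_bot_iff.mp ((Ideal.pow_le_pow_right (hm₀ i)).trans (le_of_eq (hm i)))

theorem list_prod_le_of_mem : ∀ (l : List X.IdealSheafData) (I : X.IdealSheafData), I ∈ l →
    l.prod ≤ I := by
  intro l
  induction l with
  | nil => intro I hI; simp at hI
  | cons a l ih =>
    intro I hI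
    rw [List.prod_cons]
    rcases List.mem_cons.mp hI with rfl | hI'
    · intro U
      rw [Scheme.IdealSheafData.ideal_mul]
      change I.ideal U * l.prod.ideal U ≤ I.ideal U
      exact Ideal.mul_le_left
    · refine le_trans ?_ (ih I hI')
      intro U
      rw [Scheme.IdealSheafData.ideal_mul]
      change a.ideal U * l.prod.ideal U ≤ l.prod.ideal U
      exact Ideal.mul_le_right

theorem isAmple_iff_components (A : Type u) [CommRing A] [IsNoetherianRing A]
    (f : X ⟶ Spec (CommRingCat.of A)) [IsProper f] (L : X.Modules) (hL : PicF.IsInvertible L) :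
    CohB1.IsAmple L ↔
      ∀ Z : Closeds ↥X, (Z : Set ↥X) ∈ irreducibleComponents ↥X →
        CohB1.IsAmple ((Scheme.Modules.pullback
          (Scheme.IdealSheafData.vanishingIdeal Z).subschemeι).obj L) := by
  haveI : IsLocallyNoetherian X := LocallyOfFiniteType.isLocallyNoetherian f
  haveI : CompactSpace X := QuasiCompact.compactSpace_of_compactSpace f
  constructor
  · intro h Z _
    haveI : CompactSpace ↥(Scheme.IdealSheafData.vanishingIdeal Z).subscheme :=
      QuasiCompact.compactSpace_of_compactSpace (Scheme.IdealSheafData.vanishingIdeal Z).subschemeι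
    exact isAmple_pullback_of_isAffineHom _ h
  · intro h
    by_cases hX : IsEmpty X
    · exact ⟨hL, inferInstance, fun x => (hX.false x).elim⟩
    · rw [not_isEmpty_iff] at hX
      obtain ⟨x₀⟩ := hX
      haveI : IsNoetherian X := {}
      have hfin : (irreducibleComponents X).Finite :=
        NoetherianSpace.finite_irreducibleComponents
      let S : Set (Closeds X) := {Z | (Z : Set X) ∈ irreducibleComponents X}
      have hS : S.Finite := hfin.preimage (SetLike.coe_injective.injOn)
      have hlZ : ∀ Z ∈ hS.toFinset.toList, (Z : Set X) ∈ irreducibleComponents X := fun Z hZ => by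
        have : Z ∈ hS.toFinset := Finset.mem_toList.mp hZ
        exact (Set.Finite.mem_toFinset hS).mp this
      obtain ⟨lI, hlI⟩ : ∃ lI : List X.IdealSheafData,
          lI = hS.toFinset.toList.map Scheme.IdealSheafData.vanishingIdeal := ⟨_, rfl⟩
      -- product ≤ nilradical
      have hle : lI.prod ≤ X.nilradical := by
        rw [← Scheme.IdealSheafData.vanishingIdeal_top]
        have htop : (⊤ : Closeds X) = sSup S := by
          refine le_antisymm (fun x _ => ?_) le_top
          let Zx : Closeds X := ⟨irreducibleComponent x, isClosed_irreducibleComponent⟩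
          have hZx : Zx ∈ S := irreducibleComponent_mem_irreducibleComponents x
          have hx : x ∈ Zx := mem_irreducibleComponent
          exact (le_sSup hZx) hx
        rw [htop, Scheme.IdealSheafData.vanishingIdeal_sSup]
        refine le_iInf₂ (fun Z hZ => ?_)
        refine list_prod_le_of_mem lI _ ?_
        rw [hlI]
        refine List.mem_map.mpr ⟨Z, ?_, rfl⟩
        exact Finset.mem_toList.mpr ((Set.Finite.mem_toFinset hS).mpr hZ)
      obtain ⟨m, hm⟩ := exists_nilradical_pow_eq_bot (X := X)
      have hpow : lI.prod ^ m = ⊥ := by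
        refine le_bot_iff.mp (le_trans ?_ (le_of_eq hm))
        intro U
        rw [Scheme.IdealSheafData.ideal_pow, Scheme.IdealSheafData.ideal_pow]
        exact Ideal.pow_right_mono (hle U) m
      let Z₀ : Closeds X := ⟨irreducibleComponent x₀, isClosed_irreducibleComponent⟩
      have hZ₀ : (Z₀ : Set X) ∈ irreducibleComponents X :=
        irreducibleComponent_mem_irreducibleComponents x₀
      refine isAmple_of_list A f L hL (Scheme.IdealSheafData.vanishingIdeal Z₀)
        (List.replicate m lI).flatten ?_ ?_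
      · intro J hJ
        rcases List.mem_cons.mp hJ with rfl | hJ'
        · exact h Z₀ hZ₀
        · obtain ⟨l', hl', hJl'⟩ := List.mem_flatten.mp hJ'
          have hl'' : l' = lI := List.eq_of_mem_replicate hl'
          rw [hl'', hlI] at hJl'
          obtain ⟨Z, hZ, rfl⟩ := List.mem_map.mp hJl'
          exact h Z (hlZ Z hZ)
      · rw [List.prod_flatten, List.map_replicate, List.prod_replicate, hpow,
          Scheme.IdealSheafData.mul_bot]

end Groth.Agent.Lib.Helper17.AmpGlue
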