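import Mathlib
import Groth.Agent.Lib.Helper13.AdjCx

/-!
# An adjunction of additive functors induces an adjunction on homotopy categories
-/

set_option autoImplicit false
set_option linter.unusedSectionVars false
set_option linter.style.haveILetI false

open CategoryTheory CategoryTheory.Limits

namespace Groth.Agent.Lib.Helper17.AdjHo

open Groth.Agent.Lib.Helper13.Kan

variable {V W : Type*} [Category V] [Category W] [Preadditive V] [Preadditive W]
  {G : V ⥤ W} {F : W ⥤ V} (adj : G ⊣ F) [G.Additive] [F.Additive]
  {ι : Type*} (c : ComplexShape ι)

/-- the unit on homotopy categories -/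
noncomputable def unitHo : 𝟭 (HomotopyCategory V c) ⟶
    G.mapHomotopyCategory c ⋙ F.mapHomotopyCategory c where
  app X := (HomotopyCategory.quotient V c).map ((adjCx adj c).unit.app X.as)
  naturality := by
    rintro ⟨K⟩ ⟨L⟩ ⟨f : K ⟶ L⟩
    have h := (adjCx adj c).unit.naturality f
    change (HomotopyCategory.quotient V c).map f ≫
      (HomotopyCategory.quotient V c).map ((adjCx adj c).unit.app L) =
      (HomotopyCategory.quotient V c).map ((adjCx adj c).unit.app K) ≫
        (HomotopyCategory.quotient V c).map
          ((F.mapHomologicalComplex c).map ((G.mapHomologicalComplex c).map f))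
    rw [← Functor.map_comp, ← Functor.map_comp]
    exact congr_arg _ h

/-- the counit on homotopy categories -/
noncomputable def counitHo : F.mapHomotopyCategory c ⋙ G.mapHomotopyCategory c ⟶
    𝟭 (HomotopyCategory W c) where
  app X := (HomotopyCategory.quotient W c).map ((adjCx adj c).counit.app X.as)
  naturality := by
    rintro ⟨K⟩ ⟨L⟩ ⟨f : K ⟶ L⟩
    have h := (adjCx adj c).counit.naturality f
    change (HomotopyCategory.quotient W c).map
        ((G.mapHomologicalComplex c).map ((F.mapHomologicalComplex c).map f)) ≫
      (HomotopyCategory.quotient W c).map ((adjCx adj c).counit.app L) =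
      (HomotopyCategory.quotient W c).map ((adjCx adj c).counit.app K) ≫
        (HomotopyCategory.quotient W c).map f
    rw [← Functor.map_comp, ← Functor.map_comp]
    exact congr_arg _ h

/-- the adjunction on homotopy categories -/
noncomputable def adjHo : G.mapHomotopyCategory c ⊣ F.mapHomotopyCategory c where
  unit := unitHo adj c
  counit := counitHo adj c
  left_triangle_components := by
    rintro ⟨K⟩
    have h := (adjCx adj c).left_triangle_components K
    change (HomotopyCategory.quotient W c).map
        ((G.mapHomologicalComplex c).map ((adjCx adj c).unit.app K)) ≫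
      (HomotopyCategory.quotient W c).map
        ((adjCx adj c).counit.app ((G.mapHomologicalComplex c).obj K)) = 𝟙 _
    rw [← Functor.map_comp, h]
    exact CategoryTheory.Functor.map_id _ _
  right_triangle_components := by
    rintro ⟨K⟩
    have h := (adjCx adj c).right_triangle_components K
    change (HomotopyCategory.quotient V c).map
        ((adjCx adj c).unit.app ((F.mapHomologicalComplex c).obj K)) ≫
      (HomotopyCategory.quotient V c).map
        ((F.mapHomologicalComplex c).map ((adjCx adj c).counit.app K)) = 𝟙 _
    rw [← Functor.map_comp, h]
    exact CategoryTheory.Functor.map_id _ _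

lemma adjHo_unit_app (K : HomologicalComplex V c) :
    (adjHo adj c).unit.app ((HomotopyCategory.quotient V c).obj K) =
      (HomotopyCategory.quotient V c).map ((adjCx adj c).unit.app K) := rfl

lemma adjHo_counit_app (K : HomologicalComplex W c) :
    (adjHo adj c).counit.app ((HomotopyCategory.quotient W c).obj K) =
      (HomotopyCategory.quotient W c).map ((adjCx adj c).counit.app K) := rfl

end Groth.Agent.Lib.Helper17.AdjHo
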