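import Mathlib
import Groth.Agent.Lib.Helper17.ClImmFull

set_option autoImplicit false

universe u

open CategoryTheory Limits AlgebraicGeometry TopologicalSpace Opposite

namespace Groth.Agent.Lib.Helper17.GenPt

/-- at the generic point of an irreducible component, a reduced local ring is a field -/
theorem maximalIdeal_stalk_eq_bot (X : Scheme.{u}) (x : X)
    (hx : closure ({x} : Set X) ∈ irreducibleComponents X)
    [hred : _root_.IsReduced (X.presheaf.stalk x)] :
    IsLocalRing.maximalIdeal (X.presheaf.stalk x) = ⊥ := by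
  have hall : ∀ q : PrimeSpectrum (X.presheaf.stalk x), q = IsLocalRing.closedPoint _ := by
    intro q
    have h1 : (X.fromSpecStalk x) q ⤳ x := by
      have : (X.fromSpecStalk x) q ∈ Set.range (X.fromSpecStalk x) := ⟨q, rfl⟩
      rw [Scheme.range_fromSpecStalk] at this
      exact this
    have h2 : (X.fromSpecStalk x) q = x := by
      set y := (X.fromSpecStalk x) q
      have hsub : closure ({x} : Set X) ⊆ closure ({y} : Set X) :=
        (specializes_iff_closure_subset).1 h1
      have hirr : IsIrreducible (closure ({y} : Set X)) := isIrreducible_singleton.closure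
      have heq : closure ({y} : Set X) ⊆ closure ({x} : Set X) := hx.2 hirr hsub
      have h3 : x ⤳ y := specializes_iff_closure_subset.2 heq
      exact (h3.antisymm h1).symm.eq.symm ▸ rfl
    have h3 : (X.fromSpecStalk x) (IsLocalRing.closedPoint _) = x :=
      Scheme.fromSpecStalk_closedPoint
    exact (X.fromSpecStalk x).isEmbedding.injective (h2.trans h3.symm)
  have hnil : nilradical (X.presheaf.stalk x) = ⊥ := nilradical_eq_zero _
  rw [← hnil, nilradical_eq_sInf]
  apply le_antisymm
  · apply le_sInf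
    intro J hJ
    have := hall ⟨J, hJ⟩
    have h4 : J = IsLocalRing.maximalIdeal _ := congrArg PrimeSpectrum.asIdeal this
    rw [h4]
  · exact sInf_le (IsLocalRing.maximalIdeal.isMaximal _).isPrime


/-- functions on `P` vanishing at `ι x` are killed, modulo the ideal of `X`, by a function not
vanishing at `ι x`, when the local ring of `X` at `x` is a field -/
theorem exists_mul_mem_ker {X P : Scheme.{u}} (ι : X ⟶ P) [IsClosedImmersion ι] (x : X)
    (hm : IsLocalRing.maximalIdeal (X.presheaf.stalk x) = ⊥) {W : P.Opens} (hW : IsAffineOpen W)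
    (hxW : ι x ∈ W) (a : Γ(P, W)) (ha : ι x ∉ P.basicOpen a) :
    ∃ s : Γ(P, W), ι x ∈ P.basicOpen s ∧ ι.app W (s * a) = 0 := by
  have hV : IsAffineOpen (ι ⁻¹ᵁ W) := hW.preimage ι
  have hxV : x ∈ ι ⁻¹ᵁ W := hxW
  set b : Γ(X, ι ⁻¹ᵁ W) := ι.app W a with hb
  have hxb : x ∉ X.basicOpen b := by
    rw [hb, ← Scheme.preimage_basicOpen]
    exact ha
  have hgerm : X.presheaf.germ (ι ⁻¹ᵁ W) x hxV b = 0 := by
    have h1 : X.presheaf.germ (ι ⁻¹ᵁ W) x hxV b ∈ IsLocalRing.maximalIdeal _ := by
      rw [IsLocalRing.mem_maximalIdeal, mem_nonunits_iff, ← Scheme.mem_basicOpen]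
      exact hxb
    rw [hm] at h1
    exact h1
  have hgerm' : X.presheaf.germ (ι ⁻¹ᵁ W) x hxV b = X.presheaf.germ (ι ⁻¹ᵁ W) x hxV 0 := by
    rw [hgerm, map_zero]
  obtain ⟨V', hxV', iU, iV, hres⟩ := X.presheaf.germ_eq x hxV hxV _ _ hgerm'
  rw [map_zero] at hres
  obtain ⟨t, htV', hxt⟩ := hV.exists_basicOpen_le (⟨x, hxV'⟩ : V') hxV
  have hres2 : b |_ (X.basicOpen t) = 0 := by
    have h2 := congrArg (X.presheaf.map (homOfLE htV').op) hres
    rw [map_zero] at h2
    rw [← h2]
    exact (Groth.Agent.Lib.Helper17.ClImmFull.ring_map_map (homOfLE htV') iU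
      (homOfLE (X.basicOpen_le t)) b).symm
  obtain ⟨n, hn⟩ := exists_pow_mul_eq_zero_of_res_basicOpen_eq_zero_of_isAffineOpen X hV b t hres2
  obtain ⟨s, hs⟩ := ι.app_surjective W hW (t ^ (n + 1))
  refine ⟨s, ?_, ?_⟩
  · show x ∈ ι ⁻¹ᵁ P.basicOpen s
    rw [Scheme.preimage_basicOpen, hs, Scheme.basicOpen_pow X t (Nat.succ_pos n)]
    exact hxt
  · rw [map_mul, hs, pow_succ', mul_assoc, hn, mul_zero]

end Groth.Agent.Lib.Helper17.GenPt
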