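import Mathlib
import Groth.Prelude.Def_CAlg
import Groth.Agent.Lib.Helper11.DepthLoc

/-!
# Vanishing of `Ext^i_A(M, N)` for `i < n` and the depth of `N` at the points of `Supp M`
-/

set_option autoImplicit false

universe u

open CategoryTheory Abelian RingTheory.Sequence

namespace Groth.Agent.Lib.Helper17.ExtDepthAlg

open Groth.Agent.Lib.Helper11.DepthLoc

variable {A : Type u} [CommRing A]

/-- an element killing `M` kills `Ext(M, N)`; an element killing `N` kills `Ext(M, N)` -/
lemma ext_eq_zero_of_kill {M N : ModuleCat.{u} A} {i : ℕ} (e : Ext M N i) (r : A)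
    (hN : ∀ x : N, r • x = 0) (hM : ∀ x : M, (r - 1) • x = 0) : e = 0 := by
  have h1 : r • e = 0 := by
    rw [Ext.smul_eq_comp_mk₀]
    have : r • 𝟙 N = 0 := by
      apply ModuleCat.hom_ext
      apply LinearMap.ext
      intro x
      exact hN x
    rw [this, Ext.mk₀_zero, Ext.comp_zero]
  have h2 : (r - 1) • e = 0 := by
    have h3 : (r - 1) • e = (Ext.mk₀ ((r - 1) • 𝟙 M)).comp e (zero_add i) := by
      rw [Ext.mk₀_smul, Ext.smul_comp, Ext.mk₀_id_comp]
    have : (r - 1) • 𝟙 M = 0 := by
      apply ModuleCat.hom_ext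
      apply LinearMap.ext
      intro x
      exact hM x
    rw [h3, this, Ext.mk₀_zero, Ext.zero_comp]
  have h4 : e = r • e - (r - 1) • e := by
    rw [← sub_smul]
    simp
  rw [h4, h1, h2, sub_zero]

variable [IsNoetherianRing A] (M N : Type u) [AddCommGroup M] [Module A M] [Module.Finite A M]
  [AddCommGroup N] [Module A N] [Module.Finite A N] (n : ℕ)

/-- Rees, `(4) → (1)`, for types -/
theorem rees41 (I : Ideal A) (smul_lt : I • (⊤ : Submodule A N) < ⊤) (hMnt : Nontrivial M)
    (hsupp : Module.support A M ⊆ PrimeSpectrum.zeroLocus I)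
    (h4 : ∃ rs : List A, rs.length = n ∧ (∀ r ∈ rs, r ∈ I) ∧ IsRegular N rs)
    (i : ℕ) (hi : i < n) :
    Subsingleton (Ext (ModuleCat.of A M) (ModuleCat.of A N) i) := by
  have h := ((ModuleCat.exists_isRegular_tfae I n (ModuleCat.of A N) smul_lt).out 3 0).mp h4
  exact h (ModuleCat.of A M) hMnt ‹Module.Finite A M› hsupp i hi

/-- Rees, `(3) → (4)`, for types -/
theorem rees34 (I : Ideal A) (smul_lt : I • (⊤ : Submodule A N) < ⊤) (hMnt : Nontrivial M)
    (hsupp : Module.support A M = PrimeSpectrum.zeroLocus I)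
    (h : ∀ i < n, Subsingleton (Ext (ModuleCat.of A M) (ModuleCat.of A N) i)) :
    ∃ rs : List A, rs.length = n ∧ (∀ r ∈ rs, r ∈ I) ∧ IsRegular N rs := by
  have h3 : ∃ N' : ModuleCat.{u} A, Nontrivial N' ∧ Module.Finite A N' ∧
      Module.support A N' = PrimeSpectrum.zeroLocus I ∧
      ∀ i < n, Subsingleton (Ext N' (ModuleCat.of A N) i) :=
    ⟨ModuleCat.of A M, hMnt, ‹Module.Finite A M›, hsupp, h⟩
  exact ((ModuleCat.exists_isRegular_tfae I n (ModuleCat.of A N) smul_lt).out 2 3).mp h3

/-- if `depth N_p ≥ n` for all `p ∈ Supp M` then `Ext^i(M, N) = 0` for `i < n` -/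
theorem ext_subsingleton_of_depth
    (h : ∀ (p : Ideal A) [p.IsPrime], Module.annihilator A M ≤ p →
      (n : ℕ∞) ≤ LocCoh.depth (Localization.AtPrime p) (LocalizedModule p.primeCompl N))
    (i : ℕ) (hi : i < n) :
    Subsingleton (Ext (ModuleCat.of A M) (ModuleCat.of A N) i) := by
  set I := Module.annihilator A M with hI
  by_cases hIN : I • (⊤ : Submodule A N) = ⊤
  · obtain ⟨r, hr1, hr0⟩ := Submodule.exists_sub_one_mem_and_smul_eq_zero_of_fg_of_le_smul I
      (⊤ : Submodule A N) Module.Finite.fg_top hIN.ge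
    refine ⟨fun a b => ?_⟩
    have key : ∀ e : Ext (ModuleCat.of A M) (ModuleCat.of A N) i, e = 0 := fun e =>
      ext_eq_zero_of_kill e r (fun x => hr0 x Submodule.mem_top)
        (fun x => Module.mem_annihilator.mp hr1 x)
    rw [key a, key b]
  · obtain ⟨fs, hlen, hmem, hreg⟩ := (forall_le_depth_iff I N n).mp h
    have hreg' : IsRegular N fs := by
      refine ⟨hreg, fun htop => hIN ?_⟩
      have hle : Ideal.ofList fs ≤ I := by
        rw [Ideal.ofList, Ideal.span_le]
        intro x hx
        exact hmem x hx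
      exact le_antisymm le_top (htop.le.trans (Submodule.smul_mono_left hle))
    have hMnt : Nontrivial M := by
      by_contra hcon
      rw [not_nontrivial_iff_subsingleton] at hcon
      apply hIN
      have : I = ⊤ := by
        rw [hI, Module.annihilator_eq_top_iff]
        exact hcon
      rw [this, Submodule.top_smul]
    have hsupp : Module.support A M ⊆ PrimeSpectrum.zeroLocus I :=
      (Module.support_eq_zeroLocus (R := A) (M := M)).le
    have hlt : I • (⊤ : Submodule A N) < ⊤ := lt_top_iff_ne_top.mpr hIN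
    have h4 : ∃ rs : List A, rs.length = n ∧ (∀ r ∈ rs, r ∈ I) ∧ IsRegular N rs :=
      ⟨fs, hlen, hmem, hreg'⟩
    exact rees41 M N n I hlt hMnt hsupp h4 i hi

/-- if `Ext^i(M, N) = 0` for `i < n` then `depth N_p ≥ n` for all `p ∈ Supp M` -/
theorem depth_of_ext_subsingleton
    (h : ∀ i < n, Subsingleton (Ext (ModuleCat.of A M) (ModuleCat.of A N) i))
    (p : Ideal A) [p.IsPrime] (hp : Module.annihilator A M ≤ p) :
    (n : ℕ∞) ≤ LocCoh.depth (Localization.AtPrime p) (LocalizedModule p.primeCompl N) := by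
  set I := Module.annihilator A M with hI
  by_cases hIN : I • (⊤ : Submodule A N) = ⊤
  · rw [depth_localization_eq_top_of_smul_top_eq_top p hp N hIN]
    exact le_top
  · have hMnt : Nontrivial M := by
      by_contra hcon
      rw [not_nontrivial_iff_subsingleton] at hcon
      apply hIN
      have : I = ⊤ := by
        rw [hI, Module.annihilator_eq_top_iff]
        exact hcon
      rw [this, Submodule.top_smul]
    have hsupp : Module.support A M = PrimeSpectrum.zeroLocus I :=
      Module.support_eq_zeroLocus (R := A) (M := M)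
    have hlt : I • (⊤ : Submodule A N) < ⊤ := lt_top_iff_ne_top.mpr hIN
    obtain ⟨rs, hlen, hmem, hreg⟩ := rees34 M N n I hlt hMnt hsupp h
    exact le_depth_localization_of_hasRegSeq p hp N n ⟨rs, hlen, hreg.toIsWeaklyRegular, hmem⟩

end Groth.Agent.Lib.Helper17.ExtDepthAlg
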