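import Groth.Agent.Lib.Helper17.OpenEquiv
import Groth.Agent.Lib.Helper28.DCohRes24

/-!
# Extending approximations by perfect complexes from an open subscheme
-/

set_option autoImplicit false
universe u

open CategoryTheory Limits Opposite AlgebraicGeometry TopologicalSpace CochainComplex

attribute [local instance] HasDerivedCategory.standard

namespace Groth.Agent.Lib.Helper17.ApproxExt

open Pretriangulated DerivedCategory

section Tri

variable {A : Type*} [Category A] [Abelian A] [HasDerivedCategory A]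

/-- if `α` is an isomorphism on `H^i`, `i > m`, and an epimorphism on `H^m`, its cone has no
cohomology in degrees `≥ m`. -/
lemma isZero_homology_cone {P E C : DerivedCategory A} (α : P ⟶ E) (b : E ⟶ C)
    (c : C ⟶ P⟦(1 : ℤ)⟧) (hT : Triangle.mk α b c ∈ distTriang (DerivedCategory A)) (m : ℤ)
    (h1 : ∀ i : ℤ, m < i → IsIso ((homologyFunctor A i).map α))
    (h2 : Epi ((homologyFunctor A m).map α)) (i : ℤ) (hi : m ≤ i) :
    IsZero ((homologyFunctor A i).obj C) := by
  have hepi : Epi ((homologyFunctor A i).map α) := by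
    rcases eq_or_lt_of_le hi with h | h
    · subst h; exact h2
    · haveI := h1 i h; infer_instance
  have hb : (homologyFunctor A i).map b = 0 :=
    (HomologySequence.epi_homologyMap_mor₁_iff _ hT i).1 hepi
  have hδ : HomologySequence.δ (Triangle.mk α b c) i (i + 1) rfl = 0 := by
    refine (HomologySequence.mono_homologyMap_mor₁_iff _ hT i (i + 1) rfl).1 ?_
    haveI := h1 (i + 1) (by omega)
    show Mono ((homologyFunctor A (i + 1)).map α)
    infer_instance
  exact (HomologySequence.exact₃ _ hT i (i + 1) rfl).isZero_of_both_zeros hb hδ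

/-- the converse. -/
lemma isIso_homology_of_cone {P E C : DerivedCategory A} (α : P ⟶ E) (b : E ⟶ C)
    (c : C ⟶ P⟦(1 : ℤ)⟧) (hT : Triangle.mk α b c ∈ distTriang (DerivedCategory A)) (m : ℤ)
    (h : ∀ i : ℤ, m ≤ i → IsZero ((homologyFunctor A i).obj C)) :
    (∀ i : ℤ, m < i → IsIso ((homologyFunctor A i).map α)) ∧
      Epi ((homologyFunctor A m).map α) := by
  have hepi : ∀ i : ℤ, m ≤ i → Epi ((homologyFunctor A i).map α) := fun i hi =>
    (HomologySequence.epi_homologyMap_mor₁_iff _ hT i).2 ((h i hi).eq_of_tgt _ _)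
  refine ⟨fun i hi => ?_, hepi m le_rfl⟩
  haveI := hepi i hi.le
  haveI : Mono ((homologyFunctor A i).map α) := by
    have := (HomologySequence.mono_homologyMap_mor₁_iff _ hT (i - 1) i (by omega)).2
      ((h (i - 1) (by omega)).eq_of_src _ _)
    exact this
  exact isIso_of_mono_of_epi _

end Tri

open Groth.Agent.Lib.Helper17.OpenAdj Groth.Agent.Lib.Helper17.SuppRes
open Groth.Agent.Lib.Helper17.RGammaZ Groth.Agent.Lib.Helper28.DCohRes

variable {X : Scheme.{u}}

open ZeroObject in
/-- a zero object is perfect. -/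
lemma isPerfect_of_isZero {K : DCoh.D X} (hK : IsZero K) : DCoh.IsPerfect K := by
  rw [isPerfect_iff]
  intro x
  refine ⟨X, 𝟙 X, inferInstance, ⟨x, rfl⟩, 0, isStrictlyPerfect_zero, ⟨?_⟩⟩
  refine IsZero.iso ((resD (𝟙 X)).map_isZero hK) ?_
  exact (DerivedCategory.Q (C := X.Modules)).map_isZero (isZero_zero _)

/-- a module supported off `W` restricts to zero on `W`. -/
lemma isZero_restrict_of_support (M : X.Modules) (W : X.Opens)
    (h : ∀ y : X, y ∈ W → y ∉ CohB1.support M) : IsZero (M.restrict W.ι) := by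
  rw [Groth.Agent.Lib.Helper29.QCoh.isZero_iff_stalk_subsingleton]
  intro y
  have hy : W.ι y ∉ CohB1.support M := h _ (by
    have := y.2
    simp)
  have hs : Subsingleton (M.presheaf.stalk (W.ι y)) := by
    by_contra hc
    exact hy hc
  exact (Groth.Agent.Lib.Helper29.QCoh.restrictStalkIso W.ι M
    y).addCommGroupIsoToAddEquiv.toEquiv.subsingleton

/-- **extending an approximation by a perfect complex supported on a closed subset `T ⊆ U`.** -/
theorem approx_extend (U : X.Opens) (T : Set ↥X) (hT : IsClosed T)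
    (hTU : T ⊆ (U : Set ↥X)) (E : DCoh.D X) (m : ℤ)
    (P : DCoh.D (U : Scheme.{u})) (α : P ⟶ (DCoh.restrictD U.ι).obj E) (hP : DCoh.IsPerfect P)
    (hPs : ∀ i : ℤ, CohB1.support (DCoh.HD P i) ⊆ {v : ↥(U : Scheme.{u}) | U.ι.base v ∈ T})
    (h1 : ∀ i : ℤ, m < i → IsIso ((DerivedCategory.homologyFunctor _ i).map α))
    (h2 : Epi ((DerivedCategory.homologyFunctor _ m).map α))
    (hsupp : ∀ i : ℤ, m ≤ i → CohB1.support (DCoh.HD E i) ⊆ T) :
    ∃ (P' : DCoh.D X) (α' : P' ⟶ E), DCoh.IsPerfect P' ∧
      (∀ i : ℤ, CohB1.support (DCoh.HD P' i) ⊆ T) ∧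
      (∀ i : ℤ, m < i → IsIso ((DerivedCategory.homologyFunctor X.Modules i).map α')) ∧
      Epi ((DerivedCategory.homologyFunctor X.Modules m).map α') := by
  let adj := openAdj U.ι
  let W : X.Opens := complOpen T hT
  haveI := isIso_counit U.ι adj
  have hxW : ∀ x : X, x ∉ U → x ∈ W := fun x hx hxT => hx (hTU hxT)
  have hPW : IsZero ((DCoh.restrictD W.ι).obj ((DCoh.Rpush U.ι).obj P)) :=
    isZero_restrict_Rpush U W P (fun i y hy hs => hy (hPs i hs))
  -- perfectness
  have hperf : DCoh.IsPerfect ((DCoh.Rpush U.ι).obj P) := by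
    apply isPerfect_of_locally
    intro x
    by_cases hx : x ∈ U
    · exact ⟨U, U.ι, inferInstance, by rw [Scheme.Opens.range_ι]; exact hx,
        isPerfect_of_iso ((RpushRestrictIso U.ι).app P).symm hP⟩
    · exact ⟨W, W.ι, inferInstance, by rw [Scheme.Opens.range_ι]; exact hxW x hx,
        isPerfect_of_isZero hPW⟩
  -- support
  have hsuppP : ∀ i : ℤ, CohB1.support (DCoh.HD ((DCoh.Rpush U.ι).obj P) i) ⊆ T := by
    intro i
    have := support_subset_compl W (DCoh.HD ((DCoh.Rpush U.ι).obj P) i)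
      (IsZero.of_iso ((DerivedCategory.homologyFunctor _ i).map_isZero hPW)
        (HDresDIso W.ι _ i).symm)
    intro x hx
    exact not_not.1 (this hx)
  -- the lift
  obtain ⟨C, b, c, hTr⟩ := distinguished_cocone_triangle (adj.unit.app E)
  have hiso : IsIso ((DCoh.restrictD U.ι).map (adj.unit.app E)) := by
    have h := adj.left_triangle_components E
    haveI : IsIso ((DCoh.restrictD U.ι).map (adj.unit.app E) ≫
        adj.counit.app ((DCoh.restrictD U.ι).obj E)) := by
      rw [h]
      exact IsIso.id _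
    exact IsIso.of_isIso_comp_right _ (adj.counit.app ((DCoh.restrictD U.ι).obj E))
  have hCU : IsZero ((DCoh.restrictD U.ι).obj C) :=
    (Triangle.isZero₃_iff_isIso₁ _ ((DCoh.restrictD U.ι).map_distinguished _ hTr)).2 hiso
  have hCsupp : ∀ i : ℤ, CohB1.support (DCoh.HD C i) ⊆ (U : Set X)ᶜ := fun i =>
    support_subset_compl U _ (IsZero.of_iso ((DerivedCategory.homologyFunctor _ i).map_isZero hCU)
      (HDresDIso U.ι C i).symm)
  haveI hunitC : IsIso ((openAdj W.ι).unit.app C) :=
    isIso_unit_of_support W.ι (openAdj W.ι) C (U : Set X)ᶜ U.isOpen.isClosed_compl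
      (by
        rw [Scheme.Opens.range_ι]
        intro x hx
        exact hxW x hx) hCsupp
  have hzero : ∀ φ : (DCoh.Rpush U.ι).obj P ⟶ C, φ = 0 := by
    intro φ
    have := hom_Rpush_eq_zero W.ι (openAdj W.ι) hPW (φ ≫ (openAdj W.ι).unit.app C)
    rw [← cancel_mono ((openAdj W.ι).unit.app C), this, zero_comp]
  obtain ⟨α', hα'⟩ : ∃ α' : (DCoh.Rpush U.ι).obj P ⟶ E,
      (DCoh.Rpush U.ι).map α = α' ≫ adj.unit.app E :=
    Triangle.coyoneda_exact₂ _ hTr ((DCoh.Rpush U.ι).map α) (hzero _)
  refine ⟨(DCoh.Rpush U.ι).obj P, α', hperf, hsuppP, ?_⟩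
  -- `α'` restricted to `U`
  have hαU : (DCoh.restrictD U.ι).map α' = adj.counit.app P ≫ α := by
    have e1 : (DCoh.restrictD U.ι).map ((DCoh.Rpush U.ι).map α) ≫
        adj.counit.app ((DCoh.restrictD U.ι).obj E) = adj.counit.app P ≫ α :=
      adj.counit.naturality α
    have e2 := adj.left_triangle_components E
    rw [hα', Functor.map_comp, Category.assoc, e2, Category.comp_id] at e1
    exact e1
  obtain ⟨C', b', c', hT'⟩ := distinguished_cocone_triangle α'
  apply isIso_homology_of_cone α' b' c' hT' m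
  intro i hi
  show IsZero (DCoh.HD C' i)
  apply Groth.Agent.Lib.Helper28.DCohRes.isZero_of_locally
  intro x
  by_cases hx : x ∈ U
  · refine ⟨U, U.ι, inferInstance, by rw [Scheme.Opens.range_ι]; exact hx, ?_⟩
    refine IsZero.of_iso ?_ (HDresDIso U.ι C' i).symm
    refine isZero_homology_cone _ _ _ ((DCoh.restrictD U.ι).map_distinguished _ hT') m ?_ ?_ i hi
    · intro k hk
      haveI := h1 k hk
      show IsIso ((DerivedCategory.homologyFunctor _ k).map ((DCoh.restrictD U.ι).map α'))
      rw [hαU, Functor.map_comp]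
      infer_instance
    · show Epi ((DerivedCategory.homologyFunctor _ m).map ((DCoh.restrictD U.ι).map α'))
      rw [hαU, Functor.map_comp]
      haveI := h2
      infer_instance
  · refine ⟨W, W.ι, inferInstance, by rw [Scheme.Opens.range_ι]; exact hxW x hx, ?_⟩
    refine IsZero.of_iso ?_ (HDresDIso W.ι C' i).symm
    have hTW := (DCoh.restrictD W.ι).map_distinguished _ hT'
    haveI : IsIso ((DCoh.restrictD W.ι).map b') := (Triangle.isZero₁_iff_isIso₂ _ hTW).1 hPW
    refine IsZero.of_iso ?_ ((DerivedCategory.homologyFunctor _ i).mapIso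
      (asIso ((DCoh.restrictD W.ι).map b'))).symm
    refine IsZero.of_iso ?_ (HDresDIso W.ι E i)
    exact isZero_restrict_of_support _ W (fun y hy hs => hy (hsupp i hi hs))

end Groth.Agent.Lib.Helper17.ApproxExt
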