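import Mathlib
import Groth.Prelude.Def_CxOX
import Groth.Agent.Lib.Helper17.Baer3

open CategoryTheory CategoryTheory.Limits TopologicalSpace Opposite AlgebraicGeometry

universe u

namespace Groth.Agent.Lib.Helper17.BaerMod

open Groth.Agent.Lib.Helper29.QCoh Groth.Agent.Lib.Helper17.NoethObj

variable {X : Scheme.{u}}

/-- a family of `j_! O_U` for open immersions `j` whose images form a basis is separating -/
theorem isSeparating (P : ObjectProperty X.Modules)
    (hP : ∀ (W : X.Opens) (x : X), x ∈ W → ∃ (U : Scheme.{u}) (j : U ⟶ X) (_ : IsOpenImmersion j),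
      x ∈ Set.range j.base ∧ Set.range j.base ⊆ (W : Set X) ∧
        P ((CxOX.extZero j).obj (unitM U))) :
    P.IsSeparating := by
  intro A B f g hfg
  ext W s
  apply TopCat.Presheaf.section_ext (ZClosLib.abSheaf B) W
  intro x hx
  obtain ⟨U, j, hj, hxj, hjW, hPj⟩ := hP W x hx
  obtain ⟨u, rfl⟩ := hxj
  have hle : j ''ᵁ (⊤ : U.Opens) ≤ W := by
    rintro _ ⟨y, -, rfl⟩
    exact hjW ⟨y, rfl⟩
  have hxV : j.base u ∈ j ''ᵁ (⊤ : U.Opens) := ⟨u, trivial, rfl⟩
  let s' : Γ((Scheme.Modules.restrictFunctor j).obj A, ⊤) := res A hle s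
  let σ : unitM U ⟶ (Scheme.Modules.restrictFunctor j).obj A := homOfSection _ s'
  let h : (CxOX.extZero j).obj (unitM U) ⟶ A := ((CxOX.extZeroAdj j).homEquiv _ _).symm σ
  have e1 := hfg _ hPj h
  have e2 : σ ≫ (Scheme.Modules.restrictFunctor j).map f =
      σ ≫ (Scheme.Modules.restrictFunctor j).map g := by
    have := congrArg ((CxOX.extZeroAdj j).homEquiv _ _) e1
    rwa [Adjunction.homEquiv_naturality_right, Adjunction.homEquiv_naturality_right,
      Equiv.apply_symm_apply] at this
  have e3 : f.app (j ''ᵁ ⊤) (res A hle s) = g.app (j ''ᵁ ⊤) (res A hle s) := by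
    have := congrArg (fun t => t.app ⊤ (toUnit 1)) e2
    have hs : σ.app ⊤ (toUnit 1) = s' := homOfSection_app_one _ s'
    change ((Scheme.Modules.restrictFunctor j).map f).app ⊤ (σ.app ⊤ (toUnit 1)) =
      ((Scheme.Modules.restrictFunctor j).map g).app ⊤ (σ.app ⊤ (toUnit 1)) at this
    rw [hs] at this
    exact this
  rw [app_res, app_res] at e3
  change B.presheaf.germ W (j.base u) hx (f.app W s) = B.presheaf.germ W (j.base u) hx (g.app W s)
  rw [← germ_res B hle (j.base u) hxV, ← germ_res B hle (j.base u) hxV (g.app W s), e3]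

end Groth.Agent.Lib.Helper17.BaerMod
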