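import Mathlib
import Groth.Prelude.Def_CxOX
import Groth.Agent.Lib.Helper17.Baer4
import Groth.Agent.Lib.Helper17.RestrKInj
import Groth.Agent.S0484

open CategoryTheory CategoryTheory.Limits TopologicalSpace Opposite AlgebraicGeometry

universe u

namespace Groth.Agent.Lib.Helper17.BaerMod

open Groth.Agent.Lib.Helper29.QCoh Groth.Agent.Lib.Helper17.NoethObj

variable {X : Scheme.{u}}

instance isGrothendieckAbelian_modules : IsGrothendieckAbelian.{u} X.Modules :=
  Groth.Agent.S0484.result (Opens.grothendieckTopology X) X.ringCatSheaf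

/-- restriction of an injective module on an open `U` to a smaller open -/
theorem injective_restrict_inf (F : X.Modules) (U W : X.Opens)
    (hinj : Injective ((Scheme.Modules.restrictFunctor U.ι).obj F)) :
    Injective ((Scheme.Modules.restrictFunctor ((U.ι ⁻¹ᵁ W).ι ≫ U.ι)).obj F) := by
  have := RestrKInj.injective_restrict (U.ι ⁻¹ᵁ W) ((Scheme.Modules.restrictFunctor U.ι).obj F)
  exact Injective.of_iso ((Scheme.Modules.restrictFunctorComp (U.ι ⁻¹ᵁ W).ι U.ι).app F).symm this

/-- a locally injective `O_X`-module is injective -/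
theorem injective_of_locally (F : X.Modules)
    (hF : ∀ x : X, ∃ U : X.Opens, x ∈ U ∧ Injective ((Scheme.Modules.restrictFunctor U.ι).obj F)) :
    Injective F := by
  by_cases hX : Nonempty X
  · let P : ObjectProperty X.Modules := fun G =>
      ∃ (U : Scheme.{u}) (j : U ⟶ X) (_ : IsOpenImmersion j),
        Injective ((Scheme.Modules.restrictFunctor j).obj F) ∧ G = (CxOX.extZero j).obj (unitM U)
    have hsep : P.IsSeparating := by
      apply isSeparating
      intro W x hx
      obtain ⟨U, hxU, hinj⟩ := hF x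
      refine ⟨(U.ι ⁻¹ᵁ W).toScheme, (U.ι ⁻¹ᵁ W).ι ≫ U.ι, inferInstance, ?_, ?_,
        ⟨_, _, inferInstance, injective_restrict_inf F U W hinj, rfl⟩⟩
      · refine ⟨⟨⟨x, hxU⟩, hx⟩, rfl⟩
      · rintro _ ⟨y, rfl⟩
        exact y.2
    have hne : ∃ G, P G := by
      obtain ⟨x⟩ := hX
      obtain ⟨U, hxU, hinj⟩ := hF x
      exact ⟨_, U.toScheme, U.ι, inferInstance, hinj, rfl⟩
    apply Baer.injective_of_extends.{u} P hsep hne F
    rintro G ⟨U, j, hj, hinj, rfl⟩ K φ
    exact exists_extension j F hinj (unitM U) K.arrow φ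
  · have hz : IsZero F := by
      rw [isZero_iff_stalk_subsingleton]
      intro x
      exact (hX ⟨x⟩).elim
    exact hz.injective

end Groth.Agent.Lib.Helper17.BaerMod
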