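import Mathlib
import Groth.Prelude.Def_Coh
import Groth.Prelude.Def_Algz2
import Groth.Agent.Lib.Helper29.QCohFinite
import Groth.Agent.Lib.Helper29.QCohExact

open CategoryTheory CategoryTheory.Limits TopologicalSpace Opposite AlgebraicGeometry

universe u

namespace Groth.Agent.Lib.Helper17.IdealFG

open Groth.Agent.Lib.Helper29.QCoh

/-- finite covering by sets of the form `V x ∩ closure {x}` in a Noetherian quasi-sober space -/
theorem exists_finite_cover {α : Type*} [TopologicalSpace α] [NoetherianSpace α] [QuasiSober α]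
    (V : α → Set α) (hV : ∀ x, IsOpen (V x)) (hx : ∀ x, x ∈ V x) (s : Closeds α) :
    ∃ S : Finset α, (s : Set α) ⊆ ⋃ x ∈ S, V x ∩ closure {x} := by
  classical
  apply wellFounded_lt.induction s; clear s
  intro s H
  rcases eq_or_ne s ⊥ with rfl | h₀
  · exact ⟨∅, by simp⟩
  · by_cases h₁ : IsPreirreducible (s : Set α)
    · replace h₁ : IsIrreducible (s : Set α) := ⟨Closeds.coe_nonempty.2 h₀, h₁⟩
      obtain ⟨η, hη⟩ := QuasiSober.sober h₁ s.2
      have hηs : closure ({η} : Set α) = s := hη.def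
      have hηmem : η ∈ (s : Set α) := by rw [← hηs]; exact subset_closure rfl
      let s' : Closeds α := s ⊓ ⟨(V η)ᶜ, (hV η).isClosed_compl⟩
      have hlt : s' < s := by
        refine lt_of_le_of_ne inf_le_left ?_
        intro h
        have : η ∈ (s' : Set α) := by rw [h]; exact hηmem
        exact this.2 (hx η)
      obtain ⟨S', hS'⟩ := H s' hlt
      refine ⟨insert η S', ?_⟩
      intro y hy
      by_cases hyV : y ∈ V η
      · refine Set.mem_iUnion₂.2 ⟨η, Finset.mem_insert_self _ _, hyV, ?_⟩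
        rw [hηs]; exact hy
      · have : y ∈ (s' : Set α) := ⟨hy, hyV⟩
        obtain ⟨z, hz, hyz⟩ := Set.mem_iUnion₂.1 (hS' this)
        exact Set.mem_iUnion₂.2 ⟨z, Finset.mem_insert_of_mem hz, hyz⟩
    · simp only [isPreirreducible_iff_isClosed_union_isClosed, not_forall, not_or] at h₁
      obtain ⟨z₁, z₂, hz₁, hz₂, h, hz₁', hz₂'⟩ := h₁
      lift z₁ to Closeds α using hz₁
      lift z₂ to Closeds α using hz₂
      rcases H (s ⊓ z₁) (inf_lt_left.2 hz₁') with ⟨S₁, h₁⟩
      rcases H (s ⊓ z₂) (inf_lt_left.2 hz₂') with ⟨S₂, h₂⟩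
      refine ⟨S₁ ∪ S₂, ?_⟩
      intro y hy
      rcases h hy with hy1 | hy2
      · obtain ⟨z, hz, hyz⟩ := Set.mem_iUnion₂.1 (h₁ ⟨hy, hy1⟩)
        exact Set.mem_iUnion₂.2 ⟨z, Finset.mem_union_left _ hz, hyz⟩
      · obtain ⟨z, hz, hyz⟩ := Set.mem_iUnion₂.1 (h₂ ⟨hy, hy2⟩)
        exact Set.mem_iUnion₂.2 ⟨z, Finset.mem_union_right _ hz, hyz⟩

variable {X : Scheme.{u}}

/-- the stalk of the structure sheaf (as a module) is generated by the germ of `1` -/
theorem span_germ_one (x : X) :
    Submodule.span (X.presheaf.stalk x)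
      {(unitM X).presheaf.germ ⊤ x trivial (toUnit 1)} = ⊤ := by
  rw [eq_top_iff]
  intro u _
  obtain ⟨V, hxV, s, rfl⟩ := (unitM X).presheaf.exists_germ_eq u
  obtain ⟨a, rfl⟩ := toUnit_surjective s
  have h : (unitM X).presheaf.germ V x hxV (toUnit a) =
      X.presheaf.germ V x hxV a • (unitM X).presheaf.germ ⊤ x trivial (toUnit 1) := by
    conv_lhs => rw [toUnit_eq_smul_one]
    rw [germ_smul, ← res_toUnit_one (le_top : V ≤ ⊤), germ_res]
  rw [h]
  exact Submodule.smul_mem _ _ (Submodule.subset_span rfl)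

/-- stalks of a sheaf of ideals on a locally Noetherian scheme are finitely generated -/
theorem fg_stalk [IsLocallyNoetherian X] (G : X.Modules) (ι : G ⟶ unitM X) [Mono ι] (x : X) :
    (⊤ : Submodule (X.presheaf.stalk x) (G.presheaf.stalk x)).FG := by
  have hfin : Module.Finite (X.presheaf.stalk x) ((unitM X).presheaf.stalk x) :=
    ⟨⟨{(unitM X).presheaf.germ ⊤ x trivial (toUnit 1)}, by
      rw [Finset.coe_singleton]; exact span_germ_one x⟩⟩
  have hN : IsNoetherian (X.presheaf.stalk x) ((unitM X).presheaf.stalk x) :=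
    isNoetherian_of_isNoetherianRing_of_finite _ _
  have hinj : Function.Injective (Algz.stalkMapₗ ι x) :=
    (mono_iff_stalkMap_injective ι).1 inferInstance x
  have hG : IsNoetherian (X.presheaf.stalk x) (G.presheaf.stalk x) :=
    isNoetherian_of_injective (Algz.stalkMapₗ ι x) hinj
  exact IsNoetherian.noetherian ⊤

end Groth.Agent.Lib.Helper17.IdealFG
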