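import Mathlib
import Groth.Prelude.Def_Coh
import Groth.Agent.Lib.Helper17.IdealFG1

open CategoryTheory CategoryTheory.Limits TopologicalSpace Opposite AlgebraicGeometry

universe u

namespace Groth.Agent.Lib.Helper17.IdealFG

open Groth.Agent.Lib.Helper29.QCoh

/-- uniform denominator for the saturation of an ideal with respect to a submonoid -/
theorem exists_uniform {B : Type*} [CommRing B] [IsNoetherianRing B] (S : Submonoid B)
    (J : Ideal B) : ∃ b ∈ S, ∀ e : B, (∃ c ∈ S, c * e ∈ J) → b * e ∈ J := by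
  classical
  let J' : Ideal B :=
    { carrier := {e | ∃ c ∈ S, c * e ∈ J}
      add_mem' := by
        rintro a b ⟨c, hc, hca⟩ ⟨d, hd, hdb⟩
        refine ⟨c * d, S.mul_mem hc hd, ?_⟩
        have : c * d * (a + b) = d * (c * a) + c * (d * b) := by ring
        rw [this]
        exact J.add_mem (J.mul_mem_left _ hca) (J.mul_mem_left _ hdb)
      zero_mem' := ⟨1, S.one_mem, by simp⟩
      smul_mem' := by
        rintro r a ⟨c, hc, hca⟩
        refine ⟨c, hc, ?_⟩
        have : c * (r • a) = r * (c * a) := by rw [smul_eq_mul]; ring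
        rw [this]
        exact J.mul_mem_left _ hca }
  obtain ⟨T, hT⟩ := (isNoetherianRing_iff_ideal_fg B).1 inferInstance J'
  have hc : ∀ e ∈ T, ∃ c ∈ S, c * e ∈ J := fun e he => by
    have : e ∈ J' := hT ▸ Ideal.subset_span he
    exact this
  choose! c hcS hcJ using hc
  refine ⟨∏ e ∈ T, c e, S.prod_mem hcS, ?_⟩
  intro e he
  have hmem : e ∈ Ideal.span (T : Set B) := by
    rw [hT]; exact he
  refine Submodule.span_induction ?_ ?_ ?_ ?_ hmem
  · intro e' he'
    obtain ⟨d, hd⟩ := Finset.dvd_prod_of_mem c he'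
    rw [hd]
    have : c e' * d * e' = d * (c e' * e') := by ring
    rw [this]
    exact J.mul_mem_left _ (hcJ e' he')
  · simp
  · intro a b _ _ ha hb
    rw [mul_add]; exact J.add_mem ha hb
  · intro r a _ ha
    have : (∏ e ∈ T, c e) * (r • a) = r * ((∏ e ∈ T, c e) * a) := by rw [smul_eq_mul]; ring
    rw [this]
    exact J.mul_mem_left _ ha

variable {X : Scheme.{u}}

theorem ring_level {W : X.Opens} (hW : IsAffineOpen W) (J : Ideal Γ(X, W)) (c c' : Γ(X, W))
    (hcc' : X.basicOpen c' ≤ X.basicOpen c) (z : Γ(X, X.basicOpen c))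
    (hz : X.presheaf.map (homOfLE hcc').op z ∈
      Ideal.map (algebraMap Γ(X, W) Γ(X, X.basicOpen c')) J)
    (e : Γ(X, W)) (n : ℕ)
    (he : z * (algebraMap Γ(X, W) Γ(X, X.basicOpen c) c) ^ n =
      algebraMap Γ(X, W) Γ(X, X.basicOpen c) e) :
    ∃ N : ℕ, c' ^ N * e ∈ J := by
  have loc' := hW.isLocalization_basicOpen c'
  obtain ⟨⟨⟨j, hj⟩, ⟨_, m, rfl⟩⟩, h2⟩ :=
    (IsLocalization.mem_map_algebraMap_iff (Submonoid.powers c') _).1 hz
  have hρ : ∀ r : Γ(X, W), X.presheaf.map (homOfLE hcc').op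
      (algebraMap Γ(X, W) Γ(X, X.basicOpen c) r) =
      algebraMap Γ(X, W) Γ(X, X.basicOpen c') r := fun r =>
    map_map_apply X (X.basicOpen_le c) hcc' r
  have key : algebraMap Γ(X, W) Γ(X, X.basicOpen c') (e * c' ^ m) =
      algebraMap Γ(X, W) Γ(X, X.basicOpen c') (j * c ^ n) := by
    have h3 := congrArg (X.presheaf.map (homOfLE hcc').op) he
    rw [map_mul, map_pow, hρ, hρ] at h3
    rw [map_mul, map_mul, ← h3, map_pow, map_pow]
    simp only at h2
    rw [map_pow] at h2
    calc X.presheaf.map (homOfLE hcc').op z * algebraMap _ _ c ^ n * algebraMap _ _ c' ^ m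
        = (X.presheaf.map (homOfLE hcc').op z * algebraMap _ _ c' ^ m) * algebraMap _ _ c ^ n := by
          ring
      _ = _ := by rw [h2]
  obtain ⟨⟨_, l, rfl⟩, h3⟩ := (IsLocalization.eq_iff_exists (Submonoid.powers c') _).1 key
  refine ⟨l + m, ?_⟩
  have h4 : c' ^ (l + m) * e = c' ^ l * c ^ n * j := by
    have : c' ^ (l + m) * e = c' ^ l * (e * c' ^ m) := by ring
    rw [this, h3]; ring
  rw [h4]
  exact J.mul_mem_left _ hj

/-- spreading out: if the germs of `s i` generate the stalk at `x`, every section near `x` is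
locally a combination of the `s i`. -/
theorem spread (G : X.Modules) {W : X.Opens} {k : ℕ} (s : Fin k → Γ(G, W)) (x : X) (hxW : x ∈ W)
    (hspan : Submodule.span (X.presheaf.stalk x)
      (Set.range fun i => G.presheaf.germ W x hxW (s i)) = ⊤)
    {U' : X.Opens} (hU' : U' ≤ W) (hxU' : x ∈ U') (σ : Γ(G, U')) :
    ∃ (U'' : X.Opens) (hU'' : U'' ≤ U') (_ : x ∈ U'') (f : Fin k → Γ(X, U'')),
      res G hU'' σ = ∑ i, f i • res G (hU''.trans hU') (s i) := by
  have hm : G.presheaf.germ U' x hxU' σ ∈ Submodule.span (X.presheaf.stalk x)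
      (Set.range fun i => G.presheaf.germ W x hxW (s i)) := by
    rw [hspan]; trivial
  obtain ⟨c, hc⟩ := (Submodule.mem_span_range_iff_exists_fun _).1 hm
  choose Ui hxUi fi hfi using fun i => X.presheaf.exists_germ_eq (x := x) (c i)
  let U0 : X.Opens := ⟨⋂ i, (Ui i : Set X), isOpen_iInter_of_finite fun i => (Ui i).2⟩
  have hU0 : ∀ i, U0 ≤ Ui i := fun i y hy => Set.mem_iInter.1 hy i
  have hxU0 : x ∈ U0 := Set.mem_iInter.2 hxUi
  let U1 : X.Opens := U' ⊓ U0
  have hx1 : x ∈ U1 := ⟨hxU', hxU0⟩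
  have h1U : ∀ i, U1 ≤ Ui i := fun i => inf_le_right.trans (hU0 i)
  have h1W : U1 ≤ W := inf_le_left.trans hU'
  let τ : Γ(G, U1) := ∑ i, (X.presheaf.map (homOfLE (h1U i)).op (fi i)) • res G h1W (s i)
  have hτ : G.presheaf.germ U1 x hx1 τ = G.presheaf.germ U1 x hx1 (res G inf_le_left σ) := by
    rw [germ_res, ← hc, map_sum]
    refine Finset.sum_congr rfl fun i _ => ?_
    rw [germ_smul, germ_res, ← hfi i]
    congr 1
    exact X.presheaf.germ_res_apply (homOfLE (h1U i)) x hx1 (fi i)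
  obtain ⟨W', hxW', iU, iV, hW'⟩ := TopCat.Presheaf.germ_eq G.presheaf x hx1 hx1 _ _ hτ
  refine ⟨W', iU.le.trans inf_le_left, hxW', fun i => X.presheaf.map (homOfLE (iU.le.trans (h1U i))).op (fi i), ?_⟩
  have e1 : res G (iU.le.trans inf_le_left) σ = G.presheaf.map iV.op (res G inf_le_left σ) :=
    (res_res G inf_le_left iV.le σ).symm
  rw [e1, ← hW']
  change res G iU.le τ = _
  rw [map_sum]
  refine Finset.sum_congr rfl fun i _ => ?_
  rw [res_smul, res_res, map_map_apply]

end Groth.Agent.Lib.Helper17.IdealFG
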