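import Mathlib
import Groth.Prelude.Def_Coh
import Groth.Agent.Lib.Helper17.IdealFG2
import Groth.Agent.Lib.Helper17.ZClosLib

open CategoryTheory CategoryTheory.Limits TopologicalSpace Opposite AlgebraicGeometry

universe u

namespace Groth.Agent.Lib.Helper17.IdealFG

open Groth.Agent.Lib.Helper29.QCoh

variable {X : Scheme.{u}}

/-- sections of the structure sheaf as a module, viewed as functions -/
def ofUnit {V : X.Opens} (a : Γ(unitM X, V)) : Γ(X, V) := a

/-- `toUnit` as an additive map -/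
def toUnitHom (V : X.Opens) : Γ(X, V) →+ Γ(unitM X, V) where
  toFun := toUnit
  map_zero' := rfl
  map_add' _ _ := rfl

lemma toUnit_smul {V : X.Opens} (a b : Γ(X, V)) : toUnit (a * b) = a • toUnit b := rfl

lemma res_toUnit {U V : X.Opens} (h : V ≤ U) (a : Γ(X, U)) :
    res (unitM X) h (toUnit a) = toUnit (X.presheaf.map (homOfLE h).op a) := rfl

lemma toUnit_sum {V : X.Opens} {k : ℕ} (a : Fin k → Γ(X, V)) :
    toUnit (∑ i, a i) = ∑ i, toUnit (a i) := map_sum (toUnitHom V) a Finset.univ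

lemma toUnit_injective {V : X.Opens} : Function.Injective (toUnit (X := X) (V := V)) :=
  fun _ _ h => h

theorem local_gen [IsLocallyNoetherian X] (G : X.Modules) (ι : G ⟶ unitM X) [Mono ι] (x : X) :
    ∃ (V : X.Opens) (_ : x ∈ V) (k : ℕ) (s : Fin k → Γ(G, V)), ∀ (y : X) (hy : y ∈ V), x ⤳ y →
      Submodule.span (X.presheaf.stalk y)
        (Set.range fun i => G.presheaf.germ V y hy (s i)) = ⊤ := by
  classical
  obtain ⟨k, g, hg⟩ := Submodule.fg_iff_exists_fin_generating_family.1 (fg_stalk G ι x)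
  choose Ui hxUi si hsi using fun i => G.presheaf.exists_germ_eq (x := x) (g i)
  let U0 : X.Opens := ⟨⋂ i, (Ui i : Set X), isOpen_iInter_of_finite fun i => (Ui i).2⟩
  have hU0 : ∀ i, U0 ≤ Ui i := fun i y hy => Set.mem_iInter.1 hy i
  have hxU0 : x ∈ U0 := Set.mem_iInter.2 hxUi
  obtain ⟨W, hW, hxW, hWU0⟩ := exists_isAffineOpen_mem_and_subset (x := x) (U := U0) hxU0
  let s : Fin k → Γ(G, W) := fun i => res G (hWU0.trans (hU0 i)) (si i)
  have hs : ∀ i, G.presheaf.germ W x hxW (s i) = g i := fun i => by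
    rw [germ_res]; exact hsi i
  have hspan : Submodule.span (X.presheaf.stalk x)
      (Set.range fun i => G.presheaf.germ W x hxW (s i)) = ⊤ := by
    rw [show (fun i => G.presheaf.germ W x hxW (s i)) = g from funext hs]; exact hg
  let t : Fin k → Γ(X, W) := fun i => ofUnit (ι.app W (s i))
  let J : Ideal Γ(X, W) := Ideal.span (Set.range t)
  haveI : IsNoetherianRing Γ(X, W) := IsLocallyNoetherian.component_noetherian ⟨W, hW⟩
  let S : Submonoid Γ(X, W) :=
    { carrier := {c | x ∈ X.basicOpen c}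
      mul_mem' := by
        intro a b ha hb
        rw [Set.mem_setOf_eq, X.basicOpen_mul]; exact ⟨ha, hb⟩
      one_mem' := by
        rw [Set.mem_setOf_eq, X.basicOpen_one]; exact hxW }
  obtain ⟨b, hbS, hb⟩ := exists_uniform S J
  refine ⟨X.basicOpen b, hbS, k, fun i => res G (X.basicOpen_le b) (s i), ?_⟩
  intro y hy hxy
  rw [eq_top_iff]
  intro gy _
  obtain ⟨U', hyU', σ', rfl⟩ := G.presheaf.exists_germ_eq (x := y) gy
  obtain ⟨c, hcU, hyc⟩ := hW.exists_basicOpen_le (V := U' ⊓ X.basicOpen b)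
    ⟨y, ⟨hyU', hy⟩⟩ (X.basicOpen_le b hy)
  have hxc : x ∈ X.basicOpen c := hxy.mem_open (X.basicOpen c).2 hyc
  let σ : Γ(G, X.basicOpen c) := res G (hcU.trans inf_le_left) σ'
  let z : Γ(X, X.basicOpen c) := ofUnit (ι.app _ σ)
  have loc := hW.isLocalization_basicOpen c
  obtain ⟨⟨e, ⟨_, n, rfl⟩⟩, he⟩ := IsLocalization.surj (Submonoid.powers c) z
  obtain ⟨U'', hU'', hxU'', f, hf⟩ := spread G s x hxW hspan (X.basicOpen_le c) hxc σ
  obtain ⟨c', hc'U, hxc'⟩ := hW.exists_basicOpen_le (V := U'') ⟨x, hxU''⟩ hxW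
  have hcc' : X.basicOpen c' ≤ X.basicOpen c := hc'U.trans hU''
  have hz : X.presheaf.map (homOfLE hcc').op z ∈
      Ideal.map (algebraMap Γ(X, W) Γ(X, X.basicOpen c')) J := by
    have h1 : res G hcc' σ = ∑ i, X.presheaf.map (homOfLE hc'U).op (f i) •
        res G (X.basicOpen_le c') (s i) := by
      have := congrArg (res G hc'U) hf
      rw [res_res, map_sum] at this
      rw [this]
      refine Finset.sum_congr rfl fun i _ => ?_
      rw [res_smul, res_res]
    have h2 : toUnit (X.presheaf.map (homOfLE hcc').op z) =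
        toUnit (∑ i, X.presheaf.map (homOfLE hc'U).op (f i) *
          algebraMap Γ(X, W) Γ(X, X.basicOpen c') (t i)) := by
      rw [toUnit_sum]
      change res (unitM X) hcc' (ι.app _ σ) = _
      rw [← app_res, h1, map_sum]
      refine Finset.sum_congr rfl fun i _ => ?_
      rw [Scheme.Modules.Hom.app_smul, app_res]
      rfl
    rw [toUnit_injective h2]
    exact Ideal.sum_mem _ fun i _ => Ideal.mul_mem_left _ _
      (Ideal.mem_map_of_mem _ (Ideal.subset_span ⟨i, rfl⟩))
  obtain ⟨N, hN⟩ := ring_level hW J c c' hcc' z hz e n (by rw [← map_pow]; exact he)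
  have heJ : b * e ∈ J := hb e ⟨c' ^ N, S.pow_mem hxc' N, hN⟩
  obtain ⟨r, hr⟩ := (Submodule.mem_span_range_iff_exists_fun _).1 heJ
  have hcb : X.basicOpen c ≤ X.basicOpen (c ^ n * b) := by
    rw [X.basicOpen_mul]
    refine le_inf ?_ (hcU.trans inf_le_right)
    intro w hw
    exact mem_basicOpen_pow c n w (X.basicOpen_le c hw) hw
  have hunit : IsUnit (algebraMap Γ(X, W) Γ(X, X.basicOpen c) (c ^ n * b)) := by
    have h1 := X.toRingedSpace.isUnit_res_basicOpen (c ^ n * b)
    have h2 := h1.map (X.presheaf.map (homOfLE hcb).op).hom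
    convert h2 using 1
    exact (map_map_apply X _ hcb _).symm
  obtain ⟨w, hw⟩ := hunit.exists_left_inv
  have hinj : Function.Injective (ι.app (X.basicOpen c)) :=
    (ZClosLib.mono_iff_injective_app ι).1 inferInstance _
  have hz2 : z = ∑ i, (w * algebraMap Γ(X, W) Γ(X, X.basicOpen c) (r i)) *
      algebraMap Γ(X, W) Γ(X, X.basicOpen c) (t i) := by
    have h1 : z * algebraMap Γ(X, W) Γ(X, X.basicOpen c) (c ^ n * b) =
        algebraMap Γ(X, W) Γ(X, X.basicOpen c) (b * e) := by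
      rw [map_mul, ← mul_assoc, he, ← map_mul, mul_comm]
    have h2 : algebraMap Γ(X, W) Γ(X, X.basicOpen c) (b * e) =
        ∑ i, algebraMap Γ(X, W) Γ(X, X.basicOpen c) (r i) *
          algebraMap Γ(X, W) Γ(X, X.basicOpen c) (t i) := by
      rw [← hr, map_sum]
      refine Finset.sum_congr rfl fun i _ => ?_
      rw [smul_eq_mul, map_mul]
    calc z = z * (w * algebraMap Γ(X, W) Γ(X, X.basicOpen c) (c ^ n * b)) := by
          rw [hw, mul_one]
      _ = w * (z * algebraMap Γ(X, W) Γ(X, X.basicOpen c) (c ^ n * b)) := by ring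
      _ = w * ∑ i, algebraMap Γ(X, W) Γ(X, X.basicOpen c) (r i) *
          algebraMap Γ(X, W) Γ(X, X.basicOpen c) (t i) := by rw [h1, h2]
      _ = _ := by
          rw [Finset.mul_sum]
          refine Finset.sum_congr rfl fun i _ => by ring
  have hσ : σ = ∑ i, (w * algebraMap Γ(X, W) Γ(X, X.basicOpen c) (r i)) •
      res G (X.basicOpen_le c) (s i) := by
    apply hinj
    rw [map_sum]
    have hzz : ι.app _ σ = toUnit z := rfl
    rw [hzz, hz2, toUnit_sum]
    refine Finset.sum_congr rfl fun i _ => ?_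
    rw [Scheme.Modules.Hom.app_smul, app_res]
    rfl
  have hgerm : G.presheaf.germ U' y hyU' σ' = G.presheaf.germ (X.basicOpen c) y hyc σ :=
    (germ_res G (hcU.trans inf_le_left) y hyc σ').symm
  rw [hgerm, hσ, map_sum]
  refine Submodule.sum_mem _ fun i _ => ?_
  rw [germ_smul]
  refine Submodule.smul_mem _ _ (Submodule.subset_span ⟨i, ?_⟩)
  show G.presheaf.germ (X.basicOpen b) y hy (res G _ (s i)) =
    G.presheaf.germ (X.basicOpen c) y hyc (res G _ (s i))
  rw [germ_res G (X.basicOpen_le b) y hy (s i), germ_res G (X.basicOpen_le c) y hyc (s i)]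

theorem main [IsNoetherian X] (G : X.Modules) (ι : G ⟶ unitM X) [Mono ι] :
    ∃ (m : ℕ) (U : Fin m → X.Opens) (k : Fin m → ℕ)
      (s : (i : Fin m) → Fin (k i) → (G.presheaf.obj (Opposite.op (U i)) : Type u)),
      ∀ x : X, Submodule.span (X.presheaf.stalk x)
          (Set.range (fun p : (Σ i : {i : Fin m // x ∈ U i}, Fin (k i.1)) =>
            (G.presheaf.germ (U p.1.1) x p.1.2) (s p.1.1 p.2))) = ⊤ := by
  classical
  choose V hxV kk ss hh using local_gen G ι
  obtain ⟨S, hS⟩ := exists_finite_cover (fun x => ((V x : X.Opens) : Set X)) (fun x => (V x).2)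
    hxV (⊤ : Closeds X)
  let pt : Fin S.card → X := fun i => (S.equivFin.symm i).1
  refine ⟨S.card, fun i => V (pt i), fun i => kk (pt i), fun i => ss (pt i), ?_⟩
  intro x
  obtain ⟨i0, hi0⟩ : ∃ i : Fin S.card, x ∈ ((V (pt i) : X.Opens) : Set X) ∩ closure {pt i} := by
    obtain ⟨z, hz, hxz⟩ := Set.mem_iUnion₂.1 (hS (Set.mem_univ x))
    refine ⟨S.equivFin ⟨z, hz⟩, ?_⟩
    have : pt (S.equivFin ⟨z, hz⟩) = z := by simp [pt]
    rw [this]
    exact hxz
  rw [eq_top_iff, ← hh (pt i0) x hi0.1 (specializes_iff_mem_closure.2 hi0.2)]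
  apply Submodule.span_mono
  rintro _ ⟨j, rfl⟩
  exact ⟨⟨⟨i0, hi0.1⟩, j⟩, rfl⟩

end Groth.Agent.Lib.Helper17.IdealFG
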