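import Mathlib
import Groth.Prelude.Def_CxOX
import Groth.Agent.Lib.Helper17.Baer5
import Groth.Agent.Lib.Helper17.IdealFG3
import Groth.Agent.Lib.Helper17.NoethColimMod
import Groth.Agent.Lib.Helper29.QCohAss2

open CategoryTheory CategoryTheory.Limits TopologicalSpace Opposite AlgebraicGeometry

universe u

namespace Groth.Agent.Lib.Helper17.BaerMod

open Groth.Agent.Lib.Helper29.QCoh Groth.Agent.Lib.Helper17.NoethObj

variable {X : Scheme.{u}}

/-- two morphisms of modules inducing the same maps on all stalks are equal -/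
theorem eq_of_stalkMap_eq {A B : X.Modules} (f g : A ⟶ B)
    (h : ∀ (x : X) (t : A.presheaf.stalk x), stalkMap f x t = stalkMap g x t) : f = g := by
  ext W s
  apply TopCat.Presheaf.section_ext (ZClosLib.abSheaf B) W
  intro x hx
  change B.presheaf.germ W x hx (f.app W s) = B.presheaf.germ W x hx (g.app W s)
  rw [← stalkMap_germ, ← stalkMap_germ, h]

lemma injective_finite_coprod {C : Type*} [Category C] [Preadditive C] [HasFiniteBiproducts C]
    {β : Type*} [Finite β] (c : β → C) [∀ b, Injective (c b)] : Injective (∐ c) :=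
  Injective.of_iso (biproduct.isoCoproduct c) inferInstance

/-- On a Noetherian scheme, morphisms from an ideal sheaf to a direct sum of injective modules
extend to the structure sheaf. -/
theorem exists_extension_coprod {V : Scheme.{u}} [IsNoetherian V] {K' : V.Modules}
    (ι : K' ⟶ unitM V) [Mono ι] {α : Type u} (J : α → V.Modules) (hJ : ∀ a, Injective (J a))
    (φ' : K' ⟶ ∐ J) : ∃ ψ' : unitM V ⟶ ∐ J, ι ≫ ψ' = φ' := by
  classical
  let D : Finset (Discrete α) ⥤ V.Modules :=
    CoproductsFromFiniteFiltered.liftToFinsetObj (Discrete.functor J)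
  let c : Cocone D := CoproductsFromFiniteFiltered.finiteSubcoproductsCocone J
  have hc : IsColimit c := CoproductsFromFiniteFiltered.isColimitFiniteSubproductsCocone J
  obtain ⟨m, Ui, k, s, hs⟩ := IdealFG.main K' ι
  have hrep : ∀ p : (Σ i : Fin m, Fin (k i)), ∃ (S : Finset (Discrete α))
      (t : Γ(D.obj S, Ui p.1)), (c.ι.app S).app (Ui p.1) t = φ'.app (Ui p.1) (s p.1 p.2) :=
    fun p => NoethColimMod.exists_rep D c hc ⊤ (fun W _ => NoetherianSpace.isCompact _)
      (Ui p.1) le_top _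
  choose Sp t ht using hrep
  let S : Finset (Discrete α) := Finset.univ.sup Sp
  have hSp : ∀ p, Sp p ≤ S := fun p => Finset.le_sup (f := Sp) (Finset.mem_univ p)
  let r : ∐ J ⟶ D.obj S := Sigma.desc (fun a =>
    if h : Discrete.mk a ∈ S then
      Sigma.ι (fun x : S => (Discrete.functor J).obj x.1) ⟨⟨a⟩, h⟩ else 0)
  have hr : c.ι.app S ≫ r = 𝟙 _ := by
    apply Sigma.hom_ext
    rintro ⟨⟨a⟩, ha⟩
    change Sigma.ι (fun x : S => (Discrete.functor J).obj x.1) ⟨⟨a⟩, ha⟩ ≫
      ((Sigma.desc fun s : S => Sigma.ι J s.1.as) ≫ r) = _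
    rw [Sigma.ι_desc_assoc]
    change Sigma.ι J a ≫ Sigma.desc _ = _
    rw [Sigma.ι_desc, dif_pos ha]
    exact (Category.comp_id _).symm
  let e : ∐ J ⟶ ∐ J := r ≫ c.ι.app S
  have he : ∀ S' (h : S' ⟶ S), c.ι.app S' ≫ e = c.ι.app S' := by
    intro S' h
    rw [← c.w h, Category.assoc]
    change D.map h ≫ c.ι.app S ≫ r ≫ c.ι.app S = _
    rw [← Category.assoc (c.ι.app S), hr, Category.id_comp]
  have hφ : φ' = φ' ≫ e := by
    apply eq_of_stalkMap_eq
    intro x y
    have hy : y ∈ Submodule.span (V.presheaf.stalk x)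
        (Set.range (fun p : (Σ i : {i : Fin m // x ∈ Ui i}, Fin (k i.1)) =>
          (K'.presheaf.germ (Ui p.1.1) x p.1.2) (s p.1.1 p.2))) := by
      rw [hs x]; trivial
    have hlin : (stalkMapₗ φ' x) y = (stalkMapₗ (φ' ≫ e) x) y := by
      refine LinearMap.eqOn_span ?_ hy
      rintro _ ⟨p, rfl⟩
      change stalkMap φ' x _ = stalkMap (φ' ≫ e) x _
      rw [stalkMap_germ, stalkMap_germ]
      congr 1
      change φ'.app _ (s p.1.1 p.2) = e.app _ (φ'.app _ (s p.1.1 p.2))
      rw [← ht ⟨p.1.1, p.2⟩]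
      change _ = (c.ι.app (Sp ⟨p.1.1, p.2⟩) ≫ e).app _ _
      rw [he _ (homOfLE (hSp ⟨p.1.1, p.2⟩))]
      rfl
    exact hlin
  haveI : ∀ b : S, Injective ((fun x : S => (Discrete.functor J).obj x.1) b) := fun b => hJ _
  haveI : Injective (D.obj S) := injective_finite_coprod _
  refine ⟨Injective.factorThru (φ' ≫ r) ι ≫ c.ι.app S, ?_⟩
  rw [← Category.assoc, Injective.comp_factorThru, Category.assoc]
  exact hφ.symm

end Groth.Agent.Lib.Helper17.BaerMod
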