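import Mathlib
import Groth.Prelude.Def_CxOX
import Groth.Agent.Lib.Helper17.Baer6

open CategoryTheory CategoryTheory.Limits TopologicalSpace Opposite AlgebraicGeometry

universe u

namespace Groth.Agent.Lib.Helper17.BaerMod

open Groth.Agent.Lib.Helper29.QCoh Groth.Agent.Lib.Helper17.NoethObj

/-- extension of morphisms from subobjects of `j_! G`, given an extension over `U` -/
theorem exists_extension' {U X : Scheme.{u}} (j : U ⟶ X) [IsOpenImmersion j] (F : X.Modules)
    (G : U.Modules) {K : X.Modules} (i : K ⟶ (CxOX.extZero j).obj G) [Mono i] (φ : K ⟶ F)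
    (ψ' : (Scheme.Modules.restrictFunctor j).obj ((CxOX.extZero j).obj G) ⟶
      (Scheme.Modules.restrictFunctor j).obj F)
    (hψ' : (Scheme.Modules.restrictFunctor j).map i ≫ ψ' =
      (Scheme.Modules.restrictFunctor j).map φ) :
    ∃ ψ : (CxOX.extZero j).obj G ⟶ F, i ≫ ψ = φ := by
  let η := (CxOX.extZeroAdj j).unit.app G
  let ψ : (CxOX.extZero j).obj G ⟶ F := ((CxOX.extZeroAdj j).homEquiv _ _).symm (η ≫ ψ')
  have h1 : η ≫ (Scheme.Modules.restrictFunctor j).map ψ = η ≫ ψ' := by
    have := ((CxOX.extZeroAdj j).homEquiv _ _).apply_symm_apply (η ≫ ψ')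
    rw [Adjunction.homEquiv_unit] at this
    exact this
  haveI : IsIso η := inferInstance
  have h2 : (Scheme.Modules.restrictFunctor j).map ψ = ψ' := (cancel_epi η).1 h1
  refine ⟨ψ, ?_⟩
  apply eq_of_restrict_eq j _ _ (subsingleton_stalk_of_mono j G i)
  rw [Functor.map_comp, h2, hψ']

/-- On a locally Noetherian scheme, direct sums of injective modules are injective. -/
theorem injective_coprod {X : Scheme.{u}} [IsLocallyNoetherian X] {ι : Type u}
    (I : ι → X.Modules) (hI : ∀ a, Injective (I a)) : Injective (∐ I) := by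
  let P : ObjectProperty X.Modules := fun G =>
    ∃ (V : X.Opens) (_ : IsAffineOpen V), G = (CxOX.extZero V.ι).obj (unitM V.toScheme)
  have hsep : P.IsSeparating := by
    apply isSeparating
    intro W x hx
    obtain ⟨_, ⟨V, hV, rfl⟩, hxV, hVW⟩ :=
      X.isBasis_affineOpens.exists_subset_of_mem_open hx W.2
    refine ⟨Scheme.Opens.toScheme V, Scheme.Opens.ι V, inferInstance, ?_, ?_, ⟨V, hV, rfl⟩⟩
    · rw [Scheme.Opens.range_ι]; exact hxV
    · rw [Scheme.Opens.range_ι]; exact hVW
  have hne : ∃ G, P G := ⟨_, ⊥, isAffineOpen_bot X, rfl⟩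
  apply Baer.injective_of_extends.{u} P hsep hne (∐ I)
  rintro G ⟨V, hV, rfl⟩ K φ
  haveI : IsAffine V.toScheme := hV
  haveI : IsLocallyNoetherian V.toScheme := isLocallyNoetherian_of_isOpenImmersion V.ι
  haveI : IsNoetherian V.toScheme := { }
  let R := Scheme.Modules.restrictFunctor V.ι
  let e : R.obj ((CxOX.extZero V.ι).obj (unitM V.toScheme)) ≅ unitM V.toScheme :=
    (asIso ((CxOX.extZeroAdj V.ι).unit.app (unitM V.toScheme))).symm
  let pc : R.obj (∐ I) ≅ ∐ (fun a => R.obj (I a)) := PreservesCoproduct.iso R I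
  haveI : R.PreservesMonomorphisms :=
    Functor.preservesMonomorphisms_of_adjunction (CxOX.extZeroAdj V.ι)
  haveI : Mono (R.map K.arrow ≫ e.hom) := by
    have : Mono (R.map K.arrow) := R.map_mono K.arrow
    exact mono_comp' this inferInstance
  have hinj : ∀ a, Injective (R.obj (I a)) := fun a => by
    haveI := hI a
    exact RestrKInj.injective_restrict V (I a)
  obtain ⟨ψ'', hψ''⟩ := exists_extension_coprod (R.map K.arrow ≫ e.hom)
    (fun a => R.obj (I a)) hinj (R.map φ ≫ pc.hom)
  refine exists_extension' V.ι (∐ I) (unitM V.toScheme) K.arrow φ (e.hom ≫ ψ'' ≫ pc.inv) ?_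
  calc R.map K.arrow ≫ e.hom ≫ ψ'' ≫ pc.inv
      = ((R.map K.arrow ≫ e.hom) ≫ ψ'') ≫ pc.inv := by simp only [Category.assoc]
    _ = (R.map φ ≫ pc.hom) ≫ pc.inv := by rw [hψ'']
    _ = R.map φ := by rw [Category.assoc, Iso.hom_inv_id, Category.comp_id]

end Groth.Agent.Lib.Helper17.BaerMod
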