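import Mathlib
import Groth.Agent.Lib.Helper25.InjIndec

/-!
# Injective hulls of `A ⧸ p`: elements outside `p` act bijectively, elements of `p` act
locally nilpotently (helper17)
-/

set_option autoImplicit false

universe u

namespace Groth.Agent.Lib.Helper17.TildeInj

open InjHull

variable {A : Type u} [CommRing A]

/-- a module on which the elements outside `p` act bijectively and the elements of `p` act
locally nilpotently. -/
structure IsSkyLike (p : Ideal A) (E : Type u) [AddCommGroup E] [Module A E] : Prop where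
  bij : ∀ s : A, s ∉ p → Function.Bijective (fun e : E => s • e)
  nil : ∀ f : A, f ∈ p → ∀ e : E, ∃ n : ℕ, f ^ n • e = 0

variable (p : Ideal A) [p.IsPrime] {E : Type u} [AddCommGroup E] [Module A E]

theorem smul_injective_of_hull (g : (A ⧸ p) →ₗ[A] E) (hg : IsInjectiveHull g) (s : A)
    (hs : s ∉ p) : Function.Injective (fun e : E => s • e) := by
  let μ : E →ₗ[A] E := LinearMap.lsmul A E s
  have hμ : LinearMap.ker μ = ⊥ := by
    by_contra hne
    have h2 := hg.essential _ hne
    apply h2
    rw [eq_bot_iff]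
    rintro x ⟨hx1, ⟨k, rfl⟩⟩
    have hx1' : s • g k = 0 := hx1
    rw [← map_smul] at hx1'
    have hk : s • k = 0 := hg.injective (by rw [hx1', map_zero])
    obtain ⟨a, rfl⟩ := Ideal.Quotient.mk_surjective k
    have : Ideal.Quotient.mk p (s * a) = 0 := by
      rw [← hk]; rfl
    rw [Ideal.Quotient.eq_zero_iff_mem] at this
    have ha : a ∈ p := (Ideal.IsPrime.mem_or_mem inferInstance this).resolve_left hs
    have : Ideal.Quotient.mk p a = 0 := Ideal.Quotient.eq_zero_iff_mem.2 ha
    rw [this, map_zero]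
    exact Submodule.zero_mem _
  exact LinearMap.ker_eq_bot.1 hμ

theorem smul_bijective_of_hull (g : (A ⧸ p) →ₗ[A] E) (hg : IsInjectiveHull g) (s : A)
    (hs : s ∉ p) : Function.Bijective (fun e : E => s • e) := by
  have hinj := smul_injective_of_hull p g hg s hs
  refine ⟨hinj, ?_⟩
  let μ : E →ₗ[A] E := LinearMap.lsmul A E s
  haveI := hg.isInjective
  obtain ⟨r, hr⟩ := Module.Injective.out (R := A) (Q := E) μ hinj LinearMap.id
  intro e
  refine ⟨r e, ?_⟩
  change s • r e = e
  rw [← map_smul]
  exact hr e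

theorem nil_of_hull [IsNoetherianRing A] (g : (A ⧸ p) →ₗ[A] E) (hg : IsInjectiveHull g) (f : A)
    (hf : f ∈ p) (e : E) : ∃ n : ℕ, f ^ n • e = 0 := by
  -- the ascending chain of annihilators of `f ^ n • e`
  let c : ℕ →o Ideal A :=
    { toFun := fun n => LinearMap.ker (LinearMap.toSpanSingleton A E (f ^ n • e))
      monotone' := by
        apply monotone_nat_of_le_succ
        intro n a ha
        rw [LinearMap.mem_ker, LinearMap.toSpanSingleton_apply] at ha ⊢
        rw [pow_succ', mul_smul, smul_comm, ha, smul_zero] }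
  obtain ⟨n, hn⟩ := monotone_stabilizes_iff_noetherian.2 inferInstance c
  refine ⟨n, ?_⟩
  by_contra hne
  have hN : Submodule.span A {f ^ n • e} ≠ ⊥ := by
    rw [Ne, Submodule.span_singleton_eq_bot]; exact hne
  apply hg.essential _ hN
  rw [eq_bot_iff]
  rintro x ⟨hx1, ⟨k, rfl⟩⟩
  obtain ⟨b, hb⟩ := Submodule.mem_span_singleton.1 hx1
  have hfk : f • k = 0 := by
    obtain ⟨a, rfl⟩ := Ideal.Quotient.mk_surjective k
    change Ideal.Quotient.mk p (f * a) = 0
    rw [Ideal.Quotient.eq_zero_iff_mem]
    exact p.mul_mem_right a hf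
  have h1 : b ∈ c (n + 1) := by
    change b ∈ LinearMap.ker (LinearMap.toSpanSingleton A E (f ^ (n + 1) • e))
    rw [LinearMap.mem_ker, LinearMap.toSpanSingleton_apply, pow_succ', mul_smul, smul_comm, hb,
      ← map_smul, hfk, map_zero]
  have h2 : b ∈ c n := by rw [hn (n + 1) (Nat.le_succ n)]; exact h1
  have h3 : b • f ^ n • e = 0 := by
    have : b ∈ LinearMap.ker (LinearMap.toSpanSingleton A E (f ^ n • e)) := h2
    rwa [LinearMap.mem_ker, LinearMap.toSpanSingleton_apply] at this
  rw [Submodule.mem_bot, ← hb, h3]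

theorem isSkyLike_of_hull [IsNoetherianRing A] (g : (A ⧸ p) →ₗ[A] E) (hg : IsInjectiveHull g) :
    IsSkyLike p E :=
  ⟨fun s hs => smul_bijective_of_hull p g hg s hs, fun f hf e => nil_of_hull p g hg f hf e⟩

/-- over a Noetherian ring, every injective module is an internal direct sum of injective
submodules, each sky-like for some prime. -/
theorem exists_isInternal_isSkyLike [IsNoetherianRing A] (I : Type u) [AddCommGroup I] [Module A I]
    (hI : Module.Injective A I) :
    ∃ (ι : Type u) (_ : DecidableEq ι) (E : ι → Submodule A I), DirectSum.IsInternal E ∧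
      ∀ i, Module.Injective A ↥(E i) ∧ ∃ (p : Ideal A) (_ : p.IsPrime), IsSkyLike p ↥(E i) := by
  classical
  obtain ⟨S, h1, h2⟩ := Groth.Agent.Lib.Helper25.exists_isInternal_indecomposable_aux I hI
  refine ⟨S, inferInstance, Subtype.val, h1 _, fun i => ⟨(h2 i).2, ?_⟩⟩
  obtain ⟨p, hp, f, hf⟩ :=
    Groth.Agent.Lib.Helper25.exists_hull_quotient_of_indecomposable (h2 i).1 (h2 i).2
  exact ⟨p, hp, isSkyLike_of_hull p f hf⟩

end Groth.Agent.Lib.Helper17.TildeInj
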