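import Mathlib
import Groth.Agent.Lib.Helper17.TildeInj1
import Groth.Agent.Lib.Helper28.StalkAdj1
import Groth.Agent.Lib.Helper17.ZClosLib
import Groth.Agent.Lib.Helper29.QCohExact
import Groth.Agent.Lib.Helper28.DCohStalk1

/-!
# The sheaf associated with a sky-like module is a skyscraper (helper17)
-/

set_option autoImplicit false

universe u

open CategoryTheory Limits AlgebraicGeometry TopologicalSpace Opposite

namespace Groth.Agent.Lib.Helper17.TildeInj

open Groth.Agent.Lib.Helper29.QCoh Groth.Agent.Lib.Helper28.StalkTensor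

variable {R : CommRingCat.{u}} (M : ModuleCat.{u} R) (x : Spec R)

lemma germ_toOpen (U : (Spec R).Opens) (hx : x ∈ U) (m : M) :
    (tilde M).presheaf.germ U x hx ((tilde.toOpen M U).hom m) = (tilde.toStalk M x).hom m := by
  have h1 : (tilde.toOpen M U).hom m =
      (tilde M).presheaf.map (homOfLE (le_top : U ≤ ⊤)).op ((tilde.toOpen M ⊤).hom m) := rfl
  rw [h1]
  exact TopCat.Presheaf.germ_res_apply (tilde M).presheaf (homOfLE (le_top : U ≤ ⊤)) x hx _

/-- stalks of the sheaf of a sky-like module vanish away from the specializations of the point -/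
lemma stalk_eq_zero (h : IsSkyLike x.asIdeal M) (y : Spec R) (hy : ¬ x.asIdeal ≤ y.asIdeal)
    (t : (tilde M).presheaf.stalk y) : t = 0 := by
  obtain ⟨f, hfp, hfq⟩ := Set.not_subset.1 hy
  obtain ⟨⟨m, s⟩, rfl⟩ :=
    IsLocalizedModule.mk'_surjective y.asIdeal.primeCompl (tilde.toStalk M y).hom t
  obtain ⟨n, hn⟩ := h.nil f hfp m
  change IsLocalizedModule.mk' (tilde.toStalk M y).hom m s = 0
  rw [IsLocalizedModule.mk'_eq_zero']
  exact ⟨⟨f ^ n, y.asIdeal.primeCompl.pow_mem hfq n⟩, hn⟩

lemma subsingleton_sections (h : IsSkyLike x.asIdeal M) (U : (Spec R).Opens) (hx : x ∉ U) :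
    Subsingleton Γ(tilde M, U) := by
  suffices ∀ s : Γ(tilde M, U), s = 0 from ⟨fun a b => (this a).trans (this b).symm⟩
  intro s
  apply eq_zero_of_germ_eq_zero
  intro y hy
  apply stalk_eq_zero M x h y
  intro hle
  apply hx
  have : x ⤳ y := (PrimeSpectrum.le_iff_specializes x y).1 hle
  exact this.mem_open U.2 hy

lemma toStalk_bijective (h : IsSkyLike x.asIdeal M) :
    Function.Bijective (tilde.toStalk M x).hom := by
  constructor
  · rw [injective_iff_map_eq_zero]
    intro m hm
    obtain ⟨s, hs⟩ :=
      (IsLocalizedModule.eq_zero_iff x.asIdeal.primeCompl (tilde.toStalk M x).hom).1 hm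
    exact (h.bij s.1 s.2).1 (show s.1 • m = s.1 • (0 : M) from hs.trans (smul_zero _).symm)
  · intro t
    obtain ⟨⟨m, s⟩, hms⟩ := IsLocalizedModule.surj x.asIdeal.primeCompl (tilde.toStalk M x).hom t
    obtain ⟨m', hm'⟩ := (h.bij s.1 s.2).2 m
    refine ⟨m', ?_⟩
    have hu := IsLocalizedModule.map_units (tilde.toStalk M x).hom s
    rw [Module.End.isUnit_iff] at hu
    apply hu.1
    change s.1 • (tilde.toStalk M x).hom m' = s.1 • t
    rw [← map_smul]
    change (tilde.toStalk M x).hom (s.1 • m') = s • t
    rw [hms]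
    exact congrArg _ hm'


lemma toOpen_surjective_of_bij (g : R) (hg : Function.Bijective (fun e : M => g • e)) :
    Function.Surjective (tilde.toOpen M (PrimeSpectrum.basicOpen g)).hom := by
  intro s'
  obtain ⟨⟨m, t⟩, hmt⟩ := IsLocalizedModule.surj (Submonoid.powers g)
    (tilde.toOpen M (PrimeSpectrum.basicOpen g)).hom s'
  obtain ⟨k, hk⟩ := t.2
  have hbij : Function.Bijective (fun e : M => t.1 • e) := by
    rw [← hk]
    clear hk hmt
    induction k with
    | zero =>
      have : (fun e : M => g ^ 0 • e) = id := by funext e; simp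
      rw [this]; exact Function.bijective_id
    | succ k ih =>
      have : (fun e : M => g ^ (k + 1) • e) = (fun e : M => g ^ k • e) ∘ (fun e : M => g • e) := by
        funext e
        change g ^ (k + 1) • e = g ^ k • g • e
        rw [pow_succ, mul_smul]
      rw [this]
      exact ih.comp hg
  obtain ⟨m'', hm''⟩ := hbij.2 m
  refine ⟨m'', ?_⟩
  have hu := IsLocalizedModule.map_units (tilde.toOpen M (PrimeSpectrum.basicOpen g)).hom t
  rw [Module.End.isUnit_iff] at hu
  apply hu.1
  change t.1 • (tilde.toOpen M (PrimeSpectrum.basicOpen g)).hom m'' = t.1 • s'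
  rw [← map_smul]
  change (tilde.toOpen M (PrimeSpectrum.basicOpen g)).hom (t.1 • m'') = t • s'
  rw [hmt]
  exact congrArg _ hm''

lemma germ_injective (h : IsSkyLike x.asIdeal M) (U : (Spec R).Opens) (hx : x ∈ U) :
    Function.Injective ((tilde M).presheaf.germ U x hx) := by
  rw [injective_iff_map_eq_zero]
  intro s hs
  apply eq_zero_of_germ_eq_zero
  intro y hy
  obtain ⟨_, ⟨_, ⟨g, rfl⟩, rfl⟩, hyg, hgU⟩ :=
    PrimeSpectrum.isBasis_basic_opens.exists_subset_of_mem_open hy U.2
  have hgU' : PrimeSpectrum.basicOpen g ≤ U := hgU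
  rw [← germ_res (tilde M) hgU' y hyg s]
  suffices res (tilde M) hgU' s = 0 by rw [this, map_zero]
  by_cases hxg : x ∈ PrimeSpectrum.basicOpen g
  · have hgp : g ∉ x.asIdeal := hxg
    obtain ⟨m'', hm''⟩ := toOpen_surjective_of_bij M g (h.bij g hgp) (res (tilde M) hgU' s)
    have h1 : (tilde.toStalk M x).hom m'' = 0 := by
      rw [← germ_toOpen M x (PrimeSpectrum.basicOpen g) hxg m'']
      refine (congrArg _ hm'').trans ?_
      rw [germ_res]
      exact hs
    have h2 : m'' = 0 := (toStalk_bijective M x h).1 (h1.trans (map_zero _).symm)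
    rw [← hm'', h2]
    exact map_zero _
  · haveI := subsingleton_sections M x h (PrimeSpectrum.basicOpen g) hxg
    exact Subsingleton.elim _ _

lemma germ_surjective (h : IsSkyLike x.asIdeal M) (U : (Spec R).Opens) (hx : x ∈ U) :
    Function.Surjective ((tilde M).presheaf.germ U x hx) := by
  intro t
  obtain ⟨m, hm⟩ := (toStalk_bijective M x h).2 t
  exact ⟨(tilde.toOpen M U).hom m, (germ_toOpen M x U hx m).trans hm⟩

/-- the canonical morphism from a module to the skyscraper of its stalk -/
noncomputable def toSkyStalk (F : (Spec R).Modules) :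
    F ⟶ (skyF x).obj ((DerSch.stalkFunctor (Spec R) x).obj F) :=
  toSkyF x F _ (𝟙 _)

lemma toSkyStalk_app (F : (Spec R).Modules) (V : (Spec R).Opens) (m : Γ(F, V))
    (hV : PLift (x ∈ V)) :
    skySec x ((toSkyStalk x F).app V m) hV = F.presheaf.germ V x hV.down m := rfl

theorem isIso_toSkyStalk (h : IsSkyLike x.asIdeal M) : IsIso (toSkyStalk x (tilde M)) := by
  rw [ZClosLib.isIso_iff_bijective_app]
  intro V
  by_cases hx : x ∈ V
  · constructor
    · intro m m' hmm
      apply germ_injective M x h V hx
      have := congrArg (fun φ => skySec x φ ⟨hx⟩) hmm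
      exact this
    · intro φ
      obtain ⟨m, hm⟩ := germ_surjective M x h V hx (skySec x φ ⟨hx⟩)
      refine ⟨m, ?_⟩
      change skySec x ((toSkyStalk x (tilde M)).app V m) = skySec x φ
      funext hV
      cases hV
      exact hm
  · haveI := subsingleton_sections M x h V hx
    constructor
    · intro m m' _
      exact Subsingleton.elim _ _
    · intro φ
      refine ⟨0, ?_⟩
      change skySec x ((toSkyStalk x (tilde M)).app V 0) = skySec x φ
      funext hV
      exact (hx hV.down).elim

theorem injective_stalk_tilde [IsNoetherianRing R] [Module.Injective R M] :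
    Module.Injective ((Spec R).presheaf.stalk x) ((tilde M).presheaf.stalk x) := by
  let _ : Algebra R ((Spec R).presheaf.stalk x) := StructureSheaf.stalkAlgebra (R := R) x
  have : IsLocalization.AtPrime ((Spec R).presheaf.stalk x) x.asIdeal :=
    StructureSheaf.IsLocalization.to_stalk (R := R) x
  have : IsScalarTower R ((Spec R).presheaf.stalk x) ((tilde M).presheaf.stalk x) :=
    ⟨fun r s t => by
      change ((algebraMap R ((Spec R).presheaf.stalk x) r) * s) • t =
        (algebraMap R ((Spec R).presheaf.stalk x) r) • (s • t)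
      rw [mul_smul]⟩
  exact Module.injective_of_isLocalizedModule x.asIdeal.primeCompl (tilde.toStalk M x).hom

/-- the sheaf associated with an injective sky-like module over a Noetherian ring is an injective
`O`-module. -/
theorem injective_tilde_of_isSkyLike [IsNoetherianRing R] [Module.Injective R M]
    (h : IsSkyLike x.asIdeal M) : Injective (tilde M) := by
  haveI := isIso_toSkyStalk M x h
  have hQ : Injective ((DerSch.stalkFunctor (Spec R) x).obj (tilde M)) :=
    Module.injective_object_of_injective_module (inj := injective_stalk_tilde M x)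
  haveI : (DerSch.stalkFunctor (Spec R) x).PreservesMonomorphisms := inferInstance
  have h2 : Injective ((skyF x).obj ((DerSch.stalkFunctor (Spec R) x).obj (tilde M))) :=
    Injective.injective_of_adjoint (stalkSkyAdj x) _
  exact Injective.of_iso (asIso (toSkyStalk x (tilde M))).symm h2

end Groth.Agent.Lib.Helper17.TildeInj
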