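import Mathlib
import Groth.Agent.Lib.Helper17.TildeInj2
import Groth.Agent.Lib.Helper17.Baer7

/-!
# The sheaf associated with an injective module over a Noetherian ring is an injective
`O`-module (helper17)
-/

set_option autoImplicit false

universe u

open CategoryTheory Limits AlgebraicGeometry TopologicalSpace Opposite

namespace Groth.Agent.Lib.Helper17.TildeInj

/-- **Key lemma** (Hartshorne, Residues and Duality II.7.14): for `R` Noetherian and `M` an
injective `R`-module, `M~` is an injective `O_{Spec R}`-module. -/
theorem injective_tilde (R : CommRingCat.{u}) [IsNoetherianRing R] (M : ModuleCat.{u} R)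
    [hM : Module.Injective R M] : Injective (tilde M) := by
  obtain ⟨ι, _, E, hint, hE⟩ := exists_isInternal_isSkyLike (A := R) M hM
  let e : (DirectSum ι fun i => E i) ≃ₗ[R] M :=
    LinearEquiv.ofBijective (DirectSum.coeLinearMap E) hint
  let N : ι → ModuleCat.{u} R := fun i => ModuleCat.of R (E i)
  let i1 : M ≅ ∐ N := e.symm.toModuleIso ≪≫ (ModuleCat.coprodIsoDirectSum N).symm
  let i2 : (tilde.functor R).obj (∐ N) ≅ ∐ fun i => (tilde.functor R).obj (N i) :=
    PreservesCoproduct.iso (tilde.functor R) N
  have hI : ∀ i, Injective ((tilde.functor R).obj (N i)) := by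
    intro i
    obtain ⟨hinj, p, hp, hsky⟩ := hE i
    haveI : Module.Injective R (N i) := hinj
    exact injective_tilde_of_isSkyLike (N i) (⟨p, hp⟩ : PrimeSpectrum R) hsky
  haveI : IsLocallyNoetherian (Spec R) := inferInstance
  have h3 : Injective (∐ fun i => (tilde.functor R).obj (N i)) :=
    BaerMod.injective_coprod _ hI
  exact Injective.of_iso ((tilde.functor R).mapIso i1 ≪≫ i2).symm h3

end Groth.Agent.Lib.Helper17.TildeInj
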