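import Mathlib
import Groth.Agent.Lib.Helper17.TildeInj3
import Groth.Agent.Lib.Helper29.QCohGen

/-!
# Quasi-coherent modules with injective stalks on locally Noetherian schemes (helper17)
-/

set_option autoImplicit false

universe u

open CategoryTheory Limits AlgebraicGeometry TopologicalSpace Opposite

namespace Groth.Agent.Lib.Helper17.TildeInj

open Groth.Agent.Lib.Helper29.QCoh

attribute [local instance] RingHomInvPair.of_ringEquiv in
/-- injectivity of stalks passes to restrictions along open immersions -/
theorem injective_stalk_restrict {X Y : Scheme.{u}} (f : Y ⟶ X) [IsOpenImmersion f]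
    (F : X.Modules) (y : Y)
    (h : Module.Injective (X.presheaf.stalk (f y)) (F.presheaf.stalk (f y))) :
    Module.Injective (Y.presheaf.stalk y) ((F.restrict f).presheaf.stalk y) := by
  let e₁ : X.presheaf.stalk (f y) ≃+* Y.presheaf.stalk y :=
    (asIso (f.stalkMap y)).commRingCatIsoToRingEquiv
  let a : F.presheaf.stalk (f y) ≃+ (F.restrict f).presheaf.stalk y :=
    (restrictStalkIso f F y).symm.addCommGroupIsoToAddEquiv
  let e₂ : F.presheaf.stalk (f y) ≃ₛₗ[RingHomClass.toRingHom e₁] (F.restrict f).presheaf.stalk y :=
    { a with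
      map_smul' := fun r t => restrictStalkIso_inv_smul f F y r t }
  exact Module.Injective.of_ringEquiv e₁ e₂


/-- the point of the spectrum attached to a maximal ideal -/
abbrev pt {R : CommRingCat.{u}} (P : Ideal R) [P.IsMaximal] : PrimeSpectrum R := ⟨P, inferInstance⟩

theorem injective_of_stalks_tilde (R : CommRingCat.{u}) [IsNoetherianRing R] (M : ModuleCat.{u} R)
    (hst : ∀ y : Spec R,
      Module.Injective ((Spec R).presheaf.stalk y) ((tilde M).presheaf.stalk y)) :
    Module.Injective R M := by
  let Rp : ∀ (P : Ideal R) [P.IsMaximal], Type u := fun P _ =>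
    (Spec R).presheaf.stalk (pt P)
  let Mp : ∀ (P : Ideal R) [P.IsMaximal], Type u := fun P _ =>
    (tilde M).presheaf.stalk (pt P)
  letI iAlg : ∀ (P : Ideal R) [P.IsMaximal], Algebra R (Rp P) := fun P _ =>
    StructureSheaf.stalkAlgebra (R := R) (pt P)
  haveI iLoc : ∀ (P : Ideal R) [P.IsMaximal], IsLocalization.AtPrime (Rp P) P := fun P _ =>
    StructureSheaf.IsLocalization.to_stalk (R := R) (pt P)
  haveI iST : ∀ (P : Ideal R) [P.IsMaximal], IsScalarTower R (Rp P) (Mp P) := fun P _ =>
    ⟨fun r s t => by
      change ((algebraMap R (Rp P) r) * s) • t = (algebraMap R (Rp P) r) • (s • t)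
      rw [mul_smul]⟩
  have iLM : ∀ x : PrimeSpectrum R,
      IsLocalizedModule x.asIdeal.primeCompl (tilde.toStalk M x).hom :=
    fun x => inferInstance
  exact @Module.injective_of_localization_maximal' R _ M _ _ Rp (fun P _ => inferInstance)
    (fun P _ => inferInstance) iAlg iLoc Mp (fun P _ => inferInstance)
    (fun P _ => inferInstanceAs (Module R ((tilde M).presheaf.stalk (pt P))))
    (fun P _ => inferInstanceAs (Module ((Spec R).presheaf.stalk (pt P))
      ((tilde M).presheaf.stalk (pt P)))) iST
    (fun P _ => (tilde.toStalk M (pt P)).hom)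
    (fun P _ => iLM (pt P)) _ _
    (fun P hP => hst (pt P))

/-- a quasi-coherent module on the spectrum of a Noetherian ring whose stalks are injective is an
injective module. -/
theorem injective_of_stalks_spec (R : CommRingCat.{u}) [IsNoetherianRing R]
    (N : (Spec R).Modules) [N.IsQuasicoherent]
    (h : ∀ y : Spec R, Module.Injective ((Spec R).presheaf.stalk y) (N.presheaf.stalk y)) :
    Injective N := by
  let M : ModuleCat.{u} R := (modulesSpecToSheaf.obj N).presheaf.obj (.op ⊤)
  haveI : IsIso N.fromTildeΓ := inferInstance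
  have hst : ∀ y : Spec R,
      Module.Injective ((Spec R).presheaf.stalk y) ((tilde M).presheaf.stalk y) := by
    intro y
    have h1 : Injective ((DerSch.stalkFunctor (Spec R) y).obj N) :=
      Module.injective_object_of_injective_module (inj := h y)
    have h2 : Injective ((DerSch.stalkFunctor (Spec R) y).obj (tilde M)) :=
      Injective.of_iso ((DerSch.stalkFunctor (Spec R) y).mapIso (asIso N.fromTildeΓ)).symm h1
    exact Module.injective_module_of_injective_object _ _ (inj := h2)
  haveI hM : Module.Injective R M := injective_of_stalks_tilde R M hst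
  exact Injective.of_iso (asIso N.fromTildeΓ) (injective_tilde R M)


open Groth.Agent.Lib.Helper17.BaerMod Groth.Agent.Lib.Helper17.NoethObj in
/-- a module which is injective locally (along open immersions covering `X`) is injective -/
theorem injective_of_locally' {X : Scheme.{u}} (F : X.Modules)
    (hF : ∀ x : X, ∃ (V : Scheme.{u}) (j : V ⟶ X) (_ : IsOpenImmersion j),
      x ∈ Set.range j.base ∧ Injective ((Scheme.Modules.restrictFunctor j).obj F)) :
    Injective F := by
  by_cases hX : Nonempty X
  · let P : ObjectProperty X.Modules := fun G =>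
      ∃ (U : Scheme.{u}) (j : U ⟶ X) (_ : IsOpenImmersion j),
        Injective ((Scheme.Modules.restrictFunctor j).obj F) ∧ G = (CxOX.extZero j).obj (unitM U)
    have hsep : P.IsSeparating := by
      apply isSeparating
      intro W x hx
      obtain ⟨V, j, hj, ⟨v, rfl⟩, hinj⟩ := hF x
      have hinj' : Injective ((Scheme.Modules.restrictFunctor ((j ⁻¹ᵁ W).ι ≫ j)).obj F) := by
        have := RestrKInj.injective_restrict (j ⁻¹ᵁ W) ((Scheme.Modules.restrictFunctor j).obj F)
        exact Injective.of_iso ((Scheme.Modules.restrictFunctorComp (j ⁻¹ᵁ W).ι j).app F).symm this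
      refine ⟨(j ⁻¹ᵁ W).toScheme, (j ⁻¹ᵁ W).ι ≫ j, inferInstance, ?_, ?_,
        ⟨_, _, inferInstance, hinj', rfl⟩⟩
      · exact ⟨⟨v, hx⟩, rfl⟩
      · rintro _ ⟨y, rfl⟩
        exact y.2
    have hne : ∃ G, P G := by
      obtain ⟨x⟩ := hX
      obtain ⟨V, j, hj, -, hinj⟩ := hF x
      exact ⟨_, V, j, hj, hinj, rfl⟩
    apply Baer.injective_of_extends.{u} P hsep hne F
    rintro G ⟨U, j, hj, hinj, rfl⟩ K φ
    exact exists_extension j F hinj (unitM U) K.arrow φ
  · have hz : IsZero F := by
      rw [isZero_iff_stalk_subsingleton]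
      intro x
      exact (hX ⟨x⟩).elim
    exact hz.injective

/-- **Hartshorne, Residues and Duality II.7.17 (iv) ⇒ (i)**: a quasi-coherent module on a locally
Noetherian scheme all of whose stalks are injective is an injective module. -/
theorem injective_of_stalks {X : Scheme.{u}} [IsLocallyNoetherian X] (F : X.Modules)
    [F.IsQuasicoherent]
    (h : ∀ x : X, Module.Injective (X.presheaf.stalk x) (F.presheaf.stalk x)) : Injective F := by
  apply injective_of_locally'
  intro x
  obtain ⟨_, ⟨U, hU, rfl⟩, hxU, -⟩ :=
    X.isBasis_affineOpens.exists_subset_of_mem_open (Set.mem_univ x) isOpen_univ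
  let R : CommRingCat.{u} := Γ(X, U)
  let φ : Spec R ⟶ X := hU.fromSpec
  haveI : IsNoetherianRing R := IsLocallyNoetherian.component_noetherian ⟨U, hU⟩
  refine ⟨Spec R, φ, inferInstance, ?_, ?_⟩
  · rw [hU.range_fromSpec]; exact hxU
  · haveI : ((Scheme.Modules.restrictFunctor φ).obj F).IsQuasicoherent := inferInstance
    apply injective_of_stalks_spec R
    intro y
    exact injective_stalk_restrict φ F y (h (φ y))

end Groth.Agent.Lib.Helper17.TildeInj
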