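import Mathlib
import Groth.Agent.Lib.Helper17.HomGlobal
import Groth.Agent.Lib.Helper17.TildeInj4
import Groth.Agent.Lib.Helper29.TildeFin
import Groth.Agent.S9498

/-!
# Baer's criterion through the Ext sheaves, on the spectrum of a Noetherian ring
-/

set_option autoImplicit false

universe u

open CategoryTheory Limits Opposite AlgebraicGeometry

namespace Groth.Agent.Lib.Helper17.BaerExt

open Groth.Agent.Lib.Helper17.IHom Groth.Agent.Lib.Helper17.HomFree
  Groth.Agent.Lib.Helper17.HomFreeSch Groth.Agent.Lib.Helper17.HomGlobal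
  Groth.Agent.Lib.Helper17.ExtCoh Groth.Agent.Lib.Helper17.TildeInj
  Groth.Agent.Lib.Helper29.QCoh Groth.Agent.Lib.Helper5.SheafHomSeq
  Groth.Agent.Lib.Helper5.ResExt

attribute [local instance] hasSheafHom

variable (A : CommRingCat.{u}) [IsNoetherianRing A]

lemma isCoh_tilde (K : ModuleCat.{u} A) [Module.Finite A K] : Coh.IsCoh (tilde K) :=
  ⟨inferInstance, isFiniteType_tilde K⟩

/-- the module short exact sequence `0 ⟶ I ⟶ A ⟶ A/I ⟶ 0` -/
noncomputable def sesMod (I : Ideal A) : ShortComplex (ModuleCat.{u} A) :=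
  ShortComplex.mk (ModuleCat.ofHom (X := ModuleCat.of A I) (Y := ModuleCat.of A A) I.subtype)
    (ModuleCat.ofHom (X := ModuleCat.of A A) (Y := ModuleCat.of A (A ⧸ I)) (Submodule.mkQ I))
    (by
      ext x
      exact (Submodule.Quotient.mk_eq_zero I).2 x.2)

lemma sesMod_shortExact (I : Ideal A) : (sesMod A I).ShortExact :=
  ModuleCat.shortComplex_shortExact _ (LinearMap.exact_subtype_mkQ I) Subtype.val_injective
    (Submodule.mkQ_surjective I)

variable [HasInjectiveResolutions (ModSite.Mod (Spec A).sheaf)]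

omit [IsNoetherianRing A] in
lemma hmid_unit (N : (Spec A).Modules) (p : ℕ) (hp : 1 ≤ p) :
    IsZero (E N (unitM (Spec A)) p) := by
  obtain ⟨k, rfl⟩ : ∃ k, p = k + 1 := ⟨p - 1, by omega⟩
  exact Groth.Agent.Lib.Helper5.DualBasis.isZero_extSh_succ (O := (Spec A).sheaf)
    (unitM (Spec A))
    (Groth.Agent.Lib.Helper5.LocBasisScheme.hasLocBases_of_isFinLocFree _
      (isFinLocFree_of_iso (freeModOneIso (Spec A)) (isFinLocFree_freeMod (Spec A) 1))) k N

/-- **Baer's criterion via the Ext sheaves**: a quasi-coherent module `N` on `Spec A` (`A`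
Noetherian) with `ℰxt¹((A/I)~, N) = 0` for all ideals `I` is injective. -/
theorem injective_of_ext_vanishing (N : (Spec A).Modules) [N.IsQuasicoherent]
    (h : ∀ I : Ideal A, IsZero ((ModSite.extSh (O := (Spec A).sheaf)
      (tilde (ModuleCat.of A (A ⧸ I))) 1).obj N)) : Injective N := by
  haveI : PreservesFiniteLimits (tilde.functor A) := (Groth.Agent.S9498.result A).1
  let M : ModuleCat.{u} A := (modulesSpecToSheaf.obj N).presheaf.obj (.op ⊤)
  haveI : IsIso N.fromTildeΓ := inferInstance
  let eN : tilde M ≅ N := asIso N.fromTildeΓ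
  suffices hM : Module.Injective A M from Injective.of_iso eN (injective_tilde A M)
  apply Module.Baer.injective
  intro I g
  -- the short exact sequence of sheaves
  let S : ShortComplex (Spec A).Modules := (sesMod A I).map (tilde.functor A)
  have hS : S.ShortExact := (sesMod_shortExact A I).map_of_exact (tilde.functor A)
  obtain ⟨q, hqe, hq, hq'⟩ := exists_q (O := (Spec A).sheaf) (𝟭 (ModSite.Mod (Spec A).sheaf)) N
    hP hS (hmid_unit A N)
  let f : (SH (tilde (ModuleCat.of A A))).obj N ⟶ (SH (tilde (ModuleCat.of A I))).obj N :=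
    (ExtSupp.sheafHomMap (O := (Spec A).sheaf) S.f).app N
  have hq0 : q = 0 := (h I).eq_of_tgt _ _
  haveI : Epi f := (ShortComplex.exact_iff_epi _ hq0).1 hq'
  haveI : ((SH (tilde (ModuleCat.of A A))).obj N).IsQuasicoherent :=
    isQuasicoherent_hom N _ (isCoh_tilde A (ModuleCat.of A A))
  haveI : ((SH (tilde (ModuleCat.of A I))).obj N).IsQuasicoherent :=
    isQuasicoherent_hom N _ (isCoh_tilde A (ModuleCat.of A I))
  -- the map to extend
  let φ : tilde (ModuleCat.of A I) ⟶ N :=
    (tilde.functor A).map (ModuleCat.ofHom (X := ModuleCat.of A I) (Y := M) g) ≫ eN.hom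
  obtain ⟨s', hs'⟩ := exists_lift_unit f
    (homEquivUnit (O := (Spec A).sheaf) (tilde (ModuleCat.of A I)) N φ)
  let ψ : tilde (ModuleCat.of A A) ⟶ N :=
    (homEquivUnit (O := (Spec A).sheaf) (tilde (ModuleCat.of A A)) N).symm s'
  have hψ : S.f ≫ ψ = φ := by
    have hnat := homEquivUnit_naturality (O := (Spec A).sheaf) S.f N ψ
    have h1 : homEquivUnit (O := (Spec A).sheaf) (tilde (ModuleCat.of A A)) N ψ = s' :=
      Equiv.apply_symm_apply _ s'
    apply (homEquivUnit (O := (Spec A).sheaf) (tilde (ModuleCat.of A I)) N).injective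
    exact hnat.symm.trans ((congrArg (fun t => t ≫ f) h1).trans hs')
  let g'' : ModuleCat.of A A ⟶ M := (tilde.functor A).preimage (ψ ≫ eN.inv)
  have hpre : (tilde.functor A).map g'' = ψ ≫ eN.inv := Functor.map_preimage _ _
  have hg'' : (sesMod A I).f ≫ g'' = ModuleCat.ofHom (X := ModuleCat.of A I) (Y := M) g := by
    apply (tilde.functor A).map_injective
    have h3 : (tilde.functor A).map ((sesMod A I).f ≫ g'') =
        S.f ≫ (tilde.functor A).map g'' := (tilde.functor A).map_comp _ _
    refine h3.trans ?_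
    have e1 : S.f ≫ (tilde.functor A).map g'' = S.f ≫ (ψ ≫ eN.inv) :=
      congrArg (fun t => S.f ≫ t) hpre
    have e2 : S.f ≫ (ψ ≫ eN.inv) = (S.f ≫ ψ) ≫ eN.inv := (Category.assoc _ _ _).symm
    have e3 : (S.f ≫ ψ) ≫ eN.inv = φ ≫ eN.inv := congrArg (fun t => t ≫ eN.inv) hψ
    have e4 : φ ≫ eN.inv =
        (tilde.functor A).map (ModuleCat.ofHom (X := ModuleCat.of A I) (Y := M) g) := by
      exact (Category.assoc _ _ _).trans
        ((congrArg (fun t => (tilde.functor A).map
          (ModuleCat.ofHom (X := ModuleCat.of A I) (Y := M) g) ≫ t) eN.hom_inv_id).trans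
          (Category.comp_id _))
    exact e1.trans (e2.trans (e3.trans e4))
  refine ⟨g''.hom, fun x hx => ?_⟩
  have h2 := congrArg (fun t : ModuleCat.of A I ⟶ M => t.hom ⟨x, hx⟩) hg''
  exact h2

end Groth.Agent.Lib.Helper17.BaerExt
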