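import Mathlib

/-!
# Invariant bilinear forms and reciprocal polynomials (helper17)

For a bilinear form `B` invariant under an endomorphism `M` (`B (M x) (M y) = B x y`):
* `bil_inv_pow`: `B (M^i x) (M^i y) = B x y`.
* `adj`: `B (P(M) x) (M^N y) = B x ((reflect N P)(M) y)` for `natDegree P ≤ N`.
* `adj_iter`: `B (Q(M)^n x) (M^(deg Q * n) y) = B x (Q.reverse(M)^n y)`.
-/

namespace Groth.Agent.Lib.Helper17.BilinReverse

open Polynomial

variable {k : Type*} [Field k] {V : Type*} [AddCommGroup V] [Module k V]

variable {k : Type*} [Field k] {V : Type*} [AddCommGroup V] [Module k V]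

lemma bil_inv_pow (B : LinearMap.BilinForm k V) (M : V →ₗ[k] V)
    (hM : ∀ x y : V, B (M x) (M y) = B x y) (i : ℕ) (x y : V) :
    B ((M ^ i) x) ((M ^ i) y) = B x y := by
  induction i generalizing x y with
  | zero => simp
  | succ i ih => rw [pow_succ, Module.End.mul_apply, Module.End.mul_apply, ih, hM]

lemma adj (B : LinearMap.BilinForm k V) (M : V →ₗ[k] V)
    (hM : ∀ x y : V, B (M x) (M y) = B x y) (N : ℕ) (P : k[X]) (hP : P.natDegree ≤ N) (x y : V) :
    B (aeval M P x) ((M ^ N) y) = B x (aeval M (reflect N P) y) := by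
  revert x y
  refine Polynomial.induction_with_natDegree_le
    (motive := fun P => ∀ x y : V, B (aeval M P x) ((M ^ N) y) = B x (aeval M (reflect N P) y))
    N ?_ ?_ ?_ P hP
  · intro x y; simp
  · intro n r hr hn x y
    rw [reflect_C_mul_X_pow, revAt_le hn]
    simp only [map_mul, aeval_C, map_pow, aeval_X, Module.End.mul_apply, Module.algebraMap_end_apply,
      map_smul, LinearMap.smul_apply]
    congr 1
    have : (M ^ N) y = (M ^ n) ((M ^ (N - n)) y) := by
      rw [← Module.End.mul_apply, ← pow_add]; congr 2; omega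
    rw [this, bil_inv_pow B M hM]
  · intro f g hfg hg hf hg' x y
    rw [reflect_add, map_add, map_add, LinearMap.add_apply, LinearMap.add_apply, map_add,
      LinearMap.add_apply, hf, hg', map_add]

lemma adj_iter (B : LinearMap.BilinForm k V) (M : V →ₗ[k] V)
    (hM : ∀ x y : V, B (M x) (M y) = B x y) (Q : k[X]) (n : ℕ) (x y : V) :
    B ((aeval M Q ^ n) x) ((M ^ (Q.natDegree * n)) y) = B x ((aeval M Q.reverse ^ n) y) := by
  induction n generalizing x y with
  | zero => simp
  | succ n ih =>
    have hc : Commute (aeval M Q.reverse ^ n) (M ^ Q.natDegree) := by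
      have h1 : M ^ Q.natDegree = aeval M (X ^ Q.natDegree : k[X]) := by simp
      have h2 : aeval M Q.reverse ^ n = aeval M (Q.reverse ^ n) := by simp
      rw [h1, h2]
      exact (Commute.all _ _).map (aeval M)
    rw [pow_succ, Module.End.mul_apply, mul_add, mul_one, pow_add, Module.End.mul_apply, ih,
      ← Module.End.mul_apply, hc.eq, Module.End.mul_apply, adj B M hM _ Q le_rfl, pow_succ', Module.End.mul_apply]
    rfl

end Groth.Agent.Lib.Helper17.BilinReverse
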