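import Mathlib
import Groth.Agent.Lib.Helper16.PDRegular
import Groth.Agent.Lib.Helper16.DepthQuotient
import Groth.Agent.Lib.Helper16.CanonicalCM

/-!
# Projective dimension of a Cohen–Macaulay quotient of a regular local ring (localized form)
-/

set_option autoImplicit false

universe u

open CategoryTheory

namespace Groth.Agent.Lib.Helper17.CMPdAlg

open Groth.Agent.Lib.Helper18.CM

variable {A B : Type u} [CommRing A] [CommRing B] [IsNoetherianRing A] [Algebra A B]

/-- depth of `B` localized at the contraction of a prime `P` with `B_P` Cohen–Macaulay. -/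
theorem depth_localized_comap (hsurj : Function.Surjective (algebraMap A B))
    (P : Ideal B) [P.IsPrime] (n : ℕ)
    (hCM : LocCoh.IsCohenMacaulayLocalRing (Localization.AtPrime P))
    (hn : ringKrullDim (Localization.AtPrime P) = n) :
    LocCoh.depth (Localization.AtPrime (P.comap (algebraMap A B)))
      (LocalizedModule (P.comap (algebraMap A B)).primeCompl B) = n := by
  haveI : Module.Finite A B := Module.Finite.of_surjective (Algebra.linearMap A B) hsurj
  rw [← Groth.Agent.Lib.Helper16.Depth.depth_localization_comap_of_surjective hsurj B P]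
  let e : LocalizedModule P.primeCompl B ≃ₗ[B] Localization.AtPrime P :=
    IsLocalizedModule.iso P.primeCompl (Algebra.linearMap B (Localization.AtPrime P))
  let e' : LocalizedModule P.primeCompl B ≃ₗ[Localization.AtPrime P] Localization.AtPrime P :=
    LinearEquiv.extendScalarsOfIsLocalization P.primeCompl (Localization.AtPrime P) e
  rw [depth_congr e']
  exact Groth.Agent.Lib.Helper16.Canon.depth_eq_of_CM hn

theorem pd_localized_of_CM (hsurj : Function.Surjective (algebraMap A B)) (p : Ideal A) [p.IsPrime]
    [IsRegularLocalRing (Localization.AtPrime p)] (N n : ℕ)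
    (hN : ringKrullDim (Localization.AtPrime p) = N)
    (hCM : ∀ (P : Ideal B) [P.IsPrime], P.comap (algebraMap A B) = p →
      LocCoh.IsCohenMacaulayLocalRing (Localization.AtPrime P) ∧
        ringKrullDim (Localization.AtPrime P) = n)
    (M : Type u) [AddCommGroup M] [Module A M] (e : B ≃ₗ[A] M)
    (i : ℕ) (hi : N + 1 ≤ i + n) :
    HasProjectiveDimensionLT
      (ModuleCat.of (Localization.AtPrime p) (LocalizedModule p.primeCompl M)) i := by
  haveI : Module.Finite A B := Module.Finite.of_surjective (Algebra.linearMap A B) hsurj
  haveI : Module.Finite A M := Module.Finite.equiv e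
  refine Groth.Agent.Lib.Helper16.PDR.hasProjectiveDimensionLT_of_le_depth
    (Localization.AtPrime p) N hN i (LocalizedModule p.primeCompl M) ?_
  let eM : LocalizedModule p.primeCompl B ≃ₗ[Localization.AtPrime p]
      LocalizedModule p.primeCompl M :=
    IsLocalizedModule.mapEquiv p.primeCompl (LocalizedModule.mkLinearMap p.primeCompl B)
      (LocalizedModule.mkLinearMap p.primeCompl M) (Localization.AtPrime p) e
  rw [← depth_congr eM]
  by_cases hker : RingHom.ker (algebraMap A B) ≤ p
  · obtain ⟨P, hPprime, hP⟩ : ∃ P : Ideal B, P.IsPrime ∧ P.comap (algebraMap A B) = p := by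
      refine ⟨p.map (algebraMap A B), Ideal.map_isPrime_of_surjective hsurj hker, ?_⟩
      rw [Ideal.comap_map_of_surjective _ hsurj]
      exact sup_eq_left.mpr hker
    obtain ⟨h1, h2⟩ := hCM P hP
    subst hP
    rw [depth_localized_comap hsurj P n h1 h2]
    exact_mod_cast hi
  · obtain ⟨a, ha, hap⟩ := Set.not_subset.mp hker
    haveI : Subsingleton (LocalizedModule p.primeCompl B) := by
      rw [LocalizedModule.subsingleton_iff]
      intro b
      refine ⟨a, hap, ?_⟩
      rw [Algebra.smul_def, (RingHom.mem_ker).mp ha, zero_mul]
    have hd : LocCoh.depth (Localization.AtPrime p) (LocalizedModule p.primeCompl B) = ⊤ := by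
      unfold LocCoh.depth LocCoh.idealDepth
      rw [if_pos (Subsingleton.elim _ _)]
    rw [hd]
    simp

end Groth.Agent.Lib.Helper17.CMPdAlg
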