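import Mathlib
import Groth.Agent.Lib.Helper17.PnReg

/-!
# Codimension of points of projective space in terms of the dimension of their closures
-/

set_option autoImplicit false

universe u

open CategoryTheory Limits AlgebraicGeometry TopologicalSpace Opposite

namespace Groth.Agent.Lib.Helper17.PnCodim

open Groth.Agent.Lib.Helper21.FibDim Groth.Agent.Lib.Helper21.ChartPt
  Groth.Agent.Lib.Helper17.PnReg

variable (k : Type u) [Field k] (n : ℕ)

/-- the dimension of the local ring of `P^n_k` at a point whose closure has dimension `r` -/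
theorem ringKrullDim_stalk_of_closure (z : CohB1.ProjSpace n k) (r : ℕ)
    (hz : topologicalKrullDim ↥(closure ({z} : Set (CohB1.ProjSpace n k))) = (r : WithBot ℕ∞)) :
    r ≤ n ∧ ringKrullDim ((CohB1.ProjSpace n k).presheaf.stalk z) = ((n - r : ℕ) : WithBot ℕ∞) := by
  obtain ⟨a, ha⟩ := exists_nat_trdeg k (CohB1.ProjSpace n k) z
  have h1 := topologicalKrullDim_closure_singleton k (CohB1.ProjSpace n k) z a ha
  have har : a = r := by
    rw [h1] at hz
    exact_mod_cast hz
  obtain ⟨b, hb⟩ := Groth.Agent.Lib.Helper21.exists_nat_eq_ringKrullDim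
    (R := (CohB1.ProjSpace n k).presheaf.stalk z)
  have h2 := trdeg_add_dim k n z a b ha hb
  refine ⟨by omega, ?_⟩
  rw [hb]
  have : b = n - r := by omega
  rw [this]

/-- the dimension of the local ring of `P^n_k` at a point whose closure has dimension less
than `r` -/
theorem lt_ringKrullDim_stalk_of_closure_lt (z : CohB1.ProjSpace n k) (r : ℕ) (hr : r ≤ n)
    (hz : topologicalKrullDim ↥(closure ({z} : Set (CohB1.ProjSpace n k))) < (r : WithBot ℕ∞)) :
    ((n - r + 1 : ℕ) : WithBot ℕ∞) ≤ ringKrullDim ((CohB1.ProjSpace n k).presheaf.stalk z) := by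
  obtain ⟨a, ha⟩ := exists_nat_trdeg k (CohB1.ProjSpace n k) z
  have h1 := topologicalKrullDim_closure_singleton k (CohB1.ProjSpace n k) z a ha
  have har : a < r := by
    rw [h1] at hz
    exact_mod_cast hz
  obtain ⟨b, hb⟩ := Groth.Agent.Lib.Helper21.exists_nat_eq_ringKrullDim
    (R := (CohB1.ProjSpace n k).presheaf.stalk z)
  have h2 := trdeg_add_dim k n z a b ha hb
  rw [hb]
  have : n - r + 1 ≤ b := by omega
  exact_mod_cast this

/-- the closure of the image of a point under a closed immersion has the dimension of the closure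
of the point -/
theorem topologicalKrullDim_closure_image {X P : Scheme.{u}} (ι : X ⟶ P) [IsClosedImmersion ι]
    (x : X) :
    topologicalKrullDim ↥(closure ({ι x} : Set P)) =
      topologicalKrullDim ↥(closure ({x} : Set X)) := by
  have h3 : closure (ι '' ({x} : Set X)) = ι '' closure ({x} : Set X) :=
    ι.isClosedEmbedding.closure_image_eq _
  rw [Set.image_singleton] at h3
  rw [h3]
  exact (IsHomeomorph.topologicalKrullDim_eq _
    (ι.isEmbedding.homeomorphImage (closure ({x} : Set X))).isHomeomorph).symm

end Groth.Agent.Lib.Helper17.PnCodim
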