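import Mathlib

/-!
# Dimension shifting for `Ext` modules in a linear abelian category (second variable)
-/

set_option autoImplicit false

universe w v u t

open CategoryTheory Limits Abelian

namespace Groth.Agent.Lib.Helper17.ExtModShift

variable {R : Type t} [CommRing R] {C : Type u} [Category.{v} C] [Abelian C] [Linear R C]
  [HasExt.{w} C] (X : C) {S : ShortComplex C} (hS : S.ShortExact)

/-- the connecting map `Ext^n(X, S.X₃) ⟶ Ext^{n+1}(X, S.X₁)`, `R`-linearly -/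
noncomputable def δ (n m : ℕ) (h : n + 1 = m) : Ext X S.X₃ n →ₗ[R] Ext X S.X₁ m :=
  Ext.postcompOfLinear hS.extClass R X h

lemma δ_apply (n m : ℕ) (h : n + 1 = m) (x : Ext X S.X₃ n) :
    δ (R := R) X hS n m h x = x.comp hS.extClass h := rfl

variable [Injective S.X₂]

theorem δ_surjective (n m : ℕ) (h : n + 1 = m) : Function.Surjective (δ (R := R) X hS n m h) := by
  intro x₁
  obtain ⟨x₃, hx₃⟩ := Ext.covariant_sequence_exact₁ X hS x₁
    (by subst h; exact Ext.eq_zero_of_injective _) h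
  exact ⟨x₃, hx₃⟩

theorem δ_injective (n m : ℕ) (h : n + 1 + 1 = m) :
    Function.Injective (δ (R := R) X hS (n + 1) m h) := by
  rw [← LinearMap.ker_eq_bot, LinearMap.ker_eq_bot']
  intro x₃ hx₃
  obtain ⟨x₂, hx₂⟩ := Ext.covariant_sequence_exact₃ X hS x₃ h hx₃
  rw [← hx₂, Ext.eq_zero_of_injective x₂, Ext.zero_comp]

/-- **dimension shifting** `Ext^{n+1}(X, Q) ≃ Ext^{n+2}(X, N)` -/
noncomputable def shiftEquiv (n : ℕ) : Ext X S.X₃ (n + 1) ≃ₗ[R] Ext X S.X₁ (n + 2) :=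
  LinearEquiv.ofBijective (δ (R := R) X hS (n + 1) (n + 2) rfl)
    ⟨δ_injective X hS n (n + 2) rfl, δ_surjective X hS (n + 1) (n + 2) rfl⟩

/-- the connecting map on `Hom` -/
noncomputable def δ₀ : (X ⟶ S.X₃) →ₗ[R] Ext X S.X₁ 1 :=
  (δ (R := R) X hS 0 1 rfl).comp (Ext.linearEquiv₀ (R := R) (X := X) (Y := S.X₃)).symm.toLinearMap

lemma δ₀_apply (φ : X ⟶ S.X₃) :
    δ₀ (R := R) X hS φ = (Ext.mk₀ φ).comp hS.extClass (zero_add 1) := rfl

include hS in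
lemma δ₀_comp (ψ : X ⟶ S.X₂) : δ₀ (R := R) X hS (ψ ≫ S.g) = 0 := by
  rw [δ₀_apply, ← Ext.mk₀_comp_mk₀, Ext.comp_assoc_of_second_deg_zero, hS.comp_extClass,
    Ext.comp_zero]

theorem δ₀_surjective : Function.Surjective (δ₀ (R := R) X hS) := by
  intro x₁
  obtain ⟨x₃, hx₃⟩ := δ_surjective (R := R) X hS 0 1 rfl x₁
  refine ⟨Ext.linearEquiv₀ (R := R) x₃, ?_⟩
  rw [δ₀_apply, Ext.mk₀_linearEquiv₀_apply]
  exact hx₃

theorem δ₀_exact (φ : X ⟶ S.X₃) (h : δ₀ (R := R) X hS φ = 0) : ∃ ψ : X ⟶ S.X₂, ψ ≫ S.g = φ := by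
  obtain ⟨x₂, hx₂⟩ := Ext.covariant_sequence_exact₃ X hS (Ext.mk₀ φ) (zero_add 1) h
  obtain ⟨ψ, rfl⟩ := (Ext.mk₀_bijective X S.X₂).2 x₂
  refine ⟨ψ, ?_⟩
  rw [Ext.mk₀_comp_mk₀] at hx₂
  exact (Ext.mk₀_bijective X S.X₃).1 hx₂

end Groth.Agent.Lib.Helper17.ExtModShift
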