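import Mathlib
import Groth.Prelude.Def_CxOX
import Groth.Agent.Lib.Helper29.QCohQcqs
import Groth.Agent.Lib.Helper29.QCohCrit
import Groth.Agent.Lib.Helper29.RelAmple
import Groth.Agent.Lib.Helper9.RefStalk2

/-!
# Extending a cyclic quasi-coherent module from an open subscheme of a locally Noetherian scheme
-/

set_option autoImplicit false

universe u

open CategoryTheory Limits Opposite AlgebraicGeometry

namespace Groth.Agent.Lib.Helper17.CohExtend

open Groth.Agent.Lib.Helper29.QCoh

variable {X W : Scheme.{u}} [IsLocallyNoetherian X] (j : W ⟶ X) [IsOpenImmersion j]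

/-- a quasi-coherent quotient of the structure sheaf of an open subscheme extends to a coherent
module on the whole (locally Noetherian) scheme -/
theorem exists_coh_extension (G₀ : W.Modules) [G₀.IsQuasicoherent] (v : unitM W ⟶ G₀) [Epi v] :
    ∃ G : X.Modules, Coh.IsCoh G ∧ Nonempty ((Scheme.Modules.restrictFunctor j).obj G ≅ G₀) := by
  let R := Scheme.Modules.restrictFunctor j
  let adj := Scheme.Modules.restrictAdjunction j
  let v' : R.obj (unitM X) ⟶ G₀ := (restrictUnitIso' j).hom ≫ v
  haveI : Epi v' := epi_comp _ _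
  let u : unitM X ⟶ (Scheme.Modules.pushforward j).obj G₀ := adj.homEquiv _ _ v'
  haveI : QuasiSeparated j := inferInstance
  haveI hpush : ((Scheme.Modules.pushforward j).obj G₀).IsQuasicoherent :=
    isQuasicoherent_pushforward_of_qcqs j G₀
  let G : X.Modules := Abelian.image u
  let π : unitM X ⟶ G := Abelian.factorThruImage u
  let ι : G ⟶ (Scheme.Modules.pushforward j).obj G₀ := Abelian.image.ι u
  have hfac : π ≫ ι = u := Abelian.image.fac u
  haveI : Epi π := inferInstanceAs (Epi (Abelian.factorThruImage u))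
  haveI : Mono ι := inferInstanceAs (Mono (Abelian.image.ι u))
  have hunit : Coh.IsCoh (unitM X) := Groth.Agent.Lib.Helper9.RefStalk.isCoh_unit X
  haveI := hunit.1
  haveI := hunit.2
  haveI hGq : G.IsQuasicoherent := inferInstanceAs (kernel (cokernel.π u)).IsQuasicoherent
  have hGft : G.IsFiniteType := isFiniteType_of_epi π
  refine ⟨G, ⟨hGq, hGft⟩, ?_⟩
  -- the restriction
  haveI : IsIso (adj.counit.app G₀) := inferInstance
  have h1 : R.map u ≫ adj.counit.app G₀ = v' := by
    exact (adj.homEquiv_counit (X := unitM X) (Y := G₀) u).symm.trans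
      (Equiv.symm_apply_apply _ v')
  let m : R.obj G ⟶ G₀ := R.map ι ≫ adj.counit.app G₀
  haveI : R.IsRightAdjoint := (CxOX.extZeroAdj j).isRightAdjoint
  haveI : Mono (R.map ι) := inferInstance
  haveI : Mono m := mono_comp _ _
  have h2 : R.map π ≫ m = v' := by
    change R.map π ≫ R.map ι ≫ adj.counit.app G₀ = v'
    rw [← Category.assoc, ← R.map_comp, hfac, h1]
  haveI : Epi (R.map π ≫ m) := by rw [h2]; infer_instance
  haveI : Epi m := epi_of_epi (R.map π) m
  haveI : IsIso m := isIso_of_mono_of_epi m
  exact ⟨asIso m⟩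

end Groth.Agent.Lib.Helper17.CohExtend
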