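import Mathlib
import Groth.Agent.Lib.Helper17.BaerExt
import Groth.Agent.Lib.Helper17.CohExtend
import Groth.Agent.Lib.Helper17.SheafHomRestr
import Groth.Agent.Lib.Helper17.SheafHomRestrGen
import Groth.Agent.Lib.Helper22.DimShift
import Groth.Agent.S0485

/-!
# A quasi-coherent module with vanishing `ℰxt¹(coherent, -)` is injective
-/

set_option autoImplicit false

universe u

open CategoryTheory Limits Opposite AlgebraicGeometry

namespace Groth.Agent.Lib.Helper17.InjExt

open Groth.Agent.Lib.Helper17.IHom Groth.Agent.Lib.Helper17.HomFree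
  Groth.Agent.Lib.Helper17.BaerExt Groth.Agent.Lib.Helper17.CohExtend
  Groth.Agent.Lib.Helper17.TildeInj
  Groth.Agent.Lib.Helper29.QCoh Groth.Agent.Lib.Helper5.SheafHomSeq

attribute [local instance] hasSheafHom

section site

variable {C : Type u} [SmallCategory C] {J : GrothendieckTopology C} {O : Sheaf J CommRingCat.{u}}

/-- the internal Hom functors of isomorphic modules are isomorphic -/
noncomputable def sheafHomIsoOfIso {P P' : ModSite.Mod O} (e : P ≅ P') :
    ModSite.sheafHom P' ≅ ModSite.sheafHom P where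
  hom := ExtSupp.sheafHomMap e.hom
  inv := ExtSupp.sheafHomMap e.inv
  hom_inv_id := by rw [sheafHomMap_comp, e.inv_hom_id, sheafHomMap_id]
  inv_hom_id := by rw [sheafHomMap_comp, e.hom_inv_id, sheafHomMap_id]

theorem isZero_extSh_of_iso [HasInjectiveResolutions (ModSite.Mod O)] {P P' Q Q' : ModSite.Mod O}
    (e : P ≅ P') (e' : Q ≅ Q') (i : ℕ) (h : IsZero ((ModSite.extSh P i).obj Q)) :
    IsZero ((ModSite.extSh P' i).obj Q') := by
  have i1 : (ModSite.extSh P' i).obj Q' ≅ (ModSite.extSh P' i).obj Q :=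
    (ModSite.extSh P' i).mapIso e'.symm
  have i2 : (ModSite.extSh P' i).obj Q ≅ (ModSite.extSh P i).obj Q :=
    (Groth.Agent.Lib.Helper22.DimShift.rightDerivedIsoOfNatIso (sheafHomIsoOfIso e) i).app Q
  exact h.of_iso (i1 ≪≫ i2)

end site

section scheme

variable {X : Scheme.{u}} [IsLocallyNoetherian X]

/-- **a quasi-coherent module with vanishing `ℰxt¹(G, -)` for all coherent `G` is injective** -/
theorem injective_of_extSh_vanishing [HasInjectiveResolutions (ModSite.Mod X.sheaf)]
    (F : X.Modules) [F.IsQuasicoherent]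
    (H : ∀ G : X.Modules, Coh.IsCoh G → IsZero ((ModSite.extSh (O := X.sheaf) G 1).obj F)) :
    Injective F := by
  apply injective_of_locally'
  intro x
  obtain ⟨_, ⟨V₀, hV₀, rfl⟩, hxV₀, -⟩ :=
    X.isBasis_affineOpens.exists_subset_of_mem_open (Set.mem_univ x) isOpen_univ
  obtain ⟨V, hV, hxV⟩ : ∃ V : X.Opens, IsAffineOpen V ∧ x ∈ V := ⟨V₀, hV₀, hxV₀⟩
  haveI : IsAffine (V : Scheme.{u}) := hV
  let A : CommRingCat.{u} := Γ(X, V)
  haveI : IsNoetherianRing A := IsLocallyNoetherian.component_noetherian ⟨V, hV⟩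
  let e₀ : Spec A ⟶ (V : Scheme.{u}) := hV.isoSpec.inv
  let j : Spec A ⟶ X := e₀ ≫ V.ι
  refine ⟨Spec A, j, inferInstance, ?_, ?_⟩
  · have h1 : Set.range j.base = (V : Set X) := hV.range_fromSpec
    rw [h1]
    exact hxV
  · let RV := Scheme.Modules.restrictFunctor V.ι
    let Re := Scheme.Modules.restrictFunctor e₀
    haveI : RV.Additive := (Scheme.Modules.restrictAdjunction V.ι).left_adjoint_additive
    haveI : Re.Additive := (Scheme.Modules.restrictAdjunction e₀).left_adjoint_additive
    let N : (Spec A).Modules := Re.obj (RV.obj F)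
    let eN : (Scheme.Modules.restrictFunctor j).obj F ≅ N :=
      (Scheme.Modules.restrictFunctorComp e₀ V.ι).app F
    suffices hN : Injective N from Injective.of_iso eN.symm hN
    haveI : EnoughInjectives (V : Scheme.{u}).Modules :=
      Groth.Agent.S0485.result (Opens.grothendieckTopology (V : Scheme.{u}))
        (V : Scheme.{u}).ringCatSheaf
    haveI : HasInjectiveResolutions (ModSite.Mod (V : Scheme.{u}).sheaf) :=
      inferInstanceAs (HasInjectiveResolutions (V : Scheme.{u}).Modules)
    haveI : EnoughInjectives (Spec A).Modules :=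
      Groth.Agent.S0485.result (Opens.grothendieckTopology (Spec A)) (Spec A).ringCatSheaf
    haveI : HasInjectiveResolutions (ModSite.Mod (Spec A).sheaf) :=
      inferInstanceAs (HasInjectiveResolutions (Spec A).Modules)
    haveI : N.IsQuasicoherent :=
      inferInstanceAs ((F.restrict V.ι).restrict e₀).IsQuasicoherent
    apply injective_of_ext_vanishing A N
    intro I
    let G₀ : (Spec A).Modules := tilde (ModuleCat.of A (A ⧸ I))
    let v : unitM (Spec A) ⟶ G₀ := (tilde.functor A).map (sesMod A I).g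
    haveI : Epi (sesMod A I).g := (sesMod_shortExact A I).epi_g
    haveI : Epi v := inferInstanceAs (Epi ((tilde.functor A).map (sesMod A I).g))
    obtain ⟨G, hG, ⟨eG⟩⟩ := exists_coh_extension j G₀ v
    have h0 := H G hG
    obtain ⟨e1⟩ := Groth.Agent.Lib.Helper17.SheafHomRestr.extShRestrIso V G F 1
    obtain ⟨e2⟩ := Groth.Agent.Lib.Helper17.SheafHomRestrGen.extShRestrIso_of_isIso e₀
      (RV.obj G) (RV.obj F) 1
    have h1 : IsZero ((ModSite.extSh (O := (Spec A).sheaf) (Re.obj (RV.obj G)) 1).obj N) :=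
      (Re.map_isZero ((RV.map_isZero h0).of_iso e1.symm)).of_iso e2.symm
    let eP : Re.obj (RV.obj G) ≅ G₀ :=
      ((Scheme.Modules.restrictFunctorComp e₀ V.ι).app G).symm ≪≫ eG
    exact isZero_extSh_of_iso (O := (Spec A).sheaf) eP (Iso.refl N) 1 h1

end scheme

end Groth.Agent.Lib.Helper17.InjExt
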