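import Groth.Agent.Lib.Helper17.TD2
import Groth.Agent.Lib.Helper17.TD3
import Groth.Agent.Lib.Helper28.DCohRes1
import Groth.Agent.Lib.Helper17.DerKInj

/-!
# `D(R) ≃ D_QCoh(O_{Spec R})`
-/

set_option autoImplicit false
universe w₁ w₂ u

open CategoryTheory Limits Opposite Pretriangulated AlgebraicGeometry

namespace Groth.Agent.Lib.Helper17.TD4

open Groth.Agent.Lib.Helper17.TD1 Groth.Agent.Lib.Helper17.TD2 Groth.Agent.Lib.Helper17.TD3
open Groth.Agent.Lib.Helper17.RL8 Groth.Agent.Lib.Helper17.RL9
open Groth.Agent.Lib.Helper28.DCohRes DerivedCategory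

variable (R : CommRingCat.{u}) [PreservesFiniteLimits (tilde.functor R)]
  [HasDerivedCategory.{w₁} (ModuleCat.{u} R)] [HasDerivedCategory.{w₂} (Spec R).Modules]

/-- the derived tilde functor. -/
noncomputable abbrev TD : DerivedCategory (ModuleCat.{u} R) ⥤ DerivedCategory (Spec R).Modules :=
  (tilde.functor R).mapDerivedCategory

/-- `R[0]`. -/
noncomputable abbrev SR : DerivedCategory (ModuleCat.{u} R) :=
  (singleFunctor (ModuleCat.{u} R) 0).obj (RR R)

/-- `O_X[0]`. -/
noncomputable abbrev SO : DerivedCategory (Spec R).Modules :=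
  (singleFunctor (Spec R).Modules 0).obj (OX (Spec R))

/-- `(R[0])~ = O_X[0]`. -/
noncomputable def eS : (TD R).obj (SR R) ≅ SO R :=
  ((tilde.functor R).mapDerivedCategorySingleFunctor 0).app (RR R) ≪≫
    (singleFunctor (Spec R).Modules 0).mapIso tildeSelf

lemma isQCoh_TD (N : DerivedCategory (ModuleCat.{u} R)) (i : ℤ) :
    ((homologyFunctor (Spec R).Modules i).obj ((TD R).obj N)).IsQuasicoherent :=
  (SheafOfModules.isQuasicoherent (Spec R).ringCatSheaf).prop_of_iso
    ((mapDHomologyIso (tilde.functor R) i).app N).symm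
    (inferInstanceAs ((tilde.functor R).obj ((homologyFunctor (ModuleCat.{u} R) i).obj N)).IsQuasicoherent)

lemma comp_bijective_of_isIso {D : Type*} [Category D] {X Y Z W : D} (a : X ⟶ Y) (b : Z ⟶ W)
    [IsIso a] [IsIso b] : Function.Bijective (fun z : Y ⟶ Z => a ≫ z ≫ b) := by
  constructor
  · intro z z' h
    exact (cancel_mono b).1 ((cancel_epi a).1 h)
  · intro y
    exact ⟨inv a ≫ y ≫ inv b, by simp⟩

/-- the derived tilde functor is bijective on `Hom(R[0], -)`. -/
theorem TD_map_bijective (N : DerivedCategory (ModuleCat.{u} R)) :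
    Function.Bijective (fun g : SR R ⟶ N => (TD R).map g) := by
  have h1 := H0_bijective_OX (Spec R) ((TD R).obj N) (isQCoh_TD R N)
  have h2 := H0_bijective_moduleCat R N
  let μ := mapDHomologyIso (tilde.functor R) 0
  let c : OX (Spec R) ⟶ (tilde.functor R).obj (RR R) :=
    (i0 (OX (Spec R))).inv ≫ (homologyFunctor (Spec R).Modules 0).map (eS R).inv ≫
      μ.hom.app (SR R) ≫ (tilde.functor R).map (i0 (RR R)).hom
  have key : ∀ g : SR R ⟶ N, H0 (OX (Spec R)) ((TD R).obj N) ((eS R).inv ≫ (TD R).map g) =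
      c ≫ (tilde.functor R).map (H0 (RR R) N g) ≫ μ.inv.app N := by
    intro g
    have hn := μ.hom.naturality g
    dsimp at hn
    simp only [H0, c, Functor.map_comp, Category.assoc]
    congr 2
    rw [← (tilde.functor R).map_comp_assoc (i0 (RR R)).hom (i0 (RR R)).inv, Iso.hom_inv_id,
      CategoryTheory.Functor.map_id, Category.id_comp, ← reassoc_of% hn, Iso.hom_inv_id_app]
    exact (Category.comp_id _).symm
  have hT : Function.Bijective (fun z : RR R ⟶ (homologyFunctor (ModuleCat.{u} R) 0).obj N =>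
      (tilde.functor R).map z) := (tilde.fullyFaithfulFunctor (R := R)).map_bijective _ _
  have hF : Function.Bijective (fun g : SR R ⟶ N =>
      H0 (OX (Spec R)) ((TD R).obj N) ((eS R).inv ≫ (TD R).map g)) := by
    have : (fun g : SR R ⟶ N =>
        H0 (OX (Spec R)) ((TD R).obj N) ((eS R).inv ≫ (TD R).map g)) =
        (fun z => c ≫ z ≫ μ.inv.app N) ∘ (fun z => (tilde.functor R).map z) ∘ (H0 (RR R) N) := by
      funext g
      exact key g
    rw [this]
    exact (comp_bijective_of_isIso c (μ.inv.app N)).comp (hT.comp h2)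
  have h3 : Function.Bijective (fun y : (TD R).obj (SR R) ⟶ (TD R).obj N => (eS R).inv ≫ y) :=
    ⟨fun y y' h => (cancel_epi (eS R).inv).1 h, fun z => ⟨(eS R).hom ≫ z, by simp⟩⟩
  have h4 : (fun g : SR R ⟶ N =>
      H0 (OX (Spec R)) ((TD R).obj N) ((eS R).inv ≫ (TD R).map g)) =
      (H0 (OX (Spec R)) ((TD R).obj N) ∘
        (fun y : (TD R).obj (SR R) ⟶ (TD R).obj N => (eS R).inv ≫ y)) ∘
      (fun g : SR R ⟶ N => (TD R).map g) := rfl
  rw [h4] at hF
  exact (Function.Bijective.of_comp_iff' (h1.comp h3) _).1 hF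

section lemmaQ

omit [PreservesFiniteLimits (tilde.functor R)] [HasDerivedCategory.{w₁} (ModuleCat.{u} R)]
  [HasDerivedCategory.{w₂} (Spec R).Modules] in
lemma isIso_of_bijective_RR {M M' : ModuleCat.{u} R} (g : M ⟶ M')
    (h1 : Function.Bijective (fun z : RR R ⟶ M => z ≫ g)) : IsIso g := by
  rw [ConcreteCategory.isIso_iff_bijective]
  constructor
  · intro x x' hx
    have := h1.1 (a₁ := ModuleCat.ofHom (LinearMap.toSpanSingleton R M x))
      (a₂ := ModuleCat.ofHom (LinearMap.toSpanSingleton R M x')) (by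
        ext
        simpa using hx)
    have h3 := congrArg (fun g => g.hom (1 : R)) this
    simpa using h3
  · intro y
    obtain ⟨z, hz⟩ := h1.2 (ModuleCat.ofHom (LinearMap.toSpanSingleton R M' y))
    refine ⟨z.hom (1 : R), ?_⟩
    have h3 := congrArg (fun g => g.hom (1 : R)) hz
    simpa using h3

/-- a morphism of quasi-coherent modules on `Spec R` which is bijective on global sections is an
isomorphism. -/
lemma isIso_of_bijective_OX {F₁ F : (Spec R).Modules} [F₁.IsQuasicoherent] [F.IsQuasicoherent]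
    (f : F₁ ⟶ F) (h : Function.Bijective (fun z : OX (Spec R) ⟶ F₁ => z ≫ f)) : IsIso f := by
  let adjT := tilde.adjunction (R := R)
  have h1 : Function.Bijective (fun z : RR R ⟶ moduleSpecΓFunctor.obj F₁ =>
      z ≫ moduleSpecΓFunctor.map f) := by
    have : (fun z : RR R ⟶ moduleSpecΓFunctor.obj F₁ => z ≫ moduleSpecΓFunctor.map f) =
        (adjT.homEquiv (RR R) F) ∘ (fun z : OX (Spec R) ⟶ F₁ => z ≫ f) ∘
          (adjT.homEquiv (RR R) F₁).symm := by
      funext z
      simp only [Function.comp_apply]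
      rw [Adjunction.homEquiv_naturality_right, Equiv.apply_symm_apply]
    rw [this]
    exact (adjT.homEquiv (RR R) F).bijective.comp (h.comp (adjT.homEquiv (RR R) F₁).symm.bijective)
  have h3 : IsIso (moduleSpecΓFunctor.map f) := isIso_of_bijective_RR R _ h1
  have h4 : IsIso ((tilde.functor R).map (moduleSpecΓFunctor.map f)) := inferInstance
  have hn := adjT.counit.naturality f
  have i1 : IsIso (adjT.counit.app F₁) := inferInstanceAs (IsIso F₁.fromTildeΓ)
  have i2 : IsIso (adjT.counit.app F) := inferInstanceAs (IsIso F.fromTildeΓ)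
  have h5 : f = inv (adjT.counit.app F₁) ≫
      (tilde.functor R).map (moduleSpecΓFunctor.map f) ≫ adjT.counit.app F := by
    rw [IsIso.eq_inv_comp]
    exact hn.symm
  rw [h5]
  infer_instance

end lemmaQ

section adj

variable {R}
variable {G : DerivedCategory (Spec R).Modules ⥤ DerivedCategory (ModuleCat.{u} R)}
  (adj : TD R ⊣ G)

include adj in
lemma counit_comp_bijective (K : DerivedCategory (Spec R).Modules) :
    Function.Bijective (fun y : (TD R).obj (SR R) ⟶ (TD R).obj (G.obj K) =>
      y ≫ adj.counit.app K) := by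
  have h1 : Function.Bijective ((fun y : (TD R).obj (SR R) ⟶ (TD R).obj (G.obj K) =>
      y ≫ adj.counit.app K) ∘ (fun g : SR R ⟶ G.obj K => (TD R).map g)) := by
    have : ((fun y : (TD R).obj (SR R) ⟶ (TD R).obj (G.obj K) =>
        y ≫ adj.counit.app K) ∘ (fun g : SR R ⟶ G.obj K => (TD R).map g)) =
        (adj.homEquiv (SR R) K).symm := by
      funext g
      exact (Adjunction.homEquiv_counit adj _ _ g).symm
    rw [this]
    exact (adj.homEquiv (SR R) K).symm.bijective
  exact (Function.Bijective.of_comp_iff _ (TD_map_bijective R (G.obj K))).1 h1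

include adj in
/-- the counit is an isomorphism on `H^0` for objects with quasi-coherent cohomology. -/
lemma isIso_H0_counit (K : DerivedCategory (Spec R).Modules)
    (hK : ∀ i : ℤ, ((homologyFunctor (Spec R).Modules i).obj K).IsQuasicoherent) :
    IsIso ((homologyFunctor (Spec R).Modules 0).map (adj.counit.app K)) := by
  have hK1 := isQCoh_TD R (G.obj K)
  refine @isIso_of_bijective_OX R _ _ _ _ _ (hK1 0) (hK 0)
    ((homologyFunctor (Spec R).Modules 0).map (adj.counit.app K)) ?_
  have b1 := H0_bijective_OX (Spec R) ((TD R).obj (G.obj K)) hK1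
  have b2 := H0_bijective_OX (Spec R) K hK
  have b3 : Function.Bijective (fun y : SO R ⟶ (TD R).obj (G.obj K) => y ≫ adj.counit.app K) := by
    have : (fun y : SO R ⟶ (TD R).obj (G.obj K) => y ≫ adj.counit.app K) =
        (fun y : (TD R).obj (SR R) ⟶ K => (eS R).inv ≫ y) ∘
        (fun y : (TD R).obj (SR R) ⟶ (TD R).obj (G.obj K) => y ≫ adj.counit.app K) ∘
        (fun y : SO R ⟶ (TD R).obj (G.obj K) => (eS R).hom ≫ y) := by
      funext y
      simp
    rw [this]
    refine Function.Bijective.comp ?_ ((counit_comp_bijective adj K).comp ?_)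
    · exact ⟨fun y y' h => (cancel_epi (eS R).inv).1 h, fun z => ⟨(eS R).hom ≫ z, by simp⟩⟩
    · exact ⟨fun y y' h => (cancel_epi (eS R).hom).1 h, fun z => ⟨(eS R).inv ≫ z, by simp⟩⟩
  have hsq : (fun z : OX (Spec R) ⟶ (homologyFunctor (Spec R).Modules 0).obj
        ((TD R).obj (G.obj K)) =>
        z ≫ (homologyFunctor (Spec R).Modules 0).map (adj.counit.app K)) ∘
      (H0 (OX (Spec R)) ((TD R).obj (G.obj K))) =
      (H0 (OX (Spec R)) K) ∘
        (fun y : SO R ⟶ (TD R).obj (G.obj K) => y ≫ adj.counit.app K) := by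
    funext y
    exact (H0_naturality (OX (Spec R)) (adj.counit.app K) y).symm
  have h1 : Function.Bijective ((fun z : OX (Spec R) ⟶ (homologyFunctor (Spec R).Modules 0).obj
        ((TD R).obj (G.obj K)) =>
        z ≫ (homologyFunctor (Spec R).Modules 0).map (adj.counit.app K)) ∘
      (H0 (OX (Spec R)) ((TD R).obj (G.obj K)))) := by
    rw [hsq]
    exact b2.comp b3
  exact (Function.Bijective.of_comp_iff _ b1).1 h1

omit [PreservesFiniteLimits (tilde.functor R)] [HasDerivedCategory.{w₁} (ModuleCat.{u} R)] in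
lemma isQCoh_shift (K : DerivedCategory (Spec R).Modules)
    (hK : ∀ i : ℤ, ((homologyFunctor (Spec R).Modules i).obj K).IsQuasicoherent) (q i : ℤ) :
    ((homologyFunctor (Spec R).Modules i).obj (K⟦q⟧)).IsQuasicoherent :=
  (SheafOfModules.isQuasicoherent (Spec R).ringCatSheaf).prop_of_iso
    (((homologyFunctor (Spec R).Modules 0).shiftIso q i (q + i) rfl).app K).symm (hK (q + i))

include adj in
/-- the counit is an isomorphism on objects with quasi-coherent cohomology. -/
theorem isIso_counit (K : DerivedCategory (Spec R).Modules)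
    (hK : ∀ i : ℤ, ((homologyFunctor (Spec R).Modules i).obj K).IsQuasicoherent) :
    IsIso (adj.counit.app K) := by
  letI := adj.rightAdjointCommShift ℤ
  haveI := adj.commShift_of_leftAdjoint ℤ
  rw [DerivedCategory.isIso_iff]
  intro q
  have hψ := ψ_naturality q (adj.counit.app K)
  have h0 := isIso_H0_counit adj (K⟦q⟧) (isQCoh_shift K hK q)
  have h1 : IsIso ((homologyFunctor (Spec R).Modules 0).map ((adj.counit.app K)⟦q⟧')) := by
    rw [adj.shift_counit_app q K, Functor.map_comp, Functor.map_comp]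
    infer_instance
  have h2 : (homologyFunctor (Spec R).Modules q).map (adj.counit.app K) =
      (ψ q _).inv ≫ (homologyFunctor (Spec R).Modules 0).map ((adj.counit.app K)⟦q⟧') ≫
        (ψ q _).hom := by
    rw [hψ, Iso.inv_hom_id_assoc]
  rw [h2]
  infer_instance

omit [HasDerivedCategory.{w₂} (Spec R).Modules] [HasDerivedCategory.{w₁} (ModuleCat.{u} R)]
  [PreservesFiniteLimits (tilde.functor R)] in
lemma isIso_of_isIso_tilde_map {M M' : ModuleCat.{u} R} (g : M ⟶ M')
    (h : IsIso ((tilde.functor R).map g)) : IsIso g := by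
  haveI : (tilde.functor R).ReflectsIsomorphisms :=
    (tilde.fullyFaithfulFunctor (R := R)).reflectsIsomorphisms
  exact isIso_of_reflects_iso g (tilde.functor R)

/-- the derived tilde functor is conservative. -/
lemma isIso_of_isIso_TD_map {N N' : DerivedCategory (ModuleCat.{u} R)} (φ : N ⟶ N')
    (h : IsIso ((TD R).map φ)) : IsIso φ := by
  rw [DerivedCategory.isIso_iff]
  intro q
  apply isIso_of_isIso_tilde_map
  let μ := mapDHomologyIso (tilde.functor R) q
  have hn := μ.hom.naturality φ
  dsimp at hn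
  have h2 : (tilde.functor R).map ((homologyFunctor (ModuleCat.{u} R) q).map φ) =
      μ.inv.app N ≫ (homologyFunctor (Spec R).Modules q).map ((TD R).map φ) ≫ μ.hom.app N' :=
    ((μ.app N).eq_inv_comp).2 hn.symm
  rw [h2]
  infer_instance

include adj in
theorem main_of_adj :
    (TD R).Full ∧ (TD R).Faithful ∧
    ∀ K : DerivedCategory (Spec R).Modules,
      (∀ i : ℤ, ((homologyFunctor (Spec R).Modules i).obj K).IsQuasicoherent) ↔
        ∃ M, Nonempty ((TD R).obj M ≅ K) := by
  have hunit : ∀ M, IsIso (adj.unit.app M) := by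
    intro M
    apply isIso_of_isIso_TD_map
    have h1 := adj.left_triangle_components M
    have h2 : IsIso (adj.counit.app ((TD R).obj M)) := isIso_counit adj _ (isQCoh_TD R M)
    exact @IsIso.of_isIso_fac_right _ _ _ _ _ _ _ _ h2 (IsIso.id _) h1
  haveI : IsIso adj.unit := NatIso.isIso_of_isIso_app _
  have hff := adj.fullyFaithfulLOfIsIsoUnit
  refine ⟨hff.full, hff.faithful, fun K => ⟨fun hK => ?_, ?_⟩⟩
  · have := isIso_counit adj K hK
    exact ⟨G.obj K, ⟨asIso (adj.counit.app K)⟩⟩
  · rintro ⟨M, ⟨e⟩⟩ i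
    exact (SheafOfModules.isQuasicoherent (Spec R).ringCatSheaf).prop_of_iso
      ((homologyFunctor (Spec R).Modules i).mapIso e) (isQCoh_TD R M i)

end adj

open Groth.Agent.Lib.Helper17.DerKInj Groth.Agent.Lib.Helper17.DerAbs in
/-- **`D(R) ≃ D_QCoh(O_{Spec R})`**: the derived tilde functor is fully faithful with essential image
the objects with quasi-coherent cohomology sheaves. -/
theorem main :
    (TD R).Full ∧ (TD R).Faithful ∧
    ∀ K : DerivedCategory (Spec R).Modules,
      (∀ i : ℤ, ((homologyFunctor (Spec R).Modules i).obj K).IsQuasicoherent) ↔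
        ∃ M, Nonempty ((TD R).obj M ≅ K) := by
  have hB : HasKInjRes (Spec R).Modules := hasKInjRes_of_isGrothendieckAbelian
  let Γ : (Spec R).Modules ⥤ ModuleCat.{u} R := moduleSpecΓFunctor (R := R)
  haveI : Γ.Additive := (tilde.adjunction (R := R)).right_adjoint_additive
  let Φ := Γ.mapHomologicalComplex (ComplexShape.up ℤ) ⋙ DerivedCategory.Q
  have hc : Compat (DerivedCategory.Q (C := (Spec R).Modules)) PK Φ :=
    compat_Q _ (fun K L f g h => Q_map_eq_of_homotopy _ (Γ.mapHomotopy h))
  haveI : Φ.HasRightDerivedFunctor (HomologicalComplex.quasiIso (Spec R).Modules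
      (ComplexShape.up ℤ)) := hasRightDerivedFunctor (enoughLocal_Q hB) hc
  have i1 : (tilde.functor R).Additive := inferInstance
  have i2 : PreservesFiniteColimits (tilde.functor R) := inferInstance
  obtain ⟨adj⟩ := nonempty_adjunction_Q (A := ModuleCat.{u} R) (B := (Spec R).Modules) hB
    (tilde.functor R) Γ (tilde.adjunction (R := R))
    (Φ.totalRightDerived DerivedCategory.Q (HomologicalComplex.quasiIso (Spec R).Modules
      (ComplexShape.up ℤ)))
    (Φ.totalRightDerivedUnit DerivedCategory.Q (HomologicalComplex.quasiIso (Spec R).Modules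
      (ComplexShape.up ℤ)))
  exact main_of_adj adj

end Groth.Agent.Lib.Helper17.TD4
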