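import Mathlib
import Groth.Agent.Lib.Helper17.TD4
import Groth.Agent.S9498
import Groth.Agent.Lib.Helper28.DCohRes4

/-!
# Bounded above complexes of finite locally free modules on affine schemes are K-projective
relative to complexes of quasi-coherent modules
-/

set_option autoImplicit false
universe w₁ w₂ v₁ v₂ u₁ u₂ u

open CategoryTheory Limits AlgebraicGeometry

namespace Groth.Agent.Lib.Helper17.KProjAff

open Groth.Agent.Lib.Helper28.DCohRes

section Abstract

variable {A : Type u₁} [Category.{v₁} A] [Abelian A] [HasDerivedCategory.{w₁} A]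
  {B : Type u₂} [Category.{v₂} B] [Abelian B] [HasDerivedCategory.{w₂} B]

/-- homotopy classes of maps `E ⟶ F` agree with morphisms in the derived category. -/
def QhBij (E F : CochainComplex A ℤ) : Prop :=
  Function.Bijective (fun φ : (HomotopyCategory.quotient A (ComplexShape.up ℤ)).obj E ⟶
      (HomotopyCategory.quotient A (ComplexShape.up ℤ)).obj F =>
    (DerivedCategory.Qh (C := A)).map φ)

lemma conj_bijective {D : Type*} [Category D] {X Y Z W : D} (a : X ⟶ Y) (b : Z ⟶ W)
    [IsIso a] [IsIso b] : Function.Bijective (fun z : Y ⟶ Z => a ≫ z ≫ b) := by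
  constructor
  · intro z z' h
    exact (cancel_mono b).1 ((cancel_epi a).1 h)
  · intro y
    exact ⟨inv a ≫ y ≫ inv b, by simp⟩

lemma map_bijective_of_iso {C D : Type*} [Category C] [Category D] (L : C ⥤ D) {X X' Y Y' : C}
    (eX : X ≅ X') (eY : Y ≅ Y') (h : Function.Bijective (fun φ : X ⟶ Y => L.map φ)) :
    Function.Bijective (fun φ : X' ⟶ Y' => L.map φ) := by
  have h1 : (fun φ : X' ⟶ Y' => L.map φ) =
      (fun ψ : L.obj X ⟶ L.obj Y => L.map eX.inv ≫ ψ ≫ L.map eY.hom) ∘
        (fun φ : X ⟶ Y => L.map φ) ∘ (fun φ : X' ⟶ Y' => eX.hom ≫ φ ≫ eY.inv) := by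
    funext φ
    dsimp
    rw [← L.map_comp, ← L.map_comp]
    congr 1
    simp
  rw [h1]
  exact (conj_bijective _ _).comp (h.comp (conj_bijective _ _))

lemma QhBij.of_iso {E E' F F' : CochainComplex A ℤ} (eE : E ≅ E') (eF : F ≅ F')
    (h : QhBij E F) : QhBij E' F' :=
  map_bijective_of_iso DerivedCategory.Qh
    ((HomotopyCategory.quotient A (ComplexShape.up ℤ)).mapIso eE)
    ((HomotopyCategory.quotient A (ComplexShape.up ℤ)).mapIso eF) h

lemma qhBij_of_isKProjective (P N : CochainComplex A ℤ) [P.IsKProjective] : QhBij P N :=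
  CochainComplex.IsKProjective.Qh_map_bijective P _

/-- transfer along an exact fully faithful functor which is fully faithful on derived categories -/
theorem QhBij.transfer (T : A ⥤ B) [T.Additive] [PreservesFiniteLimits T]
    [PreservesFiniteColimits T] [T.Full] [T.Faithful]
    [T.mapDerivedCategory.Full] [T.mapDerivedCategory.Faithful] {P N : CochainComplex A ℤ}
    (h : QhBij P N) :
    QhBij ((T.mapHomologicalComplex (ComplexShape.up ℤ)).obj P)
      ((T.mapHomologicalComplex (ComplexShape.up ℤ)).obj N) := by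
  let TK := T.mapHomotopyCategory (ComplexShape.up ℤ)
  let q := HomotopyCategory.quotient A (ComplexShape.up ℤ)
  let fh := T.mapDerivedCategoryFactorsh
  let fK := T.mapHomotopyCategoryFactors (ComplexShape.up ℤ)
  have h1 : Function.Bijective (fun ψ : q.obj P ⟶ q.obj N => TK.map ψ) :=
    ⟨fun _ _ h => TK.map_injective h, fun φ => TK.map_surjective φ⟩
  have h2 : Function.Bijective (fun ψ : q.obj P ⟶ q.obj N =>
      DerivedCategory.Qh.map (TK.map ψ)) := by
    have h3 : (fun ψ : q.obj P ⟶ q.obj N => DerivedCategory.Qh.map (TK.map ψ)) =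
        (fun z => fh.inv.app (q.obj P) ≫ z ≫ fh.hom.app (q.obj N)) ∘
          (fun z => T.mapDerivedCategory.map z) ∘ (fun ψ => DerivedCategory.Qh.map ψ) := by
      funext ψ
      have hn := fh.hom.naturality ψ
      dsimp at hn
      dsimp
      rw [hn, Iso.inv_hom_id_app_assoc]
    rw [h3]
    refine (conj_bijective _ _).comp (Function.Bijective.comp ?_ h)
    exact ⟨fun _ _ h => T.mapDerivedCategory.map_injective h,
      fun φ => T.mapDerivedCategory.map_surjective φ⟩
  have h4 : Function.Bijective (fun φ : TK.obj (q.obj P) ⟶ TK.obj (q.obj N) =>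
      DerivedCategory.Qh.map φ) :=
    (Function.Bijective.of_comp_iff _ h1).1 h2
  exact map_bijective_of_iso DerivedCategory.Qh (fK.app P) (fK.app N) h4

/-- `(𝟭 A).mapDerivedCategory ≅ 𝟭`. -/
noncomputable def mapDerivedCategoryIdIso :
    (𝟭 A).mapDerivedCategory ≅ 𝟭 (DerivedCategory A) :=
  Localization.liftNatIso DerivedCategory.Q
    (HomologicalComplex.quasiIso A (ComplexShape.up ℤ))
    (DerivedCategory.Q ⋙ (𝟭 A).mapDerivedCategory)
    (DerivedCategory.Q ⋙ 𝟭 (DerivedCategory A)) _ _
    ((𝟭 A).mapDerivedCategoryFactors ≪≫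
      Functor.isoWhiskerRight (Functor.mapHomologicalComplexIdIso A (ComplexShape.up ℤ)) _ ≪≫
      Functor.leftUnitor _ ≪≫ (Functor.rightUnitor _).symm)

/-- an exact equivalence induces fully faithful functors on derived categories -/
theorem mapDerivedCategory_fullyFaithful_of_equiv (F : A ⥤ B) (G : B ⥤ A)
    [F.Additive] [PreservesFiniteLimits F] [PreservesFiniteColimits F]
    [G.Additive] [PreservesFiniteLimits G] [PreservesFiniteColimits G]
    (η : F ⋙ G ≅ 𝟭 A) (ε : G ⋙ F ≅ 𝟭 B) :
    F.mapDerivedCategory.Full ∧ F.mapDerivedCategory.Faithful := by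
  let i1 : F.mapDerivedCategory ⋙ G.mapDerivedCategory ≅ 𝟭 _ :=
    mapDerivedCategoryCompIso F G (𝟭 A) η ≪≫ mapDerivedCategoryIdIso
  let i2 : G.mapDerivedCategory ⋙ F.mapDerivedCategory ≅ 𝟭 _ :=
    mapDerivedCategoryCompIso G F (𝟭 B) ε ≪≫ mapDerivedCategoryIdIso
  let E : DerivedCategory A ≌ DerivedCategory B :=
    CategoryTheory.Equivalence.mk F.mapDerivedCategory G.mapDerivedCategory i1.symm i2
  exact ⟨inferInstanceAs E.functor.Full, inferInstanceAs E.functor.Faithful⟩

end Abstract


section Spec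

attribute [local instance] HasDerivedCategory.standard

variable (R : CommRingCat.{u})

lemma preservesFiniteLimits_tilde : PreservesFiniteLimits (tilde.functor R) :=
  (Groth.Agent.S9498.result R).1

instance additive_Γ : (moduleSpecΓFunctor (R := R)).Additive :=
  (tilde.adjunction (R := R)).right_adjoint_additive

lemma isIso_counit (M : (Spec R).Modules) (hM : M.IsQuasicoherent) :
    IsIso ((Scheme.Modules.fromTildeΓNatTrans (R := R)).app M) :=
  Scheme.Modules.isIso_fromTildeΓ_of_isQuasicoherent M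

/-- counit iso on complexes with quasi-coherent terms -/
noncomputable def εIso (E : CochainComplex (Spec R).Modules ℤ)
    (hE : ∀ i, (E.X i).IsQuasicoherent) :
    ((tilde.functor R).mapHomologicalComplex (ComplexShape.up ℤ)).obj
      (((moduleSpecΓFunctor (R := R)).mapHomologicalComplex (ComplexShape.up ℤ)).obj E) ≅ E :=
  HomologicalComplex.Hom.isoOfComponents
    (fun i => @asIso _ _ _ _ ((Scheme.Modules.fromTildeΓNatTrans (R := R)).app (E.X i))
      (isIso_counit R (E.X i) (hE i)))
    (fun i j _ => by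
      dsimp
      exact ((Scheme.Modules.fromTildeΓNatTrans (R := R)).naturality (E.d i j)).symm)

theorem qhBij_spec (E F : CochainComplex (Spec R).Modules ℤ) (b : ℤ)
    (hEb : ∀ i : ℤ, b < i → IsZero (E.X i))
    (hE : ∀ i : ℤ, FlatMod.IsFinLocFree (E.X i)) (hF : ∀ i : ℤ, (F.X i).IsQuasicoherent) :
    QhBij E F := by
  haveI := preservesFiniteLimits_tilde R
  have hEq : ∀ i, (E.X i).IsQuasicoherent := fun i =>
    Groth.Agent.Lib.Helper29.QCoh.isQuasicoherent_of_isFinLocFree (hE i)
  let Γ : (Spec R).Modules ⥤ ModuleCat.{u} R := moduleSpecΓFunctor (R := R)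
  haveI : Γ.Additive := additive_Γ R
  let P := (Γ.mapHomologicalComplex (ComplexShape.up ℤ)).obj E
  let N := (Γ.mapHomologicalComplex (ComplexShape.up ℤ)).obj F
  haveI : CochainComplex.IsStrictlyLE P b := by
    rw [CochainComplex.isStrictlyLE_iff]
    intro i hi
    exact Γ.map_isZero (hEb i hi)
  haveI : ∀ i, Projective (P.X i) := by
    intro i
    have h1 : FlatMod.IsFinLocFree ((tilde.functor R).obj (Γ.obj (E.X i))) :=
      Groth.Agent.Lib.Helper29.QCoh.isFinLocFree_of_iso
        (@asIso _ _ _ _ ((Scheme.Modules.fromTildeΓNatTrans (R := R)).app (E.X i))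
          (isIso_counit R (E.X i) (hEq i))).symm (hE i)
    have h2 := (Groth.Agent.Lib.Helper29.QCoh.isFinLocFree_tilde_iff (Γ.obj (E.X i))).1 h1
    haveI := h2.2
    exact ModuleCat.projective_of_categoryTheory_projective (Γ.obj (E.X i))
  haveI : CochainComplex.IsKProjective P := CochainComplex.isKProjective_of_projective P b
  have h0 : QhBij P N := qhBij_of_isKProjective P N
  have hm := Groth.Agent.Lib.Helper17.TD4.main R
  haveI : (tilde.functor R).mapDerivedCategory.Full := hm.1
  haveI : (tilde.functor R).mapDerivedCategory.Faithful := hm.2.1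
  have h1 := QhBij.transfer (tilde.functor R) h0
  exact h1.of_iso (εIso R E hEq) (εIso R F hF)

end Spec

section Affine

attribute [local instance] HasDerivedCategory.standard

variable {X Y : Scheme.{u}}

/-- restriction along an isomorphism and its inverse -/
noncomputable def resResIso (e : X ≅ Y) :
    Scheme.Modules.restrictFunctor e.inv ⋙ Scheme.Modules.restrictFunctor e.hom ≅ 𝟭 X.Modules :=
  (Scheme.Modules.restrictFunctorComp e.hom e.inv).symm ≪≫
    Scheme.Modules.restrictFunctorCongr e.hom_inv_id ≪≫ Scheme.Modules.restrictFunctorId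

theorem qhBij_of_iso_spec (R : CommRingCat.{u}) (e : X ≅ Spec R)
    (E F : CochainComplex X.Modules ℤ) (b : ℤ)
    (hEb : ∀ i : ℤ, b < i → IsZero (E.X i))
    (hE : ∀ i : ℤ, FlatMod.IsFinLocFree (E.X i)) (hF : ∀ i : ℤ, (F.X i).IsQuasicoherent) :
    QhBij E F := by
  let Ψ := Scheme.Modules.restrictFunctor e.inv
  let Ψ' := Scheme.Modules.restrictFunctor e.hom
  let η : Ψ ⋙ Ψ' ≅ 𝟭 X.Modules := resResIso e
  let ε : Ψ' ⋙ Ψ ≅ 𝟭 (Spec R).Modules := resResIso e.symm
  let E' := (Ψ.mapHomologicalComplex (ComplexShape.up ℤ)).obj E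
  let F' := (Ψ.mapHomologicalComplex (ComplexShape.up ℤ)).obj F
  have h0 : QhBij E' F' := by
    refine qhBij_spec R E' F' b (fun i hi => Ψ.map_isZero (hEb i hi))
      (fun i => isFinLocFree_restrict e.inv (hE i)) (fun i => ?_)
    haveI := hF i
    exact Scheme.Modules.isQuasicoherent_restrictFunctor e.inv (F.X i)
  -- `Ψ'` is fully faithful
  let EQ : (Spec R).Modules ≌ X.Modules := CategoryTheory.Equivalence.mk Ψ' Ψ ε.symm η
  haveI : Ψ'.Full := inferInstanceAs EQ.functor.Full
  haveI : Ψ'.Faithful := inferInstanceAs EQ.functor.Faithful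
  have hff := mapDerivedCategory_fullyFaithful_of_equiv Ψ' Ψ ε η
  haveI := hff.1
  haveI := hff.2
  have h1 := QhBij.transfer Ψ' h0
  let iE : (Ψ'.mapHomologicalComplex (ComplexShape.up ℤ)).obj E' ≅ E :=
    (Functor.mapHomologicalComplexCompIso η (ComplexShape.up ℤ)).app E ≪≫
      (Functor.mapHomologicalComplexIdIso X.Modules (ComplexShape.up ℤ)).app E
  let iF : (Ψ'.mapHomologicalComplex (ComplexShape.up ℤ)).obj F' ≅ F :=
    (Functor.mapHomologicalComplexCompIso η (ComplexShape.up ℤ)).app F ≪≫
      (Functor.mapHomologicalComplexIdIso X.Modules (ComplexShape.up ℤ)).app F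
  exact h1.of_iso iE iF

theorem qhBij_affine [IsAffine X] (E F : CochainComplex X.Modules ℤ) (b : ℤ)
    (hEb : ∀ i : ℤ, b < i → IsZero (E.X i))
    (hE : ∀ i : ℤ, FlatMod.IsFinLocFree (E.X i)) (hF : ∀ i : ℤ, (F.X i).IsQuasicoherent) :
    QhBij E F :=
  qhBij_of_iso_spec Γ(X, ⊤) X.isoSpec E F b hEb hE hF

end Affine

end Groth.Agent.Lib.Helper17.KProjAff
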