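import Mathlib
import Groth.Agent.Lib.Helper17.HomGlobal
import Groth.Agent.Lib.Helper17.InjExt
import Groth.Agent.Lib.Helper17.KProjAff

/-!
# Quasi-coherence of `ℋom(F, G)` for `F` of finite presentation (no Noetherian hypothesis)
-/

set_option autoImplicit false

universe u

open CategoryTheory Limits Opposite AlgebraicGeometry

namespace Groth.Agent.Lib.Helper17.HomPres

open Groth.Agent.Lib.Helper17.IHom Groth.Agent.Lib.Helper17.HomFree
  Groth.Agent.Lib.Helper17.HomFreeSch Groth.Agent.Lib.Helper17.AffPres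
  Groth.Agent.Lib.Helper17.ProjFormula
  Groth.Agent.Lib.Helper29.QCoh Groth.Agent.Lib.Helper5.SheafHomSeq

attribute [local instance] hasSheafHom

variable {Y : Scheme.{u}} (G : Y.Modules)

/-- if `0 ⟶ K ⟶ E ⟶ F ⟶ 0` is exact, `E' ⟶ K` is an epimorphism and `ℋom(E, G)`, `ℋom(E', G)` are
quasi-coherent, then so is `ℋom(F, G)` -/
theorem isQuasicoherent_hom_of_ses (S : ShortComplex Y.Modules) (hS : S.ShortExact)
    {E' : Y.Modules} (p' : E' ⟶ S.X₁) [Epi p']
    (h2 : ((SH S.X₂).obj G).IsQuasicoherent) (h2' : ((SH E').obj G).IsQuasicoherent) :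
    ((SH S.X₃).obj G).IsQuasicoherent := by
  have w' : kernel.ι p' ≫ p' = 0 := kernel.condition p'
  have hS' : (ShortComplex.mk (kernel.ι p') p' w').ShortExact :=
    { exact := ShortComplex.exact_kernel p'
      mono_f := inferInstanceAs (Mono (kernel.ι p'))
      epi_g := ‹Epi p'› }
  let a : (SH S.X₃).obj G ⟶ (SH S.X₂).obj G :=
    (ExtSupp.sheafHomMap (O := Y.sheaf) S.g).app G
  let b : (SH S.X₂).obj G ⟶ (SH S.X₁).obj G :=
    (ExtSupp.sheafHomMap (O := Y.sheaf) S.f).app G
  let c : (SH S.X₁).obj G ⟶ (SH E').obj G :=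
    (ExtSupp.sheafHomMap (O := Y.sheaf) p').app G
  haveI : Mono a := mono_sheafHomMap_g (O := Y.sheaf) hS G
  haveI : Mono c := mono_sheafHomMap_g (O := Y.sheaf) hS' G
  have hab : a ≫ b = 0 := sheafHomMap_zero (O := Y.sheaf) S G
  have hex : (ShortComplex.mk a b hab).Exact := seq_exact (O := Y.sheaf) hS G
  have habc : a ≫ (b ≫ c) = 0 := by rw [← Category.assoc, hab, zero_comp]
  have hex' : (ShortComplex.mk a (b ≫ c) habc).Exact := by
    let φ : ShortComplex.mk a b hab ⟶ ShortComplex.mk a (b ≫ c) habc :=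
      { τ₁ := 𝟙 _
        τ₂ := 𝟙 _
        τ₃ := c
        comm₁₂ := by simp
        comm₂₃ := by simp }
    haveI : Epi φ.τ₁ := inferInstanceAs (Epi (𝟙 _))
    haveI : IsIso φ.τ₂ := inferInstanceAs (IsIso (𝟙 _))
    haveI : Mono φ.τ₃ := inferInstanceAs (Mono c)
    exact (ShortComplex.exact_iff_of_epi_of_isIso_of_mono φ).1 hex
  haveI : Mono (ShortComplex.mk a (b ≫ c) habc).f := inferInstanceAs (Mono a)
  let e : (SH S.X₃).obj G ≅ kernel (b ≫ c) :=
    IsLimit.conePointUniqueUpToIso hex'.fIsKernel (limit.isLimit _)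
  haveI := h2
  haveI := h2'
  haveI : (kernel (b ≫ c)).IsQuasicoherent := inferInstance
  exact isQuasicoherent_of_iso e.symm

/-- `ℋom(F, G)` only depends on the isomorphism class of `F` -/
theorem isQuasicoherent_hom_of_iso {F F' : Y.Modules} (e : F ≅ F')
    (h : ((SH F).obj G).IsQuasicoherent) : ((SH F').obj G).IsQuasicoherent := by
  haveI := h
  exact isQuasicoherent_of_iso
    ((Groth.Agent.Lib.Helper17.InjExt.sheafHomIsoOfIso (O := Y.sheaf) e).app G).symm

section tilde

variable (A : Type u) [CommRing A]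

/-- the tilde of a finite free module -/
theorem isQuasicoherent_hom_tildeFinsupp (ι : Type u) [Finite ι]
    (G : (Spec (CommRingCat.of A)).Modules) [G.IsQuasicoherent] :
    ((SH (tilde (R := CommRingCat.of A) (ModuleCat.of A (ι →₀ A)))).obj G).IsQuasicoherent := by
  classical
  haveI := Fintype.ofFinite ι
  exact isQuasicoherent_hom_of_iso G (tildeFinsupp (R := CommRingCat.of A) ι).symm
    (isQuasicoherent_homFree ι G)

/-- **`ℋom(M~, G)` is quasi-coherent for `M` of finite presentation and `G` quasi-coherent** -/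
theorem isQuasicoherent_hom_tilde (M : Type u) [AddCommGroup M] [Module A M]
    [Module.FinitePresentation A M]
    (G : (Spec (CommRingCat.of A)).Modules) [G.IsQuasicoherent] :
    ((SH (tilde (R := CommRingCat.of A) (ModuleCat.of A M))).obj G).IsQuasicoherent := by
  obtain ⟨n, s, hs⟩ := Module.Finite.exists_fin (R := A) (M := M)
  let ι : Type u := ULift.{u} (Fin n)
  let π₀ : (ι →₀ A) →ₗ[A] M := Finsupp.linearCombination A (fun i : ι => s i.down)
  have hπ₀ : Function.Surjective π₀ := by
    rw [← LinearMap.range_eq_top, Finsupp.range_linearCombination]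
    have : Set.range (fun i : ι => s i.down) = Set.range s := by
      ext v
      constructor
      · rintro ⟨i, rfl⟩
        exact ⟨i.down, rfl⟩
      · rintro ⟨i, rfl⟩
        exact ⟨⟨i⟩, rfl⟩
    rw [this, hs]
  have hfg : (LinearMap.ker π₀).FG := Module.FinitePresentation.fg_ker π₀ hπ₀
  haveI : Module.Finite A (LinearMap.ker π₀) := Module.Finite.iff_fg.mpr hfg
  obtain ⟨m, t, ht⟩ := Module.Finite.exists_fin (R := A) (M := LinearMap.ker π₀)
  let ι' : Type u := ULift.{u} (Fin m)
  let π₁ : (ι' →₀ A) →ₗ[A] LinearMap.ker π₀ :=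
    Finsupp.linearCombination A (fun i : ι' => t i.down)
  have hπ₁ : Function.Surjective π₁ := by
    rw [← LinearMap.range_eq_top, Finsupp.range_linearCombination]
    have : Set.range (fun i : ι' => t i.down) = Set.range t := by
      ext v
      constructor
      · rintro ⟨i, rfl⟩
        exact ⟨i.down, rfl⟩
      · rintro ⟨i, rfl⟩
        exact ⟨⟨i⟩, rfl⟩
    rw [this, ht]
  -- the module-level short exact sequence
  let S₀ : ShortComplex (ModuleCat.{u} A) :=
    ShortComplex.mk (ModuleCat.ofHom (R := A) (X := ↥(LinearMap.ker π₀)) (Y := ι →₀ A)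
      (LinearMap.ker π₀).subtype) (ModuleCat.ofHom (R := A) (X := ι →₀ A) (Y := M) π₀) (by
      ext x
      exact x.2)
  have hS₀ : S₀.ShortExact := by
    refine ShortComplex.ShortExact.mk' ?_ ?_ ?_
    · rw [ShortComplex.moduleCat_exact_iff]
      intro x hx
      exact ⟨⟨x, hx⟩, rfl⟩
    · refine (ModuleCat.mono_iff_injective _).2 ?_
      exact Subtype.val_injective
    · exact (ModuleCat.epi_iff_surjective _).2 hπ₀
  haveI : PreservesFiniteLimits (tilde.functor (CommRingCat.of A)) :=
    Groth.Agent.Lib.Helper17.KProjAff.preservesFiniteLimits_tilde _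
  haveI : PreservesFiniteColimits (tilde.functor (CommRingCat.of A)) := by
    haveI := (tilde.adjunction (R := CommRingCat.of A)).leftAdjoint_preservesColimits
    infer_instance
  have hS : (S₀.map (tilde.functor (CommRingCat.of A))).ShortExact :=
    hS₀.map_of_exact (tilde.functor (CommRingCat.of A))
  let p' : tilde (R := CommRingCat.of A) (ModuleCat.of A (ι' →₀ A)) ⟶
      (S₀.map (tilde.functor (CommRingCat.of A))).X₁ :=
    tilde.map (R := CommRingCat.of A)
      (ModuleCat.ofHom (R := A) (X := ι' →₀ A) (Y := ↥(LinearMap.ker π₀)) π₁)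
  haveI : Epi (ModuleCat.ofHom (R := A) (X := ι' →₀ A) (Y := ↥(LinearMap.ker π₀)) π₁) :=
    (ModuleCat.epi_iff_surjective _).2 hπ₁
  haveI : Epi p' :=
    inferInstanceAs (Epi ((tilde.functor (CommRingCat.of A)).map
      (ModuleCat.ofHom (R := A) (X := ι' →₀ A) (Y := ↥(LinearMap.ker π₀)) π₁)))
  exact isQuasicoherent_hom_of_ses G (S₀.map (tilde.functor (CommRingCat.of A))) hS p'
    (isQuasicoherent_hom_tildeFinsupp A ι G) (isQuasicoherent_hom_tildeFinsupp A ι' G)

end tilde

end Groth.Agent.Lib.Helper17.HomPres
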