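import Mathlib
import Groth.Agent.Lib.Helper17.HomPres
import Groth.Agent.Lib.Helper29.QCohTensor

/-!
# `ℋom(M~, N~) ≅ Hom_A(M, N)~` for `M` of finite presentation
-/

set_option autoImplicit false

universe u

open CategoryTheory Limits Opposite AlgebraicGeometry

namespace Groth.Agent.Lib.Helper17.HomTilde

open Groth.Agent.Lib.Helper17.IHom Groth.Agent.Lib.Helper29.QCoh

section general

variable {X : Scheme.{u}} (P Q : X.Modules)

/-- the restriction of a morphism `P ⟶ Q` to a linear family over `U` -/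
noncomputable def ofHom (f : P ⟶ Q) (U : X.Opens) :
    linSubgroup (toPMod (O := X.sheaf) P) (toPMod (O := X.sheaf) Q) U :=
  ⟨mkHomAb (fun {V} _ => (f.val.app (op V)).hom.toAddMonoidHom) (by
      intro V W g h q
      exact (PresheafOfModules.naturality_apply f.val h.op q).symm),
    fun {V} _ r q => (f.val.app (op V)).hom.map_smul r q⟩

lemma ev_ofHom (f : P ⟶ Q) (U : X.Opens) {V : X.Opens} (g : V ⟶ U)
    (q : (toPMod (O := X.sheaf) P).obj (op V)) :
    ev (ofHom P Q f U).1 g q = (f.val.app (op V)).hom q := rfl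

/-- a linear family over `⊤` gives a morphism of modules -/
noncomputable def toHom (α : linSubgroup (toPMod (O := X.sheaf) P) (toPMod (O := X.sheaf) Q) ⊤) :
    P ⟶ Q :=
  ⟨PresheafOfModules.homMk
    { app := fun V => α.1.app (op (Over.mk (homOfLE (le_top : V.unop ≤ ⊤))))
      naturality := by
        intro V W h
        exact α.1.naturality
          (Over.homMk h.unop : Over.mk (homOfLE (le_top : W.unop ≤ ⊤)) ⟶
            Over.mk (homOfLE (le_top : V.unop ≤ ⊤))).op }
    (fun V r m => α.2 (homOfLE (le_top : V.unop ≤ ⊤)) r m)⟩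

lemma toHom_app (α : linSubgroup (toPMod (O := X.sheaf) P) (toPMod (O := X.sheaf) Q) ⊤)
    (V : X.Opens) (q : (toPMod (O := X.sheaf) P).obj (op V)) :
    ((toHom P Q α).val.app (op V)).hom q = ev α.1 (homOfLE (le_top : V ≤ ⊤)) q := rfl

lemma ofHom_toHom (α : linSubgroup (toPMod (O := X.sheaf) P) (toPMod (O := X.sheaf) Q) ⊤) :
    ofHom P Q (toHom P Q α) ⊤ = α := by
  apply ext_lin
  intro V g q
  rw [ev_ofHom, toHom_app]
  congr 1

end general

section affine

variable (A : Type u) [CommRing A] (M N : Type u) [AddCommGroup M] [Module A M]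
  [AddCommGroup N] [Module A N]

/-- `M~` -/
noncomputable abbrev tl (M : Type u) [AddCommGroup M] [Module A M] :
    (Spec (CommRingCat.of A)).Modules :=
  tilde (R := CommRingCat.of A) (ModuleCat.of A M)

/-- morphisms out of `M~` are determined by their effect on global sections -/
theorem tilde_hom_ext {Q : (Spec (CommRingCat.of A)).Modules} (f g : tl A M ⟶ Q)
    (h : ∀ x : Γ(tl A M, ⊤), f.app ⊤ x = g.app ⊤ x) : f = g := by
  apply ((tilde.adjunction (R := CommRingCat.of A)).homEquiv (ModuleCat.of A M) Q).injective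
  rw [Adjunction.homEquiv_unit, Adjunction.homEquiv_unit]
  congr 1
  ext x
  exact h x

attribute [local instance] RingHomInvPair.of_ringEquiv RingHomInvPair.of_ringEquiv_symm

/-- the type of global sections of the explicit internal hom -/
abbrev LS : Type u :=
  linSubgroup (toPMod (O := (Spec (CommRingCat.of A)).sheaf) (tl A M))
    (toPMod (O := (Spec (CommRingCat.of A)).sheaf) (tl A N)) ⊤

/-- global sections of `M~` -/
noncomputable abbrev tM (M : Type u) [AddCommGroup M] [Module A M] :
    Γ(tl A M, ⊤) ≃ₛₗ[(ΓSpecRingEquiv (CommRingCat.of A) :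
      Γ(Spec (CommRingCat.of A), ⊤) →+* (CommRingCat.of A))] M :=
  tildeTopEquiv (R := CommRingCat.of A) (ModuleCat.of A M)

/-- evaluation of a linear family on global sections -/
noncomputable def evTop (α : LS A M N) (q : Γ(tl A M, ⊤)) : Γ(tl A N, ⊤) :=
  ev α.1 (𝟙 (⊤ : (Spec (CommRingCat.of A)).Opens)) q

lemma evTop_add (α : LS A M N) (q q' : Γ(tl A M, ⊤)) :
    evTop A M N α (q + q') = evTop A M N α q + evTop A M N α q' :=
  ev_add α.1 _ q q'

lemma evTop_smul (α : LS A M N) (c : Γ(Spec (CommRingCat.of A), ⊤)) (q : Γ(tl A M, ⊤)) :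
    evTop A M N α (c • q) = c • evTop A M N α q :=
  α.2 (𝟙 (⊤ : (Spec (CommRingCat.of A)).Opens)) c q

lemma add_evTop (α β : LS A M N) (q : Γ(tl A M, ⊤)) :
    evTop A M N (α + β) q = evTop A M N α q + evTop A M N β q := rfl

lemma smul_evTop (c : (Spec (CommRingCat.of A)).sheaf.obj.obj (op ⊤)) (α : LS A M N)
    (q : Γ(tl A M, ⊤)) :
    evTop A M N (c • α) q = (show Γ(Spec (CommRingCat.of A), ⊤) from c) • evTop A M N α q := by
  have h := ev_smul c α (𝟙 (⊤ : (Spec (CommRingCat.of A)).Opens)) q
  rw [rmap_id] at h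
  exact h

/-- the linear map `M ⟶ N` of a global section of `ℋom(M~, N~)` -/
noncomputable def toLin (α : LS A M N) : M →ₗ[A] N where
  toFun m := tM A N (evTop A M N α ((tM A M).symm m))
  map_add' m m' := by
    rw [map_add, evTop_add, map_add]
  map_smul' a m := by
    have h1 : (tM A M).symm (a • m) =
        ((ΓSpecRingEquiv (CommRingCat.of A)).symm a) • (tM A M).symm m := by
      apply (tM A M).injective
      rw [LinearEquiv.apply_symm_apply, (tM A M).map_smulₛₗ, LinearEquiv.apply_symm_apply]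
      simp
    rw [h1, evTop_smul, (tM A N).map_smulₛₗ]
    simp

lemma toLin_apply (α : LS A M N) (m : M) :
    toLin A M N α m = tM A N (evTop A M N α ((tM A M).symm m)) := rfl

lemma toLin_add (α β : LS A M N) : toLin A M N (α + β) = toLin A M N α + toLin A M N β := by
  ext m
  rw [LinearMap.add_apply, toLin_apply, toLin_apply, toLin_apply, add_evTop, map_add]

lemma toLin_smul (c : (Spec (CommRingCat.of A)).sheaf.obj.obj (op ⊤)) (α : LS A M N) :
    toLin A M N (c • α) =
      (ΓSpecRingEquiv (CommRingCat.of A) (show Γ(Spec (CommRingCat.of A), ⊤) from c)) •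
        toLin A M N α := by
  ext m
  rw [LinearMap.smul_apply, toLin_apply, toLin_apply, smul_evTop, (tM A N).map_smulₛₗ]
  rfl

lemma tM_symm_apply (m : M) :
    ((tM A M).symm m : Γ(tl A M, ⊤)) =
      (tilde.toOpen (R := CommRingCat.of A) (ModuleCat.of A M) ⊤).hom m := rfl

lemma toLin_ofHom (φ : M →ₗ[A] N) :
    toLin A M N (ofHom (tl A M) (tl A N)
      (tilde.map (R := CommRingCat.of A) (ModuleCat.ofHom φ)) ⊤) = φ := by
  ext m
  rw [toLin_apply]
  apply (tM A N).symm.injective
  rw [LinearEquiv.symm_apply_apply]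
  have h := ConcreteCategory.congr_hom
    (tilde.toOpen_map_app (R := CommRingCat.of A) (ModuleCat.ofHom φ) ⊤) m
  exact h

lemma evTop_eq_of_toLin_eq {α β : LS A M N} (h : toLin A M N α = toLin A M N β)
    (q : Γ(tl A M, ⊤)) : evTop A M N α q = evTop A M N β q := by
  have h1 := LinearMap.congr_fun h (tM A M q)
  rw [toLin_apply, toLin_apply, LinearEquiv.symm_apply_apply] at h1
  exact (tM A N).injective h1

theorem toLin_injective : Function.Injective (toLin A M N) := by
  intro α β h
  have h1 : toHom (tl A M) (tl A N) α = toHom (tl A M) (tl A N) β := by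
    apply tilde_hom_ext
    intro x
    exact evTop_eq_of_toLin_eq A M N h x
  rw [← ofHom_toHom (tl A M) (tl A N) α, ← ofHom_toHom (tl A M) (tl A N) β, h1]

theorem toLin_surjective : Function.Surjective (toLin A M N) :=
  fun φ => ⟨_, toLin_ofHom A M N φ⟩

/-- global sections of `ℋom(M~, N~)` are `Hom_A(M, N)` -/
noncomputable def toLinEquiv : LS A M N ≃+ (M →ₗ[A] N) :=
  AddEquiv.ofBijective
    (AddMonoidHom.mk' (toLin A M N) (toLin_add A M N))
    ⟨toLin_injective A M N, toLin_surjective A M N⟩

attribute [local instance] hasSheafHom in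
/-- **`ℋom(M~, N~) ≅ Hom_A(M, N)~`** for the explicit internal hom -/
theorem nonempty_sheafIHom_iso [Module.FinitePresentation A M] :
    Nonempty (sheafIHom (O := (Spec (CommRingCat.of A)).sheaf) (tl A M) (tl A N) ≅
      tilde (R := CommRingCat.of A) (ModuleCat.of A (M →ₗ[A] N))) := by
  haveI h1 : ((Groth.Agent.Lib.Helper17.HomFreeSch.SH (tl A M)).obj (tl A N)).IsQuasicoherent :=
    Groth.Agent.Lib.Helper17.HomPres.isQuasicoherent_hom_tilde A M (tl A N)
  have e : (Groth.Agent.Lib.Helper17.HomFreeSch.SH (tl A M)).obj (tl A N) ≅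
      sheafIHom (O := (Spec (CommRingCat.of A)).sheaf) (tl A M) (tl A N) :=
    sheafHomObjIso (O := (Spec (CommRingCat.of A)).sheaf) (tl A M) (tl A N)
  let H' : (Spec (CommRingCat.of A)).Modules :=
    sheafIHom (O := (Spec (CommRingCat.of A)).sheaf) (tl A M) (tl A N)
  haveI : H'.IsQuasicoherent :=
    isQuasicoherent_of_iso (X := Spec (CommRingCat.of A)) e
  exact nonempty_iso_tilde_of_semilinear (S := CommRingCat.of A) H'
    (ModuleCat.of A (M →ₗ[A] N)) (toLinEquiv A M N) (fun c s => toLin_smul A M N c s)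

/-- **`ℋom(M~, N~) ≅ Hom_A(M, N)~`** for the chosen internal hom of the prelude -/
theorem nonempty_sheafHom_iso [Module.FinitePresentation A M]
    [ModSite.HasSheafHom (O := (Spec (CommRingCat.of A)).sheaf) (tl A M)] :
    Nonempty ((ModSite.sheafHom (O := (Spec (CommRingCat.of A)).sheaf) (tl A M)).obj (tl A N) ≅
      tilde (R := CommRingCat.of A) (ModuleCat.of A (M →ₗ[A] N))) := by
  obtain ⟨e⟩ := nonempty_sheafIHom_iso A M N
  exact ⟨sheafHomObjIso (O := (Spec (CommRingCat.of A)).sheaf) (tl A M) (tl A N) ≪≫ e⟩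

end affine

end Groth.Agent.Lib.Helper17.HomTilde
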