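import Mathlib
import Groth.Agent.Lib.Helper17.HomTilde

/-!
# Naturality of `ℋom(M~, N~) ≅ Hom_A(M, N)~` in `N`
-/

set_option autoImplicit false

universe u

open CategoryTheory Limits Opposite AlgebraicGeometry MonoidalCategory

namespace Groth.Agent.Lib.Helper17.HomTildeNat

open Groth.Agent.Lib.Helper17.IHom Groth.Agent.Lib.Helper29.QCoh
  Groth.Agent.Lib.Helper17.HomTilde

section presheaf

variable {C : Type u} [SmallCategory C] {R : Cᵒᵖ ⥤ CommRingCat.{u}}
  {Q F F' : PresheafOfModules.{u} (R ⋙ forget₂ CommRingCat RingCat)}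

/-- the effect of `curry (uncurry 𝟙 ≫ g)` on linear families is postcomposition with `g` -/
lemma ev_curry_uncurry_id_comp (g : F ⟶ F') {U : C} (α : linSubgroup Q F U) {V : C} (h : V ⟶ U)
    (q : Q.obj (op V)) :
    ev (curryLin (uncurry (𝟙 (ihom Q F)) ≫ g) U α).1 h q = (g.app (op V)).hom (ev α.1 h q) := by
  rw [ev_curryLin]
  change (g.app (op V)).hom (appT (uncurry (𝟙 (ihom Q F))) (rs (ihom Q F) h α) q) = _
  rw [appT_uncurry]
  unfold IHom.pair
  change (g.app (op V)).hom (ev (resLin h α).1 (𝟙 V) q) = _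
  rw [ev_resLin, Category.id_comp]

end presheaf

section site

variable {C : Type u} [SmallCategory C] {J : GrothendieckTopology C} {O : Sheaf J CommRingCat.{u}}

/-- the explicit internal hom functor -/
noncomputable abbrev RA (P : ModSite.Mod O) : ModSite.Mod O ⥤ ModSite.Mod O :=
  Adjunction.rightAdjointOfEquiv (fun M' F => tensorHomEquiv P M' F)
    (fun _ _ F f g => tensorHomEquiv_naturality P F f g)

lemma RA_map_val (P : ModSite.Mod O) {F F' : ModSite.Mod O} (g : F ⟶ F') :
    ((RA P).map g).val =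
      curry (uncurry (𝟙 (ihom (toPMod P) (toPMod F))) ≫ (show toPMod F ⟶ toPMod F' from g.val)) := by
  let ε := (tensorHomEquiv P (sheafIHom P F) F).symm (𝟙 _)
  have h0 : (RA P).map g = tensorHomEquiv P (sheafIHom P F) F' (ε ≫ g) := rfl
  have h1 : sheafifyHomEquiv (toPMod (sheafIHom P F) ⊗ toPMod P) F' (ε ≫ g) =
      sheafifyHomEquiv (toPMod (sheafIHom P F) ⊗ toPMod P) F ε ≫
        (show toPMod F ⟶ toPMod F' from g.val) :=
    (PresheafOfModules.sheafificationAdjunction
      (𝟙 (ModSite.ringSh O).obj)).homEquiv_naturality_right ε g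
  have h2 : tensorHomEquiv P (sheafIHom P F) F ε = 𝟙 _ := Equiv.apply_symm_apply _ _
  have h3 : curry (sheafifyHomEquiv (toPMod (sheafIHom P F) ⊗ toPMod P) F ε) =
      𝟙 (ihom (toPMod P) (toPMod F)) := congrArg SheafOfModules.Hom.val h2
  have h4 : sheafifyHomEquiv (toPMod (sheafIHom P F) ⊗ toPMod P) F ε =
      uncurry (𝟙 (ihom (toPMod P) (toPMod F))) :=
    (uncurry_curry _).symm.trans (congrArg uncurry h3)
  rw [h0]
  change curry (sheafifyHomEquiv (toPMod (sheafIHom P F) ⊗ toPMod P) F' (ε ≫ g)) = _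
  exact congrArg curry (h1.trans (congrArg (· ≫ (show toPMod F ⟶ toPMod F' from g.val)) h4))

lemma ev_RA_map (P : ModSite.Mod O) {F F' : ModSite.Mod O} (g : F ⟶ F') {U : C}
    (α : linSubgroup (toPMod P) (toPMod F) U) {V : C} (h : V ⟶ U) (q : (toPMod P).obj (op V)) :
    ev ((show linSubgroup (toPMod P) (toPMod F') U from
      (((RA P).map g).val.app (op U)).hom α)).1 h q = (g.val.app (op V)).hom (ev α.1 h q) := by
  have h1 : (show linSubgroup (toPMod P) (toPMod F') U from
      (((RA P).map g).val.app (op U)).hom α) =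
      curryLin (uncurry (𝟙 (ihom (toPMod P) (toPMod F))) ≫
        (show toPMod F ⟶ toPMod F' from g.val)) U α := by
    have := congrArg (fun φ : toPMod (sheafIHom P F) ⟶ toPMod (sheafIHom P F') =>
      (φ.app (op U)).hom α) (RA_map_val P g)
    exact this
  rw [h1]
  exact ev_curry_uncurry_id_comp (show toPMod F ⟶ toPMod F' from g.val) α h q

end site

section affine

variable (A : Type u) [CommRing A] (M : Type u) [AddCommGroup M] [Module A M]
  {N N' : Type u} [AddCommGroup N] [Module A N] [AddCommGroup N'] [Module A N']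

attribute [local instance] RingHomInvPair.of_ringEquiv RingHomInvPair.of_ringEquiv_symm

/-- `g~` -/
noncomputable abbrev tg (g : N →ₗ[A] N') : tl A N ⟶ tl A N' :=
  tilde.map (R := CommRingCat.of A) (ModuleCat.ofHom g)

variable (N) in
/-- the explicit internal hom `ℋom(M~, N~)` as a module on `Spec A` -/
noncomputable abbrev HN : (Spec (CommRingCat.of A)).Modules :=
  sheafIHom (O := (Spec (CommRingCat.of A)).sheaf) (tl A M) (tl A N)

/-- `ℋom(M~, -)` (explicit form) applied to `g~` -/
noncomputable abbrev Hg (g : N →ₗ[A] N') : HN A M N ⟶ HN A M N' :=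
  (RA (O := (Spec (CommRingCat.of A)).sheaf) (tl A M)).map (tg A g)

lemma tM_naturality (g : N →ₗ[A] N') (y : Γ(tl A N, ⊤)) :
    tM A N' (((tg A g).val.app (op ⊤)).hom y) = g (tM A N y) := by
  obtain ⟨n, rfl⟩ := (tM A N).symm.surjective y
  rw [LinearEquiv.apply_symm_apply]
  apply (tM A N').symm.injective
  rw [LinearEquiv.symm_apply_apply]
  have h := ConcreteCategory.congr_hom
    (tilde.toOpen_map_app (R := CommRingCat.of A) (ModuleCat.ofHom g) ⊤) n
  exact h

lemma toLin_Hg (g : N →ₗ[A] N') (α : LS A M N) :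
    toLin A M N' (show LS A M N' from ((Hg A M g).val.app (op ⊤)).hom α) =
      g ∘ₗ toLin A M N α := by
  ext m
  rw [toLin_apply, LinearMap.comp_apply, toLin_apply, ← tM_naturality]
  congr 1
  exact ev_RA_map (O := (Spec (CommRingCat.of A)).sheaf) (tl A M) (tg A g) α
    (𝟙 (⊤ : (Spec (CommRingCat.of A)).Opens)) ((tM A M).symm m)

/-- the `A`-module structure on sections of a module on `Spec A` -/
noncomputable instance instModSec (H : (Spec (CommRingCat.of A)).Modules)
    (U : (Spec (CommRingCat.of A)).Opens) : Module A Γ(H, U) :=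
  Scheme.Modules.instModuleCarrierCarrierObjOppositeOpensCarrierCarrierCommRingCatSpecAbPresheafOp
    (R := CommRingCat.of A) (M := H) (U := U)

variable (N) in
/-- global sections of `ℋom(M~, N~)` are `Hom_A(M, N)`, `A`-linearly -/
noncomputable def LEquiv : Γ(HN A M N, ⊤) ≃ₗ[A] (M →ₗ[A] N) :=
  { toLinEquiv A M N with
    map_smul' := fun r s => by
      have h1 : r • s = ((ΓSpecRingEquiv (CommRingCat.of A)).symm r) • s := by
        have := smul_top_eq (HN A M N) ((ΓSpecRingEquiv (CommRingCat.of A)).symm r) s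
        rw [RingEquiv.apply_symm_apply] at this
        exact this.symm
      change toLin A M N (r • s) = r • toLin A M N s
      rw [h1]
      have h2 := toLin_smul A M N ((ΓSpecRingEquiv (CommRingCat.of A)).symm r) s
      rw [RingEquiv.apply_symm_apply] at h2
      exact h2 }

lemma LEquiv_apply (s : Γ(HN A M N, ⊤)) : LEquiv A M N s = toLin A M N s := rfl

variable (N) in
/-- the same, as an isomorphism of modules -/
noncomputable def LIso : (moduleSpecΓFunctor (R := CommRingCat.of A)).obj (HN A M N) ≅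
    ModuleCat.of A (M →ₗ[A] N) :=
  (LEquiv A M N).toModuleIso

/-- the tilde functor -/
noncomputable abbrev T : ModuleCat.{u} A ⥤ (Spec (CommRingCat.of A)).Modules :=
  tilde.functor (CommRingCat.of A)

/-- the global sections functor -/
noncomputable abbrev Γf : (Spec (CommRingCat.of A)).Modules ⥤ ModuleCat.{u} A :=
  moduleSpecΓFunctor (R := CommRingCat.of A)

/-- the counit of the tilde-Γ adjunction -/
noncomputable abbrev εN : Γf A ⋙ T A ⟶ 𝟭 (Spec (CommRingCat.of A)).Modules :=
  Scheme.Modules.fromTildeΓNatTrans (R := CommRingCat.of A)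

variable (N) in
/-- `ℋom(M~, N~) ≅ Hom_A(M, N)~`, explicit internal hom -/
noncomputable def eIso [IsIso ((εN A).app (HN A M N))] :
    HN A M N ≅ (T A).obj (ModuleCat.of A (M →ₗ[A] N)) :=
  (asIso ((εN A).app (HN A M N))).symm ≪≫ (T A).mapIso (LIso A M N)

/-- postcomposition with `g` -/
noncomputable abbrev cR (g : N →ₗ[A] N') :
    ModuleCat.of A (M →ₗ[A] N) ⟶ ModuleCat.of A (M →ₗ[A] N') :=
  ModuleCat.ofHom (R := A) (X := M →ₗ[A] N) (Y := M →ₗ[A] N') (LinearMap.compRight A g)

lemma Γ_Hg_LIso (g : N →ₗ[A] N') :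
    (Γf A).map (Hg A M g) ≫ (LIso A M N').hom = (LIso A M N).hom ≫ cR A M g := by
  apply ModuleCat.hom_ext
  apply LinearMap.ext
  intro α
  exact toLin_Hg A M g α

theorem eIso_naturality (g : N →ₗ[A] N') [IsIso ((εN A).app (HN A M N))]
    [IsIso ((εN A).app (HN A M N'))] :
    Hg A M g ≫ (eIso A M N').hom = (eIso A M N).hom ≫ (T A).map (cR A M g) := by
  have k1 : (T A).map ((Γf A).map (Hg A M g)) ≫ (εN A).app (HN A M N') =
      (εN A).app (HN A M N) ≫ Hg A M g := (εN A).naturality (Hg A M g)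
  have k2 : Hg A M g ≫ inv ((εN A).app (HN A M N')) =
      inv ((εN A).app (HN A M N)) ≫ (T A).map ((Γf A).map (Hg A M g)) := by
    rw [IsIso.comp_inv_eq, Category.assoc, k1, IsIso.inv_hom_id_assoc]
  have k3 : (T A).map ((Γf A).map (Hg A M g)) ≫ (T A).map (LIso A M N').hom =
      (T A).map (LIso A M N).hom ≫ (T A).map (cR A M g) := by
    rw [← (T A).map_comp, ← (T A).map_comp, Γ_Hg_LIso]
  calc Hg A M g ≫ (inv ((εN A).app (HN A M N')) ≫ (T A).map (LIso A M N').hom)
      = (Hg A M g ≫ inv ((εN A).app (HN A M N'))) ≫ (T A).map (LIso A M N').hom :=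
        (Category.assoc _ _ _).symm
    _ = (inv ((εN A).app (HN A M N)) ≫ (T A).map ((Γf A).map (Hg A M g))) ≫
          (T A).map (LIso A M N').hom := congrArg (· ≫ (T A).map (LIso A M N').hom) k2
    _ = inv ((εN A).app (HN A M N)) ≫ ((T A).map ((Γf A).map (Hg A M g)) ≫
          (T A).map (LIso A M N').hom) := Category.assoc _ _ _
    _ = inv ((εN A).app (HN A M N)) ≫ ((T A).map (LIso A M N).hom ≫ (T A).map (cR A M g)) :=
        congrArg (inv ((εN A).app (HN A M N)) ≫ ·) k3
    _ = (inv ((εN A).app (HN A M N)) ≫ (T A).map (LIso A M N).hom) ≫ (T A).map (cR A M g) :=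
        (Category.assoc _ _ _).symm

attribute [local instance] hasSheafHom in
variable (N) in
theorem isIso_ε [Module.FinitePresentation A M] : IsIso ((εN A).app (HN A M N)) := by
  haveI h1 : ((Groth.Agent.Lib.Helper17.HomFreeSch.SH (tl A M)).obj (tl A N)).IsQuasicoherent :=
    Groth.Agent.Lib.Helper17.HomPres.isQuasicoherent_hom_tilde A M (tl A N)
  have e : (Groth.Agent.Lib.Helper17.HomFreeSch.SH (tl A M)).obj (tl A N) ≅ HN A M N :=
    sheafHomObjIso (O := (Spec (CommRingCat.of A)).sheaf) (tl A M) (tl A N)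
  haveI : (HN A M N).IsQuasicoherent :=
    isQuasicoherent_of_iso (X := Spec (CommRingCat.of A)) e
  exact Scheme.Modules.isIso_fromTildeΓ_of_isQuasicoherent (R := CommRingCat.of A) (HN A M N)

section chosen

variable [ModSite.HasSheafHom (O := (Spec (CommRingCat.of A)).sheaf) (tl A M)]

/-- the chosen internal hom functor `ℋom(M~, -)` of the prelude -/
noncomputable abbrev GM : (Spec (CommRingCat.of A)).Modules ⥤ (Spec (CommRingCat.of A)).Modules :=
  ModSite.sheafHom (O := (Spec (CommRingCat.of A)).sheaf) (tl A M)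

variable (N) in
/-- `ℋom(M~, N~) ≅ Hom_A(M, N)~` for the chosen internal hom -/
noncomputable def eIso' [IsIso ((εN A).app (HN A M N))] :
    (GM A M).obj (tl A N) ≅ (T A).obj (ModuleCat.of A (M →ₗ[A] N)) :=
  (sheafHomIso (O := (Spec (CommRingCat.of A)).sheaf) (tl A M)).app (tl A N) ≪≫ eIso A M N

theorem eIso'_naturality (g : N →ₗ[A] N') [IsIso ((εN A).app (HN A M N))]
    [IsIso ((εN A).app (HN A M N'))] :
    (GM A M).map (tg A g) ≫ (eIso' A M N').hom = (eIso' A M N).hom ≫ (T A).map (cR A M g) := by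
  have k1 : (GM A M).map (tg A g) ≫
      (sheafHomIso (O := (Spec (CommRingCat.of A)).sheaf) (tl A M)).hom.app (tl A N') =
      (sheafHomIso (O := (Spec (CommRingCat.of A)).sheaf) (tl A M)).hom.app (tl A N) ≫
        Hg A M g :=
    (sheafHomIso (O := (Spec (CommRingCat.of A)).sheaf) (tl A M)).hom.naturality (tg A g)
  calc (GM A M).map (tg A g) ≫
        ((sheafHomIso (O := (Spec (CommRingCat.of A)).sheaf) (tl A M)).hom.app (tl A N') ≫
          (eIso A M N').hom)
      = ((GM A M).map (tg A g) ≫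
          (sheafHomIso (O := (Spec (CommRingCat.of A)).sheaf) (tl A M)).hom.app (tl A N')) ≫
            (eIso A M N').hom := (Category.assoc _ _ _).symm
    _ = ((sheafHomIso (O := (Spec (CommRingCat.of A)).sheaf) (tl A M)).hom.app (tl A N) ≫
          Hg A M g) ≫ (eIso A M N').hom := congrArg (· ≫ (eIso A M N').hom) k1
    _ = (sheafHomIso (O := (Spec (CommRingCat.of A)).sheaf) (tl A M)).hom.app (tl A N) ≫
          (Hg A M g ≫ (eIso A M N').hom) := Category.assoc _ _ _
    _ = (sheafHomIso (O := (Spec (CommRingCat.of A)).sheaf) (tl A M)).hom.app (tl A N) ≫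
          ((eIso A M N).hom ≫ (T A).map (cR A M g)) :=
        congrArg ((sheafHomIso (O := (Spec (CommRingCat.of A)).sheaf) (tl A M)).hom.app
          (tl A N) ≫ ·) (eIso_naturality A M g)
    _ = ((sheafHomIso (O := (Spec (CommRingCat.of A)).sheaf) (tl A M)).hom.app (tl A N) ≫
          (eIso A M N).hom) ≫ (T A).map (cR A M g) := (Category.assoc _ _ _).symm

end chosen

end affine

end Groth.Agent.Lib.Helper17.HomTildeNat
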