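import Mathlib
import Groth.Agent.Lib.Helper17.HomTildeNat
import Groth.Agent.Lib.Helper17.ExtModShift
import Groth.Agent.Lib.Helper22.DimShiftIso
import Groth.Agent.Lib.Helper17.TildeInj3

/-!
# `ℰxt^i(M~, N~) ≅ Ext^i_A(M, N)~` on `Spec A`, `A` Noetherian, `M` finite
-/

set_option autoImplicit false

universe u

open CategoryTheory Limits Opposite AlgebraicGeometry Abelian

namespace Groth.Agent.Lib.Helper17.ExtTilde

open Groth.Agent.Lib.Helper17.IHom Groth.Agent.Lib.Helper29.QCoh
  Groth.Agent.Lib.Helper17.HomTilde Groth.Agent.Lib.Helper17.HomTildeNat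
  Groth.Agent.Lib.Helper17.ExtModShift Groth.Agent.Lib.Helper22.DimShift

section module

variable (A : Type u) [CommRing A] (M : Type u) [AddCommGroup M] [Module A M]
  {S : ShortComplex (ModuleCat.{u} A)} (hS : S.ShortExact) [Injective S.X₂]

/-- the connecting map `Hom_A(M, Q) ⟶ Ext¹_A(M, N)` -/
noncomputable def dHom :
    ModuleCat.of A (M →ₗ[A] S.X₃) ⟶ ModuleCat.of A (Ext (ModuleCat.of A M) S.X₁ 1) :=
  ModuleCat.ofHom (R := A) (X := M →ₗ[A] S.X₃) (Y := Ext (ModuleCat.of A M) S.X₁ 1)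
    ((δ₀ (R := A) (ModuleCat.of A M) hS).comp
      (ModuleCat.homLinearEquiv (S := A) (M := ModuleCat.of A M) (N := S.X₃)).symm.toLinearMap)

lemma dHom_apply (φ : M →ₗ[A] S.X₃) :
    (dHom A M hS).hom φ = δ₀ (R := A) (ModuleCat.of A M) hS (ModuleCat.ofHom φ) := rfl

include hS in
lemma cR_dHom : cR A M S.g.hom ≫ dHom A M hS = 0 := by
  apply ModuleCat.hom_ext
  apply LinearMap.ext
  intro ψ
  change (dHom A M hS).hom (S.g.hom ∘ₗ ψ) = 0
  rw [dHom_apply]
  exact δ₀_comp (R := A) (ModuleCat.of A M) hS (ModuleCat.ofHom ψ)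

/-- **`Ext¹_A(M, N) = coker (Hom_A(M, I) ⟶ Hom_A(M, Q))`** -/
noncomputable def cokerIso :
    cokernel (cR A M S.g.hom) ≅ ModuleCat.of A (Ext (ModuleCat.of A M) S.X₁ 1) := by
  let Sc : ShortComplex (ModuleCat.{u} A) :=
    ShortComplex.mk (cR A M S.g.hom) (dHom A M hS) (cR_dHom A M hS)
  have hex : Sc.Exact := by
    rw [ShortComplex.moduleCat_exact_iff]
    intro φ hφ
    obtain ⟨ψ, hψ⟩ := δ₀_exact (R := A) (ModuleCat.of A M) hS (ModuleCat.ofHom φ) hφ
    refine ⟨ψ.hom, ?_⟩
    have := congrArg ModuleCat.Hom.hom hψ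
    exact this
  haveI : Epi Sc.g := by
    rw [ModuleCat.epi_iff_surjective]
    intro x
    obtain ⟨φ, hφ⟩ := δ₀_surjective (R := A) (ModuleCat.of A M) hS x
    exact ⟨φ.hom, hφ⟩
  exact IsColimit.coconePointUniqueUpToIso (colimit.isColimit _) hex.gIsCokernel

end module

section sheaf

variable (A : Type u) [CommRing A] [IsNoetherianRing A] (M : Type u) [AddCommGroup M] [Module A M]
  [Module.Finite A M]
  [ModSite.HasSheafHom (O := (Spec (CommRingCat.of A)).sheaf) (tl A M)]
  [HasInjectiveResolutions (ModSite.Mod (Spec (CommRingCat.of A)).sheaf)]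

instance : (GM A M).Additive :=
  (ModSite.sheafHomAdj (O := (Spec (CommRingCat.of A)).sheaf) (tl A M)).right_adjoint_additive

instance : PreservesFiniteLimits (GM A M) :=
  ⟨fun _ => (ModSite.sheafHomAdj (O := (Spec (CommRingCat.of A)).sheaf)
    (tl A M)).rightAdjoint_preservesLimits.preservesLimitsOfShape⟩

/-- `ℋom(M~, N~) ≅ Hom_A(M, N)~` for `N` an object of `ModuleCat A` -/
noncomputable def eN (N : ModuleCat.{u} A) :
    (GM A M).obj ((T A).obj N) ≅ (T A).obj (ModuleCat.of A (M →ₗ[A] N)) :=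
  haveI := Module.finitePresentation_of_finite A M
  haveI := isIso_ε A M N
  eIso' A M N

lemma eN_naturality {N N' : ModuleCat.{u} A} (g : N ⟶ N') :
    (GM A M).map ((T A).map g) ≫ (eN A M N').hom = (eN A M N).hom ≫ (T A).map (cR A M g.hom) := by
  haveI := Module.finitePresentation_of_finite A M
  haveI := isIso_ε A M N
  haveI := isIso_ε A M N'
  exact eIso'_naturality A M g.hom

instance : PreservesFiniteLimits (T A) :=
  Groth.Agent.Lib.Helper17.KProjAff.preservesFiniteLimits_tilde _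

instance : PreservesFiniteColimits (T A) := by
  haveI := (tilde.adjunction (R := CommRingCat.of A)).leftAdjoint_preservesColimits
  infer_instance

/-- the tilde of the injective hull sequence of `N` -/
noncomputable abbrev ST (N : ModuleCat.{u} A) : ShortComplex (Spec (CommRingCat.of A)).Modules :=
  (injSC N).map (T A)

lemma ST_shortExact (N : ModuleCat.{u} A) : (ST A N).ShortExact :=
  (injSC_shortExact N).map_of_exact (T A)

instance (N : ModuleCat.{u} A) : Injective (ST A N).X₂ := by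
  haveI : Injective (ModuleCat.of A ↑(Injective.under N)) :=
    inferInstanceAs (Injective (Injective.under N))
  haveI : Module.Injective A ↑(Injective.under N) :=
    Module.injective_module_of_injective_object A ↑(Injective.under N)
  exact Groth.Agent.Lib.Helper17.TildeInj.injective_tilde (CommRingCat.of A) (Injective.under N)

theorem main_zero (N : ModuleCat.{u} A) :
    Nonempty (((GM A M).rightDerived 0).obj ((T A).obj N) ≅
      (T A).obj (ModuleCat.of A (Ext (ModuleCat.of A M) N 0))) := by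
  let e0 : (M →ₗ[A] N) ≃ₗ[A] Ext (ModuleCat.of A M) N 0 :=
    (ModuleCat.homLinearEquiv (S := A) (M := ModuleCat.of A M) (N := N)).symm ≪≫ₗ
      (Ext.linearEquiv₀ (R := A) (X := ModuleCat.of A M) (Y := N)).symm
  exact ⟨((GM A M).rightDerivedZeroIsoSelf).app ((T A).obj N) ≪≫ eN A M N ≪≫
    (T A).mapIso e0.toModuleIso⟩

theorem main_one (N : ModuleCat.{u} A) :
    Nonempty (((GM A M).rightDerived 1).obj ((T A).obj N) ≅
      (T A).obj (ModuleCat.of A (Ext (ModuleCat.of A M) N 1))) := by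
  let iso1 : ((GM A M).rightDerived 1).obj ((T A).obj N) ≅ cokernel ((GM A M).map (ST A N).g) :=
    rightDerivedOneIso (GM A M) (ST A N) (ST_shortExact A N)
  let iso2 : cokernel ((GM A M).map (ST A N).g) ≅ cokernel ((T A).map (cR A M (injSC N).g.hom)) :=
    cokernel.mapIso _ _ (eN A M (injSC N).X₂) (eN A M (injSC N).X₃)
      (eN_naturality A M (injSC N).g)
  let iso3 : cokernel ((T A).map (cR A M (injSC N).g.hom)) ≅
      (T A).obj (cokernel (cR A M (injSC N).g.hom)) :=
    (PreservesCokernel.iso (T A) (cR A M (injSC N).g.hom)).symm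
  let iso4 : (T A).obj (cokernel (cR A M (injSC N).g.hom)) ≅
      (T A).obj (ModuleCat.of A (Ext (ModuleCat.of A M) N 1)) :=
    (T A).mapIso (cokerIso A M (injSC_shortExact N))
  exact ⟨iso1 ≪≫ iso2 ≪≫ iso3 ≪≫ iso4⟩

theorem main_succ_succ (n : ℕ)
    (ih : ∀ N : ModuleCat.{u} A, Nonempty (((GM A M).rightDerived (n + 1)).obj ((T A).obj N) ≅
      (T A).obj (ModuleCat.of A (Ext (ModuleCat.of A M) N (n + 1)))))
    (N : ModuleCat.{u} A) :
    Nonempty (((GM A M).rightDerived (n + 2)).obj ((T A).obj N) ≅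
      (T A).obj (ModuleCat.of A (Ext (ModuleCat.of A M) N (n + 2)))) := by
  let iso1 : ((GM A M).rightDerived (n + 2)).obj ((T A).obj N) ≅
      ((GM A M).rightDerived (n + 1)).obj ((T A).obj (injSC N).X₃) :=
    rightDerivedSuccSuccIso (GM A M) (ST A N) (ST_shortExact A N) n
  obtain ⟨iso2⟩ := ih (injSC N).X₃
  let iso3 : (T A).obj (ModuleCat.of A (Ext (ModuleCat.of A M) (injSC N).X₃ (n + 1))) ≅
      (T A).obj (ModuleCat.of A (Ext (ModuleCat.of A M) N (n + 2))) :=
    (T A).mapIso (shiftEquiv (R := A) (ModuleCat.of A M) (injSC_shortExact N) n).toModuleIso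
  exact ⟨iso1 ≪≫ iso2 ≪≫ iso3⟩

/-- **`ℰxt^i(M~, N~) ≅ Ext^i_A(M, N)~`** -/
theorem main : ∀ (i : ℕ) (N : ModuleCat.{u} A),
    Nonempty (((GM A M).rightDerived i).obj ((T A).obj N) ≅
      (T A).obj (ModuleCat.of A (Ext (ModuleCat.of A M) N i)))
  | 0 => main_zero A M
  | 1 => main_one A M
  | (n + 2) => main_succ_succ A M n (main (n + 1))

end sheaf

end Groth.Agent.Lib.Helper17.ExtTilde
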