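import Mathlib
import Groth.Agent.Lib.Helper17.InjExt
import Groth.Agent.Lib.Helper17.ExtTilde
import Groth.Agent.Lib.Helper29.QCohFP
import Groth.Agent.S15518

/-!
# The Ext sheaf of a coherent and a quasi-coherent module over an affine open
-/

set_option autoImplicit false

universe u

open CategoryTheory Limits Opposite AlgebraicGeometry

namespace Groth.Agent.Lib.Helper17.ExtAff

open Groth.Agent.Lib.Helper17.IHom Groth.Agent.Lib.Helper29.QCoh

section site

variable {C : Type u} [SmallCategory C] {J : GrothendieckTopology C} {O : Sheaf J CommRingCat.{u}}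

/-- the Ext sheaves of isomorphic pairs are isomorphic -/
theorem extSh_iso_of_iso [HasInjectiveResolutions (ModSite.Mod O)] {P P' Q Q' : ModSite.Mod O}
    [ModSite.HasSheafHom P] [ModSite.HasSheafHom P']
    (e : P ≅ P') (e' : Q ≅ Q') (i : ℕ) :
    Nonempty ((ModSite.extSh P i).obj Q ≅ (ModSite.extSh P' i).obj Q') := by
  have i1 : (ModSite.extSh P' i).obj Q' ≅ (ModSite.extSh P' i).obj Q :=
    (ModSite.extSh P' i).mapIso e'.symm
  have i2 : (ModSite.extSh P' i).obj Q ≅ (ModSite.extSh P i).obj Q :=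
    (Groth.Agent.Lib.Helper22.DimShift.rightDerivedIsoOfNatIso
      (Groth.Agent.Lib.Helper17.InjExt.sheafHomIsoOfIso e) i).app Q
  exact ⟨(i1 ≪≫ i2).symm⟩

end site

variable {X : Scheme.{u}}

/-- the restriction of a quasi-coherent module to an affine open, as a module on `Spec`, is the
module associated with its sections -/
noncomputable def restrictFromSpecIsoTilde (F : X.Modules) [F.IsQuasicoherent] {W : X.Opens}
    (hW : IsAffineOpen W) :
    F.restrict hW.fromSpec ≅ tilde (R := Γ(X, W)) (ModuleCat.of Γ(X, W) Γ(F, W)) :=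
  haveI : (F.restrict hW.fromSpec).IsQuasicoherent := inferInstance
  (asIso (Scheme.Modules.fromTildeΓ (F.restrict hW.fromSpec))).symm ≪≫
    (tilde.functor Γ(X, W)).mapIso (sectionsRestrictFromSpecEquiv F hW).symm.toModuleIso

/-- **the Ext sheaf over an affine open**: `ℰxt^i(G, F)|_W = Ext^i_A(G(W), F(W))~` -/
theorem extSh_restrict_affine [IsLocallyNoetherian X]
    [HasInjectiveResolutions (ModSite.Mod X.sheaf)]
    (G F : X.Modules) (hG : Coh.IsCoh G) [F.IsQuasicoherent]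
    [ModSite.HasSheafHom (O := X.sheaf) G] {W : X.Opens} (hW : IsAffineOpen W) (i : ℕ) :
    Nonempty ((Scheme.Modules.restrictFunctor hW.fromSpec).obj
        ((ModSite.extSh (O := X.sheaf) G i).obj F) ≅
      tilde (R := Γ(X, W)) (ModuleCat.of Γ(X, W)
        (Abelian.Ext (ModuleCat.of Γ(X, W) Γ(G, W)) (ModuleCat.of Γ(X, W) Γ(F, W)) i))) := by
  haveI := hG.1
  haveI := hG.2
  haveI : IsAffine (W : Scheme.{u}) := hW
  haveI : IsNoetherianRing Γ(X, W) := IsLocallyNoetherian.component_noetherian ⟨W, hW⟩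
  haveI : Module.Finite Γ(X, W) Γ(G, W) := module_finite_of_isFiniteType G hW
  let e₀ : Spec Γ(X, W) ⟶ (W : Scheme.{u}) := hW.isoSpec.inv
  have hj : hW.fromSpec = e₀ ≫ W.ι := rfl
  let RV := Scheme.Modules.restrictFunctor W.ι
  let Re := Scheme.Modules.restrictFunctor e₀
  haveI : EnoughInjectives (W : Scheme.{u}).Modules :=
    Groth.Agent.S0485.result (Opens.grothendieckTopology (W : Scheme.{u}))
      (W : Scheme.{u}).ringCatSheaf
  haveI : HasInjectiveResolutions (ModSite.Mod (W : Scheme.{u}).sheaf) :=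
    inferInstanceAs (HasInjectiveResolutions (W : Scheme.{u}).Modules)
  haveI : EnoughInjectives (Spec Γ(X, W)).Modules :=
    Groth.Agent.S0485.result (Opens.grothendieckTopology (Spec Γ(X, W)))
      (Spec Γ(X, W)).ringCatSheaf
  haveI : HasInjectiveResolutions (ModSite.Mod (Spec Γ(X, W)).sheaf) :=
    inferInstanceAs (HasInjectiveResolutions (Spec Γ(X, W)).Modules)
  haveI : ModSite.HasSheafHom (O := (W : Scheme.{u}).sheaf) (RV.obj G) := hasSheafHom _
  haveI : ModSite.HasSheafHom (O := (Spec Γ(X, W)).sheaf) (Re.obj (RV.obj G)) := hasSheafHom _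
  haveI : ModSite.HasSheafHom (O := (Spec Γ(X, W)).sheaf)
      (tilde (R := Γ(X, W)) (ModuleCat.of Γ(X, W) Γ(G, W))) := hasSheafHom _
  obtain ⟨e1⟩ := Groth.Agent.Lib.Helper17.SheafHomRestr.extShRestrIso W G F i
  obtain ⟨e2⟩ := Groth.Agent.Lib.Helper17.SheafHomRestrGen.extShRestrIso_of_isIso e₀
    (RV.obj G) (RV.obj F) i
  let c : ∀ M : X.Modules, M.restrict hW.fromSpec ≅ Re.obj (RV.obj M) := fun M =>
    (Scheme.Modules.restrictFunctorComp e₀ W.ι).app M
  let eG : Re.obj (RV.obj G) ≅ tilde (R := Γ(X, W)) (ModuleCat.of Γ(X, W) Γ(G, W)) :=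
    (c G).symm ≪≫ restrictFromSpecIsoTilde G hW
  let eF : Re.obj (RV.obj F) ≅ tilde (R := Γ(X, W)) (ModuleCat.of Γ(X, W) Γ(F, W)) :=
    (c F).symm ≪≫ restrictFromSpecIsoTilde F hW
  obtain ⟨e3⟩ := extSh_iso_of_iso (O := (Spec Γ(X, W)).sheaf) eG eF i
  obtain ⟨e4⟩ := Groth.Agent.S15518.result Γ(X, W) Γ(G, W) Γ(F, W) i
  exact ⟨c _ ≪≫ Re.mapIso e1 ≪≫ e2 ≪≫ e3 ≪≫ e4⟩

end Groth.Agent.Lib.Helper17.ExtAff
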