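import Mathlib

/-!
# The Rees isomorphism `Ext^n(N, M) ≅ Hom(N, M/(x₁,…,xₙ)M)`
-/

set_option autoImplicit false

universe u

open CategoryTheory Abelian RingTheory.Sequence

namespace Groth.Agent.Lib.Helper17.ReesIso

variable {A : Type u} [CommRing A]

/-- the connecting map is linear -/
lemma postcomp_linear {X Y Z : ModuleCat.{u} A} {a b n : ℕ} (α : Ext Y Z n) (h : a + n = b)
    (r : A) (x : Ext X Y a) : α.postcomp X h (r • x) = r • α.postcomp X h x := by
  show (r • x).comp α h = r • x.comp α h
  rw [Ext.smul_comp]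

lemma hom_eq_zero_of_regular (N M : ModuleCat.{u} A) (a : A) (ha : a ∈ Module.annihilator A N)
    (hreg : IsSMulRegular M a) (f : N ⟶ M) : f = 0 := by
  ext n
  apply hreg
  show a • f.hom n = a • (0 : N ⟶ M).hom n
  rw [← map_smul, Module.mem_annihilator.1 ha n, map_zero]
  simp

theorem rees (N : ModuleCat.{u} A) : ∀ (rs : List A) (M : ModuleCat.{u} A),
    (∀ r ∈ rs, r ∈ Module.annihilator A N) → IsWeaklyRegular M rs →
    (∀ i < rs.length, Subsingleton (Ext N M i)) ∧
    Nonempty (Ext N M rs.length ≃ₗ[A]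
      (N →ₗ[A] (M ⧸ (Ideal.ofList rs • (⊤ : Submodule A M))))) := by
  intro rs
  induction rs with
  | nil =>
    intro M _ _
    refine ⟨fun i hi => absurd hi (Nat.not_lt_zero i), ?_⟩
    have h0 : (Ideal.ofList ([] : List A) • (⊤ : Submodule A M)) = ⊥ := by
      rw [Ideal.ofList_nil, Submodule.bot_smul]
    exact ⟨(Ext.linearEquiv₀ (R := A)).trans (ModuleCat.homLinearEquiv.trans
      (LinearEquiv.arrowCongr (LinearEquiv.refl A N) (Submodule.quotEquivOfEqBot _ h0).symm))⟩
  | cons a rs' ih =>
    intro M hann hreg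
    rw [isWeaklyRegular_cons_iff] at hreg
    obtain ⟨hrega, hreg'⟩ := hreg
    have ha : a ∈ Module.annihilator A N := hann a List.mem_cons_self
    have hann' : ∀ r ∈ rs', r ∈ Module.annihilator A N :=
      fun r hr => hann r (List.mem_cons_of_mem a hr)
    obtain ⟨ihv, ⟨ihe⟩⟩ := ih (ModuleCat.of A (QuotSMulTop a M)) hann' hreg'
    have hS := hrega.smulShortComplex_shortExact
    have hf0 : ∀ n : ℕ, AddCommGrpCat.ofHom ((Ext.mk₀ (M.smulShortComplex a).f).postcomp N
        (add_zero n)) = 0 := by
      intro n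
      rw [ModuleCat.smulShortComplex_f_eq_smul_id]
      exact Ext.postcomp_smul_id_eq_zero_of_mem_annihilator ha n
    -- surjectivity of the connecting map
    have hsurj : ∀ n : ℕ, Function.Surjective (hS.extClass.postcomp N (rfl : n + 1 = n + 1)) := by
      intro n y
      have hex := Ext.covariant_sequence_exact₁' N hS n (n + 1) rfl
      rw [ShortComplex.ab_exact_iff_function_exact] at hex
      have hy : (AddCommGrpCat.ofHom ((Ext.mk₀ (M.smulShortComplex a).f).postcomp N
          (add_zero (n + 1)))) y = 0 := by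
        rw [hf0]
        rfl
      exact (hex y).1 hy
    have hvan : ∀ i < (a :: rs').length, Subsingleton (Ext N M i) := by
      intro i hi
      rcases i with _ | k
      · refine ⟨fun x y => ?_⟩
        apply (Ext.linearEquiv₀ (R := A)).injective
        rw [hom_eq_zero_of_regular N M a ha hrega (Ext.linearEquiv₀ (R := A) x),
          hom_eq_zero_of_regular N M a ha hrega (Ext.linearEquiv₀ (R := A) y)]
      · have hk : k < rs'.length := by simpa using hi
        haveI : Subsingleton (Ext N (M.smulShortComplex a).X₃ k) := ihv k hk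
        exact (hsurj k).subsingleton
    refine ⟨hvan, ?_⟩
    -- injectivity of the connecting map in degree `rs'.length`
    have hinj : Function.Injective (hS.extClass.postcomp N
        (rfl : rs'.length + 1 = rs'.length + 1)) := by
      rw [injective_iff_map_eq_zero]
      intro x hx
      have hex := Ext.covariant_sequence_exact₃' N hS rs'.length (rs'.length + 1) rfl
      rw [ShortComplex.ab_exact_iff_function_exact] at hex
      obtain ⟨z, hz⟩ := (hex x).1 hx
      have hz0 : z = 0 := @Subsingleton.elim _ (hvan rs'.length (by simp)) z 0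
      rw [← hz, hz0]
      exact map_zero _
    let δ : Ext N (ModuleCat.of A (QuotSMulTop a M)) rs'.length ≃ₗ[A]
        Ext N M (rs'.length + 1) :=
      LinearEquiv.ofBijective
        { toFun := hS.extClass.postcomp N (rfl : rs'.length + 1 = rs'.length + 1)
          map_add' := map_add _
          map_smul' := fun r x => postcomp_linear _ _ r x }
        ⟨hinj, hsurj rs'.length⟩
    exact ⟨δ.symm.trans (ihe.trans (LinearEquiv.arrowCongr (LinearEquiv.refl A N)
      (Submodule.quotOfListConsSMulTopEquivQuotSMulTopInner M a rs').symm))⟩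


/-- `Ext` is invariant under linear equivalences in the second variable -/
noncomputable def extCongrRight (X : ModuleCat.{u} A) {Y Z : ModuleCat.{u} A} (e : Y ≅ Z) (n : ℕ) :
    Ext X Y n ≃ₗ[A] Ext X Z n where
  toFun x := x.comp (Ext.mk₀ e.hom) (add_zero n)
  invFun y := y.comp (Ext.mk₀ e.inv) (add_zero n)
  map_add' x y := by rw [Ext.add_comp]
  map_smul' r x := by rw [Ext.smul_comp]; rfl
  left_inv x := by
    show (x.comp (Ext.mk₀ e.hom) (add_zero n)).comp (Ext.mk₀ e.inv) (add_zero n) = x
    rw [Ext.comp_assoc_of_third_deg_zero, Ext.mk₀_comp_mk₀, e.hom_inv_id, Ext.comp_mk₀_id]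
  right_inv y := by
    show (y.comp (Ext.mk₀ e.inv) (add_zero n)).comp (Ext.mk₀ e.hom) (add_zero n) = y
    rw [Ext.comp_assoc_of_third_deg_zero, Ext.mk₀_comp_mk₀, e.inv_hom_id, Ext.comp_mk₀_id]

/-- endomorphisms of a cyclic module killed by the kernel -/
noncomputable def endEquivOfSurjective (B : Type u) [AddCommGroup B] [Module A B]
    (π : A →ₗ[A] B) (hπ : Function.Surjective π) : (B →ₗ[A] B) ≃ₗ[A] B := by
  have hkill : ∀ a ∈ LinearMap.ker π, ∀ b : B, a • b = 0 := by
    intro a ha b
    obtain ⟨c, rfl⟩ := hπ b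
    rw [← map_smul, smul_eq_mul, mul_comm, ← smul_eq_mul, map_smul, LinearMap.mem_ker.1 ha,
      smul_zero]
  refine LinearEquiv.ofBijective
    { toFun := fun f => f (π 1)
      map_add' := fun f g => rfl
      map_smul' := fun r f => rfl } ⟨?_, ?_⟩
  · rw [← LinearMap.ker_eq_bot, LinearMap.ker_eq_bot']
    intro f hf
    ext b
    obtain ⟨c, rfl⟩ := hπ b
    have hf' : f (π 1) = 0 := hf
    have : π c = c • π 1 := by rw [← map_smul, smul_eq_mul, mul_one]
    rw [this, map_smul, hf', smul_zero, LinearMap.zero_apply]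
  · intro b
    have hle : LinearMap.ker π ≤ LinearMap.ker (LinearMap.toSpanSingleton A B b) := by
      intro a ha
      rw [LinearMap.mem_ker, LinearMap.toSpanSingleton_apply]
      exact hkill a ha b
    refine ⟨(Submodule.liftQ (LinearMap.ker π) (LinearMap.toSpanSingleton A B b) hle).comp
      (LinearMap.quotKerEquivOfSurjective π hπ).symm.toLinearMap, ?_⟩
    show (Submodule.liftQ (LinearMap.ker π) (LinearMap.toSpanSingleton A B b) hle)
      ((LinearMap.quotKerEquivOfSurjective π hπ).symm (π 1)) = b
    have h1 : (LinearMap.quotKerEquivOfSurjective π hπ).symm (π 1) =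
        Submodule.Quotient.mk (1 : A) := by
      rw [LinearEquiv.symm_apply_eq]
      rfl
    rw [h1, Submodule.liftQ_apply, LinearMap.toSpanSingleton_apply, one_smul]

theorem nonempty_ext_linearEquiv (B N : Type u) [AddCommGroup B] [Module A B] [AddCommGroup N]
    [Module A N] (π : A →ₗ[A] B) (hπ : Function.Surjective π) (rs : List A)
    (hker : LinearMap.ker π = Ideal.ofList rs) (hreg : IsWeaklyRegular A rs) (eN : N ≃ₗ[A] A) :
    Nonempty (Ext (ModuleCat.of A B) (ModuleCat.of A N) rs.length ≃ₗ[A] B) := by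
  have hann : ∀ r ∈ rs, r ∈ Module.annihilator A (ModuleCat.of A B) := by
    intro r hr
    rw [Module.mem_annihilator]
    intro b
    obtain ⟨c, rfl⟩ := hπ b
    have hr' : r ∈ LinearMap.ker π := by
      rw [hker]
      exact Ideal.subset_span hr
    show r • π c = 0
    rw [← map_smul, smul_eq_mul, mul_comm, ← smul_eq_mul, map_smul, LinearMap.mem_ker.1 hr',
      smul_zero]
  obtain ⟨-, ⟨e2⟩⟩ := rees (ModuleCat.of A B) rs (ModuleCat.of A A) hann hreg
  have hQ : (Ideal.ofList rs • (⊤ : Submodule A A)) = LinearMap.ker π := by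
    rw [hker]
    exact Ideal.mul_top _
  let e3 : (A ⧸ (Ideal.ofList rs • (⊤ : Submodule A A))) ≃ₗ[A] B :=
    (Submodule.quotEquivOfEq _ _ hQ).trans (LinearMap.quotKerEquivOfSurjective π hπ)
  exact ⟨(extCongrRight (ModuleCat.of A B) eN.toModuleIso rs.length).trans
    (e2.trans ((LinearEquiv.arrowCongr (LinearEquiv.refl A B) e3).trans
      (endEquivOfSurjective B π hπ)))⟩

end Groth.Agent.Lib.Helper17.ReesIso
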