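import Mathlib
import Groth.Agent.Lib.Helper17.ReesIso
import Groth.Agent.Lib.Helper17.ExtAff
import Groth.Agent.Lib.Helper12.Dev7
import Groth.Agent.Lib.Helper29.QCohLocFree

set_option autoImplicit false

universe u

open CategoryTheory Limits AlgebraicGeometry TopologicalSpace Opposite

namespace Groth.Agent.Lib.Helper17.RegExtIso

open Groth.Agent.Lib.Helper29.QCoh

variable {X P : Scheme.{u}}

/-- the canonical surjection `Γ(P, W) → Γ(ι_* O_X, W)` -/
noncomputable def piMap (ι : X ⟶ P) (W : P.Opens) :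
    Γ(P, W) →ₗ[Γ(P, W)] Γ((Scheme.Modules.pushforward ι).obj (Coh.structureModule X), W) :=
  LinearMap.toSpanSingleton Γ(P, W) _
    (show Γ((Scheme.Modules.pushforward ι).obj (Coh.structureModule X), W) from
      (toUnit (1 : Γ(X, ι ⁻¹ᵁ W))))

theorem piMap_apply (ι : X ⟶ P) (W : P.Opens) (a : Γ(P, W)) :
    piMap ι W a = (show Γ((Scheme.Modules.pushforward ι).obj (Coh.structureModule X), W) from
      toUnit (ι.app W a)) := by
  show a • (show Γ((Scheme.Modules.pushforward ι).obj (Coh.structureModule X), W) from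
      (toUnit (1 : Γ(X, ι ⁻¹ᵁ W)))) = _
  rw [pushforward_smul]
  exact (toUnit_eq_smul_one (X := X) (ι.app W a)).symm

theorem piMap_surjective (ι : X ⟶ P) [IsClosedImmersion ι] {W : P.Opens} (hW : IsAffineOpen W) :
    Function.Surjective (piMap ι W) := by
  intro b
  obtain ⟨a, ha⟩ := ι.app_surjective W hW (show Γ(X, ι ⁻¹ᵁ W) from b)
  refine ⟨a, ?_⟩
  rw [piMap_apply]
  exact ha

theorem ker_piMap (ι : X ⟶ P) (W : P.Opens) :
    LinearMap.ker (piMap ι W) = RingHom.ker (ι.app W).hom := by
  ext a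
  rw [LinearMap.mem_ker, RingHom.mem_ker, piMap_apply]
  rfl

/-- **Ext of a regular closed subscheme, on an affine open**: if `ι : X → P` is a closed immersion
which on an affine open `W` is cut out by a regular sequence of length `c` and `ωP` is free of
rank one on `W`, then `ℰxt^c(ι_* O_X, ωP)` is isomorphic to `ι_* O_X` over `W`. -/
theorem nonempty_restrict_iso [IsLocallyNoetherian P] (ι : X ⟶ P) [IsClosedImmersion ι]
    (ωP : P.Modules) (hωP : FlatMod.IsFinLocFreeOfRank 1 ωP)
    [ModSite.HasSheafHom (O := P.sheaf)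
      ((Scheme.Modules.pushforward ι).obj (Coh.structureModule X))]
    [HasInjectiveResolutions (ModSite.Mod P.sheaf)]
    {W : P.Opens} (hW : IsAffineOpen W) (eN : Γ(ωP, W) ≃ₗ[Γ(P, W)] Γ(P, W))
    (rs : List Γ(P, W)) (hreg : RingTheory.Sequence.IsWeaklyRegular Γ(P, W) rs)
    (hker : RingHom.ker (ι.app W).hom = Ideal.ofList rs) :
    Nonempty ((Scheme.Modules.restrictFunctor hW.fromSpec).obj
        ((ModSite.extSh (O := P.sheaf)
          ((Scheme.Modules.pushforward ι).obj (Coh.structureModule X)) rs.length).obj ωP) ≅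
      (Scheme.Modules.restrictFunctor hW.fromSpec).obj
        ((Scheme.Modules.pushforward ι).obj (Coh.structureModule X))) := by
  have hfl : FlatMod.IsFinLocFree ωP := isFinLocFree_of_isFinLocFreeOfRank hωP
  haveI : ωP.IsQuasicoherent := by
    haveI := isFinitePresentation_of_isFinLocFree hfl
    infer_instance
  have hU := Groth.Agent.Lib.Helper12.H12Dev.isCoh_unitM X
  haveI : (Coh.structureModule X).IsQuasicoherent := hU.1
  haveI : (Coh.structureModule X).IsFiniteType := hU.2
  have hG : Coh.IsCoh ((Scheme.Modules.pushforward ι).obj (Coh.structureModule X)) :=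
    ⟨isQuasicoherent_pushforward_of_isAffineHom ι _, isFiniteType_pushforward_of_isFinite ι _⟩
  haveI := hG.1
  obtain ⟨e1⟩ := Groth.Agent.Lib.Helper17.ExtAff.extSh_restrict_affine
    ((Scheme.Modules.pushforward ι).obj (Coh.structureModule X)) ωP hG hW rs.length
  obtain ⟨e2⟩ := Groth.Agent.Lib.Helper17.ReesIso.nonempty_ext_linearEquiv
    Γ((Scheme.Modules.pushforward ι).obj (Coh.structureModule X), W) Γ(ωP, W)
    (piMap ι W) (piMap_surjective ι hW) rs ((ker_piMap ι W).trans hker) hreg eN
  exact ⟨e1 ≪≫ (tilde.functor Γ(P, W)).mapIso e2.toModuleIso ≪≫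
    (Groth.Agent.Lib.Helper17.ExtAff.restrictFromSpecIsoTilde
      ((Scheme.Modules.pushforward ι).obj (Coh.structureModule X)) hW).symm⟩

end Groth.Agent.Lib.Helper17.RegExtIso
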