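import Mathlib
import Groth.Agent.Lib.Helper17.CMPdAlg
import Groth.Agent.Lib.Helper17.PnCodim
import Groth.Agent.Lib.Helper17.RegExtIso
import Groth.Agent.Lib.Helper10.Hartogs
import Groth.Agent.Lib.Helper16.Liaison5

/-!
# Projective dimension of `ι_* O_X` at closed points of `P^N_k`, for `X` Cohen–Macaulay
-/

set_option autoImplicit false

universe u

open CategoryTheory Limits AlgebraicGeometry TopologicalSpace Opposite

namespace Groth.Agent.Lib.Helper17.CMPd

open Groth.Agent.Lib.Helper29.QCoh Groth.Agent.Lib.Helper17.PnReg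
  Groth.Agent.Lib.Helper17.PnCodim Groth.Agent.Lib.Helper10.Hartogs
  Groth.Agent.Lib.Helper17.IdealFG

variable (k : Type u) [Field k] (N : ℕ)

instance : JacobsonSpace (CohB1.ProjSpace N k) :=
  LocallyOfFiniteType.jacobsonSpace (CohB1.ProjSpace.toSpec N k)

/-- a point of an affine open of `P^N_k` whose prime ideal is maximal is a closed point -/
theorem isClosed_singleton_of_isMaximal {W : (CohB1.ProjSpace N k).Opens} (hW : IsAffineOpen W)
    (z : CohB1.ProjSpace N k) (hz : z ∈ W)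
    (hmax : (hW.primeIdealOf ⟨z, hz⟩).asIdeal.IsMaximal) :
    IsClosed ({z} : Set (CohB1.ProjSpace N k)) := by
  have h1 : (hW.primeIdealOf ⟨z, hz⟩ : PrimeSpectrum Γ(CohB1.ProjSpace N k, W)) ∈
      closedPoints (PrimeSpectrum Γ(CohB1.ProjSpace N k, W)) := by
    rw [mem_closedPoints_iff]
    exact (PrimeSpectrum.isClosed_singleton_iff_isMaximal _).mpr hmax
  have h2 : hW.primeIdealOf ⟨z, hz⟩ ∈ hW.fromSpec ⁻¹' closedPoints (CohB1.ProjSpace N k) := by
    rw [hW.fromSpec.isOpenEmbedding.preimage_closedPoints]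
    exact h1
  have h3 : hW.fromSpec (hW.primeIdealOf ⟨z, hz⟩) ∈ closedPoints (CohB1.ProjSpace N k) := h2
  rw [hW.fromSpec_primeIdealOf] at h3
  exact h3

/-- the local ring of `P^N_k` at a closed point has dimension `N` -/
theorem ringKrullDim_stalk_of_isClosed (z : CohB1.ProjSpace N k)
    (hz : IsClosed ({z} : Set (CohB1.ProjSpace N k))) :
    ringKrullDim ((CohB1.ProjSpace N k).presheaf.stalk z) = N := by
  have h0 : topologicalKrullDim ↥(closure ({z} : Set (CohB1.ProjSpace N k))) =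
      ((0 : ℕ) : WithBot ℕ∞) := by
    rw [hz.closure_eq]
    have hle := topologicalKrullDim_zero_of_discreteTopology ↥({z} : Set (CohB1.ProjSpace N k))
    have hge : 0 ≤ topologicalKrullDim ↥({z} : Set (CohB1.ProjSpace N k)) := by
      haveI : Nonempty (IrreducibleCloseds ↥({z} : Set (CohB1.ProjSpace N k))) :=
        ⟨⟨closure {⟨z, rfl⟩}, isIrreducible_singleton.closure, isClosed_closure⟩⟩
      exact Order.krullDim_nonneg
    rw [Nat.cast_zero]
    exact le_antisymm hle hge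
  have := (ringKrullDim_stalk_of_closure k N z 0 h0).2
  simpa using this

/-- localizations of coordinate rings of affine opens of `P^N_k` at maximal ideals are regular
local rings of dimension `N` -/
theorem regular_dim_of_isMaximal {W : (CohB1.ProjSpace N k).Opens} (hW : IsAffineOpen W)
    (p : Ideal Γ(CohB1.ProjSpace N k, W)) [hp : p.IsMaximal] :
    IsRegularLocalRing (Localization.AtPrime p) ∧ ringKrullDim (Localization.AtPrime p) = N := by
  obtain ⟨z, hz, hzp⟩ := exists_point_primeIdealOf_eq hW p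
  subst hzp
  have hcl := isClosed_singleton_of_isMaximal k N hW z hz hp
  letI : Algebra Γ(CohB1.ProjSpace N k, W) ((CohB1.ProjSpace N k).presheaf.stalk z) :=
    TopCat.Presheaf.algebra_section_stalk (CohB1.ProjSpace N k).presheaf ⟨z, hz⟩
  haveI hloc : IsLocalization.AtPrime ((CohB1.ProjSpace N k).presheaf.stalk z)
      (hW.primeIdealOf ⟨z, hz⟩).asIdeal := hW.isLocalization_stalk ⟨z, hz⟩
  let e : Localization.AtPrime (hW.primeIdealOf ⟨z, hz⟩).asIdeal ≃ₐ[Γ(CohB1.ProjSpace N k, W)]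
      (CohB1.ProjSpace N k).presheaf.stalk z :=
    IsLocalization.algEquiv (hW.primeIdealOf ⟨z, hz⟩).asIdeal.primeCompl _ _
  haveI := isRegularLocalRing_stalk k N z
  refine ⟨IsRegularLocalRing.of_ringEquiv e.symm.toRingEquiv, ?_⟩
  rw [ringKrullDim_eq_of_ringEquiv e.toRingEquiv]
  exact ringKrullDim_stalk_of_isClosed k N z hcl

variable {k N}
variable {X : Scheme.{u}} (ι : X ⟶ CohB1.ProjSpace N k) [IsClosedImmersion ι]

/-- sections of `ι_* O_X` over `W`, as a module over `Γ(P, W)`, are `Γ(X, ι⁻¹ W)` -/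
noncomputable def sectionsEquiv (W : (CohB1.ProjSpace N k).Opens) :
    letI : Algebra Γ(CohB1.ProjSpace N k, W) Γ(X, ι ⁻¹ᵁ W) := (ι.app W).hom.toAlgebra
    Γ(X, ι ⁻¹ᵁ W) ≃ₗ[Γ(CohB1.ProjSpace N k, W)]
      Γ((Scheme.Modules.pushforward ι).obj (Coh.structureModule X), W) :=
  letI : Algebra Γ(CohB1.ProjSpace N k, W) Γ(X, ι ⁻¹ᵁ W) := (ι.app W).hom.toAlgebra
  { toFun := fun s => (show Γ((Scheme.Modules.pushforward ι).obj (Coh.structureModule X), W) from
      toUnit s)
    invFun := fun m => ofUnit (show Γ(unitM X, ι ⁻¹ᵁ W) from m)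
    map_add' := fun _ _ => rfl
    map_smul' := fun _ _ => rfl
    left_inv := fun _ => rfl
    right_inv := fun _ => rfl }

theorem pd_push_unit (n : ℕ)
    (hCM : ∀ x : X, IsClosed ({x} : Set ↥X) →
      LocCoh.IsCohenMacaulayLocalRing (X.presheaf.stalk x) ∧ ringKrullDim (X.presheaf.stalk x) = n)
    {W : (CohB1.ProjSpace N k).Opens} (hW : IsAffineOpen W)
    (p : Ideal Γ(CohB1.ProjSpace N k, W)) [hp : p.IsMaximal] (i : ℕ) (hi : N + 1 ≤ i + n) :
    HasProjectiveDimensionLT (ModuleCat.of (Localization.AtPrime p)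
      (LocalizedModule p.primeCompl
        Γ((Scheme.Modules.pushforward ι).obj (Coh.structureModule X), W))) i := by
  letI : Algebra Γ(CohB1.ProjSpace N k, W) Γ(X, ι ⁻¹ᵁ W) := (ι.app W).hom.toAlgebra
  haveI : IsNoetherianRing Γ(CohB1.ProjSpace N k, W) :=
    IsLocallyNoetherian.component_noetherian ⟨W, hW⟩
  have hsurj : Function.Surjective (algebraMap Γ(CohB1.ProjSpace N k, W) Γ(X, ι ⁻¹ᵁ W)) :=
    ι.app_surjective W hW
  obtain ⟨hreg, hdim⟩ := regular_dim_of_isMaximal k N hW p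
  have hV : IsAffineOpen (ι ⁻¹ᵁ W) := hW.preimage ι
  refine Groth.Agent.Lib.Helper17.CMPdAlg.pd_localized_of_CM hsurj p N n hdim ?_ _
    (sectionsEquiv ι W) i hi
  intro P' hP' hcomap
  obtain ⟨x, hxV, hxP⟩ := exists_point_primeIdealOf_eq hV P'
  subst hxP
  have h2 : (hV.primeIdealOf ⟨x, hxV⟩).comap (ι.appLE W (ι ⁻¹ᵁ W) le_rfl).hom =
      hW.primeIdealOf ⟨ι x, hxV⟩ :=
    IsAffineOpen.comap_primeIdealOf_appLE W hW (ι ⁻¹ᵁ W) hV le_rfl hxV
  have h3 : (hW.primeIdealOf ⟨ι x, hxV⟩).asIdeal = p := by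
    rw [← hcomap, ← h2]
    change Ideal.comap (ι.appLE W (ι ⁻¹ᵁ W) le_rfl).hom _ = Ideal.comap (ι.app W).hom _
    rw [Scheme.Hom.app_eq_appLE]
  have hclz : IsClosed ({ι x} : Set (CohB1.ProjSpace N k)) :=
    isClosed_singleton_of_isMaximal k N hW (ι x) hxV (by rw [h3]; exact hp)
  have hclx : IsClosed ({x} : Set ↥X) := by
    have h4 : ({x} : Set ↥X) = ι ⁻¹' {ι x} := by
      ext y
      simp only [Set.mem_singleton_iff, Set.mem_preimage]
      exact ⟨fun h => by rw [h], fun h => ι.isClosedEmbedding.injective h⟩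
    rw [h4]
    exact hclz.preimage ι.continuous
  obtain ⟨hcm, hdimx⟩ := hCM x hclx
  letI : Algebra Γ(X, ι ⁻¹ᵁ W) (X.presheaf.stalk x) :=
    TopCat.Presheaf.algebra_section_stalk X.presheaf ⟨x, hxV⟩
  haveI hloc : IsLocalization.AtPrime (X.presheaf.stalk x)
      (hV.primeIdealOf ⟨x, hxV⟩).asIdeal := hV.isLocalization_stalk ⟨x, hxV⟩
  let e : Localization.AtPrime (hV.primeIdealOf ⟨x, hxV⟩).asIdeal ≃ₐ[Γ(X, ι ⁻¹ᵁ W)]
      X.presheaf.stalk x :=
    IsLocalization.algEquiv (hV.primeIdealOf ⟨x, hxV⟩).asIdeal.primeCompl _ _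
  refine ⟨Groth.Agent.Lib.Helper16.Liaison.cm_of_ringEquiv e.symm.toRingEquiv hcm, ?_⟩
  rw [ringKrullDim_eq_of_ringEquiv e.toRingEquiv]
  exact hdimx

end Groth.Agent.Lib.Helper17.CMPd
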