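import Mathlib
import Groth.Agent.Lib.Helper17.ExtAff
import Groth.Agent.Lib.Helper17.ExtDepthAlg
import Groth.Agent.Lib.Helper10.Hartogs
import Groth.Agent.Lib.Helper28.DCohRes27

/-!
# Vanishing of the Ext sheaves `ℰxt^i(G, F)`, `i < n`, and the depth of `F` along `Supp G`
-/

set_option autoImplicit false

universe u

open CategoryTheory Limits Opposite AlgebraicGeometry

namespace Groth.Agent.Lib.Helper17.ExtDepth

open Groth.Agent.Lib.Helper17.IHom Groth.Agent.Lib.Helper29.QCoh
  Groth.Agent.Lib.Helper17.ExtAff Groth.Agent.Lib.Helper17.ExtDepthAlg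
  Groth.Agent.Lib.Helper10.Hartogs

variable {X : Scheme.{u}}

/-- a module is trivial as soon as the associated sheaf is -/
lemma subsingleton_of_isZero_tilde {R : CommRingCat.{u}} (M : ModuleCat.{u} R)
    (h : IsZero (tilde M)) : Subsingleton M := by
  have h1 : 𝟙 M = 0 := by
    apply (tilde.functor R).map_injective
    rw [Functor.map_zero]
    exact h.eq_of_src _ _
  exact ModuleCat.subsingleton_of_isZero ((IsZero.iff_id_eq_zero M).2 h1)

/-- the support of a quasi-coherent module over an affine open, in terms of the annihilator of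
its sections (finite type case) -/
lemma mem_support_iff_annihilator_le (G : X.Modules) [G.IsQuasicoherent] {W : X.Opens}
    (hW : IsAffineOpen W) [Module.Finite Γ(X, W) Γ(G, W)] (x : X) (hxW : x ∈ W) :
    x ∈ CohB1.support G ↔
      Module.annihilator Γ(X, W) Γ(G, W) ≤ (hW.primeIdealOf ⟨x, hxW⟩).asIdeal := by
  let _ := stalkModule G W x hxW
  have hlm := isLocalizedModule_germ G hW x hxW
  let e := IsLocalizedModule.iso (hW.primeIdealOf ⟨x, hxW⟩).asIdeal.primeCompl (germₗ G W x hxW)
  have h1 : (hW.primeIdealOf ⟨x, hxW⟩) ∈ Module.support Γ(X, W) Γ(G, W) ↔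
      Module.annihilator Γ(X, W) Γ(G, W) ≤ (hW.primeIdealOf ⟨x, hxW⟩).asIdeal := by
    rw [Module.support_eq_zeroLocus, PrimeSpectrum.mem_zeroLocus]
    rfl
  rw [← h1, Module.mem_support_iff]
  change ¬ Subsingleton (G.presheaf.stalk x) ↔ _
  rw [not_subsingleton_iff_nontrivial]
  constructor
  · intro h
    exact e.toEquiv.nontrivial
  · intro h
    exact e.symm.toEquiv.nontrivial

variable [IsLocallyNoetherian X] [HasInjectiveResolutions (ModSite.Mod X.sheaf)]

/-- vanishing of the Ext sheaf gives vanishing of the Ext modules over affine opens -/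
lemma ext_subsingleton_of_isZero (G F : X.Modules) (hG : Coh.IsCoh G) [F.IsQuasicoherent]
    [ModSite.HasSheafHom (O := X.sheaf) G] {W : X.Opens} (hW : IsAffineOpen W) (i : ℕ)
    (h : IsZero ((ModSite.extSh (O := X.sheaf) G i).obj F)) :
    Subsingleton (Abelian.Ext (ModuleCat.of Γ(X, W) Γ(G, W)) (ModuleCat.of Γ(X, W) Γ(F, W)) i) := by
  obtain ⟨e⟩ := extSh_restrict_affine G F hG hW i
  haveI : (Scheme.Modules.restrictFunctor hW.fromSpec).Additive :=
    (Scheme.Modules.restrictAdjunction hW.fromSpec).left_adjoint_additive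
  have h1 : IsZero ((Scheme.Modules.restrictFunctor hW.fromSpec).obj
      ((ModSite.extSh (O := X.sheaf) G i).obj F)) := Functor.map_isZero _ h
  exact subsingleton_of_isZero_tilde (R := Γ(X, W)) _ (h1.of_iso e.symm)

/-- **depth from Ext vanishing** -/
theorem le_depth_of_isZero_extSh (G F : X.Modules) (hG : Coh.IsCoh G) (hF : Coh.IsCoh F)
    [ModSite.HasSheafHom (O := X.sheaf) G] (n : ℕ)
    (h : ∀ i < n, IsZero ((ModSite.extSh (O := X.sheaf) G i).obj F))
    (x : X) (hx : x ∈ CohB1.support G) :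
    (n : ℕ∞) ≤ LocCoh.depth (X.presheaf.stalk x) (F.presheaf.stalk x) := by
  haveI := hG.1
  haveI := hG.2
  haveI := hF.1
  haveI := hF.2
  obtain ⟨_, ⟨W, hW : IsAffineOpen W, rfl⟩, hxW, -⟩ :=
    X.isBasis_affineOpens.exists_subset_of_mem_open (Set.mem_univ x) isOpen_univ
  haveI : IsNoetherianRing Γ(X, W) := IsLocallyNoetherian.component_noetherian ⟨W, hW⟩
  haveI : Module.Finite Γ(X, W) Γ(G, W) := module_finite_of_isFiniteType G hW
  haveI : Module.Finite Γ(X, W) Γ(F, W) := module_finite_of_isFiniteType F hW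
  rw [depth_stalk_eq_depth_localized F hW x hxW]
  exact depth_of_ext_subsingleton Γ(G, W) Γ(F, W) n
    (fun i hi => ext_subsingleton_of_isZero G F hG hW i (h i hi)) _
    ((mem_support_iff_annihilator_le G hW x hxW).mp hx)

/-- **Ext vanishing from depth** -/
theorem isZero_extSh_of_le_depth (G F : X.Modules) (hG : Coh.IsCoh G) (hF : Coh.IsCoh F)
    [ModSite.HasSheafHom (O := X.sheaf) G] (n : ℕ)
    (h : ∀ x ∈ CohB1.support G,
      (n : ℕ∞) ≤ LocCoh.depth (X.presheaf.stalk x) (F.presheaf.stalk x))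
    (i : ℕ) (hi : i < n) : IsZero ((ModSite.extSh (O := X.sheaf) G i).obj F) := by
  haveI := hG.1
  haveI := hG.2
  haveI := hF.1
  haveI := hF.2
  apply Groth.Agent.Lib.Helper28.DCohRes.isZero_of_locally
  intro x
  obtain ⟨_, ⟨W, hW : IsAffineOpen W, rfl⟩, hxW, -⟩ :=
    X.isBasis_affineOpens.exists_subset_of_mem_open (Set.mem_univ x) isOpen_univ
  haveI : IsNoetherianRing Γ(X, W) := IsLocallyNoetherian.component_noetherian ⟨W, hW⟩
  haveI : Module.Finite Γ(X, W) Γ(G, W) := module_finite_of_isFiniteType G hW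
  haveI : Module.Finite Γ(X, W) Γ(F, W) := module_finite_of_isFiniteType F hW
  refine ⟨Spec Γ(X, W), hW.fromSpec, inferInstance, ?_, ?_⟩
  · rw [hW.range_fromSpec]
    exact hxW
  · obtain ⟨e⟩ := extSh_restrict_affine G F hG hW i
    have hsub : Subsingleton (Abelian.Ext (ModuleCat.of Γ(X, W) Γ(G, W))
        (ModuleCat.of Γ(X, W) Γ(F, W)) i) := by
      apply ext_subsingleton_of_depth Γ(G, W) Γ(F, W) n _ i hi
      intro p hp hle
      obtain ⟨z, hzW, rfl⟩ := exists_point_primeIdealOf_eq hW p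
      rw [← depth_stalk_eq_depth_localized F hW z hzW]
      exact h z ((mem_support_iff_annihilator_le G hW z hzW).mpr hle)
    have hz : IsZero (ModuleCat.of Γ(X, W) (Abelian.Ext (ModuleCat.of Γ(X, W) Γ(G, W))
        (ModuleCat.of Γ(X, W) Γ(F, W)) i)) := ModuleCat.isZero_of_subsingleton _
    have hz' : IsZero (tilde (R := Γ(X, W)) (ModuleCat.of Γ(X, W)
        (Abelian.Ext (ModuleCat.of Γ(X, W) Γ(G, W)) (ModuleCat.of Γ(X, W) Γ(F, W)) i))) :=
      Functor.map_isZero (tilde.functor Γ(X, W)) hz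
    exact hz'.of_iso e

end Groth.Agent.Lib.Helper17.ExtDepth
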