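import Groth.Agent.Lib.Helper11.ExtLoc

/-!
# Vanishing of `Ext` over a Noetherian ring can be checked at maximal ideals
-/

set_option autoImplicit false

universe u

open CategoryTheory Abelian

namespace Groth.Agent.Lib.Helper17.ExtMax

variable {R : Type u} [CommRing R] [IsNoetherianRing R]

theorem ext_subsingleton_of_forall_maximal (M N : ModuleCat.{u} R) [Module.Finite R M] (i : ℕ)
    (h : ∀ (p : Ideal R) [p.IsMaximal],
      Subsingleton (Ext ((ModuleCat.localizedModuleFunctor.{u} p.primeCompl).obj M)
        ((ModuleCat.localizedModuleFunctor.{u} p.primeCompl).obj N) i)) :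
    Subsingleton (Ext M N i) := by
  refine subsingleton_of_forall_eq 0 fun e => ?_
  let I : Ideal R :=
    { carrier := {r | r • e = 0}
      add_mem' := fun {a b} ha hb => by
        change (a + b) • e = 0
        rw [add_smul, ha, hb, add_zero]
      zero_mem' := zero_smul R e
      smul_mem' := fun c {a} ha => by
        change (c • a) • e = 0
        rw [smul_eq_mul, mul_smul, ha, smul_zero] }
  by_contra hne
  have hI : I ≠ ⊤ := fun hI => hne (by
    have h1 : (1 : R) ∈ I := hI ▸ Submodule.mem_top
    have h2 : (1 : R) • e = 0 := h1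
    rwa [one_smul] at h2)
  obtain ⟨p, hp, hIp⟩ := Ideal.exists_le_maximal I hI
  haveI := hp
  have hP := Groth.Agent.Lib.Helper11.ExtLoc.P_of_finite p.primeCompl N i M
  obtain ⟨s, hs⟩ := hP.2 e (Subsingleton.elim _ _)
  exact s.2 (hIp hs)

/-- the comparison of the `Shrink` model with the plain localized module -/
noncomputable def locIso (p : Ideal R) [p.IsPrime] (M : ModuleCat.{u} R) :
    (ModuleCat.localizedModuleFunctor.{u} p.primeCompl).obj M ≅
      ModuleCat.of (Localization.AtPrime p) (LocalizedModule p.primeCompl M) :=
  (Shrink.linearEquiv (Localization.AtPrime p) (LocalizedModule p.primeCompl M)).toModuleIso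

theorem ext_subsingleton_of_forall_maximal_pd (M N : ModuleCat.{u} R) [Module.Finite R M] (i : ℕ)
    (h : ∀ (p : Ideal R) [p.IsMaximal], HasProjectiveDimensionLT
      (ModuleCat.of (Localization.AtPrime p) (LocalizedModule p.primeCompl M)) i) :
    Subsingleton (Ext M N i) := by
  apply ext_subsingleton_of_forall_maximal
  intro p hp
  haveI := h p
  haveI : HasProjectiveDimensionLT
      ((ModuleCat.localizedModuleFunctor.{u} p.primeCompl).obj M) i :=
    hasProjectiveDimensionLT_of_iso (locIso p M).symm i
  exact HasProjectiveDimensionLT.subsingleton _ i i le_rfl _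

end Groth.Agent.Lib.Helper17.ExtMax
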