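import Mathlib
import Groth.Agent.Lib.Helper17.ExtDepth
import Groth.Agent.Lib.Helper17.ExtMax

/-!
# Vanishing of the Ext sheaves `ℰxt^i(G, F)` from bounds on projective dimensions at closed points
-/

set_option autoImplicit false

universe u

open CategoryTheory Limits Opposite AlgebraicGeometry

namespace Groth.Agent.Lib.Helper17.ExtHigh

open Groth.Agent.Lib.Helper17.IHom Groth.Agent.Lib.Helper29.QCoh
  Groth.Agent.Lib.Helper17.ExtAff Groth.Agent.Lib.Helper10.Hartogs

variable {X : Scheme.{u}} [IsLocallyNoetherian X]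
  [HasInjectiveResolutions (ModSite.Mod X.sheaf)]

theorem isZero_extSh_of_pd (G F : X.Modules) (hG : Coh.IsCoh G) (hF : Coh.IsCoh F)
    [ModSite.HasSheafHom (O := X.sheaf) G] (i : ℕ)
    (h : ∀ (W : X.Opens) (_ : IsAffineOpen W) (p : Ideal Γ(X, W)) [p.IsMaximal],
      HasProjectiveDimensionLT (ModuleCat.of (Localization.AtPrime p)
        (LocalizedModule p.primeCompl Γ(G, W))) i) :
    IsZero ((ModSite.extSh (O := X.sheaf) G i).obj F) := by
  haveI := hG.1
  haveI := hG.2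
  haveI := hF.1
  haveI := hF.2
  apply Groth.Agent.Lib.Helper28.DCohRes.isZero_of_locally
  intro x
  obtain ⟨_, ⟨W, hW : IsAffineOpen W, rfl⟩, hxW, -⟩ :=
    X.isBasis_affineOpens.exists_subset_of_mem_open (Set.mem_univ x) isOpen_univ
  haveI : IsNoetherianRing Γ(X, W) := IsLocallyNoetherian.component_noetherian ⟨W, hW⟩
  haveI : Module.Finite Γ(X, W) Γ(G, W) := module_finite_of_isFiniteType G hW
  refine ⟨Spec Γ(X, W), hW.fromSpec, inferInstance, ?_, ?_⟩
  · rw [hW.range_fromSpec]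
    exact hxW
  · obtain ⟨e⟩ := extSh_restrict_affine G F hG hW i
    have hsub : Subsingleton (Abelian.Ext (ModuleCat.of Γ(X, W) Γ(G, W))
        (ModuleCat.of Γ(X, W) Γ(F, W)) i) :=
      Groth.Agent.Lib.Helper17.ExtMax.ext_subsingleton_of_forall_maximal_pd
        (ModuleCat.of Γ(X, W) Γ(G, W)) (ModuleCat.of Γ(X, W) Γ(F, W)) i (fun p _ => h W hW p)
    have hz : IsZero (ModuleCat.of Γ(X, W) (Abelian.Ext (ModuleCat.of Γ(X, W) Γ(G, W))
        (ModuleCat.of Γ(X, W) Γ(F, W)) i)) := ModuleCat.isZero_of_subsingleton _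
    have hz' : IsZero (tilde (R := Γ(X, W)) (ModuleCat.of Γ(X, W)
        (Abelian.Ext (ModuleCat.of Γ(X, W) Γ(G, W)) (ModuleCat.of Γ(X, W) Γ(F, W)) i))) :=
      Functor.map_isZero (tilde.functor Γ(X, W)) hz
    exact hz'.of_iso e

end Groth.Agent.Lib.Helper17.ExtHigh
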