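import Groth.Agent.Lib.Helper17.DualVanish
import Groth.Agent.Lib.Helper17.ExtHigh
import Groth.Agent.Lib.Helper17.CMPd

/-!
# (i) ⇒ (ii) of Hartshorne III.7.6: for `X ⊂ P^N_k` closed whose local rings at closed points are
Cohen–Macaulay of dimension `n`, `H^j(X, O_X(-m)) = 0` for `j < n` and `m ≫ 0`.
-/

set_option autoImplicit false
set_option maxSynthPendingDepth 3

universe u

open CategoryTheory CategoryTheory.Limits AlgebraicGeometry Opposite Abelian

namespace Groth.Agent.Lib.Helper17.CMVanish

open Groth.Agent.Lib.Lead.SD Groth.Agent.Lib.Lead.Pn Groth.Agent.Lib.Lead.Koszul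
  Groth.Agent.Lib.Lead.TwistExact Groth.Agent.Lib.Helper29.QCoh
  Groth.Agent.Lib.Helper17.DualVanish Groth.Agent.Lib.Helper17.CMPd

variable (k : Type u) [Field k] (N n : ℕ) (X : Scheme.{u})
  (ι : X ⟶ CohB1.ProjSpace N k) [IsClosedImmersion ι]

include ι in
/-- a nonempty closed subscheme of `P^N_k` whose local rings at closed points have dimension `n`
has `n ≤ N` -/
theorem le_of_nonempty [Nonempty X]
    (hdim : ∀ x : X, IsClosed ({x} : Set ↥X) → ringKrullDim (X.presheaf.stalk x) = n) :
    n ≤ N := by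
  haveI hprop := isProper_toSpec N k
  haveI : CompactSpace (CohB1.ProjSpace N k) :=
    QuasiCompact.compactSpace_of_compactSpace (CohB1.ProjSpace.toSpec N k)
  haveI : CompactSpace X := QuasiCompact.compactSpace_of_compactSpace ι
  obtain ⟨x, -, hx⟩ := IsClosed.exists_closed_singleton (isClosed_univ (X := ↥X))
    Set.univ_nonempty
  have hz : IsClosed ({ι x} : Set (CohB1.ProjSpace N k)) := by
    have := ι.isClosedEmbedding.isClosedMap _ hx
    rwa [Set.image_singleton] at this
  have h1 := ringKrullDim_stalk_of_isClosed k N (ι x) hz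
  have h2 := ringKrullDim_le_of_surjective (ι.stalkMap x).hom (ι.stalkMap_surjective x)
  rw [hdim x hx, h1] at h2
  exact_mod_cast h2

theorem main [Nonempty X]
    (hCM : ∀ x : X, IsClosed ({x} : Set ↥X) →
      LocCoh.IsCohenMacaulayLocalRing (X.presheaf.stalk x) ∧ ringKrullDim (X.presheaf.stalk x) = n)
    (j : ℕ) (hj : j < n) :
    ∃ m₀ : ℤ, ∀ m : ℤ, m₀ ≤ m →
      Subsingleton (Coh.HH X ((Scheme.Modules.pullback ι).obj (Twist.twistProjSpace N k (-m))) j) := by
  have hnN : n ≤ N := le_of_nonempty k N n X ι (fun x hx => (hCM x hx).2)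
  haveI : EnoughInjectives (CohB1.ProjSpace N k).Modules :=
    Groth.Agent.S0485.result (Opens.grothendieckTopology (CohB1.ProjSpace N k))
      (CohB1.ProjSpace N k).ringCatSheaf
  haveI : HasInjectiveResolutions (ModSite.Mod (CohB1.ProjSpace N k).sheaf) :=
    inferInstanceAs (HasInjectiveResolutions (CohB1.ProjSpace N k).Modules)
  haveI : HasExt.{u} (CohB1.ProjSpace N k).Modules := hasExt_of_enoughInjectives _
  haveI : ModSite.HasSheafHom (O := (CohB1.ProjSpace N k).sheaf)
      ((Scheme.Modules.pushforward ι).obj (Coh.structureModule X)) :=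
    Groth.Agent.Lib.Helper17.IHom.hasSheafHom _
  haveI : (Coh.structureModule X).IsQuasicoherent := isQuasicoherent_unitM X
  haveI : (Coh.structureModule X).IsFiniteType :=
    isFiniteType_of_isInvertible (isInvertible_unit X)
  have hc : Coh.IsCoh ((Scheme.Modules.pushforward ι).obj (Coh.structureModule X)) :=
    isCoh_push N k ι _ ⟨inferInstance, inferInstance⟩
  have hz : IsZero ((ModSite.extSh (O := (CohB1.ProjSpace N k).sheaf)
      ((Scheme.Modules.pushforward ι).obj (Coh.structureModule X)) (N - j)).obj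
      (Twist.twistProjSpace N k (-((N : ℤ) + 1)))) :=
    Groth.Agent.Lib.Helper17.ExtHigh.isZero_extSh_of_pd _ _ hc
      (isCoh_twist k N (-((N : ℤ) + 1))) (N - j)
      (fun W hW p _ => pd_push_unit ι n hCM hW p (N - j) (by omega))
  obtain ⟨m₀, hm₀⟩ := (vanishing_iff k N _ hc j (by omega)).2 hz
  exact ⟨m₀, fun m hm => (bridge k N X ι m j).2 (hm₀ m hm)⟩

end Groth.Agent.Lib.Helper17.CMVanish
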