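import Mathlib

/-!
# The Čech nerve `cechNerveTerminalFrom X` is `n`-coskeletal for every `n` (helper17)
-/

universe v u

open CategoryTheory Simplicial SimplexCategory SimplexCategory.Truncated
open Opposite Category Functor Limits StructuredArrow
open CategoryTheory.SimplicialObject CategoryTheory.SimplicialObject.Truncated

namespace Groth.Agent.Lib.Helper17.CechCosk

variable {C : Type u} [Category.{v} C] [HasFiniteProducts C] (X : C)

lemma cech_map_π {Δ Δ' : SimplexCategoryᵒᵖ} (g : Δ ⟶ Δ') (i : Fin (Δ'.unop.len + 1)) :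
    (cechNerveTerminalFrom X).map g ≫ Limits.Pi.π (fun _ : Fin (Δ'.unop.len + 1) => X) i =
      Limits.Pi.π (fun _ : Fin (Δ.unop.len + 1) => X) (g.unop.toOrderHom i) := by
  simp [cechNerveTerminalFrom]

/-- object of the comma category -/
abbrev strArrowMk (n : ℕ) {i : ℕ} {m : ℕ} (φ : ⦋i⦌ ⟶ ⦋m⦌) (hi : i ≤ n) :
    StructuredArrow (op ⦋m⦌) (Truncated.inclusion n).op :=
  StructuredArrow.mk (Y := op (⟨⦋i⦌, hi⟩ : SimplexCategory.Truncated n)) φ.op

noncomputable def lift (n m : ℕ)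
    (s : Cone (proj (op ⦋m⦌) (Truncated.inclusion n).op ⋙
      (Truncated.inclusion n).op ⋙ cechNerveTerminalFrom X)) :
    s.pt ⟶ (cechNerveTerminalFrom X).obj (op ⦋m⦌) :=
  Limits.Pi.lift fun i : Fin (m + 1) =>
    s.π.app (strArrowMk n (⦋0⦌.const ⦋m⦌ i) (Nat.zero_le n)) ≫ Limits.Pi.π (fun _ : Fin (0 + 1) => X) 0

set_option backward.isDefEq.respectTransparency false in
lemma lift_π (n m : ℕ)
    (s : Cone (proj (op ⦋m⦌) (Truncated.inclusion n).op ⋙
      (Truncated.inclusion n).op ⋙ cechNerveTerminalFrom X)) (i : Fin (m + 1)) :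
    lift X n m s ≫ Limits.Pi.π (fun _ : Fin (m + 1) => X) i =
      s.π.app (strArrowMk n (⦋0⦌.const ⦋m⦌ i) (Nat.zero_le n)) ≫
        Limits.Pi.π (fun _ : Fin (0 + 1) => X) 0 := by
  rw [lift, Limits.Pi.lift_π]

set_option backward.isDefEq.respectTransparency false in
noncomputable def isPointwiseRightKanExtensionAt (n m : ℕ) :
    (rightExtensionInclusion (cechNerveTerminalFrom X) n).IsPointwiseRightKanExtensionAt ⟨⦋m⦌⟩ where
  lift s := lift X n m s
  fac s j := by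
    obtain ⟨⟨i, hi⟩, ⟨f : _ ⟶ _⟩, rfl⟩ := j.mk_surjective
    obtain ⟨i, rfl⟩ : ∃ j, ⦋j⦌ = i := ⟨_, i.mk_len⟩
    dsimp at hi ⊢
    change lift X n m s ≫ ((cechNerveTerminalFrom X).map f.op ≫ 𝟙 _) = s.π.app (strArrowMk n f hi)
    rw [Category.comp_id]
    apply Limits.Pi.hom_ext
    intro k
    let α : strArrowMk n f hi ⟶ strArrowMk n (⦋0⦌.const ⦋m⦌ (f.toOrderHom k)) (Nat.zero_le n) :=
      StructuredArrow.homMk ((Hom.tr (⦋0⦌.const ⦋i⦌ k)).op) (by simp; rfl)
    have hα : s.π.app (strArrowMk n f hi) ≫ (cechNerveTerminalFrom X).map (⦋0⦌.const ⦋i⦌ k).op =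
        s.π.app (strArrowMk n (⦋0⦌.const ⦋m⦌ (f.toOrderHom k)) (Nat.zero_le n)) := s.w α
    have h1 : (cechNerveTerminalFrom X).map (⦋0⦌.const ⦋i⦌ k).op ≫
        Limits.Pi.π (fun _ : Fin (0 + 1) => X) 0 = Limits.Pi.π (fun _ : Fin (i + 1) => X) k :=
      cech_map_π X (⦋0⦌.const ⦋i⦌ k).op 0
    have h2 : (cechNerveTerminalFrom X).map f.op ≫ Limits.Pi.π (fun _ : Fin (i + 1) => X) k =
        Limits.Pi.π (fun _ : Fin (m + 1) => X) (f.toOrderHom k) := cech_map_π X f.op k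
    rw [Category.assoc]
    erw [h2]
    rw [lift_π, ← hα, Category.assoc]
    erw [h1]
    rfl
  uniq s m' hm := by
    apply Limits.Pi.hom_ext
    intro k
    have h0 : m' ≫ ((cechNerveTerminalFrom X).map (⦋0⦌.const ⦋m⦌ k).op ≫ 𝟙 _) =
        s.π.app (strArrowMk n (⦋0⦌.const ⦋m⦌ k) (Nat.zero_le n)) :=
      hm (strArrowMk n (⦋0⦌.const ⦋m⦌ k) (Nat.zero_le n))
    rw [Category.comp_id] at h0
    have h1 : (cechNerveTerminalFrom X).map (⦋0⦌.const ⦋m⦌ k).op ≫
        Limits.Pi.π (fun _ : Fin (0 + 1) => X) 0 = Limits.Pi.π (fun _ : Fin (m + 1) => X) k :=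
      cech_map_π X (⦋0⦌.const ⦋m⦌ k).op 0
    erw [lift_π, ← h0, Category.assoc]
    erw [h1]

noncomputable def isPointwiseRightKanExtension (n : ℕ) :
    (rightExtensionInclusion (cechNerveTerminalFrom X) n).IsPointwiseRightKanExtension :=
  fun Δ => isPointwiseRightKanExtensionAt X n Δ.unop.len

theorem isCoskeletal (n : ℕ) : SimplicialObject.IsCoskeletal (cechNerveTerminalFrom X) n where
  isRightKanExtension :=
    RightExtension.IsPointwiseRightKanExtension.isRightKanExtension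
      (isPointwiseRightKanExtension X n)

end Groth.Agent.Lib.Helper17.CechCosk
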