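import Mathlib

/-!
# Coreflections onto a class of objects in a pretriangulated category
-/

set_option autoImplicit false
universe v u

open CategoryTheory Limits Pretriangulated

namespace Groth.Agent.Lib.Helper17.CechRG

variable {D : Type u} [Category.{v} D]

/-- `c : C ⟶ G` exhibits `C` as a coreflection of `G` into the class `𝒦`. -/
def IsCorefl (𝒦 : D → Prop) {C G : D} (c : C ⟶ G) : Prop :=
  𝒦 C ∧ ∀ T : D, 𝒦 T → Function.Bijective (fun g : T ⟶ C => g ≫ c)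

lemma IsCorefl.nonempty_iso {𝒦 : D → Prop} {C C' G : D} {c : C ⟶ G} {c' : C' ⟶ G}
    (h : IsCorefl 𝒦 c) (h' : IsCorefl 𝒦 c') : Nonempty (C' ≅ C) := by
  obtain ⟨a, ha⟩ := (h.2 C' h'.1).2 c'
  obtain ⟨b, hb⟩ := (h'.2 C h.1).2 c
  dsimp only at ha hb
  refine ⟨⟨a, b, ?_, ?_⟩⟩
  · apply (h'.2 C' h'.1).1
    dsimp only
    rw [Category.assoc, hb, ha, Category.id_comp]
  · apply (h.2 C h.1).1
    dsimp only
    rw [Category.assoc, ha, hb, Category.id_comp]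

lemma isCorefl_id (𝒦 : D → Prop) (G : D) (h : 𝒦 G) : IsCorefl 𝒦 (𝟙 G) := by
  refine ⟨h, fun T _ => ⟨fun g g' hh => ?_, fun g => ⟨g, Category.comp_id g⟩⟩⟩
  simpa using hh

lemma IsCorefl.comp {𝒦 𝒦' : D → Prop} (hle : ∀ T, 𝒦' T → 𝒦 T) {C'' C G : D} {c : C ⟶ G}
    (h : IsCorefl 𝒦 c) (c'' : C'' ⟶ C) (hC'' : 𝒦' C'')
    (hb : ∀ T : D, 𝒦' T → Function.Bijective (fun g : T ⟶ C'' => g ≫ c'')) :
    IsCorefl 𝒦' (c'' ≫ c) := by
  refine ⟨hC'', fun T hT => ?_⟩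
  have h1 := hb T hT
  have h2 := h.2 T (hle T hT)
  have : (fun g : T ⟶ C'' => g ≫ c'' ≫ c) = (fun g : T ⟶ C => g ≫ c) ∘ (fun g : T ⟶ C'' => g ≫ c'') := by
    funext g
    simp
  rw [this]
  exact h2.comp h1

variable [HasZeroObject D] [HasShift D ℤ] [Preadditive D]
  [∀ n : ℤ, (shiftFunctor D n).Additive] [Pretriangulated D]

/-- if `C ⟶ G ⟶ R ⟶ C⟦1⟧` is distinguished and `Hom(T, R) = 0` for all `T` in the (shift-stable)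
class `𝒦`, then `Hom(T, C) ≅ Hom(T, G)` for all such `T`. -/
lemma bijective_of_triangle (𝒦 : D → Prop) (hshift : ∀ T, 𝒦 T → 𝒦 (T⟦(1 : ℤ)⟧))
    (Tr : Triangle D) (hTr : Tr ∈ distTriang D)
    (hR : ∀ T : D, 𝒦 T → ∀ g : T ⟶ Tr.obj₃, g = 0) (T : D) (hT : 𝒦 T) :
    Function.Bijective (fun g : T ⟶ Tr.obj₁ => g ≫ Tr.mor₁) := by
  constructor
  · intro g1 g2 h12
    dsimp only at h12
    have h0 : (g1 - g2) ≫ Tr.mor₁ = 0 := by
      rw [Preadditive.sub_comp, h12, sub_self]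
    have h1 : (g1 - g2)⟦(1 : ℤ)⟧' ≫ Tr.mor₁⟦(1 : ℤ)⟧' = 0 := by
      rw [← Functor.map_comp, h0, Functor.map_zero]
    obtain ⟨k, hk⟩ := Triangle.coyoneda_exact₁ Tr hTr ((g1 - g2)⟦(1 : ℤ)⟧') h1
    rw [hR _ (hshift T hT) k, zero_comp] at hk
    have h2 : g1 - g2 = 0 := (shiftFunctor D (1 : ℤ)).map_injective (by rw [hk, Functor.map_zero])
    exact sub_eq_zero.1 h2
  · intro g
    obtain ⟨k, hk⟩ := Triangle.coyoneda_exact₂ Tr hTr g (hR T hT _)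
    exact ⟨k, hk.symm⟩

lemma isCorefl_of_triangle (𝒦 : D → Prop) (hshift : ∀ T, 𝒦 T → 𝒦 (T⟦(1 : ℤ)⟧))
    (Tr : Triangle D) (hTr : Tr ∈ distTriang D) (h1 : 𝒦 Tr.obj₁)
    (hR : ∀ T : D, 𝒦 T → ∀ g : T ⟶ Tr.obj₃, g = 0) : IsCorefl 𝒦 Tr.mor₁ :=
  ⟨h1, bijective_of_triangle 𝒦 hshift Tr hTr hR⟩

end Groth.Agent.Lib.Helper17.CechRG
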