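import Mathlib
import Groth.Agent.Lib.Helper17.DerAbs

/-!
# A criterion for being a right derived functor in the presence of enough local objects
-/

set_option autoImplicit false
set_option linter.unusedSectionVars false
set_option linter.style.haveILetI false

open CategoryTheory CategoryTheory.Limits CategoryTheory.Functor

universe v₁ v₂ v₃ v₄ u₁ u₂ u₃ u₄

namespace Groth.Agent.Lib.Helper17.DerAbs

variable {C : Type u₁} {D : Type u₂} {H : Type u₃}
  [Category.{v₁} C] [Category.{v₂} D] [Category.{v₃} H]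
  {L : C ⥤ D} {W : MorphismProperty C} {P : C → Prop} [L.IsLocalization W]

/-- A functor `G` with `β : Φ ⟶ L ⋙ G` is a right derived functor of `Φ` as soon as `β` is
invertible on (enough) local objects. -/
theorem isRightDerivedFunctor_of_isIso_app (h : EnoughLocal L W P) {Φ : C ⥤ H}
    (hΦ : Compat L P Φ) (G : D ⥤ H) (β : Φ ⟶ L ⋙ G)
    (hβ : ∀ I : C, P I → IsLocalObj L I → IsIso (β.app I)) :
    G.IsRightDerivedFunctor β W := by
  haveI := hasPointwiseRightDerivedFunctor h hΦ
  rw [isRightDerivedFunctor_iff_isIso_rightDerivedDesc (Φ.totalRightDerived L W)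
    (Φ.totalRightDerivedUnit L W) W]
  set δ := (Φ.totalRightDerived L W).rightDerivedDesc (Φ.totalRightDerivedUnit L W) W G β with hδ
  haveI : ∀ Y, IsIso (δ.app Y) := by
    intro Y
    have := Localization.essSurj L W
    obtain ⟨I, f, hf, hPI, hI⟩ := h (L.objPreimage Y)
    let e : Y ≅ L.obj I := (L.objObjPreimageIso Y).symm ≪≫ Localization.isoOfHom L W f hf
    rw [NatTrans.isIso_app_iff_of_iso δ e]
    have h1 : (Φ.totalRightDerivedUnit L W).app I ≫ δ.app (L.obj I) = β.app I :=
      rightDerived_fac_app _ _ _ _ _ _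
    haveI := isIso_app h hΦ _ (Φ.totalRightDerivedUnit L W) hPI hI
    haveI := hβ I hPI hI
    exact IsIso.of_isIso_fac_left h1
  exact NatIso.isIso_of_isIso_app δ

/-- the comparison map from a right derived functor is invertible iff its unit is invertible on
local objects -/
theorem isIso_rightDerivedDesc (h : EnoughLocal L W P) {Φ : C ⥤ H}
    (hΦ : Compat L P Φ) (RΦ : D ⥤ H) (α : Φ ⟶ L ⋙ RΦ) [RΦ.IsRightDerivedFunctor α W]
    (G : D ⥤ H) (β : Φ ⟶ L ⋙ G)
    (hβ : ∀ I : C, P I → IsLocalObj L I → IsIso (β.app I)) :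
    IsIso (RΦ.rightDerivedDesc α W G β) := by
  rw [← isRightDerivedFunctor_iff_isIso_rightDerivedDesc RΦ α W]
  exact isRightDerivedFunctor_of_isIso_app h hΦ G β hβ

end Groth.Agent.Lib.Helper17.DerAbs
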