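import Groth.Agent.Lib.Helper28.LpullComp
import Groth.Agent.Lib.Helper17.AdjHo
import Groth.Agent.Lib.Helper17.DerAbs2
import Groth.Agent.Lib.Helper17.PushCoh2
import Groth.Agent.Lib.Helper17.RFRlim
import Groth.Prelude.Def_DCoh3

/-!
# The derived adjunction `Lf^* ⊣ Rf_*`
-/

set_option autoImplicit false
universe u

open CategoryTheory Limits Opposite AlgebraicGeometry TopologicalSpace CochainComplex

attribute [local instance] HasDerivedCategory.standard

namespace Groth.Agent.Lib.Helper17.LpullAdj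

open Groth.Agent.Lib.Helper17.PushCoh Groth.Agent.Lib.Helper17.PushCoh2
open Groth.Agent.Lib.Helper17.DerAbs Groth.Agent.Lib.Helper17.DerKInj
open Groth.Agent.Lib.Helper28.Lpull Groth.Agent.Lib.Helper28.LeftDerivedTri

variable {X Y : Scheme.{u}} (f : X ⟶ Y)

/-- the adjunction `f^* ⊣ f_*` on homotopy categories. -/
noncomputable def adjK : pullK f ⊣
    (Scheme.Modules.pushforward f).mapHomotopyCategory (ComplexShape.up ℤ) :=
  Groth.Agent.Lib.Helper17.AdjHo.adjHo (Scheme.Modules.pullbackPushforwardAdjunction f)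
    (ComplexShape.up ℤ)

/-- the unit of `R f_*`. -/
noncomputable abbrev unitR [DCoh.HasRpush f] :
    DCoh.pushKh f ⟶ DerivedCategory.Qh ⋙ DCoh.Rpush f :=
  (DCoh.pushKh f).totalRightDerivedUnit DerivedCategory.Qh
    (HomotopyCategory.quasiIso X.Modules (ComplexShape.up ℤ))

variable [DCoh.HasLpull f] [DCoh.HasRpush f]

lemma isLeftDerivedFunctor_comp_Rpush :
    (DCoh.Lpull f ⋙ DCoh.Rpush f).IsLeftDerivedFunctor
      ((Functor.associator _ _ _).inv ≫ Functor.whiskerRight (LpullCounit f) (DCoh.Rpush f))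
      (HomotopyCategory.quasiIso Y.Modules (ComplexShape.up ℤ)) := by
  have h := isLeftDerivedFunctor_of_isIso (A := kfl Y) (B := acy Y)
    (DCoh.pullKh f ⋙ DCoh.Rpush f) DerivedCategory.Qh (DCoh.Lpull f ⋙ DCoh.Rpush f)
    ((Functor.associator _ _ _).inv ≫ Functor.whiskerRight (LpullCounit f) (DCoh.Rpush f))
    (hasRes_kfl Y)
    (by
      intro P₁ P₂ s hs
      haveI := inverts_pullKh f s hs
      show IsIso ((DCoh.Rpush f).map (((kfl Y).ι ⋙ DCoh.pullKh f).map s))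
      infer_instance)
    (fun P hP => by
      haveI := isIso_LpullCounit_app f P hP
      dsimp
      infer_instance)
  exact (Functor.isLeftDerivedFunctor_iff_isRightKanExtension _ _ _).2
    ((Functor.isLeftDerivedFunctor_iff_isRightKanExtension _ _ (acy Y).trW).1 h)

lemma isRightDerivedFunctor_comp_Lpull :
    (DCoh.Rpush f ⋙ DCoh.Lpull f).IsRightDerivedFunctor
      (Functor.whiskerRight (unitR f) (DCoh.Lpull f) ≫ (Functor.associator _ _ _).hom)
      (HomotopyCategory.quasiIso X.Modules (ComplexShape.up ℤ)) :=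
  isRightDerivedFunctor_comp (enoughLocal_Qh (hA X)) (compat_Qh _) (DCoh.Rpush f) (unitR f)
    (DCoh.Lpull f)

/-- **the derived adjunction `Lf^* ⊣ Rf_*`.** -/
noncomputable def derivedAdj : DCoh.Lpull f ⊣ DCoh.Rpush f :=
  haveI := isLeftDerivedFunctor_comp_Rpush f
  haveI := isRightDerivedFunctor_comp_Lpull f
  (adjK f).derived (HomotopyCategory.quasiIso Y.Modules (ComplexShape.up ℤ))
    (HomotopyCategory.quasiIso X.Modules (ComplexShape.up ℤ)) (LpullCounit f) (unitR f)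

omit [DCoh.HasLpull f] [DCoh.HasRpush f] in
/-- **`Rg_* ∘ Rf_* ≅ R(g ∘ f)_*`.** -/
theorem nonempty_Rpush_comp_iso {Z : Scheme.{u}} (g : Y ⟶ Z)
    [DCoh.HasRpush f] [DCoh.HasRpush g] [DCoh.HasRpush (f ≫ g)] :
    Nonempty (DCoh.Rpush f ⋙ DCoh.Rpush g ≅ DCoh.Rpush (f ≫ g)) := by
  haveI := hasLpull f
  haveI := hasLpull g
  haveI := hasLpull (f ≫ g)
  let adj1 : DCoh.Lpull g ⋙ DCoh.Lpull f ⊣ DCoh.Rpush f ⋙ DCoh.Rpush g :=
    (derivedAdj g).comp (derivedAdj f)
  exact ⟨(adj1.ofNatIsoLeft (LpullCompIso f g)).rightAdjointUniq (derivedAdj (f ≫ g))⟩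

open Pretriangulated Groth.Agent.Lib.Helper17.RFRlim Groth.Agent.Lib.Helper17.RFTri in
omit [DCoh.HasLpull f] in
/-- **`Rf_*` commutes with derived limits.** -/
theorem isRlim_Rpush (K : ℕ → DCoh.D X) (t : ∀ n, K (n + 1) ⟶ K n) [HasProduct K]
    [HasProduct fun n => (DCoh.Rpush f).obj (K n)] (L : DCoh.D X) (hL : DCoh.IsRlim K t L) :
    DCoh.IsRlim (fun n => (DCoh.Rpush f).obj (K n)) (fun n => (DCoh.Rpush f).map (t n))
      ((DCoh.Rpush f).obj L) := by
  haveI := hasLpull f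
  obtain ⟨a, c, h⟩ := hL
  haveI : (DCoh.Rpush f).Additive := additive_RF (Scheme.Modules.pushforward f) (hA X)
  obtain ⟨δ, hδ⟩ := exists_distinguished_RF (Scheme.Modules.pushforward f) (hA X) _ h
  haveI : PreservesLimitsOfSize.{0, 0} (DCoh.Rpush f) :=
    (derivedAdj f).rightAdjoint_preservesLimits
  have hlim : IsLimit (Fan.mk ((DCoh.Rpush f).obj (∏ᶜ K))
      (fun n => (DCoh.Rpush f).map (Pi.π K n))) :=
    isLimitFanMkObjOfIsLimit (DCoh.Rpush f) K _ (productIsProduct K)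
  let K' : ℕ → DCoh.D Y := fun n => (DCoh.Rpush f).obj (K n)
  let can : (DCoh.Rpush f).obj (∏ᶜ K) ≅ ∏ᶜ K' :=
    IsLimit.conePointUniqueUpToIso hlim (productIsProduct K')
  have hcan : ∀ n, can.hom ≫ Pi.π K' n = (DCoh.Rpush f).map (Pi.π K n) := fun n =>
    IsLimit.conePointUniqueUpToIso_hom_comp hlim (productIsProduct K') ⟨n⟩
  let m := Pi.lift fun n => Pi.π K n - Pi.π K (n + 1) ≫ t n
  let m' := Pi.lift fun n => Pi.π K' n - Pi.π K' (n + 1) ≫ (DCoh.Rpush f).map (t n)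
  have hm : (DCoh.Rpush f).map m ≫ can.hom = can.hom ≫ m' := by
    apply Pi.hom_ext
    intro n
    rw [Category.assoc, Category.assoc, hcan, Pi.lift_π, ← Functor.map_comp, Pi.lift_π,
      Functor.map_sub, Functor.map_comp, Preadditive.comp_sub, ← Category.assoc, hcan, hcan]
  refine ⟨(DCoh.Rpush f).map a ≫ can.hom, can.inv ≫ δ, ?_⟩
  refine isomorphic_distinguished _ hδ _ (Iso.symm ?_)
  refine Triangle.isoMk _ _ (Iso.refl _) can can ?_ ?_ ?_
  · change (DCoh.Rpush f).map a ≫ can.hom = 𝟙 _ ≫ (DCoh.Rpush f).map a ≫ can.hom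
    rw [Category.id_comp]
  · exact hm
  · change δ ≫ (𝟙 _)⟦(1 : ℤ)⟧' = can.hom ≫ can.inv ≫ δ
    rw [CategoryTheory.Functor.map_id, Category.comp_id, Iso.hom_inv_id_assoc]

end Groth.Agent.Lib.Helper17.LpullAdj
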