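import Groth.Agent.Lib.Helper17.OpenAdj2
import Groth.Agent.Lib.Helper17.LpullAdj

/-!
# `Rf_* RΓ_{Z'} ≅ RΓ_Z Rf_*`
-/

set_option autoImplicit false
universe u

open CategoryTheory Limits Opposite AlgebraicGeometry TopologicalSpace CochainComplex

attribute [local instance] HasDerivedCategory.standard

namespace Groth.Agent.Lib.Helper17.OpenAdj

open Groth.Agent.Lib.Helper17.PushCoh Groth.Agent.Lib.Helper17.PushCoh2
open Groth.Agent.Lib.Helper17.DerAbs Groth.Agent.Lib.Helper17.DerKInj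
open Groth.Agent.Lib.Helper17.RFTri Groth.Agent.Lib.Helper17.SuppRes
open Groth.Agent.Lib.Helper17.MVGamma Groth.Agent.Lib.Helper17.RFRlim Pretriangulated

section adj

variable {U X : Scheme.{u}} (j : U ⟶ X) [IsOpenImmersion j] [DCoh.HasRpush j]
  (adj : DCoh.restrictD j ⊣ DCoh.Rpush j)

include adj in
/-- maps into `Rj_*` from objects vanishing on the open are zero. -/
lemma hom_Rpush_eq_zero {P : DCoh.D X} {Q : DCoh.D U} (hP : IsZero ((DCoh.restrictD j).obj P))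
    (f : P ⟶ (DCoh.Rpush j).obj Q) : f = 0 := by
  apply (adj.homEquiv P Q).symm.injective
  exact hP.eq_of_src _ _

/-- the unit is an isomorphism on the essential image of `Rj_*`. -/
lemma isIso_unit_Rpush (Q : DCoh.D U) : IsIso (adj.unit.app ((DCoh.Rpush j).obj Q)) := by
  haveI := isIso_counit j adj
  have h := adj.right_triangle_components Q
  haveI : IsIso (adj.unit.app ((DCoh.Rpush j).obj Q) ≫ (DCoh.Rpush j).map (adj.counit.app Q)) := by
    rw [h]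
    exact IsIso.id _
  exact IsIso.of_isIso_comp_right _ ((DCoh.Rpush j).map (adj.counit.app Q))

lemma isIso_unit_of_iso {M : DCoh.D X} {Q : DCoh.D U} (e : M ≅ (DCoh.Rpush j).obj Q) :
    IsIso (adj.unit.app M) := by
  haveI := isIso_unit_Rpush j adj Q
  have h : e.hom ≫ adj.unit.app ((DCoh.Rpush j).obj Q) =
      adj.unit.app M ≫ (DCoh.restrictD j ⋙ DCoh.Rpush j).map e.hom := adj.unit.naturality e.hom
  haveI : IsIso ((DCoh.restrictD j ⋙ DCoh.Rpush j).map e.hom) := inferInstance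
  haveI : IsIso (adj.unit.app M ≫ (DCoh.restrictD j ⋙ DCoh.Rpush j).map e.hom) := by
    rw [← h]
    infer_instance
  exact IsIso.of_isIso_comp_right _ ((DCoh.restrictD j ⋙ DCoh.Rpush j).map e.hom)

lemma isIso_of_isIso_restrict {M M' : DCoh.D X} (γ : M ⟶ M') (hM : IsIso (adj.unit.app M))
    (hM' : IsIso (adj.unit.app M')) (h : IsIso ((DCoh.restrictD j).map γ)) : IsIso γ := by
  have hn := adj.unit.naturality γ
  haveI : IsIso ((DCoh.restrictD j ⋙ DCoh.Rpush j).map γ) := by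
    show IsIso ((DCoh.Rpush j).map ((DCoh.restrictD j).map γ))
    infer_instance
  haveI : IsIso (γ ≫ adj.unit.app M') := by
    have : γ ≫ adj.unit.app M' = adj.unit.app M ≫ (DCoh.restrictD j ⋙ DCoh.Rpush j).map γ := hn
    rw [this]
    infer_instance
  exact IsIso.of_isIso_comp_right γ (adj.unit.app M')

end adj

lemma nonempty_Rpush_congr {X Y : Scheme.{u}} {g g' : X ⟶ Y} (h : g = g') [DCoh.HasRpush g]
    [DCoh.HasRpush g'] : Nonempty (DCoh.Rpush g ≅ DCoh.Rpush g') := by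
  subst h
  exact ⟨Iso.refl _⟩

section main

open Groth.Agent.Lib.Helper17.RGammaZ Groth.Agent.Lib.Helper17.LpullAdj

variable {X Y : Scheme.{u}} (f : X ⟶ Y) (U : Y.Opens)

/-- `(Rf_* P)|_U = 0` if `P|_{f⁻¹U} = 0`. -/
lemma isZero_restrictD_Rpush (P : DCoh.D X)
    (hP : IsZero ((DCoh.restrictD (f ⁻¹ᵁ U).ι).obj P)) :
    IsZero ((DCoh.restrictD U.ι).obj ((DCoh.Rpush f).obj P)) := by
  obtain ⟨e⟩ := Groth.Agent.Lib.Helper17.RpushRes.nonempty_iso f U
  haveI : (DCoh.Rpush (f ∣_ U)).Additive :=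
    additive_RF (Scheme.Modules.pushforward (f ∣_ U)) (hA _)
  have h2 : IsZero ((DCoh.Rpush (f ∣_ U)).obj ((DCoh.restrictD (f ⁻¹ᵁ U).ι).obj P)) :=
    (DCoh.Rpush (f ∣_ U)).map_isZero hP
  exact IsZero.of_iso h2 (e.app P)

/-- `Rf_* Rj'_* Q ≅ Rj_* R(f|_U)_* Q`. -/
lemma nonempty_Rpush_square (Q : DCoh.D ((f ⁻¹ᵁ U : X.Opens) : Scheme.{u})) :
    Nonempty ((DCoh.Rpush f).obj ((DCoh.Rpush (f ⁻¹ᵁ U).ι).obj Q) ≅
      (DCoh.Rpush U.ι).obj ((DCoh.Rpush (f ∣_ U)).obj Q)) := by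
  obtain ⟨e1⟩ := nonempty_Rpush_comp_iso (f ⁻¹ᵁ U).ι f
  obtain ⟨e2⟩ := nonempty_Rpush_comp_iso (f ∣_ U) U.ι
  obtain ⟨e3⟩ := nonempty_Rpush_congr (morphismRestrict_ι f U)
  exact ⟨e1.app Q ≪≫ (e3.app Q).symm ≪≫ (e2.app Q).symm⟩

theorem Rpush_RgammaZ [CxOX.HasRgammaZ U.ι] [CxOX.HasRgammaZ (f ⁻¹ᵁ U).ι] (K : DCoh.D X) :
    (∃ α : (DCoh.Rpush f).obj ((CxOX.RgammaZ (f ⁻¹ᵁ U).ι).obj K) ⟶
        (CxOX.RgammaZ U.ι).obj ((DCoh.Rpush f).obj K),
        α ≫ (CxOX.RgammaZToId U.ι).app ((DCoh.Rpush f).obj K) =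
          (DCoh.Rpush f).map ((CxOX.RgammaZToId (f ⁻¹ᵁ U).ι).app K)) ∧
    ∀ α : (DCoh.Rpush f).obj ((CxOX.RgammaZ (f ⁻¹ᵁ U).ι).obj K) ⟶
        (CxOX.RgammaZ U.ι).obj ((DCoh.Rpush f).obj K),
        α ≫ (CxOX.RgammaZToId U.ι).app ((DCoh.Rpush f).obj K) =
          (DCoh.Rpush f).map ((CxOX.RgammaZToId (f ⁻¹ᵁ U).ι).app K) → IsIso α := by
  let adj := openAdj U.ι
  let N := (DCoh.Rpush f).obj K
  obtain ⟨b, c, hT2⟩ := exists_triangle U N
  obtain ⟨b', c', hT1'⟩ := exists_triangle (f ⁻¹ᵁ U) K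
  obtain ⟨δ, hT1⟩ := exists_distinguished_RF (Scheme.Modules.pushforward f) (hA X) _ hT1'
  have hz1 : IsZero ((DCoh.restrictD U.ι).obj
      ((DCoh.Rpush f).obj ((CxOX.RgammaZ (f ⁻¹ᵁ U).ι).obj K))) :=
    isZero_restrictD_Rpush f U _ (isZero_restrictD_RgammaZ (f ⁻¹ᵁ U) K)
  have hz2 : IsZero ((DCoh.restrictD U.ι).obj ((CxOX.RgammaZ U.ι).obj N)) :=
    isZero_restrictD_RgammaZ U N
  refine ⟨?_, ?_⟩
  · have h0 : (DCoh.Rpush f).map ((CxOX.RgammaZToId (f ⁻¹ᵁ U).ι).app K) ≫ b = 0 :=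
      hom_Rpush_eq_zero U.ι adj hz1 _
    obtain ⟨α, hα⟩ := Triangle.coyoneda_exact₂ _ hT2
      ((DCoh.Rpush f).map ((CxOX.RgammaZToId (f ⁻¹ᵁ U).ι).app K)) h0
    exact ⟨α, hα.symm⟩
  · intro α hα
    obtain ⟨γ, hγ1, hγ2⟩ := complete_distinguished_triangle_morphism _ _ hT1 hT2 α (𝟙 N)
      (by
        change (DCoh.Rpush f).map ((CxOX.RgammaZToId (f ⁻¹ᵁ U).ι).app K) ≫ 𝟙 N =
          α ≫ (CxOX.RgammaZToId U.ι).app N
        exact (Category.comp_id _).trans hα.symm)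
    -- γ is an isomorphism
    have hγ : IsIso γ := by
      refine isIso_of_isIso_restrict U.ι adj γ ?_ ?_ ?_
      · obtain ⟨e⟩ := nonempty_Rpush_square f U ((DCoh.restrictD (f ⁻¹ᵁ U).ι).obj K)
        exact isIso_unit_of_iso U.ι adj e
      · exact isIso_unit_Rpush U.ι adj _
      · have hd1 := (DCoh.restrictD U.ι).map_distinguished _ hT1
        have hd2 := (DCoh.restrictD U.ι).map_distinguished _ hT2
        have i1 : IsIso ((DCoh.restrictD U.ι).map ((DCoh.Rpush f).map b')) :=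
          (Triangle.isZero₁_iff_isIso₂ _ hd1).1 hz1
        have i2 : IsIso ((DCoh.restrictD U.ι).map b) :=
          (Triangle.isZero₁_iff_isIso₂ _ hd2).1 hz2
        have hc : (DCoh.restrictD U.ι).map ((DCoh.Rpush f).map b') ≫ (DCoh.restrictD U.ι).map γ =
            (DCoh.restrictD U.ι).map b := by
          rw [← Functor.map_comp]
          congr 1
          change (DCoh.Rpush f).map b' ≫ γ = 𝟙 N ≫ b at hγ1
          rw [hγ1, Category.id_comp]
        have i3 : IsIso ((DCoh.restrictD U.ι).map ((DCoh.Rpush f).map b') ≫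
            (DCoh.restrictD U.ι).map γ) := by
          rw [hc]
          exact i2
        exact @IsIso.of_isIso_comp_left _ _ _ _ _
          ((DCoh.restrictD U.ι).map ((DCoh.Rpush f).map b')) ((DCoh.restrictD U.ι).map γ) i1 i3
    let φ : Triangle.mk ((DCoh.Rpush f).map ((CxOX.RgammaZToId (f ⁻¹ᵁ U).ι).app K))
        ((DCoh.Rpush f).map b') δ ⟶ Triangle.mk ((CxOX.RgammaZToId U.ι).app N) b c :=
      { hom₁ := α
        hom₂ := 𝟙 N
        hom₃ := γ
        comm₁ := by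
          change (DCoh.Rpush f).map ((CxOX.RgammaZToId (f ⁻¹ᵁ U).ι).app K) ≫ 𝟙 N =
            α ≫ (CxOX.RgammaZToId U.ι).app N
          exact (Category.comp_id _).trans hα.symm
        comm₂ := hγ1
        comm₃ := hγ2 }
    exact isIso₁_of_isIso₂₃ φ hT1 hT2 (IsIso.id _) hγ

end main

end Groth.Agent.Lib.Helper17.OpenAdj
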