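import Groth.Agent.Lib.Helper17.CechRG1
import Groth.Agent.Lib.Helper17.RGammaZPush

/-!
# `RΓ_Z G ⟶ G` is a coreflection onto objects vanishing on the open complement
-/

set_option autoImplicit false
universe u

open CategoryTheory Limits Opposite AlgebraicGeometry TopologicalSpace CochainComplex Pretriangulated

attribute [local instance] HasDerivedCategory.standard

namespace Groth.Agent.Lib.Helper17.CechRG

open Groth.Agent.Lib.Helper17.OpenAdj Groth.Agent.Lib.Helper17.SuppRes
open Groth.Agent.Lib.Helper17.MVGamma Groth.Agent.Lib.Helper17.RGammaZ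

variable {X : Scheme.{u}}

/-- objects of `D(O_X)` whose restriction to the open `U` vanishes. -/
def KU (U : X.Opens) (T : DCoh.D X) : Prop := IsZero ((DCoh.restrictD U.ι).obj T)

lemma KU_shift (U : X.Opens) (T : DCoh.D X) (h : KU U T) : KU U (T⟦(1 : ℤ)⟧) := by
  unfold KU at h ⊢
  refine IsZero.of_iso ((CategoryTheory.shiftFunctor _ (1 : ℤ)).map_isZero h)
    (((DCoh.restrictD U.ι).commShiftIso (1 : ℤ)).app T)

lemma KU_support {U : X.Opens} {T : DCoh.D X} (h : KU U T) (i : ℤ) :
    CohB1.support (DCoh.HD T i) ⊆ (U : Set X)ᶜ := by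
  apply support_subset_compl
  refine IsZero.of_iso ?_ (Groth.Agent.Lib.Helper28.DCohRes.HDresDIso U.ι T i).symm
  exact (DerivedCategory.homologyFunctor _ i).map_isZero h

/-- vanishing on `U` implies vanishing on any open immersion landing in `U`. -/
lemma isZero_restrictD_of_range_subset {U : X.Opens} {T : DCoh.D X} (h : KU U T)
    {V : Scheme.{u}} (k : V ⟶ X) [IsOpenImmersion k] (hk : Set.range k.base ⊆ (U : Set X)) :
    IsZero ((DCoh.restrictD k).obj T) := by
  apply isZero_of_HD
  intro i
  rw [Groth.Agent.Lib.Helper29.QCoh.isZero_iff_stalk_subsingleton]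
  intro y
  have hy : k.base y ∉ CohB1.support (DCoh.HD T i) := fun hh =>
    (KU_support h i hh) (hk ⟨y, rfl⟩)
  have := not_mem_support_restrictD k T i y hy
  by_contra hc
  exact this hc

lemma KU_mono {U U' : X.Opens} (hle : U' ≤ U) {T : DCoh.D X} (h : KU U T) : KU U' T := by
  apply isZero_restrictD_of_range_subset h U'.ι
  rw [Scheme.Opens.range_ι]
  exact hle

/-- maps from objects vanishing on `U` to `Rk_*(-)`, `k` an open immersion landing in `U`, are zero. -/
lemma hom_eq_zero_of_iso_Rpush {U : X.Opens} {T : DCoh.D X} (h : KU U T)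
    {V : Scheme.{u}} (k : V ⟶ X) [IsOpenImmersion k] (hk : Set.range k.base ⊆ (U : Set X))
    {N : DCoh.D X} {H : DCoh.D V} (e : N ≅ (DCoh.Rpush k).obj H) (g : T ⟶ N) : g = 0 := by
  have h0 := hom_Rpush_eq_zero k (openAdj k) (isZero_restrictD_of_range_subset h k hk) (g ≫ e.hom)
  rw [← cancel_mono e.hom, h0, zero_comp]

/-- **`RΓ_Z G ⟶ G` is the coreflection of `G` onto the objects vanishing on `U`.** -/
theorem isCorefl_RgammaZ (U : X.Opens) [CxOX.HasRgammaZ U.ι] (G : DCoh.D X) :
    IsCorefl (KU U) ((CxOX.RgammaZToId U.ι).app G) := by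
  obtain ⟨b, c, hT⟩ := exists_triangle U G
  refine isCorefl_of_triangle (KU U) (KU_shift U) _ hT (isZero_restrictD_RgammaZ U G) ?_
  intro T hT' g
  exact hom_eq_zero_of_iso_Rpush hT' U.ι (by rw [Scheme.Opens.range_ι]) (Iso.refl _) g

end Groth.Agent.Lib.Helper17.CechRG
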