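import Groth.Agent.Lib.Helper17.TildePush
import Groth.Agent.S7245
import Groth.Prelude.Def_DCoh2
import Groth.Prelude.Def_DDual2

/-!
# `R(Spec φ)_* (M~) ≅ (M_A)~` on derived categories
-/

set_option autoImplicit false
universe u

open CategoryTheory Limits AlgebraicGeometry

attribute [local instance] HasDerivedCategory.standard

namespace Groth.Agent.Lib.Helper17.TildePushD

open Groth.Agent.Lib.Helper17.TildePush

section gamma

variable {X Y : Scheme.{u}} (f : X ⟶ Y) [DCoh.HasRpush f]

/-- the canonical map `f_* K ⟶ Rf_* K` as a natural transformation on complexes. -/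
noncomputable def γ : (Scheme.Modules.pushforward f).mapHomologicalComplex (ComplexShape.up ℤ) ⋙
    DerivedCategory.Q ⟶ DerivedCategory.Q ⋙ DCoh.Rpush f :=
  Functor.whiskerLeft _ (DerivedCategory.quotientCompQhIso Y.Modules).inv ≫
    (Functor.associator _ _ _).inv ≫
    Functor.whiskerRight ((Scheme.Modules.pushforward f).mapHomotopyCategoryFactors
      (ComplexShape.up ℤ)).inv DerivedCategory.Qh ≫
    (Functor.associator _ _ _).hom ≫
    Functor.whiskerLeft (HomotopyCategory.quotient X.Modules (ComplexShape.up ℤ))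
      ((DCoh.pushKh f).totalRightDerivedUnit DerivedCategory.Qh
        (HomotopyCategory.quasiIso X.Modules (ComplexShape.up ℤ))) ≫
    (Functor.associator _ _ _).inv ≫
    Functor.whiskerRight (DerivedCategory.quotientCompQhIso X.Modules).hom (DCoh.Rpush f)

lemma isIso_γ_app [IsAffineHom f] (F : CochainComplex X.Modules ℤ)
    (hq : ∀ n : ℤ, Coh.IsQCoh (F.X n)) : IsIso ((γ f).app F) := by
  haveI := Groth.Agent.S7245.result f F hq
  dsimp [γ]
  infer_instance

end gamma

section main

variable {R S : CommRingCat.{u}} (φ : R ⟶ S)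
  [PreservesFiniteLimits (tilde.functor R)]
  [PreservesFiniteLimits (tilde.functor S)]
  [DCoh.HasRpush (Spec.map φ)]

/-- first step: `Q ⋙ tildeD ⋙ Rf_* ≅ tilde ⋙ Q ⋙ Rf_*`. -/
noncomputable def T1 : DerivedCategory.Q ⋙ DCoh.tildeD S ⋙ DCoh.Rpush (Spec.map φ) ≅
    (tilde.functor S).mapHomologicalComplex (ComplexShape.up ℤ) ⋙
      DerivedCategory.Q ⋙ DCoh.Rpush (Spec.map φ) :=
  (Functor.associator _ _ _).symm ≪≫
    Functor.isoWhiskerRight (tilde.functor S).mapDerivedCategoryFactors
      (DCoh.Rpush (Spec.map φ)) ≪≫ Functor.associator _ _ _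

/-- second step: the unit of the derived functor is an isomorphism on complexes of the form `M~`. -/
noncomputable def T2 :
    (tilde.functor S).mapHomologicalComplex (ComplexShape.up ℤ) ⋙
      (Scheme.Modules.pushforward (Spec.map φ)).mapHomologicalComplex (ComplexShape.up ℤ) ⋙
        DerivedCategory.Q ≅
    (tilde.functor S).mapHomologicalComplex (ComplexShape.up ℤ) ⋙
      DerivedCategory.Q ⋙ DCoh.Rpush (Spec.map φ) :=
  haveI : IsIso (Functor.whiskerLeft
      ((tilde.functor S).mapHomologicalComplex (ComplexShape.up ℤ)) (γ (Spec.map φ))) := by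
    apply (config := { allowSynthFailures := true }) NatIso.isIso_of_isIso_app
    intro K
    exact isIso_γ_app (Spec.map φ) _ (fun n =>
      inferInstanceAs ((tilde.functor S).obj (K.X n)).IsQuasicoherent)
  asIso (Functor.whiskerLeft
    ((tilde.functor S).mapHomologicalComplex (ComplexShape.up ℤ)) (γ (Spec.map φ)))

omit [PreservesFiniteLimits (tilde.functor R)] [PreservesFiniteLimits (tilde.functor S)]
  [DCoh.HasRpush (Spec.map φ)] in
/-- `f_*(M~) ≅ (M_A)~` on complexes. -/
noncomputable def c1 :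
    (tilde.functor S).mapHomologicalComplex (ComplexShape.up ℤ) ⋙
      (Scheme.Modules.pushforward (Spec.map φ)).mapHomologicalComplex (ComplexShape.up ℤ) ≅
    (ModuleCat.restrictScalars φ.hom ⋙ tilde.functor R).mapHomologicalComplex (ComplexShape.up ℤ) :=
  haveI := Functor.additive_of_iso (tildePushIso φ)
  Functor.mapHomologicalComplexCompIso (tildePushIso φ) (ComplexShape.up ℤ)

omit [PreservesFiniteLimits (tilde.functor R)] [PreservesFiniteLimits (tilde.functor S)]
  [DCoh.HasRpush (Spec.map φ)] in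
noncomputable def c2 :
    (ModuleCat.restrictScalars φ.hom).mapHomologicalComplex (ComplexShape.up ℤ) ⋙
      (tilde.functor R).mapHomologicalComplex (ComplexShape.up ℤ) ≅
    (ModuleCat.restrictScalars φ.hom ⋙ tilde.functor R).mapHomologicalComplex (ComplexShape.up ℤ) :=
  Functor.mapHomologicalComplexCompIso (Iso.refl _) (ComplexShape.up ℤ)

omit [PreservesFiniteLimits (tilde.functor R)] [PreservesFiniteLimits (tilde.functor S)]
  [DCoh.HasRpush (Spec.map φ)] in
/-- third step: `f_*(M~) ≅ (M_A)~` on complexes. -/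
noncomputable def T3 :
    (tilde.functor S).mapHomologicalComplex (ComplexShape.up ℤ) ⋙
      (Scheme.Modules.pushforward (Spec.map φ)).mapHomologicalComplex (ComplexShape.up ℤ) ⋙
        DerivedCategory.Q ≅
    (ModuleCat.restrictScalars φ.hom).mapHomologicalComplex (ComplexShape.up ℤ) ⋙
      (tilde.functor R).mapHomologicalComplex (ComplexShape.up ℤ) ⋙
        DerivedCategory.Q :=
  (Functor.associator _ _ _).symm ≪≫
    Functor.isoWhiskerRight (c1 φ ≪≫ (c2 φ).symm) DerivedCategory.Q ≪≫ Functor.associator _ _ _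

/-- fourth step. -/
noncomputable def T4 :
    (ModuleCat.restrictScalars φ.hom).mapHomologicalComplex (ComplexShape.up ℤ) ⋙
      (tilde.functor R).mapHomologicalComplex (ComplexShape.up ℤ) ⋙
        DerivedCategory.Q ≅
    DerivedCategory.Q ⋙ (ModuleCat.restrictScalars φ.hom).mapDerivedCategory ⋙ DCoh.tildeD R :=
  Functor.isoWhiskerLeft _ (tilde.functor R).mapDerivedCategoryFactors.symm ≪≫
    (Functor.associator _ _ _).symm ≪≫
    Functor.isoWhiskerRight (ModuleCat.restrictScalars φ.hom).mapDerivedCategoryFactors.symm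
      (DCoh.tildeD R) ≪≫ Functor.associator _ _ _

/-- **`R(Spec φ)_* (M~) ≅ (M_A)~`**, naturally in `M ∈ D(B)`. -/
noncomputable def main : DCoh.tildeD S ⋙ DCoh.Rpush (Spec.map φ) ≅
    (ModuleCat.restrictScalars φ.hom).mapDerivedCategory ⋙ DCoh.tildeD R :=
  letI : Localization.Lifting DerivedCategory.Q
      (HomologicalComplex.quasiIso (ModuleCat.{u} S) (ComplexShape.up ℤ))
      (DerivedCategory.Q ⋙ DCoh.tildeD S ⋙ DCoh.Rpush (Spec.map φ))
      (DCoh.tildeD S ⋙ DCoh.Rpush (Spec.map φ)) := ⟨Iso.refl _⟩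
  letI : Localization.Lifting DerivedCategory.Q
      (HomologicalComplex.quasiIso (ModuleCat.{u} S) (ComplexShape.up ℤ))
      (DerivedCategory.Q ⋙ (ModuleCat.restrictScalars φ.hom).mapDerivedCategory ⋙ DCoh.tildeD R)
      ((ModuleCat.restrictScalars φ.hom).mapDerivedCategory ⋙ DCoh.tildeD R) := ⟨Iso.refl _⟩
  Localization.liftNatIso DerivedCategory.Q
    (HomologicalComplex.quasiIso (ModuleCat.{u} S) (ComplexShape.up ℤ)) _ _ _ _
    (T1 φ ≪≫ (T2 φ).symm ≪≫ T3 φ ≪≫ T4 φ)

end main

end Groth.Agent.Lib.Helper17.TildePushD
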