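import Groth.Agent.Lib.Helper17.CechRG2
import Groth.Agent.Lib.Helper17.TildePushD
import Groth.Agent.Lib.Helper17.KProjAff
import Groth.Prelude.Def_DerCA

/-!
# `(K_f)~` is a derived pushforward from `Spec A_f`
-/

set_option autoImplicit false
universe u

open CategoryTheory Limits Opposite AlgebraicGeometry TopologicalSpace CochainComplex Pretriangulated

attribute [local instance] HasDerivedCategory.standard

namespace Groth.Agent.Lib.Helper17.CechRG

variable {A : Type u} [CommRing A]

/-- localisation as a functor to modules over the localised ring. -/
noncomputable def locF' (S : Submonoid A) : ModuleCat.{u} A ⥤ ModuleCat.{u} (Localization S) where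
  obj M := ModuleCat.of (Localization S) (LocalizedModule S M)
  map g := ModuleCat.ofHom (LocalizedModule.map S g.hom)
  map_id M := by
    ext x
    induction x using LocalizedModule.induction_on with
    | h a s => simp
  map_comp g h := by
    ext x
    induction x using LocalizedModule.induction_on with
    | h a s => simp

instance (S : Submonoid A) : (locF' S).Additive where
  map_add {M N g g'} := by
    ext x
    change (LocalizedModule.map S (g.hom + g'.hom)) x = _
    rw [map_add]
    rfl

/-- restricting scalars back to `A` recovers the prelude's localisation functor. -/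
noncomputable def locFIso (S : Submonoid A) :
    locF' S ⋙ ModuleCat.restrictScalars (algebraMap A (Localization S)) ≅ DerCA.locFunctor S :=
  NatIso.ofComponents (fun M => LinearEquiv.toModuleIso
    (show ((ModuleCat.restrictScalars (algebraMap A (Localization S))).obj
        (ModuleCat.of (Localization S) (LocalizedModule S M))) ≃ₗ[A] LocalizedModule S M from
    { toFun := fun x => x
      invFun := fun x => x
      left_inv := fun _ => rfl
      right_inv := fun _ => rfl
      map_add' := fun _ _ => rfl
      map_smul' := fun r x => by
        change (algebraMap A (Localization S) r) • (show LocalizedModule S M from x) = _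
        exact algebraMap_smul _ _ _ })) (by
    intro M N g
    ext x
    induction x using LocalizedModule.induction_on with
    | h a s =>
      change LocalizedModule.map S g.hom (LocalizedModule.mk a s) =
        (IsLocalizedModule.map S (LocalizedModule.mkLinearMap S M)
          (LocalizedModule.mkLinearMap S N) g.hom) (LocalizedModule.mk a s)
      rfl)


/-- the ring map `A ⟶ A_f` in `CommRingCat`. -/
noncomputable abbrev φf (f : A) : CommRingCat.of A ⟶ CommRingCat.of (Localization.Away f) :=
  CommRingCat.ofHom (algebraMap A (Localization.Away f))

lemma range_Spec_φf (f : A) :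
    Set.range (Spec.map (φf f)).base = (PrimeSpectrum.basicOpen f : Set (PrimeSpectrum A)) :=
  PrimeSpectrum.localization_away_comap_range (Localization.Away f) f

/-- **`(K_f)~ ≅ R(Spec A_f ⟶ Spec A)_* (K_f)~`.** -/
theorem nonempty_tildeD_locCx_iso_Rpush (f : A) (K : DRing.Cx A)
    [PreservesFiniteLimits (tilde.functor (CommRingCat.of A))] :
    ∃ H : DCoh.D (Spec (CommRingCat.of (Localization.Away f))),
      Nonempty ((DCoh.tildeD (CommRingCat.of A)).obj
        (DerivedCategory.Q.obj ((DerCA.locCx (Submonoid.powers f)).obj K)) ≅
        (DCoh.Rpush (Spec.map (φf f))).obj H) := by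
  haveI : PreservesFiniteLimits (tilde.functor (CommRingCat.of (Localization.Away f))) :=
    Groth.Agent.Lib.Helper17.KProjAff.preservesFiniteLimits_tilde _
  let S := Submonoid.powers f
  let K' : CochainComplex (ModuleCat.{u} (Localization S)) ℤ :=
    ((locF' S).mapHomologicalComplex (ComplexShape.up ℤ)).obj K
  let e1 : ((ModuleCat.restrictScalars (algebraMap A (Localization S))).mapHomologicalComplex
      (ComplexShape.up ℤ)).obj K' ≅ (DerCA.locCx S).obj K :=
    (Functor.mapHomologicalComplexCompIso (locFIso S) (ComplexShape.up ℤ)).app K
  let e2 : (ModuleCat.restrictScalars (algebraMap A (Localization S))).mapDerivedCategory.obj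
      (DerivedCategory.Q.obj K') ≅ DerivedCategory.Q.obj (((ModuleCat.restrictScalars
        (algebraMap A (Localization S))).mapHomologicalComplex (ComplexShape.up ℤ)).obj K') :=
    (ModuleCat.restrictScalars (algebraMap A (Localization S))).mapDerivedCategoryFactors.app K'
  refine ⟨(DCoh.tildeD (CommRingCat.of (Localization.Away f))).obj (DerivedCategory.Q.obj K'), ⟨?_⟩⟩
  exact (DCoh.tildeD (CommRingCat.of A)).mapIso (DerivedCategory.Q.mapIso e1.symm ≪≫ e2.symm) ≪≫
    ((Groth.Agent.Lib.Helper17.TildePushD.main (φf f)).app (DerivedCategory.Q.obj K')).symm

end Groth.Agent.Lib.Helper17.CechRG
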