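import Groth.Agent.Lib.Helper17.CechRG3
import Groth.Agent.Lib.Helper28.ExtCech
import Groth.Agent.Lib.Helper28.Betti2
import Groth.Prelude.Def_Wider

/-!
# The extended Čech complex computes `RΓ_Z` on an affine scheme
-/

set_option autoImplicit false
universe u

open CategoryTheory Limits Opposite AlgebraicGeometry TopologicalSpace CochainComplex Pretriangulated

attribute [local instance] HasDerivedCategory.standard

namespace Groth.Agent.Lib.Helper17.CechRG

open Groth.Agent.Lib.Helper28.ExtCech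

variable {A : Type u} [CommRing A]

lemma subsingleton_of_isLocalizedModule_of_powTors {M M' : Type u} [AddCommGroup M] [Module A M]
    [AddCommGroup M'] [Module A M'] (S : Submonoid A) (g : M →ₗ[A] M') [IsLocalizedModule S g]
    (f : A) (hf : f ∈ S) (h : ∀ m : M, ∃ k : ℕ, f ^ k • m = 0) : Subsingleton M' := by
  refine ⟨fun y y' => ?_⟩
  suffices h0 : ∀ y : M', y = 0 by rw [h0 y, h0 y']
  intro y
  obtain ⟨⟨m, s⟩, hy⟩ := IsLocalizedModule.surj S g y
  obtain ⟨k, hk⟩ := h m
  have h1 : (⟨f ^ k, pow_mem hf k⟩ * s : S) • y = 0 := by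
    rw [mul_smul]
    show f ^ k • (s • y) = 0
    rw [hy, ← map_smul, hk, map_zero]
  have := IsLocalizedModule.smul_injective g (⟨f ^ k, pow_mem hf k⟩ * s)
  exact this (by
    show (⟨f ^ k, pow_mem hf k⟩ * s : S) • y = (⟨f ^ k, pow_mem hf k⟩ * s : S) • (0 : M')
    rw [h1, smul_zero])


lemma subsingleton_stalk_tilde (R : CommRingCat.{u}) (N : ModuleCat.{u} R)
    (x : PrimeSpectrum.Top R) (f : R) (hf : f ∉ x.asIdeal) (h : ∀ m : N, ∃ k : ℕ, f ^ k • m = 0) :
    Subsingleton ((tilde N).presheaf.stalk x) :=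
  subsingleton_of_isLocalizedModule_of_powTors (A := R) (M := N) x.asIdeal.primeCompl
    (tilde.toStalk N x).hom f (show f ∈ x.asIdeal.primeCompl from hf) h

/-- `K~` vanishes on an open `U` when locally on `U` the cohomology of `K` is power torsion for a
function invertible there. -/
lemma KU_tildeD [PreservesFiniteLimits (tilde.functor (CommRingCat.of A))]
    (U : (Spec (CommRingCat.of A)).Opens) (K : DRing.Cx A)
    (h : ∀ x : PrimeSpectrum A, x ∈ (U : Set (Spec (CommRingCat.of A))) →
      ∃ f : A, f ∉ x.asIdeal ∧ ∀ n, PowTors f (K.homology n)) :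
    KU U ((DCoh.tildeD (CommRingCat.of A)).obj (DerivedCategory.Q.obj K)) := by
  apply Groth.Agent.Lib.Helper17.SuppRes.isZero_restrictD
  intro i y hy hsupp
  obtain ⟨f, hf, hK⟩ := h y hy
  apply hsupp
  let e0 : (DCoh.tildeD (CommRingCat.of A)).obj (DerivedCategory.Q.obj K) ≅
      DerivedCategory.Q.obj (((tilde.functor (CommRingCat.of A)).mapHomologicalComplex
        (ComplexShape.up ℤ)).obj K) :=
    (tilde.functor (CommRingCat.of A)).mapDerivedCategoryFactors.app K
  let e1 : DCoh.HD ((DCoh.tildeD (CommRingCat.of A)).obj (DerivedCategory.Q.obj K)) i ≅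
      (tilde.functor (CommRingCat.of A)).obj (K.homology i) :=
    (DerivedCategory.homologyFunctor _ i).mapIso e0 ≪≫
      Groth.Agent.Lib.Helper28.Betti.HDQtildeIso (CommRingCat.of A) K i
  have e2 := (Groth.Agent.Lib.Helper29.QCoh.stalkFunctor _ y).mapIso e1
  have hs := subsingleton_stalk_tilde (CommRingCat.of A) (K.homology i) y f hf (fun m => hK i m)
  exact @Equiv.subsingleton _ _ e2.addCommGroupIsoToAddEquiv.toEquiv hs


/-- the projection `extCech M fs ⟶ M[0]`. -/
noncomputable def ρ (M : ModuleCat.{u} A) : ∀ fs : List A,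
    DerCA.extCech M fs ⟶ (HomologicalComplex.single (ModuleCat.{u} A) (ComplexShape.up ℤ) 0).obj M
  | [] => 𝟙 _
  | f :: fs => mappingCocone.fst (DerCA.locCxUnit (Submonoid.powers f) (DerCA.extCech M fs)) ≫ ρ M fs

lemma mem_puncturedOpen_iff (fs : List A) (x : PrimeSpectrum A) :
    x ∈ (LocCoh.puncturedOpen A (Ideal.span {a | a ∈ fs}) : Set (Spec (CommRingCat.of A))) ↔
      ∃ f ∈ fs, f ∉ x.asIdeal := by
  change x ∈ (PrimeSpectrum.zeroLocus ((Ideal.span {a | a ∈ fs} : Ideal A) : Set A))ᶜ ↔ _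
  rw [Set.mem_compl_iff, PrimeSpectrum.zeroLocus_span, PrimeSpectrum.mem_zeroLocus,
    Set.not_subset]
  constructor
  · rintro ⟨f, hf, hfx⟩
    exact ⟨f, hf, hfx⟩
  · rintro ⟨f, hf, hfx⟩
    exact ⟨f, hf, hfx⟩

variable [PreservesFiniteLimits (tilde.functor (CommRingCat.of A))]

/-- **`(extCech M fs)~ ⟶ M~` is the coreflection onto objects vanishing on `Spec A ∖ V(fs)`.** -/
theorem isCorefl_ρ (M : ModuleCat.{u} A) : ∀ fs : List A,
    IsCorefl (KU (LocCoh.puncturedOpen A (Ideal.span {a | a ∈ fs})))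
      ((DCoh.tildeD (CommRingCat.of A)).map (DerivedCategory.Q.map (ρ M fs)))
  | [] => by
    have hall : ∀ T : DCoh.D (Spec (CommRingCat.of A)),
        KU (LocCoh.puncturedOpen A (Ideal.span {a | a ∈ ([] : List A)})) T := by
      intro T
      apply Groth.Agent.Lib.Helper17.SuppRes.isZero_restrictD
      intro i y hy
      exfalso
      obtain ⟨f, hf, -⟩ := (mem_puncturedOpen_iff [] y).1 hy
      simp at hf
    have h1 : IsCorefl (KU (LocCoh.puncturedOpen A (Ideal.span {a | a ∈ ([] : List A)})))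
        ((DCoh.tildeD (CommRingCat.of A)).map (DerivedCategory.Q.map
          (𝟙 ((HomologicalComplex.single (ModuleCat.{u} A) (ComplexShape.up ℤ) 0).obj M)))) := by
      rw [CategoryTheory.Functor.map_id, CategoryTheory.Functor.map_id]
      exact isCorefl_id _ _ (hall _)
    exact h1
  | f :: fs => by
    let E := DerCA.extCech M fs
    let φ := DerCA.locCxUnit (Submonoid.powers f) E
    have hle : LocCoh.puncturedOpen A (Ideal.span {a | a ∈ fs}) ≤
        LocCoh.puncturedOpen A (Ideal.span {a | a ∈ f :: fs}) := by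
      intro x hx
      obtain ⟨g, hg, hgx⟩ := (mem_puncturedOpen_iff fs x).1 hx
      exact (mem_puncturedOpen_iff (f :: fs) x).2 ⟨g, List.mem_cons_of_mem _ hg, hgx⟩
    have hKU : KU (LocCoh.puncturedOpen A (Ideal.span {a | a ∈ f :: fs}))
        ((DCoh.tildeD (CommRingCat.of A)).obj
          (DerivedCategory.Q.obj (DerCA.extCech M (f :: fs)))) := by
      apply KU_tildeD
      intro x hx
      obtain ⟨g, hg, hgx⟩ := (mem_puncturedOpen_iff (f :: fs) x).1 hx
      exact ⟨g, hgx, fun n => powTors_extCechH M (f :: fs) g hg n⟩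
    have hT := (DCoh.tildeD (CommRingCat.of A)).map_distinguished _
      (DerivedCategory.mappingCocone_triangle_distinguished φ)
    have hcomp : (DCoh.tildeD (CommRingCat.of A)).map (DerivedCategory.Q.map (ρ M (f :: fs))) =
        (DCoh.tildeD (CommRingCat.of A)).map (DerivedCategory.Q.map (mappingCocone.fst φ)) ≫
          (DCoh.tildeD (CommRingCat.of A)).map (DerivedCategory.Q.map (ρ M fs)) := by
      rw [ρ, CategoryTheory.Functor.map_comp, CategoryTheory.Functor.map_comp]
      rfl
    rw [hcomp]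
    refine IsCorefl.comp (fun T hT' => KU_mono hle hT') (isCorefl_ρ M fs) _ hKU ?_
    intro T hT'
    refine bijective_of_triangle (KU (LocCoh.puncturedOpen A (Ideal.span {a | a ∈ f :: fs})))
      (KU_shift _) _ hT ?_ T hT'
    intro T' hT'' g
    obtain ⟨H, ⟨e⟩⟩ := nonempty_tildeD_locCx_iso_Rpush f E
    refine hom_eq_zero_of_iso_Rpush hT'' (Spec.map (φf f)) ?_ e g
    rw [range_Spec_φf]
    intro x hx
    exact (mem_puncturedOpen_iff (f :: fs) x).2 ⟨f, List.mem_cons_self, hx⟩

/-- **the extended Čech complex computes `RΓ_Z` on `Spec A`.** -/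
theorem main (fs : List A) (M : ModuleCat.{u} A)
    [CxOX.HasRgammaZ (LocCoh.puncturedOpen A (Ideal.span {a | a ∈ fs})).ι] :
    Nonempty ((DCoh.tildeD (CommRingCat.of A)).obj (DRing.toD (DerCA.extCech M fs)) ≅
      (CxOX.RgammaZ (LocCoh.puncturedOpen A (Ideal.span {a | a ∈ fs})).ι).obj
        ((DCoh.tildeD (CommRingCat.of A)).obj (Dual.inD A M))) :=
  IsCorefl.nonempty_iso (isCorefl_RgammaZ _ _) (isCorefl_ρ M fs)

end Groth.Agent.Lib.Helper17.CechRG
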