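import Mathlib.CategoryTheory.Abelian.Projective.Resolution
import Mathlib.Algebra.Homology.HomologySequenceLemmas
import Mathlib.Algebra.Homology.HomologicalComplexAbelian
import Mathlib.Algebra.Homology.QuasiIso
import Mathlib.Algebra.Homology.Homotopy
import Mathlib.Algebra.Homology.ShortComplex.ModuleCat
import Mathlib.Algebra.Category.ModuleCat.Projective
import Mathlib.Algebra.Category.ModuleCat.Kernels
import Mathlib.Algebra.Homology.HomologicalComplexLimits
import Mathlib.CategoryTheory.Limits.Preserves.Shapes.Kernels

/-!
# Splitting short exact sequences of chain complexes with acyclic projective cokernel (helper17)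

* `contraction`: an acyclic `ℕ`-indexed chain complex of projectives is contractible.
* `exists_section`: for a short exact sequence of `ℕ`-indexed chain complexes `0 → X₁ → X₂ → X₃ → 0`
  with `X₁ → X₂` a quasi-isomorphism and `X₃` degreewise projective, `X₂ → X₃` has a chain section.
-/

set_option autoImplicit false
universe v u

open CategoryTheory CategoryTheory.Limits ZeroObject

namespace Groth.Agent.Lib.Helper17.ChainSplit

variable {C : Type u} [Category.{v} C] [Abelian C]

/-- An acyclic `ℕ`-indexed chain complex of projectives, viewed as a projective resolution of `0`. -/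
noncomputable def resolutionOfAcyclic (Q : ChainComplex C ℕ) [∀ q, Projective (Q.X q)]
    (hQ : Q.Acyclic) : ProjectiveResolution (0 : C) where
  complex := Q
  π := 0
  quasiIso := ⟨fun i => by
    rw [quasiIsoAt_iff_exactAt _ _ (hQ i)]
    exact HomologicalComplex.acyclic_of_isZero _
      ((ChainComplex.single₀ C).map_isZero (isZero_zero C)) i⟩

/-- An acyclic `ℕ`-indexed chain complex of projectives is contractible. -/
noncomputable def contraction (Q : ChainComplex C ℕ) [∀ q, Projective (Q.X q)]
    (hQ : Q.Acyclic) : Homotopy (𝟙 Q) 0 :=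
  ProjectiveResolution.liftHomotopyZero (P := resolutionOfAcyclic Q hQ)
    (Q := resolutionOfAcyclic Q hQ) (𝟙 Q)
    (((ChainComplex.single₀ C).map_isZero (isZero_zero C)).eq_of_tgt _ _)

theorem nullHomotopicMap_contraction {Q : ChainComplex C ℕ} (c : Homotopy (𝟙 Q) 0) :
    Homotopy.nullHomotopicMap c.hom = 𝟙 Q := by
  ext i
  have := c.comm i
  simp only [HomologicalComplex.zero_f, add_zero] at this
  rw [this]
  rfl

/-- Chain section of an epimorphism onto a contractible, degreewise projective complex. -/
theorem exists_section_of_contractible {A Q : ChainComplex C ℕ} (p : A ⟶ Q)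
    [∀ q, Epi (p.f q)] [∀ q, Projective (Q.X q)] (c : Homotopy (𝟙 Q) 0) :
    ∃ s : Q ⟶ A, s ≫ p = 𝟙 Q := by
  refine ⟨Homotopy.nullHomotopicMap
    (fun i j => c.hom i j ≫ Projective.factorThru (𝟙 (Q.X j)) (p.f j)), ?_⟩
  rw [Homotopy.nullHomotopicMap_comp]
  simp only [Category.assoc, Projective.factorThru_comp, Category.comp_id]
  exact nullHomotopicMap_contraction c

/-- Main splitting statement. -/
theorem exists_section (S : ShortComplex (ChainComplex C ℕ)) (hS : S.ShortExact)
    [QuasiIso S.f] [∀ q, Projective (S.X₃.X q)] :
    ∃ s : S.X₃ ⟶ S.X₂, s ≫ S.g = 𝟙 S.X₃ := by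
  have hacyc : S.X₃.Acyclic := hS.acyclic_X₃ inferInstance
  have : ∀ q, Epi (S.g.f q) := fun q => by
    have := hS.epi_g
    infer_instance
  exact exists_section_of_contractible S.g (contraction S.X₃ hacyc)

/-- The resulting splitting. -/
noncomputable def splitting (S : ShortComplex (ChainComplex C ℕ)) (hS : S.ShortExact)
    [QuasiIso S.f] [∀ q, Projective (S.X₃.X q)] : S.Splitting :=
  have h := exists_section S hS
  ShortComplex.Splitting.ofExactOfSection S hS.exact h.choose h.choose_spec hS.mono_f

section ModuleCatInt

variable {A' A : ChainComplex (ModuleCat.{v} ℤ) ℕ} (f : A' ⟶ A)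

/-- The cokernel complex of `f` has projective terms when the degreewise quotients are free. -/
theorem projective_cokernel_X
    (hq : ∀ q, Module.Free ℤ ((A.X q) ⧸ LinearMap.range (f.f q).hom)) (q : ℕ) :
    Projective ((cokernel f).X q) := by
  let e1 : (cokernel f).X q ≅ cokernel (f.f q) :=
    PreservesCokernel.iso (HomologicalComplex.eval _ _ q) f
  let e2 := ModuleCat.cokernelIsoRangeQuotient (f.f q)
  refine Projective.of_iso (e1 ≪≫ e2).symm ?_
  have hfr : @Module.Free ℤ ((A.X q) ⧸ LinearMap.range (f.f q).hom) _ _
      (Submodule.Quotient.module _) := by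
    have heq : (Submodule.Quotient.module (LinearMap.range (f.f q).hom) : Module ℤ _) =
        AddCommGroup.toIntModule _ := Subsingleton.elim _ _
    rw [heq]
    exact hq q
  have hpr : @Module.Projective ℤ _ ((A.X q) ⧸ LinearMap.range (f.f q).hom) _
      (Submodule.Quotient.module _) := inferInstance
  exact ModuleCat.projective_of_categoryTheory_projective _

/-- The short exact sequence `0 → A' → A → coker f → 0` for degreewise injective `f`. -/
theorem shortExact_cokernel (hf : ∀ q, Function.Injective (f.f q).hom) :
    (ShortComplex.mk f (cokernel.π f) (cokernel.condition f)).ShortExact :=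
  { exact := ShortComplex.exact_cokernel f
    mono_f := HomologicalComplex.mono_of_mono_f f
      (fun q => (ModuleCat.mono_iff_injective _).mpr (hf q))
    epi_g := inferInstanceAs (Epi (cokernel.π f)) }

end ModuleCatInt

end Groth.Agent.Lib.Helper17.ChainSplit
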