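import Mathlib.LinearAlgebra.Charpoly.BaseChange
import Mathlib.LinearAlgebra.Eigenspace.Charpoly
import Mathlib.LinearAlgebra.Eigenspace.Minpoly
import Mathlib.LinearAlgebra.Matrix.Charpoly.LinearMap
import Mathlib.RingTheory.Polynomial.IsIntegral
import Mathlib.FieldTheory.IsAlgClosed.AlgebraicClosure
import Mathlib.RingTheory.TensorProduct.Finite
import Mathlib.RingTheory.TensorProduct.Free

/-! Integrality of characteristic polynomial coefficients. -/

namespace Groth.Agent.Lib.Helper17

open Polynomial

universe u v

/-- If an endomorphism `φ` of a finite-dimensional `K`-vector space is killed by `Q`,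
every root of its characteristic polynomial in the algebraic closure is a root of `Q`. -/
theorem isRoot_of_isRoot_charpoly {K : Type u} [Field K] {V : Type v} [AddCommGroup V]
    [Module K V] [Module.Finite K V] (φ : Module.End K V) (Q : K[X]) (hQ : aeval φ Q = 0)
    (x : AlgebraicClosure K)
    (hx : (φ.charpoly.map (algebraMap K (AlgebraicClosure K))).IsRoot x) :
    (Q.map (algebraMap K (AlgebraicClosure K))).IsRoot x := by
  rw [← LinearMap.charpoly_baseChange] at hx
  obtain ⟨v, hv⟩ :=
    ((Module.End.hasEigenvalue_iff_isRoot_charpoly (φ.baseChange (AlgebraicClosure K)) x).mpr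
      hx).exists_hasEigenvector
  have h0 : aeval (φ.baseChange (AlgebraicClosure K))
      (Q.map (algebraMap K (AlgebraicClosure K))) = 0 := by
    rw [aeval_map_algebraMap]
    have := Polynomial.aeval_algHom_apply (Module.End.baseChangeHom K (AlgebraicClosure K) V) φ Q
    rw [hQ, map_zero] at this
    exact this
  have h1 := Module.End.aeval_apply_of_hasEigenvector
    (p := Q.map (algebraMap K (AlgebraicClosure K))) hv
  rw [h0, LinearMap.zero_apply] at h1
  exact (smul_eq_zero.mp h1.symm).resolve_right hv.2

/-- Let `A → K` with `K` a field, and `φ` an endomorphism of a finite-dimensional `K`-vector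
space killed by (the image of) a monic polynomial over `A`. Then the coefficients of the
characteristic polynomial of `φ` are integral over `A`. -/
theorem isIntegral_charpoly_coeff {A : Type u} [CommRing A] {K : Type u} [Field K] [Algebra A K]
    {V : Type v} [AddCommGroup V] [Module K V] [Module.Finite K V] (φ : Module.End K V)
    (P : A[X]) (hP : P.Monic) (hPφ : aeval φ (P.map (algebraMap A K)) = 0) (i : ℕ) :
    IsIntegral A (φ.charpoly.coeff i) := by
  set L := AlgebraicClosure K
  refine (isIntegral_algebraMap_iff (algebraMap K L).injective).mp ?_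
  rw [← coeff_map]
  apply isIntegral_coeff_of_factors (R := A) (φ.charpoly.map (algebraMap K L))
  · rw [((LinearMap.charpoly_monic φ).map _).leadingCoeff]
    exact isIntegral_one
  · exact IsAlgClosed.splits _
  · intro x hx
    have := isRoot_of_isRoot_charpoly φ _ hPφ x hx
    refine ⟨P, hP, ?_⟩
    rw [Polynomial.map_map, ← IsScalarTower.algebraMap_eq, IsRoot, eval_map] at this
    exact this

end Groth.Agent.Lib.Helper17
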