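import Mathlib
import Groth.Agent.Lib.Helper12.Dev7
import Groth.Agent.Helper19.ClImmSupp

/-!
# A coherent module with prescribed closed support
-/

set_option autoImplicit false

universe u

open CategoryTheory Limits Opposite AlgebraicGeometry TopologicalSpace

namespace Groth.Agent.Lib.Helper17.CohSupp

open Groth.Agent.Lib.Helper29.QCoh Groth.Agent.Lib.Helper12.H12Dev
  Groth.Agent.Lib.Helper12.H12ModGlue

variable {X : Scheme.{u}} [IsLocallyNoetherian X]

/-- every closed subset of a locally Noetherian scheme is the support of a coherent module -/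
theorem exists_coh_support_eq (Z : Set X) (hZ : IsClosed Z) :
    ∃ G : X.Modules, Coh.IsCoh G ∧ CohB1.support G = Z := by
  let Wc : Closeds X := ⟨Z, hZ⟩
  let I₀ := Scheme.IdealSheafData.vanishingIdeal Wc
  let i := I₀.subschemeι
  have hr : Set.range i = Z := range_subschemeι_vanishingIdeal Wc
  haveI : (unitM I₀.subscheme).IsQuasicoherent := isQuasicoherent_unitM _
  haveI : (unitM I₀.subscheme).IsFiniteType := (isCoh_unitM _).2
  let G := (Scheme.Modules.pushforward i).obj (unitM I₀.subscheme)
  have hGq : G.IsQuasicoherent := isQuasicoherent_pushforward_of_isAffineHom i _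
  have hGf : G.IsFiniteType := isFiniteType_pushforward_of_isFinite i _
  refine ⟨G, ⟨hGq, hGf⟩, ?_⟩
  rw [Groth.Agent.Helper19.ClImmSupp.support_pushforward, ← hr]
  have hu : CohB1.support (unitM I₀.subscheme) = Set.univ := by
    ext z
    simp only [Set.mem_univ, iff_true]
    change ¬ Subsingleton _
    rw [not_subsingleton_iff_nontrivial]
    exact nontrivial_stalk_unitM _ z
  rw [hu, Set.image_univ]

end Groth.Agent.Lib.Helper17.CohSupp
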