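import Groth.Agent.Lib.Helper17.K0Der
import Groth.Agent.Lib.Helper29.QCohCrit
import Groth.Agent.Lib.Helper29.QCohIdealMod
import Groth.Prelude.Def_Coh

/-!
# Coherent modules on a locally Noetherian scheme form a thick class (kernels, isos, zero)
-/

universe u

open CategoryTheory Limits AlgebraicGeometry ZeroObject

namespace Groth.Agent.Lib.Helper17.CohThick

open Groth.Agent.Lib.Helper29.QCoh

variable (X : Scheme.{u})

/-- coherent modules as an object property -/
abbrev CohP : ObjectProperty X.Modules := fun M : X.Modules => Coh.IsCoh M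

instance : (CohP X).IsClosedUnderIsomorphisms where
  of_iso {M N} e h := by
    obtain ⟨hq, hf⟩ := h
    have : M.IsQuasicoherent := hq
    have : M.IsFiniteType := hf
    have hN : N.IsQuasicoherent :=
      (SheafOfModules.isQuasicoherent X.ringCatSheaf).prop_of_iso e hq
    exact ⟨hN, isFiniteType_of_epi e.hom⟩

lemma subsingleton_sections_of_isZero {Z : X.Modules} (hZ : IsZero Z) (U : X.Opens) :
    Subsingleton Γ(Z, U) := by
  refine ⟨fun s t => ?_⟩
  have h : (𝟙 Z : Z ⟶ Z) = 0 := hZ.eq_of_src _ _
  have h1 : ∀ x : Γ(Z, U), x = 0 := fun x => by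
    have := congrArg (fun φ : Z ⟶ Z => (φ.app U).hom x) h
    simpa using this
  rw [h1 s, h1 t]

lemma isCoh_of_isZero {Z : X.Modules} (hZ : IsZero Z) : Coh.IsCoh Z := by
  -- `Z ≅ kernel (𝟙 unit)`
  let K : X.Modules := kernel (𝟙 (unitM X))
  have hK : IsZero K := by
    rw [IsZero.iff_id_eq_zero, ← cancel_mono (kernel.ι (𝟙 (unitM X)))]
    have := kernel.condition (𝟙 (unitM X))
    rw [Category.comp_id] at this
    rw [Category.id_comp, zero_comp, this]
  have hKq : K.IsQuasicoherent := isQuasicoherent_kernel (𝟙 (unitM X))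
  have hKf : K.IsFiniteType := by
    rw [isFiniteType_iff_forall_module_finite]
    intro U hU
    haveI := subsingleton_sections_of_isZero X hK U
    infer_instance
  exact (CohP X).prop_of_iso (hK.iso hZ) ⟨hKq, hKf⟩

instance : (CohP X).ContainsZero where
  exists_zero := ⟨0, isZero_zero _, isCoh_of_isZero X (isZero_zero _)⟩

instance [IsLocallyNoetherian X] : (CohP X).IsClosedUnderKernels where
  kernels_le := by
    rintro K ⟨f, k, hk, hf⟩
    obtain ⟨⟨hMq, hMf⟩, ⟨hNq, hNf⟩⟩ := hf
    have := hMq
    have := hMf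
    have := hNq
    have := hNf
    have h : Coh.IsCoh (kernel f) := ⟨isQuasicoherent_kernel f, isFiniteType_kernel f⟩
    exact (CohP X).prop_of_iso
      (IsLimit.conePointUniqueUpToIso (kernelIsKernel f) hk) h

end Groth.Agent.Lib.Helper17.CohThick
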