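import Mathlib

/-!
# Cokernel of a map of finite projective modules: projectivity vs. kernels on fibres
-/

set_option autoImplicit false
universe u v w

namespace Groth.Agent.Lib.Helper17.CokerProj

open TensorProduct

section stepA
variable {R : Type u} [CommRing R] {M : Type v} {N : Type w} [AddCommGroup M] [Module R M]
  [AddCommGroup N] [Module R N] (d : M →ₗ[R] N)

theorem exact_ker_rangeRestrict :
    Function.Exact (LinearMap.ker d).subtype d.rangeRestrict := by
  intro x
  constructor
  · intro hx
    refine ⟨⟨x, ?_⟩, rfl⟩
    have := congrArg Subtype.val hx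
    simpa using this
  · rintro ⟨y, rfl⟩
    exact Subtype.ext y.2

theorem lTensor_eq (κ : Type*) [CommRing κ] [Algebra R κ] :
    d.lTensor κ = ((LinearMap.range d).subtype.lTensor κ) ∘ₗ (d.rangeRestrict.lTensor κ) := by
  rw [← LinearMap.lTensor_comp]
  rfl

/-- Step A: the kernel condition is equivalent to injectivity of `κ ⊗ im d → κ ⊗ N`. -/
theorem ker_le_range_iff (κ : Type*) [CommRing κ] [Algebra R κ] :
    LinearMap.ker (d.baseChange κ) ≤ LinearMap.range ((LinearMap.ker d).subtype.baseChange κ) ↔
      Function.Injective ((LinearMap.range d).subtype.lTensor κ) := by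
  have hex := lTensor_exact κ (exact_ker_rangeRestrict d) d.surjective_rangeRestrict
  have hsurj : Function.Surjective (d.rangeRestrict.lTensor κ) :=
    LinearMap.lTensor_surjective κ d.surjective_rangeRestrict
  constructor
  · intro h
    rw [injective_iff_map_eq_zero]
    intro z hz
    obtain ⟨y, rfl⟩ := hsurj z
    have hy : y ∈ LinearMap.ker (d.baseChange κ) := by
      rw [LinearMap.mem_ker]
      change d.lTensor κ y = 0
      rw [lTensor_eq]
      exact hz
    obtain ⟨x, rfl⟩ := h hy
    exact (hex _).2 ⟨x, rfl⟩
  · intro h y hy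
    rw [LinearMap.mem_ker] at hy
    change d.lTensor κ y = 0 at hy
    rw [lTensor_eq] at hy
    have : d.rangeRestrict.lTensor κ y = 0 := h (by rw [map_zero]; exact hy)
    obtain ⟨x, hx⟩ := (hex _).1 this
    exact ⟨x, hx⟩

end stepA

section stepB
variable {R : Type u} [CommRing R] {M : Type v} {N : Type w} [AddCommGroup M] [Module R M]
  [AddCommGroup N] [Module R N] (d : M →ₗ[R] N)

theorem cancel_comm {I : Type*} [AddCommGroup I] [Module R I] (j : I →ₗ[R] N)
    (A κ : Type*) [CommRing A] [Algebra R A] [CommRing κ] [Algebra R κ] [Algebra A κ]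
    [IsScalarTower R A κ] (z : κ ⊗[A] (A ⊗[R] I)) :
    TensorProduct.AlgebraTensorModule.cancelBaseChange R A κ κ N
        (((j.baseChange A).lTensor κ) z) =
      (j.lTensor κ) (TensorProduct.AlgebraTensorModule.cancelBaseChange R A κ κ I z) := by
  induction z using TensorProduct.induction_on with
  | zero => simp
  | tmul k y =>
    induction y using TensorProduct.induction_on with
    | zero => simp
    | tmul a x => simp
    | add y₁ y₂ h₁ h₂ =>
      rw [TensorProduct.tmul_add, map_add, map_add, h₁, h₂, map_add, map_add]
  | add z₁ z₂ h₁ h₂ => rw [map_add, map_add, h₁, h₂, map_add, map_add]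

theorem free_baseChange_of_injective [Module.Finite R M] [Module.Finite R N]
    [Module.Projective R N] (p : Ideal R) [p.IsPrime]
    (h : Function.Injective ((LinearMap.range d).subtype.lTensor p.ResidueField)) :
    Module.Free (Localization.AtPrime p)
      (Localization.AtPrime p ⊗[R] (N ⧸ LinearMap.range d)) := by
  let Rp := Localization.AtPrime p
  let I := LinearMap.range d
  let j' : Rp ⊗[R] I →ₗ[Rp] Rp ⊗[R] N := I.subtype.baseChange Rp
  let π' : Rp ⊗[R] N →ₗ[Rp] Rp ⊗[R] (N ⧸ I) := I.mkQ.baseChange Rp
  have hex' : Function.Exact j' π' :=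
    lTensor_exact Rp (LinearMap.exact_subtype_mkQ I) (Submodule.mkQ_surjective I)
  have hsurj' : Function.Surjective π' :=
    LinearMap.lTensor_surjective Rp (Submodule.mkQ_surjective I)
  have : Module.Finite R I := Module.Finite.range d
  have : Module.Free Rp (Rp ⊗[R] N) := Module.free_of_flat_of_isLocalRing
  have hf : Function.Injective (j'.lTensor (IsLocalRing.ResidueField Rp)) := by
    rw [injective_iff_map_eq_zero]
    intro z hz
    have h1 := cancel_comm I.subtype Rp p.ResidueField z
    have hz' : ((I.subtype.baseChange Rp).lTensor p.ResidueField) z = 0 := hz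
    rw [hz', map_zero] at h1
    have h2 : (TensorProduct.AlgebraTensorModule.cancelBaseChange R Rp p.ResidueField
        p.ResidueField I) z = 0 := h (by rw [map_zero]; exact h1.symm)
    exact (TensorProduct.AlgebraTensorModule.cancelBaseChange R Rp p.ResidueField
      p.ResidueField I).injective (by rw [h2, map_zero])
  exact Module.free_of_lTensor_residueField_injective j' π' hsurj' hex' hf

end stepB

section stepC
variable {R : Type u} [CommRing R] {M : Type v} {N : Type w} [AddCommGroup M] [Module R M]
  [AddCommGroup N] [Module R N] (d : M →ₗ[R] N)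

/-- If `s` acts invertibly on `κ`, then `s • z = 0` in `I ⊗ κ` forces `z = 0`. -/
theorem eq_zero_of_smul_eq_zero {I : Type*} [AddCommGroup I] [Module R I]
    (κ : Type*) [Field κ] [Algebra R κ] (s : R) (hs : algebraMap R κ s ≠ 0) (z : I ⊗[R] κ)
    (hz : s • z = 0) : z = 0 := by
  let μ : I ⊗[R] κ →ₗ[R] I ⊗[R] κ := (LinearMap.mulLeft R ((algebraMap R κ s)⁻¹)).lTensor I
  have key : ∀ z : I ⊗[R] κ, μ (s • z) = z := by
    intro z
    induction z using TensorProduct.induction_on with
    | zero => simp
    | tmul x k =>
      rw [TensorProduct.smul_tmul', TensorProduct.smul_tmul]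
      simp only [μ, LinearMap.lTensor_tmul, LinearMap.mulLeft_apply]
      rw [Algebra.smul_def, ← mul_assoc, inv_mul_cancel₀ hs, one_mul]
    | add a b ha hb => rw [smul_add, map_add, ha, hb]
  rw [← key z, hz, map_zero]

theorem injective_of_projective_away (p : Ideal R) [p.IsPrime] (f : R) (hf : f ∉ p)
    (hproj : Module.Projective (Localization.Away f)
      (LocalizedModule (Submonoid.powers f) (N ⧸ LinearMap.range d))) :
    Function.Injective ((LinearMap.range d).subtype.lTensor p.ResidueField) := by
  let κ := p.ResidueField
  let S := Submonoid.powers f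
  let I := LinearMap.range d
  let jf := LocalizedModule.map S I.subtype
  let πf := LocalizedModule.map S I.mkQ
  have hex : Function.Exact jf πf :=
    LocalizedModule.map_exact S _ _ (LinearMap.exact_subtype_mkQ I)
  have hinj : Function.Injective jf := LocalizedModule.map_injective S _ I.subtype_injective
  have hsurj : Function.Surjective πf := LocalizedModule.map_surjective S _ I.mkQ_surjective
  obtain ⟨σ, hσ⟩ := Module.projective_lifting_property πf LinearMap.id hsurj
  obtain ⟨ρ, hρ⟩ := ((hex.split_tfae hinj hsurj).out 0 1 rfl rfl).1 ⟨σ, hσ⟩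
  rw [LinearMap.lTensor_inj_iff_rTensor_inj, injective_iff_map_eq_zero]
  intro z hz
  let locI : I →ₗ[R] LocalizedModule S I := LocalizedModule.mkLinearMap S I
  let locN : N →ₗ[R] LocalizedModule S N := LocalizedModule.mkLinearMap S N
  have hcomm : locN ∘ₗ I.subtype = (jf.restrictScalars R) ∘ₗ locI := by
    ext x
    simp [locN, locI, jf, LocalizedModule.map_mk]
  have h1 : ((jf.restrictScalars R).rTensor κ) ((locI.rTensor κ) z) = 0 := by
    rw [← LinearMap.comp_apply, ← LinearMap.rTensor_comp, ← hcomm, LinearMap.rTensor_comp,
      LinearMap.comp_apply, hz, map_zero]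
  have h2 : (locI.rTensor κ) z = 0 := by
    have h3 : ((ρ.restrictScalars R).rTensor κ) (((jf.restrictScalars R).rTensor κ)
        ((locI.rTensor κ) z)) = (locI.rTensor κ) z := by
      rw [← LinearMap.comp_apply, ← LinearMap.rTensor_comp]
      have : (ρ.restrictScalars R) ∘ₗ (jf.restrictScalars R) = LinearMap.id := by
        ext x
        exact LinearMap.congr_fun hρ x
      rw [this, LinearMap.rTensor_id, LinearMap.id_apply]
    rw [← h3, h1, map_zero]
  have h4 : (TensorProduct.AlgebraTensorModule.rTensor R κ locI) z = 0 := h2
  obtain ⟨⟨s, n, rfl⟩, hs⟩ := (IsLocalizedModule.eq_zero_iff S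
    (TensorProduct.AlgebraTensorModule.rTensor R κ locI)).1 h4
  apply eq_zero_of_smul_eq_zero κ (f ^ n) _ z hs
  rw [map_pow]
  apply pow_ne_zero
  intro h0
  exact hf ((Ideal.algebraMap_residueField_eq_zero).1 h0)

end stepC

section main
variable (R : Type u) [CommRing R] (M : Type v) (N : Type w) [AddCommGroup M] [Module R M]
  [AddCommGroup N] [Module R N] [Module.Finite R M] [Module.Finite R N] [Module.Projective R N]
  (d : M →ₗ[R] N)

instance finitePresentation_coker : Module.FinitePresentation R (N ⧸ LinearMap.range d) := by
  have : Module.FinitePresentation R N := Module.finitePresentation_of_projective R N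
  apply Module.finitePresentation_of_surjective (LinearMap.range d).mkQ
    (Submodule.mkQ_surjective _)
  rw [Submodule.ker_mkQ, LinearMap.range_eq_map]
  exact (Module.Finite.fg_top).map d

theorem exists_away_iff (p : PrimeSpectrum R) :
    LinearMap.ker (d.baseChange p.asIdeal.ResidueField) ≤
        LinearMap.range ((LinearMap.ker d).subtype.baseChange p.asIdeal.ResidueField) ↔
      ∃ f : R, f ∉ p.asIdeal ∧
        Module.Projective (Localization.Away f)
          (LocalizedModule (Submonoid.powers f) (N ⧸ LinearMap.range d)) := by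
  rw [ker_le_range_iff]
  constructor
  · intro h
    have hfree := free_baseChange_of_injective d p.asIdeal h
    obtain ⟨r, hr, hfr, -⟩ := Module.FinitePresentation.exists_free_localizedModule_powers
      p.asIdeal.primeCompl
      (TensorProduct.mk R (Localization.AtPrime p.asIdeal) (N ⧸ LinearMap.range d) 1)
      (Localization.AtPrime p.asIdeal)
    exact ⟨r, hr, Module.Projective.of_free⟩
  · rintro ⟨f, hf, hproj⟩
    exact injective_of_projective_away d p.asIdeal f hf hproj

theorem projective_iff :
    Module.Projective R (N ⧸ LinearMap.range d) ↔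
      ∀ p : PrimeSpectrum R,
        LinearMap.ker (d.baseChange p.asIdeal.ResidueField) ≤
          LinearMap.range ((LinearMap.ker d).subtype.baseChange p.asIdeal.ResidueField) := by
  constructor
  · intro hproj p
    rw [ker_le_range_iff]
    obtain ⟨σ, hσ⟩ := Module.projective_lifting_property (LinearMap.range d).mkQ LinearMap.id
      (Submodule.mkQ_surjective _)
    obtain ⟨ρ, hρ⟩ := (((LinearMap.exact_subtype_mkQ (LinearMap.range d)).split_tfae
      (Submodule.subtype_injective _) (Submodule.mkQ_surjective _)).out 0 1 rfl rfl).1 ⟨σ, hσ⟩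
    have : (ρ.lTensor p.asIdeal.ResidueField) ∘ₗ
        ((LinearMap.range d).subtype.lTensor p.asIdeal.ResidueField) = LinearMap.id := by
      rw [← LinearMap.lTensor_comp, hρ, LinearMap.lTensor_id]
    exact Function.HasLeftInverse.injective ⟨_, LinearMap.congr_fun this⟩
  · intro h
    apply Module.projective_of_localization_maximal' (fun P _ => Localization.AtPrime P)
      (fun P _ => Localization.AtPrime P ⊗[R] (N ⧸ LinearMap.range d))
      (fun P _ => TensorProduct.mk R (Localization.AtPrime P) (N ⧸ LinearMap.range d) 1)
    intro P hP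
    have hfree := free_baseChange_of_injective d P ((ker_le_range_iff d _).1 (h ⟨P, hP.isPrime⟩))
    exact Module.Projective.of_free

end main

end Groth.Agent.Lib.Helper17.CokerProj
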