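import Mathlib

/-!
# Coproducts of exact short complexes / acyclic complexes in AB4 categories
-/

universe w v u

open CategoryTheory Limits

namespace Groth.Agent.Lib.Helper17.CoprodExact

variable {A : Type u} [Category.{v} A] [Abelian A] {I : Type w}

section

variable (S : I → ShortComplex A)

/-- the short complex in the functor category -/
abbrev Stilde : ShortComplex (Discrete I ⥤ A) :=
  ShortComplex.mk (X₁ := Discrete.functor (fun i => (S i).X₁))
    (X₂ := Discrete.functor (fun i => (S i).X₂)) (X₃ := Discrete.functor (fun i => (S i).X₃))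
    (Discrete.natTrans (fun i => (S i.as).f)) (Discrete.natTrans (fun i => (S i.as).g))
    (by ext ⟨i⟩; simp)

lemma Stilde_exact (hS : ∀ i, (S i).Exact) : (Stilde S).Exact := by
  rw [ShortComplex.exact_iff_isZero_homology]
  apply Functor.isZero
  rintro ⟨i⟩
  have e := (Stilde S).mapHomologyIso ((evaluation (Discrete I) A).obj ⟨i⟩)
  refine IsZero.of_iso ?_ e.symm
  have h : ((Stilde S).map ((evaluation (Discrete I) A).obj ⟨i⟩)).Exact := hS i
  exact (ShortComplex.exact_iff_isZero_homology _).1 h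

variable [HasColimitsOfShape (Discrete I) A] [HasExactColimitsOfShape (Discrete I) A]

lemma exact_of_isColimit (hS : ∀ i, (S i).Exact) (T : ShortComplex A) (u : ∀ i, S i ⟶ T)
    (h₁ : IsColimit (Cofan.mk T.X₁ (fun i => (u i).τ₁)))
    (h₂ : IsColimit (Cofan.mk T.X₂ (fun i => (u i).τ₂)))
    (h₃ : IsColimit (Cofan.mk T.X₃ (fun i => (u i).τ₃))) : T.Exact := by
  have h := (Stilde_exact S hS).map (colim : (Discrete I ⥤ A) ⥤ A)
  refine ShortComplex.exact_of_iso ?_ h
  let e₁ : colimit (Discrete.functor fun i => (S i).X₁) ≅ T.X₁ :=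
    IsColimit.coconePointUniqueUpToIso (colimit.isColimit _) h₁
  let e₂ : colimit (Discrete.functor fun i => (S i).X₂) ≅ T.X₂ :=
    IsColimit.coconePointUniqueUpToIso (colimit.isColimit _) h₂
  let e₃ : colimit (Discrete.functor fun i => (S i).X₃) ≅ T.X₃ :=
    IsColimit.coconePointUniqueUpToIso (colimit.isColimit _) h₃
  have he₁ : ∀ i, colimit.ι (Discrete.functor fun i => (S i).X₁) ⟨i⟩ ≫ e₁.hom = (u i).τ₁ :=
    fun i => IsColimit.comp_coconePointUniqueUpToIso_hom (colimit.isColimit _) h₁ ⟨i⟩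
  have he₂ : ∀ i, colimit.ι (Discrete.functor fun i => (S i).X₂) ⟨i⟩ ≫ e₂.hom = (u i).τ₂ :=
    fun i => IsColimit.comp_coconePointUniqueUpToIso_hom (colimit.isColimit _) h₂ ⟨i⟩
  have he₃ : ∀ i, colimit.ι (Discrete.functor fun i => (S i).X₃) ⟨i⟩ ≫ e₃.hom = (u i).τ₃ :=
    fun i => IsColimit.comp_coconePointUniqueUpToIso_hom (colimit.isColimit _) h₃ ⟨i⟩
  have c12 : e₁.hom ≫ T.f = colimMap (Discrete.natTrans fun i => (S i.as).f) ≫ e₂.hom := by
    apply colimit.hom_ext
    rintro ⟨i⟩
    rw [ι_colimMap_assoc, reassoc_of% he₁]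
    dsimp
    rw [he₂]
    exact (u i).comm₁₂
  have c23 : e₂.hom ≫ T.g = colimMap (Discrete.natTrans fun i => (S i.as).g) ≫ e₃.hom := by
    apply colimit.hom_ext
    rintro ⟨i⟩
    rw [ι_colimMap_assoc, reassoc_of% he₂]
    dsimp
    rw [he₃]
    exact (u i).comm₂₃
  exact ShortComplex.isoMk e₁ e₂ e₃ c12 c23

end

section

variable {ι : Type*} {c : ComplexShape ι} (K : I → HomologicalComplex A c)
  [HasColimitsOfShape (Discrete I) A] [HasExactColimitsOfShape (Discrete I) A]

lemma exactAt_sigma (n : ι) (hK : ∀ i, (K i).ExactAt n) : (∐ K).ExactAt n := by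
  refine exact_of_isColimit (fun i => (K i).sc n) hK ((∐ K).sc n)
    (fun i => (HomologicalComplex.shortComplexFunctor A c n).map (Sigma.ι K i)) ?_ ?_ ?_
  · exact isColimitCofanMkObjOfIsColimit (HomologicalComplex.eval A c (c.prev n)) K _
      (coproductIsCoproduct K)
  · exact isColimitCofanMkObjOfIsColimit (HomologicalComplex.eval A c n) K _
      (coproductIsCoproduct K)
  · exact isColimitCofanMkObjOfIsColimit (HomologicalComplex.eval A c (c.next n)) K _
      (coproductIsCoproduct K)

lemma acyclic_sigma (hK : ∀ i, (K i).Acyclic) : (∐ K).Acyclic :=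
  fun n => exactAt_sigma K n (fun i => hK i n)

end

end Groth.Agent.Lib.Helper17.CoprodExact
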