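import Groth.Agent.Lib.Helper17.CoprodRpush2

/-!
# A derived functor commutes with direct sums on `D_QCoh` as soon as it does so at the chain level
-/

set_option autoImplicit false
universe u

open CategoryTheory Limits Opposite AlgebraicGeometry TopologicalSpace CochainComplex

attribute [local instance] HasDerivedCategory.standard

namespace Groth.Agent.Lib.Helper17.CoprodRF

open Groth.Agent.Lib.Helper17.MVAbs
open Groth.Agent.Lib.Helper17.PushCoh Groth.Agent.Lib.Helper17.PhiInd
open Groth.Agent.Lib.Helper17.CoprodMV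
open Groth.Agent.Lib.Helper17.HomologyCoprod Groth.Agent.Lib.Helper17.PushCoh2
open Groth.Agent.Lib.Helper17.RFTri Groth.Agent.Lib.Helper17.CoprodRpush

variable {X Y : Scheme.{u}} (F : X.Modules ⥤ Y.Modules) [F.Additive]
  [(Φ F).HasRightDerivedFunctor (HomotopyCategory.quasiIso X.Modules (ComplexShape.up ℤ))]
  {ι : Type u}

/-- a K-injective resolution of a coproduct of good complexes is good. -/
lemma good_of_quasiIso (I : ι → CochainComplex X.Modules ℤ) (hI : ∀ i, Good (I i))
    (J : CochainComplex X.Modules ℤ) (q : ∐ I ⟶ J) (hJ : J.IsKInjective) (hq : QuasiIso q)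
    (hinj : ∀ n, Injective (J.X n)) : Good J := by
  refine ⟨hJ, hinj, fun n => ?_⟩
  haveI : IsIso (HomologicalComplex.homologyMap q n) := by
    have := hq
    rw [quasiIso_iff] at this
    exact (quasiIsoAt_iff_isIso_homologyMap _ _).1 (this n)
  have h1 : (∐ fun i => (I i).homology n).IsQuasicoherent :=
    Groth.Agent.Lib.Helper29.QCoh.isQuasicoherent_colimit
      (Discrete.functor (fun i => (I i).homology n)) (fun j => (hI j.as).qc n)
  haveI h2 : IsIso (sigmaHomology I n) := isIso_sigmaHomology I n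
  have e1 : (∐ fun i => (I i).homology n) ≅ (∐ I).homology n := asIso (sigmaHomology I n)
  have e2 : (∐ I).homology n ≅ J.homology n := asIso (HomologicalComplex.homologyMap q n)
  exact (SheafOfModules.isQuasicoherent X.ringCatSheaf).prop_of_iso (e1 ≪≫ e2) h1

/-- **a right derived functor commutes with direct sums on `D_QCoh` as soon as it does at the
chain level.** -/
theorem isIso_sigmaDesc_RF
    (hF : ∀ (I : ι → CochainComplex X.Modules ℤ) (J : CochainComplex X.Modules ℤ)
      (g : ∀ i, I i ⟶ J), (∀ i, Good (I i)) → Good J → QuasiIso (Sigma.desc g) →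
        QuasiIso (ψ I J g F))
    (K : ι → DCoh.D X) (hK : ∀ i, DCoh.IsQCohD (K i)) [HasCoproduct K]
    [HasCoproduct (fun i => (RF F).obj (K i))] :
    IsIso (Sigma.desc (fun i => (RF F).map (Sigma.ι K i))) := by
  have hex := fun i => Groth.Agent.Lib.Helper17.RpushQC.exists_good (K i) (hK i)
  choose I hI he using hex
  have e : ∀ i, K i ≅ DerivedCategory.Q.obj (I i) := fun i => (he i).some
  obtain ⟨J, q, hJ, hq, -, hinj⟩ :=
    Groth.Agent.Lib.Helper17.KInjRes.exists_kInjective_resolution (∐ I)
  have hJgood : Good J := good_of_quasiIso I hI J q hJ hq hinj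
  let g : ∀ i, I i ⟶ J := fun i => Sigma.ι I i ≫ q
  have hg : QuasiIso (Sigma.desc g) := by
    have h : Sigma.desc g = q := by
      apply Sigma.hom_ext
      intro i
      rw [Sigma.ι_desc]
    rw [h]
    exact hq
  have hψ := hF I J g hI hJgood hg
  haveI : ∀ i, (I i).IsKInjective := fun i => (hI i).kinj
  haveI := hJ
  haveI : IsIso (DerivedCategory.Q.map (ψ I J g F)) :=
    (DerivedCategory.isIso_Q_map_iff_quasiIso _ _).2 hψ
  haveI : IsIso (DerivedCategory.Q.map q) := (DerivedCategory.isIso_Q_map_iff_quasiIso _ _).2 hq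
  refine isIso_sigmaDesc_of_cofans (RF F) K e _ (isColimitQ I)
    (fun i => RFIso F (hA X) (I i)) _
    (isColimitQ (fun i => Cx F (I i)))
    (asIso (DerivedCategory.Q.map (ψ I J g F)) ≪≫
      (RFIso F (hA X) J).symm ≪≫ (asIso ((RF F).map (DerivedCategory.Q.map q))).symm) ?_
  intro i
  change DerivedCategory.Q.map (Sigma.ι (fun i => Cx F (I i)) i) ≫
    DerivedCategory.Q.map (ψ I J g F) ≫ (RFIso F (hA X) J).inv ≫
      inv ((RF F).map (DerivedCategory.Q.map q)) =
    (RFIso F (hA X) (I i)).inv ≫ (RF F).map (DerivedCategory.Q.map (Sigma.ι I i))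
  rw [← Functor.map_comp_assoc, ι_ψ]
  have h1 := RFIso_inv_naturality F (hA X) (g i)
  rw [← Category.assoc, h1, Category.assoc]
  congr 1
  rw [IsIso.comp_inv_eq, ← Functor.map_comp, ← Functor.map_comp]

end Groth.Agent.Lib.Helper17.CoprodRF
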