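import Groth.Agent.Lib.Helper17.RGammaZ

/-!
# `Γ_Z` only depends on the range of the open immersion
-/

set_option autoImplicit false
universe u

open CategoryTheory Limits Opposite AlgebraicGeometry TopologicalSpace

namespace Groth.Agent.Lib.Helper17.GammaZRange

variable {U U' X : Scheme.{u}} (j : U ⟶ X) [IsOpenImmersion j]

/-- a morphism is killed by the unit `M ⟶ j_* j^* M` iff its restriction vanishes. -/
lemma comp_unit_eq_zero_iff {T M : X.Modules} (φ : T ⟶ M) :
    φ ≫ (Scheme.Modules.restrictAdjunction j).unit.app M = 0 ↔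
      (Scheme.Modules.restrictFunctor j).map φ = 0 := by
  have hnat := (Scheme.Modules.restrictAdjunction j).unit.naturality φ
  constructor
  · intro h
    apply ((Scheme.Modules.restrictAdjunction j).homEquiv _ _).injective
    rw [Adjunction.homEquiv_unit, Adjunction.homEquiv_unit, Functor.map_zero, comp_zero]
    exact hnat.symm.trans h
  · intro h
    have h2 : φ ≫ (Scheme.Modules.restrictAdjunction j).unit.app M =
        (Scheme.Modules.restrictAdjunction j).unit.app T ≫
          (Scheme.Modules.pushforward j).map ((Scheme.Modules.restrictFunctor j).map φ) := hnat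
    rw [h2, h, Functor.map_zero, comp_zero]

/-- vanishing of the restriction passes to smaller open immersions. -/
lemma restrict_map_eq_zero_of_fac (j' : U' ⟶ X) [IsOpenImmersion j'] (a : U' ⟶ U)
    [IsOpenImmersion a] (h : a ≫ j = j') {T M : X.Modules} (φ : T ⟶ M)
    (hφ : (Scheme.Modules.restrictFunctor j).map φ = 0) :
    (Scheme.Modules.restrictFunctor j').map φ = 0 := by
  subst h
  have hnat := (Scheme.Modules.restrictFunctorComp a j).hom.naturality φ
  rw [← cancel_mono ((Scheme.Modules.restrictFunctorComp a j).hom.app M), zero_comp, hnat]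
  change _ ≫ (Scheme.Modules.restrictFunctor a).map ((Scheme.Modules.restrictFunctor j).map φ) = 0
  rw [hφ, Functor.map_zero, comp_zero]


section Iso

variable (j' : U' ⟶ X) [IsOpenImmersion j'] (a : U' ⟶ U) [IsOpenImmersion a] (b : U ⟶ U')
  [IsOpenImmersion b] (ha : a ≫ j = j') (hb : b ≫ j' = j)

include ha in
lemma gammaZι_comp_unit (M : X.Modules) :
    kernel.ι ((Scheme.Modules.restrictAdjunction j).unit.app M) ≫
      (Scheme.Modules.restrictAdjunction j').unit.app M = 0 := by
  refine (comp_unit_eq_zero_iff j' _).2 ?_
  apply restrict_map_eq_zero_of_fac j j' a ha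
  refine (comp_unit_eq_zero_iff j _).1 ?_
  exact kernel.condition _

/-- `Γ_Z` only depends on the range of the open immersion (components). -/
noncomputable def gammaZIsoApp (M : X.Modules) :
    (DCoh.gammaZ j).obj M ≅ (DCoh.gammaZ j').obj M where
  hom := kernel.lift _ (kernel.ι ((Scheme.Modules.restrictAdjunction j).unit.app M))
    (gammaZι_comp_unit j j' a ha M)
  inv := kernel.lift _ (kernel.ι ((Scheme.Modules.restrictAdjunction j').unit.app M))
    (gammaZι_comp_unit j' j b hb M)
  hom_inv_id := by
    apply equalizer.hom_ext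
    simp [DCoh.gammaZ]
  inv_hom_id := by
    apply equalizer.hom_ext
    simp [DCoh.gammaZ]

/-- `Γ_Z` only depends on the range of the open immersion. -/
noncomputable def gammaZIso : DCoh.gammaZ j ≅ DCoh.gammaZ j' :=
  NatIso.ofComponents (fun M => gammaZIsoApp j j' a b ha hb M) (by
    intro M N φ
    apply equalizer.hom_ext
    simp [DCoh.gammaZ, gammaZIsoApp])

end Iso

/-- the case of the range. -/
noncomputable def gammaZIsoRange : DCoh.gammaZ j ≅ DCoh.gammaZ j.opensRange.ι :=
  gammaZIso j j.opensRange.ι j.isoOpensRange.inv j.isoOpensRange.hom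
    (Scheme.Hom.isoOpensRange_inv_comp j) (Scheme.Hom.isoOpensRange_hom_ι j)

end Groth.Agent.Lib.Helper17.GammaZRange
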