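import Groth.Agent.Lib.Helper17.PhiW
import Groth.Agent.Lib.Helper8.QcqsInduction

/-!
# Induction on opens: cohomology of `ΦW I`
-/

set_option autoImplicit false
universe u

open CategoryTheory Limits Opposite AlgebraicGeometry TopologicalSpace CochainComplex

namespace Groth.Agent.Lib.Helper17.PhiInd

open Groth.Agent.Lib.Helper17.SecFun Groth.Agent.Lib.Helper17.PhiW Groth.Agent.Lib.Helper17.MVAbs
open Groth.Agent.Lib.Helper17.PushCoh

/-- quasi-coherent modules form a weak Serre class. -/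
lemma weakSerre_qcoh (Y : Scheme.{u}) :
    WeakSerre (fun M : Y.Modules => M.IsQuasicoherent) where
  iso e h := (SheafOfModules.isQuasicoherent Y.ringCatSheaf).prop_of_iso e h
  ker φ hM hN := by
    haveI := hM
    haveI := hN
    exact Groth.Agent.Lib.Helper29.QCoh.isQuasicoherent_kernel φ
  coker φ hM hN := by
    haveI := hM
    haveI := hN
    exact Groth.Agent.Lib.Helper29.QCoh.isQuasicoherent_cokernel φ
  ext T hT h1 h3 := by
    haveI := h1
    haveI := h3
    exact Groth.Agent.Lib.Helper29.QCoh.isQuasicoherent_of_shortExact T hT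

variable {X S : Scheme.{u}} (f : X ⟶ S) (V₀ : S.Opens)

/-- K-injective complexes of injectives with quasi-coherent cohomology. -/
structure Good (I : CochainComplex X.Modules ℤ) : Prop where
  kinj : I.IsKInjective
  inj : ∀ n, Injective (I.X n)
  qc : ∀ i, (I.homology i).IsQuasicoherent

/-- the property proved by induction on `W`. -/
def P (W : X.Opens) : Prop :=
  (∀ I : CochainComplex X.Modules ℤ, Good I →
    ∀ p, ((Cx (ΦW f V₀ W) I).homology p).IsQuasicoherent) ∧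
  ∃ N : ℤ, ∀ I : CochainComplex X.Modules ℤ, Good I → (∀ i : ℤ, 0 < i → IsZero (I.homology i)) →
    ∀ m : ℤ, N ≤ m → IsZero ((Cx (ΦW f V₀ W) I).homology m)

variable {f V₀}

lemma P_base (hV₀ : IsAffineOpen V₀) {W : X.Opens} (hW : IsAffineOpen W)
    (hWV : W ≤ f ⁻¹ᵁ V₀) : P f V₀ W := by
  have key : ∀ I : CochainComplex X.Modules ℤ, Good I → ∀ p, IsIso (cmp (ΦW f V₀ W) I p) := by
    intro I hI p
    haveI := hI.kinj
    exact isIso_cmp (secData f V₀ W) (fun V hV => isAffineOpen_uW hV₀ hW hWV V hV) I hI.qc p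
  refine ⟨fun I hI p => ?_, 1, fun I hI hz m hm => ?_⟩
  · haveI := key I hI p
    haveI := hI.qc p
    exact (SheafOfModules.isQuasicoherent V₀.toScheme.ringCatSheaf).prop_of_iso
      (asIso (cmp (ΦW f V₀ W) I p)).symm (isQuasicoherent_ΦW hV₀ hW hWV _)
  · haveI := key I hI m
    exact IsZero.of_iso ((ΦW f V₀ W).map_isZero (hz m (by omega))) (asIso (cmp (ΦW f V₀ W) I m))

lemma P_mv (W1 W2 : X.Opens) (h1 : P f V₀ W1) (h2 : P f V₀ W2) (h12 : P f V₀ (W1 ⊓ W2)) :
    P f V₀ (W1 ⊔ W2) := by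
  obtain ⟨q1, N1, z1⟩ := h1
  obtain ⟨q2, N2, z2⟩ := h2
  obtain ⟨q12, N12, z12⟩ := h12
  refine ⟨fun I hI p => ?_, max (max N1 N2) (N12 + 1), fun I hI hz m hm => ?_⟩
  · exact mv_prop (weakSerre_qcoh V₀.toScheme) I (mv_shortExact f V₀ W1 W2 I hI.inj)
      (q1 I hI) (q2 I hI) (q12 I hI) p
  · have hm1 : N1 ≤ m := le_trans (le_trans (le_max_left _ _) (le_max_left _ _)) hm
    have hm2 : N2 ≤ m := le_trans (le_trans (le_max_right _ _) (le_max_left _ _)) hm
    have hm12 : N12 ≤ m - 1 := by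
      have := le_trans (le_max_right (max N1 N2) (N12 + 1)) hm
      omega
    exact mv_isZero I (mv_shortExact f V₀ W1 W2 I hI.inj) m (z1 I hI hz m hm1) (z2 I hI hz m hm2)
      (z12 I hI hz (m - 1) hm12)

lemma image_inf' {Z : Scheme.{u}} (U₀ : Z.Opens) (A B : U₀.toScheme.Opens) :
    U₀.ι ''ᵁ (A ⊓ B) = U₀.ι ''ᵁ A ⊓ U₀.ι ''ᵁ B := by
  ext x
  simp only [Scheme.Hom.coe_image, Opens.coe_inf]
  rw [Set.image_inter U₀.ι.isOpenEmbedding.injective]

lemma image_sup' {Z : Scheme.{u}} (U₀ : Z.Opens) (A B : U₀.toScheme.Opens) :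
    U₀.ι ''ᵁ (A ⊔ B) = U₀.ι ''ᵁ A ⊔ U₀.ι ''ᵁ B := by
  ext x
  simp only [Scheme.Hom.coe_image, Opens.coe_sup]
  rw [Set.image_union]

/-- the cohomology of `(f_* I)|_{V₀}` (in the guise of `ΦW` for `W = f⁻¹ V₀`) is quasi-coherent and
bounded. -/
theorem P_preimage [QuasiCompact f] [QuasiSeparated f] (hV₀ : IsAffineOpen V₀) :
    P f V₀ (f ⁻¹ᵁ V₀) := by
  let X₀ : X.Opens := f ⁻¹ᵁ V₀
  haveI : CompactSpace X₀ := isCompact_iff_compactSpace.1 (f.isCompact_preimage hV₀.isCompact)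
  haveI : QuasiSeparatedSpace X₀ :=
    (isQuasiSeparated_iff_quasiSeparatedSpace _ X₀.2).1
      (f.isQuasiSeparated_preimage hV₀.isQuasiSeparated)
  have h := Groth.Agent.Lib.Helper8.QcqsInduction.main X₀.toScheme
    (fun W' => P f V₀ (X₀.ι ''ᵁ W'))
    (fun U hU => P_base hV₀ (hU.image_of_isOpenImmersion X₀.ι) (X₀.ι_image_le U))
    (fun U V _ _ hPU hPV hPUV => by
      rw [image_sup']
      rw [image_inf'] at hPUV
      exact P_mv _ _ hPU hPV hPUV)
    ⊤ isCompact_univ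
  rw [Scheme.Opens.ι_image_top] at h
  exact h

end Groth.Agent.Lib.Helper17.PhiInd
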