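import Groth.Agent.Lib.Helper17.SecFun
import Groth.Agent.Lib.Helper17.ZClosLib

/-!
# Section data: constructions, and the Mayer–Vietoris sequence for `Ψ ∘ j_* j^*`
-/

set_option autoImplicit false
universe u

open CategoryTheory Limits Opposite AlgebraicGeometry TopologicalSpace CochainComplex

namespace Groth.Agent.Lib.Helper17.SecFun

open Groth.Agent.Lib.Helper17.SG7 Groth.Agent.Lib.Helper17.QcSec Groth.Agent.Lib.Helper17.SecGlue
open Groth.Agent.Lib.Helper17.MVAbs

namespace SecData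

/-- section data of the identity. -/
noncomputable def id (X : Scheme.{u}) : SecData (𝟭 X.Modules) where
  u := fun V => V
  mono := fun h => h
  e := fun V M => Equiv.refl _
  he := fun V M N σ φ => rfl
  hadd := fun V M σ τ => rfl

/-- section data of a direct image. -/
noncomputable def push {X S : Scheme.{u}} (f : X ⟶ S) : SecData (Scheme.Modules.pushforward f) where
  u := fun V => f ⁻¹ᵁ V
  mono := fun h => (Opens.map f.base).monotone h
  e := pushEquiv f
  he := fun V _ _ σ φ => pushEquiv_comp f V σ φ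
  hadd := fun V M σ τ => pushEquiv_add f V M σ τ

section resPush

variable {X : Scheme.{u}} (W : X.Opens)

/-- the open over which the sections of `j_* j^* M` are taken. -/
def uR (A : X.Opens) : X.Opens := W.ι ''ᵁ W.ι ⁻¹ᵁ A

lemma uR_eq (A : X.Opens) : uR W A = W ⊓ A := ZClos.ι_image_preimage _ _

/-- the equivalence on sections for `j_* j^*`. -/
noncomputable def eR (A : X.Opens) (M : X.Modules) :
    ((schemeGens X).G A ⟶ (ZClos.resPush W).obj M) ≃ ((schemeGens X).G (uR W A) ⟶ M) :=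
  (sec X A _).trans (sec X (uR W A) M).symm

lemma sec_eR (A : X.Opens) (M : X.Modules) (σ : (schemeGens X).G A ⟶ (ZClos.resPush W).obj M) :
    sec X (uR W A) M (eR W A M σ) = sec X A _ σ :=
  Equiv.apply_symm_apply _ _

/-- section data of `j_* j^*`. -/
noncomputable def resPush : SecData (ZClos.resPush W) where
  u := uR W
  mono := by
    intro A' A h
    rw [uR_eq, uR_eq]
    exact inf_le_inf_left _ h
  e := eR W
  he := by
    intro A M N σ φ
    apply (sec X (uR W A) N).injective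
    refine (sec_eR W A N _).trans ?_
    refine (sec_comp X A σ _).trans ?_
    refine Eq.trans ?_ (sec_comp X (uR W A) (eR W A M σ) φ).symm
    refine Eq.trans ?_ (congrArg _ (sec_eR W A M σ).symm)
    rfl
  hadd := by
    intro A M σ τ
    apply (sec X (uR W A) M).injective
    refine (sec_eR W A M _).trans ?_
    refine (sec_add X A _ σ τ).trans ?_
    refine Eq.trans ?_ (sec_add X (uR W A) M _ _).symm
    exact congrArg₂ (· + ·) (sec_eR W A M σ).symm (sec_eR W A M τ).symm

lemma res_resPushMap {W W' : X.Opens} (h : W' ≤ W) :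
    (resPush W).Res (resPush W') (ZClos.resPushMap h) where
  le := fun A => ZClos.resPush_le h A
  comm := by
    intro A M σ
    apply (sec X (uR W' A) M).injective
    refine (sec_eR W' A M _).trans ?_
    refine (sec_comp X A σ _).trans ?_
    refine Eq.trans ?_ (sec_res X M (homOfLE (ZClos.resPush_le h A)) _).symm
    refine Eq.trans ?_ (congrArg _ (sec_eR W A M σ).symm)
    exact congrArg (fun t => (ConcreteCategory.hom t) (sec X A _ σ))
      (ZClos.resPushMapApp_app h M A)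

lemma res_resPushUnit : (id X).Res (resPush W) (ZClos.resPushUnit W) where
  le := fun A => W.ι.image_preimage_le A
  comm := by
    intro A M σ
    apply (sec X (uR W A) M).injective
    refine (sec_eR W A M _).trans ?_
    refine (sec_comp X A σ _).trans ?_
    refine Eq.trans ?_ (sec_res X M (homOfLE (W.ι.image_preimage_le A)) _).symm
    rfl

end resPush

section comp

variable {X Y Z : Scheme.{u}} {Φ1 Φ1' : X.Modules ⥤ Y.Modules} {Φ2 : Y.Modules ⥤ Z.Modules}

/-- composition of section data. -/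
noncomputable def comp (d1 : SecData Φ1) (d2 : SecData Φ2) : SecData (Φ1 ⋙ Φ2) where
  u := fun V => d1.u (d2.u V)
  mono := fun h => d1.mono (d2.mono h)
  e := fun V M => (d2.e V (Φ1.obj M)).trans (d1.e (d2.u V) M)
  he := by
    intro V M N σ φ
    show d1.e (d2.u V) N (d2.e V (Φ1.obj N) (σ ≫ Φ2.map (Φ1.map φ))) =
      d1.e (d2.u V) M (d2.e V (Φ1.obj M) σ) ≫ φ
    rw [d2.he, d1.he]
  hadd := by
    intro V M σ τ
    show d1.e (d2.u V) M (d2.e V (Φ1.obj M) (σ + τ)) =
      d1.e (d2.u V) M (d2.e V (Φ1.obj M) σ) + d1.e (d2.u V) M (d2.e V (Φ1.obj M) τ)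
    rw [d2.hadd, d1.hadd]

lemma res_whiskerRight {d1 : SecData Φ1} {d1' : SecData Φ1'} {r : Φ1 ⟶ Φ1'} (hr : d1.Res d1' r)
    (d2 : SecData Φ2) : (d1.comp d2).Res (d1'.comp d2) (Functor.whiskerRight r Φ2) where
  le := fun V => hr.le (d2.u V)
  comm := by
    intro V M σ
    show d1'.e (d2.u V) M (d2.e V (Φ1'.obj M) (σ ≫ Φ2.map (r.app M))) =
      (schemeGens X).Gm (homOfLE (hr.le (d2.u V))) ≫ d1.e (d2.u V) M (d2.e V (Φ1.obj M) σ)
    rw [d2.he, hr.comm]

end comp

end SecData

section mv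

variable {X T : Scheme.{u}} (Ψ : X.Modules ⥤ T.Modules) (dΨ : SecData Ψ) (U V : X.Opens)

/-- `Ψ ⟶ Ψ ∘ j_{U*} j_U^*`. -/
noncomputable abbrev mvR (U : X.Opens) : 𝟭 X.Modules ⋙ Ψ ⟶ ZClos.resPush U ⋙ Ψ :=
  Functor.whiskerRight (ZClos.resPushUnit U) Ψ

/-- `Ψ ∘ j_{U*} j_U^* ⟶ Ψ ∘ j_{U'*} j_{U'}^*` for `U' ≤ U`. -/
noncomputable abbrev mvS {U U' : X.Opens} (h : U' ≤ U) : ZClos.resPush U ⋙ Ψ ⟶ ZClos.resPush U' ⋙ Ψ :=
  Functor.whiskerRight (ZClos.resPushMap h) Ψ

lemma mvT_w : mvR Ψ U ≫ mvS Ψ (inf_le_left : U ⊓ V ≤ U) =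
    mvR Ψ V ≫ mvS Ψ (inf_le_right : U ⊓ V ≤ V) := by
  ext M : 2
  have h1 : (mvR Ψ U ≫ mvS Ψ (inf_le_left : U ⊓ V ≤ U)).app M =
      Ψ.map ((ZClos.resPushUnit U).app M ≫ ZClos.resPushMapApp inf_le_left M) :=
    (Ψ.map_comp _ _).symm
  have h2 : (mvR Ψ V ≫ mvS Ψ (inf_le_right : U ⊓ V ≤ V)).app M =
      Ψ.map ((ZClos.resPushUnit V).app M ≫ ZClos.resPushMapApp inf_le_right M) :=
    (Ψ.map_comp _ _).symm
  rw [h1, h2, ZClos.resPushUnit_resPushMapApp, ZClos.resPushUnit_resPushMapApp]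

variable [Ψ.Additive]

include dΨ in
/-- **Mayer–Vietoris** for a complex of injective modules and a cover `X = U ∪ V`. -/
theorem mvT_shortExact (hUV : U ⊔ V = ⊤) (I : CochainComplex X.Modules ℤ)
    (hI : ∀ n, Injective (I.X n)) :
    (mvCx _ _ _ _ (mvT_w Ψ U V) I).ShortExact := by
  apply mvCx_shortExact
  intro n
  haveI := hI n
  refine mvObj_shortExact ((SecData.id X).comp dΨ) ((SecData.resPush U).comp dΨ)
    ((SecData.resPush V).comp dΨ) ((SecData.resPush (U ⊓ V)).comp dΨ)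
    (SecData.res_whiskerRight (SecData.res_resPushUnit U) dΨ)
    (SecData.res_whiskerRight (SecData.res_resPushUnit V) dΨ)
    (SecData.res_whiskerRight (SecData.res_resPushMap inf_le_left) dΨ)
    (SecData.res_whiskerRight (SecData.res_resPushMap inf_le_right) dΨ) (mvT_w Ψ U V) ?_ ?_ (I.X n)
  · intro A
    show dΨ.u A ≤ SecData.uR U (dΨ.u A) ⊔ SecData.uR V (dΨ.u A)
    rw [SecData.uR_eq, SecData.uR_eq, ← inf_sup_right, hUV, top_inf_eq]
  · intro A
    show SecData.uR U (dΨ.u A) ⊓ SecData.uR V (dΨ.u A) ≤ SecData.uR (U ⊓ V) (dΨ.u A)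
    rw [SecData.uR_eq, SecData.uR_eq, SecData.uR_eq]
    exact le_inf (le_inf (inf_le_left.trans inf_le_left) (inf_le_right.trans inf_le_left))
      (inf_le_left.trans inf_le_right)

end mv

end Groth.Agent.Lib.Helper17.SecFun
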