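import Groth.Agent.Lib.Helper17.SuppRes
import Groth.Agent.Lib.Helper17.SecComp
import Groth.Agent.Lib.Helper17.PhiInd
import Groth.Prelude.Def_CxOX

/-!
# Sections with support: the chain level
-/

set_option autoImplicit false
universe u

open CategoryTheory Limits Opposite AlgebraicGeometry TopologicalSpace CochainComplex

attribute [local instance] HasDerivedCategory.standard

namespace Groth.Agent.Lib.Helper17.RGammaZ

open Groth.Agent.Lib.Helper17.SecFun Groth.Agent.Lib.Helper17.MVAbs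
open Groth.Agent.Lib.Helper17.PushCoh Groth.Agent.Lib.Helper17.PushCoh2
open Groth.Agent.Lib.Helper17.SG1 Groth.Agent.Lib.Helper17.SG2 Groth.Agent.Lib.Helper17.SG7
open Groth.Agent.Lib.Helper17.QcSec Groth.Agent.Lib.Helper17.SecGlue

variable {X : Scheme.{u}} (W : X.Opens)

/-- `M ⟶ j_* j^* M` is an epimorphism for `M` injective. -/
lemma epi_resPushUnit (M : X.Modules) [Injective M] : Epi ((ZClos.resPushUnit W).app M) := by
  apply (schemeGens X).epi_of_local_lift
  intro V σ
  refine ⟨⊤, (Opens.grothendieckTopology X).top_mem V, fun Y' g _ => ?_⟩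
  have hr := SecData.res_resPushUnit (X := X) W
  obtain ⟨τ', hτ'⟩ := exists_extension_of_injective X M (homOfLE (hr.le V))
    ((SecData.resPush W).e V M σ)
  refine ⟨(schemeGens X).Gm g ≫ ((SecData.id X).e V M).symm τ', ?_⟩
  rw [Category.assoc]
  congr 1
  apply ((SecData.resPush W).e V M).injective
  rw [hr.comm, Equiv.apply_symm_apply, hτ']

/-- the short complex `Γ_Z M ⟶ M ⟶ j_* j^* M`. -/
noncomputable def sc (M : X.Modules) : ShortComplex X.Modules :=
  ShortComplex.mk ((CxOX.gammaZι W.ι).app M) ((ZClos.resPushUnit W).app M)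
    (kernel.condition _)

lemma sc_exact (M : X.Modules) : (sc W M).Exact :=
  ShortComplex.exact_of_f_is_kernel _ (kernelIsKernel _)

instance mono_gammaZι (M : X.Modules) : Mono ((CxOX.gammaZι W.ι).app M) :=
  inferInstanceAs (Mono (kernel.ι _))

lemma sc_shortExact (M : X.Modules) [Injective M] : (sc W M).ShortExact where
  exact := sc_exact W M
  mono_f := mono_gammaZι W M
  epi_g := epi_resPushUnit W M

/-- the short complex of complexes `Γ_Z I ⟶ I ⟶ j_* j^* I`. -/
noncomputable def scCx (I : CochainComplex X.Modules ℤ) : ShortComplex (CochainComplex X.Modules ℤ) :=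
  ShortComplex.mk
    ((NatTrans.mapHomologicalComplex (CxOX.gammaZι W.ι) (ComplexShape.up ℤ)).app I)
    ((NatTrans.mapHomologicalComplex (ZClos.resPushUnit W) (ComplexShape.up ℤ)).app I) (by
      refine HomologicalComplex.hom_ext _ _ (fun n => ?_)
      exact kernel.condition ((Scheme.Modules.restrictAdjunction W.ι).unit.app (I.X n)))

lemma scCx_shortExact (I : CochainComplex X.Modules ℤ) (hI : ∀ n, Injective (I.X n)) :
    (scCx W I).ShortExact :=
  HomologicalComplex.shortExact_of_degreewise_shortExact _ (fun n => by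
    haveI := hI n
    exact sc_shortExact W (I.X n))


/-! ### vanishing on the open -/

lemma isIso_restrict_unit (M : X.Modules) :
    IsIso ((Scheme.Modules.restrictFunctor W.ι).map ((ZClos.resPushUnit W).app M)) := by
  have h := (Scheme.Modules.restrictAdjunction W.ι).left_triangle_components M
  haveI : IsIso ((Scheme.Modules.restrictAdjunction W.ι).counit.app
      ((Scheme.Modules.restrictFunctor W.ι).obj M)) := by
    have : (Scheme.Modules.restrictAdjunction W.ι).counit =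
        (Scheme.Modules.restrictFunctorAdjCounitIso W.ι).hom := rfl
    rw [this]
    infer_instance
  exact IsIso.of_isIso_fac_right h

/-- `(Γ_Z M)|_W = 0`. -/
lemma isZero_restrict_gammaZ (M : X.Modules) :
    IsZero ((Scheme.Modules.restrictFunctor W.ι).obj ((DCoh.gammaZ W.ι).obj M)) := by
  haveI := isIso_restrict_unit W M
  have h0 : (Scheme.Modules.restrictFunctor W.ι).map ((CxOX.gammaZι W.ι).app M) = 0 := by
    rw [← cancel_mono ((Scheme.Modules.restrictFunctor W.ι).map ((ZClos.resPushUnit W).app M)),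
      ← Functor.map_comp, zero_comp]
    have : (CxOX.gammaZι W.ι).app M ≫ (ZClos.resPushUnit W).app M = 0 :=
      kernel.condition ((Scheme.Modules.restrictAdjunction W.ι).unit.app M)
    rw [this, Functor.map_zero]
  haveI : Mono ((Scheme.Modules.restrictFunctor W.ι).map ((CxOX.gammaZι W.ι).app M)) :=
    inferInstance
  rw [IsZero.iff_id_eq_zero, ← cancel_mono ((Scheme.Modules.restrictFunctor W.ι).map
    ((CxOX.gammaZι W.ι).app M)), h0, comp_zero, zero_comp]

/-- a module whose restriction to `W` vanishes is supported off `W`. -/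
lemma support_subset_compl (M : X.Modules)
    (h : IsZero ((Scheme.Modules.restrictFunctor W.ι).obj M)) :
    CohB1.support M ⊆ (W : Set X)ᶜ := by
  intro x hx hxW
  apply hx
  have h1 := (Groth.Agent.Lib.Helper29.QCoh.isZero_iff_stalk_subsingleton _).1 h ⟨x, hxW⟩
  exact (Groth.Agent.Lib.Helper29.QCoh.restrictStalkIso W.ι M
    ⟨x, hxW⟩).symm.addCommGroupIsoToAddEquiv.toEquiv.subsingleton

/-- the cohomology of `Γ_Z I` is supported off `W`. -/
lemma support_homology_gammaZ (I : CochainComplex X.Modules ℤ) (p : ℤ) :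
    CohB1.support ((Cx (DCoh.gammaZ W.ι) I).homology p) ⊆ (W : Set X)ᶜ := by
  apply support_subset_compl
  refine IsZero.of_iso ?_ (Groth.Agent.Lib.Helper17.HDU3.mapHCHomologyIso
    (Scheme.Modules.restrictFunctor W.ι) (Cx (DCoh.gammaZ W.ι) I) p).symm
  apply ShortComplex.isZero_homology_of_isZero_X₂
  exact isZero_restrict_gammaZ W (I.X p)


/-! ### the derived functor -/

open Groth.Agent.Lib.Helper17.RFTri Groth.Agent.Lib.Helper17.DerAbs Groth.Agent.Lib.Helper17.DerKInj
open Pretriangulated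

variable [CxOX.HasRgammaZ W.ι]

/-- `RΓ_Z(Q I) ≅ Q(Γ_Z I)` for `I` K-injective. -/
noncomputable def RgammaZIso (I : CochainComplex X.Modules ℤ) [I.IsKInjective] :
    (CxOX.RgammaZ W.ι).obj (DerivedCategory.Q.obj I) ≅
      DerivedCategory.Q.obj (Cx (DCoh.gammaZ W.ι) I) :=
  RFIso (DCoh.gammaZ W.ι) (hA X) I

lemma RgammaZIso_inv_toId (I : CochainComplex X.Modules ℤ) [I.IsKInjective] :
    (RgammaZIso W I).inv ≫ (CxOX.RgammaZToId W.ι).app (DerivedCategory.Q.obj I) =
      DerivedCategory.Q.map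
        ((NatTrans.mapHomologicalComplex (CxOX.gammaZι W.ι) (ComplexShape.up ℤ)).app I) := by
  have h := Functor.rightDerived_fac_app (CxOX.RgammaZ W.ι)
    ((CxOX.gammaZKh W.ι).totalRightDerivedUnit DerivedCategory.Qh
      (HomotopyCategory.quasiIso X.Modules (ComplexShape.up ℤ)))
    (HomotopyCategory.quasiIso X.Modules (ComplexShape.up ℤ)) (𝟭 (DCoh.D X))
    (CxOX.gammaZKhι W.ι ≫ (Functor.rightUnitor _).inv)
    ((HomotopyCategory.quotient _ _).obj I)
  refine h.trans ?_
  have h1 : ((DCoh.gammaZ W.ι).mapHomotopyCategoryFactors (ComplexShape.up ℤ)).hom.app I =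
      𝟙 _ := rfl
  have h2 : (Functor.mapHomologicalComplexIdIso X.Modules (ComplexShape.up ℤ)).hom.app I =
      𝟙 I := rfl
  simp [CxOX.gammaZKhι, Quotient.natTransLift]
  erw [h1, h2]
  erw [CategoryTheory.Functor.map_id, Category.id_comp, CategoryTheory.Functor.map_id]
  erw [Category.comp_id]
  rfl


lemma isZero_Q_of_isZero_X {A : Type*} [Category A] [Abelian A] [HasDerivedCategory A]
    (K : CochainComplex A ℤ) (h : ∀ n, IsZero (K.X n)) : IsZero (DerivedCategory.Q.obj K) := by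
  apply Groth.Agent.Lib.Helper28.Lpull.isZero_Q_obj_of_acyclic
  intro i
  exact ShortComplex.isZero_homology_of_isZero_X₂ _ (h i)

/-- `RΓ_Z(E)|_W = 0`. -/
lemma isZero_restrictD_RgammaZ (E : DCoh.D X) :
    IsZero ((DCoh.restrictD W.ι).obj ((CxOX.RgammaZ W.ι).obj E)) := by
  obtain ⟨I, hI, ⟨e⟩⟩ := exists_kInjective_iso (hA X) E
  haveI := hI
  have e1 : (CxOX.RgammaZ W.ι).obj E ≅ DerivedCategory.Q.obj (Cx (DCoh.gammaZ W.ι) I) :=
    (CxOX.RgammaZ W.ι).mapIso e ≪≫ RgammaZIso W I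
  have e2 : (DCoh.restrictD W.ι).obj (DerivedCategory.Q.obj (Cx (DCoh.gammaZ W.ι) I)) ≅
      DerivedCategory.Q.obj (Cx (Scheme.Modules.restrictFunctor W.ι) (Cx (DCoh.gammaZ W.ι) I)) :=
    ((Scheme.Modules.restrictFunctor W.ι).mapDerivedCategoryFactors).app _
  refine IsZero.of_iso ?_ ((DCoh.restrictD W.ι).mapIso e1 ≪≫ e2)
  exact isZero_Q_of_isZero_X _ (fun n => isZero_restrict_gammaZ W (I.X n))

/-- the cohomology sheaves of `RΓ_Z(E)` are supported off `W`. -/
lemma support_HD_RgammaZ (E : DCoh.D X) (i : ℤ) :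
    CohB1.support (DCoh.HD ((CxOX.RgammaZ W.ι).obj E) i) ⊆ (W : Set X)ᶜ := by
  apply support_subset_compl
  refine IsZero.of_iso ?_ (Groth.Agent.Lib.Helper28.DCohRes.HDresDIso W.ι _ i).symm
  exact (DerivedCategory.homologyFunctor _ i).map_isZero (isZero_restrictD_RgammaZ W E)

/-- **the triangle `RΓ_Z(E) ⟶ E ⟶ Rj_*(E|_W)`.** -/
theorem exists_triangle [DCoh.HasRpush W.ι] (E : DCoh.D X) :
    ∃ (b : E ⟶ (DCoh.Rpush W.ι).obj ((DCoh.restrictD W.ι).obj E))
      (c : (DCoh.Rpush W.ι).obj ((DCoh.restrictD W.ι).obj E) ⟶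
        ((CxOX.RgammaZ W.ι).obj E)⟦(1 : ℤ)⟧),
      Triangle.mk ((CxOX.RgammaZToId W.ι).app E) b c ∈ distTriang (DCoh.D X) := by
  obtain ⟨I, hI, hinj, ⟨e⟩⟩ := Groth.Agent.Lib.Helper17.MVRpush.exists_kinj_inj E
  haveI := hI
  have hS := scCx_shortExact W I hinj
  let T := DerivedCategory.triangleOfSES hS
  have hT : T ∈ distTriang _ := DerivedCategory.triangleOfSES_distinguished hS
  let e₁ : DerivedCategory.Q.obj (Cx (DCoh.gammaZ W.ι) I) ≅ (CxOX.RgammaZ W.ι).obj E :=
    (RgammaZIso W I).symm ≪≫ (CxOX.RgammaZ W.ι).mapIso e.symm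
  let e₂ : DerivedCategory.Q.obj I ≅ E := e.symm
  let e₃' : Cx (ZClos.resPush W) I ≅ Cx (ZClos.resPush W ⋙ 𝟭 X.Modules) I :=
    HomologicalComplex.Hom.isoOfComponents (fun n => Iso.refl _) (by
      intro i j _
      exact (Category.id_comp _).trans (Category.comp_id _).symm)
  let e₃ : DerivedCategory.Q.obj (Cx (ZClos.resPush W) I) ≅
      (DCoh.Rpush W.ι).obj ((DCoh.restrictD W.ι).obj E) :=
    DerivedCategory.Q.mapIso e₃' ≪≫ (Groth.Agent.Lib.Helper17.MVRpush.pieceIso' W E I e).symm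
  have ha : e₁.inv ≫ T.mor₁ ≫ e₂.hom = (CxOX.RgammaZToId W.ι).app E := by
    have h1 := RgammaZIso_inv_toId W I
    have h2 := (CxOX.RgammaZToId W.ι).naturality e.hom
    have h3 : (RgammaZIso W I).hom ≫ T.mor₁ =
        (CxOX.RgammaZToId W.ι).app (DerivedCategory.Q.obj I) := by
      rw [← cancel_epi (RgammaZIso W I).inv, Iso.inv_hom_id_assoc]
      exact h1.symm
    show ((CxOX.RgammaZ W.ι).map e.hom ≫ (RgammaZIso W I).hom) ≫ T.mor₁ ≫ e.inv = _
    rw [Category.assoc, reassoc_of% h3]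
    erw [reassoc_of% h2]
    rw [Iso.hom_inv_id]
    exact Category.comp_id _
  refine ⟨e₂.inv ≫ T.mor₂ ≫ e₃.hom, e₃.inv ≫ T.mor₃ ≫ e₁.hom⟦(1 : ℤ)⟧', ?_⟩
  refine isomorphic_distinguished T hT _ (Triangle.isoMk _ _ e₁.symm e₂.symm e₃.symm ?_ ?_ ?_)
  · show (CxOX.RgammaZToId W.ι).app E ≫ e₂.inv = e₁.inv ≫ T.mor₁
    rw [← ha, Category.assoc, Category.assoc]
    erw [Iso.hom_inv_id, Category.comp_id]
    rfl
  · show (e₂.inv ≫ T.mor₂ ≫ e₃.hom) ≫ e₃.inv = e₂.inv ≫ T.mor₂
    rw [Category.assoc, Category.assoc]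
    erw [Iso.hom_inv_id, Category.comp_id]
    rfl
  · show (e₃.inv ≫ T.mor₃ ≫ e₁.hom⟦(1 : ℤ)⟧') ≫ e₁.inv⟦(1 : ℤ)⟧' = e₃.inv ≫ T.mor₃
    rw [Category.assoc, Category.assoc]
    erw [← Functor.map_comp, Iso.hom_inv_id, CategoryTheory.Functor.map_id, Category.comp_id]
    rfl

end Groth.Agent.Lib.Helper17.RGammaZ
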