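import Groth.Agent.Lib.Helper17.CoprodSES
import Groth.Agent.Lib.Helper17.CoprodRF
import Groth.Agent.Lib.Helper17.RGammaZ
import Groth.Agent.Lib.Helper17.RestrKInj
import Groth.Agent.Lib.Helper17.GammaZRange

/-!
# `RΓ_Z` commutes with direct sums on `D_QCoh` (retrocompact complement)
-/

set_option autoImplicit false
universe u

open CategoryTheory Limits Opposite AlgebraicGeometry TopologicalSpace CochainComplex

attribute [local instance] HasDerivedCategory.standard

namespace Groth.Agent.Lib.Helper17.CoprodGammaZ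

open Groth.Agent.Lib.Helper17.MVAbs
open Groth.Agent.Lib.Helper17.PushCoh Groth.Agent.Lib.Helper17.PhiInd
open Groth.Agent.Lib.Helper17.CoprodMV Groth.Agent.Lib.Helper17.CoprodSES
open Groth.Agent.Lib.Helper17.HomologyCoprod Groth.Agent.Lib.Helper17.PushCoh2
open Groth.Agent.Lib.Helper17.RFTri Groth.Agent.Lib.Helper17.CoprodRpush
open Groth.Agent.Lib.Helper17.RGammaZ Groth.Agent.Lib.Helper17.RestrKInj

variable {X : Scheme.{u}} (W : X.Opens) {ι : Type u}
  (I : ι → CochainComplex X.Modules ℤ) (J : CochainComplex X.Modules ℤ) (g : ∀ i, I i ⟶ J)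

/-- restriction to an open preserves good complexes. -/
lemma good_restrict (K : CochainComplex X.Modules ℤ) (hK : Good K) :
    Good (Cx (Scheme.Modules.restrictFunctor W.ι) K) := by
  refine ⟨?_, fun n => ?_, fun n => ?_⟩
  · haveI := hK.kinj
    exact isKInjective_restrict W K
  · haveI := hK.inj n
    exact injective_restrict W (K.X n)
  · haveI := hK.qc n
    exact (SheafOfModules.isQuasicoherent (W : Scheme.{u}).ringCatSheaf).prop_of_iso
      (Groth.Agent.Lib.Helper17.HDU3.mapHCHomologyIso (Scheme.Modules.restrictFunctor W.ι) K n).symm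
      (Scheme.Modules.isQuasicoherent_restrictFunctor W.ι (K.homology n))

/-- the comparison map for `j_* j^*`. -/
theorem quasiIso_ψ_resPush [QuasiCompact W.ι] (hI : ∀ i, Good (I i)) (hJ : Good J)
    (hg : QuasiIso (Sigma.desc g)) : QuasiIso (ψ I J g (ZClos.resPush W)) := by
  haveI : PreservesColimit (Discrete.functor I)
      ((Scheme.Modules.restrictFunctor W.ι).mapHomologicalComplex (ComplexShape.up ℤ)) :=
    inferInstance
  haveI hiso := isIso_sigmaDesc_map
    ((Scheme.Modules.restrictFunctor W.ι).mapHomologicalComplex (ComplexShape.up ℤ)) I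
  have e := sigmaDesc_map_desc
    ((Scheme.Modules.restrictFunctor W.ι).mapHomologicalComplex (ComplexShape.up ℤ)) I g
  haveI := hg
  have hg' : QuasiIso (Sigma.desc (fun i =>
      ((Scheme.Modules.restrictFunctor W.ι).mapHomologicalComplex (ComplexShape.up ℤ)).map
        (g i))) := by
    rw [← e]
    infer_instance
  exact quasiIso_ψ_push W.ι (fun i => Cx (Scheme.Modules.restrictFunctor W.ι) (I i))
    (Cx (Scheme.Modules.restrictFunctor W.ι) J)
    (fun i => ((Scheme.Modules.restrictFunctor W.ι).mapHomologicalComplex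
      (ComplexShape.up ℤ)).map (g i))
    (fun i => good_restrict W (I i) (hI i)) (good_restrict W J hJ) hg'


/-- the comparison map for the identity functor. -/
lemma quasiIso_ψ_id (hg : QuasiIso (Sigma.desc g)) : QuasiIso (ψ I J g (𝟭 X.Modules)) := by
  let m : (∐ fun i => Cx (𝟭 X.Modules) (I i)) ⟶ ∐ I := Limits.Sigma.map (fun i =>
      (Functor.mapHomologicalComplexIdIso X.Modules (ComplexShape.up ℤ)).hom.app (I i))
  have hn : m ≫ Sigma.desc g = ψ I J g (𝟭 X.Modules) ≫
      (Functor.mapHomologicalComplexIdIso X.Modules (ComplexShape.up ℤ)).hom.app J := by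
    apply Sigma.hom_ext
    intro i
    rw [Sigma.ι_map_assoc, Sigma.ι_desc, ι_ψ_assoc]
    exact ((Functor.mapHomologicalComplexIdIso X.Modules (ComplexShape.up ℤ)).hom.naturality
      (g i)).symm
  haveI : IsIso m :=
    inferInstanceAs (IsIso (Sigma.mapIso (fun i =>
      (Functor.mapHomologicalComplexIdIso X.Modules (ComplexShape.up ℤ)).app (I i))).hom)
  haveI := hg
  have h : QuasiIso (ψ I J g (𝟭 X.Modules) ≫
      (Functor.mapHomologicalComplexIdIso X.Modules (ComplexShape.up ℤ)).hom.app J) := by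
    rw [← hn]
    infer_instance
  exact (quasiIso_iff_comp_right _ _).1 h

/-- **the comparison map for `Γ_Z`.** -/
theorem quasiIso_ψ_gammaZ [QuasiCompact W.ι] (hI : ∀ i, Good (I i)) (hJ : Good J)
    (hg : QuasiIso (Sigma.desc g)) : QuasiIso (ψ I J g (DCoh.gammaZ W.ι)) := by
  have w : CxOX.gammaZι W.ι ≫ ZClos.resPushUnit W = 0 := by
    ext M : 2
    exact kernel.condition _
  refine quasiIso_ψ_ses I J g (CxOX.gammaZι W.ι) (ZClos.resPushUnit W) w ?_ ?_
    (quasiIso_ψ_id I J g hg) (quasiIso_ψ_resPush W I J g hI hJ hg)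
  · intro i
    exact scCx_shortExact W (I i) (hI i).inj
  · exact scCx_shortExact W J hJ.inj


section transfer

universe v' u' v₂ u₂ w

variable {A : Type u'} [Category.{v'} A] [Abelian A] {B : Type u₂} [Category.{v₂} B] [Abelian B]
  {κ : Type w} [HasCoproductsOfShape κ B] [HasExactColimitsOfShape (Discrete κ) B]
  (I' : κ → CochainComplex A ℤ) (J' : CochainComplex A ℤ) (g' : ∀ i, I' i ⟶ J')

/-- the comparison map being a quasi-isomorphism is invariant under isomorphisms of functors. -/
lemma quasiIso_ψ_of_iso {Ψ Ψ' : A ⥤ B} [Ψ.Additive] [Ψ'.Additive] (θ : Ψ ≅ Ψ')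
    (h : QuasiIso (ψ I' J' g' Ψ')) : QuasiIso (ψ I' J' g' Ψ) := by
  have hn := ψ_naturality I' J' g' θ.hom
  haveI : IsIso (σmap I' θ.hom) := by
    refine ⟨σmap I' θ.inv, ?_, ?_⟩
    · rw [← σmap_comp, Iso.hom_inv_id, σmap_id]
    · rw [← σmap_comp, Iso.inv_hom_id, σmap_id]
  haveI : IsIso ((NatTrans.mapHomologicalComplex θ.hom (ComplexShape.up ℤ)).app J') := by
    haveI : IsIso (NatTrans.mapHomologicalComplex θ.hom (ComplexShape.up ℤ)) :=
      inferInstanceAs (IsIso (NatIso.mapHomologicalComplex θ (ComplexShape.up ℤ)).hom)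
    infer_instance
  haveI := h
  have e : ψ I' J' g' Ψ = σmap I' θ.hom ≫ ψ I' J' g' Ψ' ≫
      inv ((NatTrans.mapHomologicalComplex θ.hom (ComplexShape.up ℤ)).app J') := by
    rw [← Category.assoc, hn, Category.assoc, IsIso.hom_inv_id, Category.comp_id]
  rw [e]
  infer_instance

end transfer

/-- **`RΓ_Z` commutes with direct sums on `D_QCoh`** when the open complement is retrocompact. -/
theorem isIso_sigmaDesc_RgammaZ {U : Scheme.{u}} (j : U ⟶ X) [IsOpenImmersion j] [QuasiCompact j]
    [CxOX.HasRgammaZ j] (E : ι → DCoh.D X) (hE : ∀ i, DCoh.IsQCohD (E i)) [HasCoproduct E]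
    [HasCoproduct (fun i => (CxOX.RgammaZ j).obj (E i))] :
    IsIso (Sigma.desc (fun i => (CxOX.RgammaZ j).map (Sigma.ι E i))) := by
  haveI : QuasiCompact j.opensRange.ι := by
    rw [← Scheme.Hom.isoOpensRange_inv_comp j]
    infer_instance
  refine Groth.Agent.Lib.Helper17.CoprodRF.isIso_sigmaDesc_RF (DCoh.gammaZ j) ?_ E hE
  intro I J g hI hJ hg
  exact quasiIso_ψ_of_iso I J g (Groth.Agent.Lib.Helper17.GammaZRange.gammaZIsoRange j)
    (quasiIso_ψ_gammaZ j.opensRange I J g hI hJ hg)

end Groth.Agent.Lib.Helper17.CoprodGammaZ
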