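import Mathlib

/-!
# Abstract Mayer–Vietoris for a square of additive functors
-/

set_option autoImplicit false
universe v u v' u'

open CategoryTheory Limits

namespace Groth.Agent.Lib.Helper17.MVAbs

section five

variable {B : Type u} [Category.{v} B] [Abelian B]

/-- a class of objects closed under kernels, cokernels and extensions. -/
structure WeakSerre (P : ObjectProperty B) : Prop where
  iso : ∀ {M N : B}, (M ≅ N) → P M → P N
  ker : ∀ {M N : B} (φ : M ⟶ N), P M → P N → P (kernel φ)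
  coker : ∀ {M N : B} (φ : M ⟶ N), P M → P N → P (cokernel φ)
  ext : ∀ (S : ShortComplex B), S.ShortExact → P S.X₁ → P S.X₃ → P S.X₂

lemma WeakSerre.biprod {P : ObjectProperty B} (hP : WeakSerre P) {M N : B} (hM : P M) (hN : P N) :
    P (M ⊞ N) := by
  refine hP.ext (ShortComplex.mk (biprod.inl : M ⟶ M ⊞ N) biprod.snd (by simp)) ?_ hM hN
  exact (ShortComplex.Splitting.ofHasBinaryBiproduct M N).shortExact

/-- the middle term of a five term exact sequence. -/
lemma WeakSerre.of_five {P : ObjectProperty B} (hP : WeakSerre P) {X1 X2 X3 X4 X5 : B}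
    (a : X1 ⟶ X2) (b : X2 ⟶ X3) (c : X3 ⟶ X4) (d : X4 ⟶ X5)
    (w1 : a ≫ b = 0) (w2 : b ≫ c = 0) (w3 : c ≫ d = 0)
    (h1 : (ShortComplex.mk a b w1).Exact) (h2 : (ShortComplex.mk b c w2).Exact)
    (h3 : (ShortComplex.mk c d w3).Exact) (p1 : P X1) (p2 : P X2) (p4 : P X4) (p5 : P X5) :
    P X3 := by
  let b' : cokernel a ⟶ X3 := cokernel.desc a b w1
  let c' : X3 ⟶ kernel d := kernel.lift d c w3
  haveI : Mono b' := (ShortComplex.exact_iff_mono_cokernel_desc _).1 h1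
  haveI : Epi c' := (ShortComplex.exact_iff_epi_kernel_lift _).1 h3
  have w : b' ≫ c' = 0 := by
    rw [← cancel_epi (cokernel.π a), ← cancel_mono (kernel.ι d)]
    simp [b', c', w2]
  have w' : b' ≫ c = 0 := by
    rw [← cancel_epi (cokernel.π a)]
    simp [b', w2]
  let SA := ShortComplex.mk b c w2
  let SB := ShortComplex.mk b' c w'
  let SC := ShortComplex.mk b' c' w
  let φ : SA ⟶ SB :=
    { τ₁ := cokernel.π a
      τ₂ := 𝟙 _
      τ₃ := 𝟙 _
      comm₁₂ := by simp [SA, SB, b']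
      comm₂₃ := by simp [SA, SB] }
  let ψ : SC ⟶ SB :=
    { τ₁ := 𝟙 _
      τ₂ := 𝟙 _
      τ₃ := kernel.ι d
      comm₁₂ := by simp [SC, SB]
      comm₂₃ := by simp [SC, SB, c'] }
  haveI : Epi φ.τ₁ := inferInstanceAs (Epi (cokernel.π a))
  haveI : IsIso φ.τ₂ := inferInstanceAs (IsIso (𝟙 X3))
  haveI : Mono φ.τ₃ := inferInstanceAs (Mono (𝟙 X4))
  haveI : Epi ψ.τ₁ := inferInstanceAs (Epi (𝟙 (cokernel a)))
  haveI : IsIso ψ.τ₂ := inferInstanceAs (IsIso (𝟙 X3))
  haveI : Mono ψ.τ₃ := inferInstanceAs (Mono (kernel.ι d))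
  have hB : SB.Exact := (ShortComplex.exact_iff_of_epi_of_isIso_of_mono φ).1 h2
  have hC : SC.Exact := (ShortComplex.exact_iff_of_epi_of_isIso_of_mono ψ).2 hB
  have hSE : SC.ShortExact := { exact := hC, mono_f := ‹Mono b'›, epi_g := ‹Epi c'› }
  exact hP.ext SC hSE (hP.coker a p1 p2) (hP.ker d p4 p5)

end five

section sum

variable {A : Type u'} [Category.{v'} A] [Abelian A] {B : Type u} [Category.{v} B] [Abelian B]

/-- objectwise biproduct of two functors. -/
@[simps]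
noncomputable def Φsum (Φ1 Φ2 : A ⥤ B) : A ⥤ B where
  obj M := Φ1.obj M ⊞ Φ2.obj M
  map φ := biprod.map (Φ1.map φ) (Φ2.map φ)

instance (Φ1 Φ2 : A ⥤ B) [Φ1.Additive] [Φ2.Additive] : (Φsum Φ1 Φ2).Additive where
  map_add := by
    intro M N φ ψ
    show biprod.map (Φ1.map (φ + ψ)) (Φ2.map (φ + ψ)) =
      biprod.map (Φ1.map φ) (Φ2.map φ) + biprod.map (Φ1.map ψ) (Φ2.map ψ)
    apply biprod.hom_ext <;> simp [Functor.map_add]

variable {Φ Φ12 : A ⥤ B} (Φ1 Φ2 : A ⥤ B)

noncomputable def sumInl : Φ1 ⟶ Φsum Φ1 Φ2 where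
  app M := biprod.inl
  naturality := by
    intro M N φ
    exact (biprod.inl_map _ _).symm

noncomputable def sumInr : Φ2 ⟶ Φsum Φ1 Φ2 where
  app M := biprod.inr
  naturality := by
    intro M N φ
    exact (biprod.inr_map _ _).symm

noncomputable def sumFst : Φsum Φ1 Φ2 ⟶ Φ1 where
  app M := biprod.fst
  naturality := by
    intro M N φ
    exact biprod.map_fst _ _

noncomputable def sumSnd : Φsum Φ1 Φ2 ⟶ Φ2 where
  app M := biprod.snd
  naturality := by
    intro M N φ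
    exact biprod.map_snd _ _

variable {Φ1 Φ2}

noncomputable def sumLift (r1 : Φ ⟶ Φ1) (r2 : Φ ⟶ Φ2) : Φ ⟶ Φsum Φ1 Φ2 where
  app M := biprod.lift (r1.app M) (r2.app M)
  naturality := by
    intro M N φ
    show Φ.map φ ≫ biprod.lift (r1.app N) (r2.app N) =
      biprod.lift (r1.app M) (r2.app M) ≫ biprod.map (Φ1.map φ) (Φ2.map φ)
    apply biprod.hom_ext <;> simp

noncomputable def sumDesc (s1 : Φ1 ⟶ Φ12) (s2 : Φ2 ⟶ Φ12) : Φsum Φ1 Φ2 ⟶ Φ12 where
  app M := biprod.desc (s1.app M) (-(s2.app M))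
  naturality := by
    intro M N φ
    show biprod.map (Φ1.map φ) (Φ2.map φ) ≫ biprod.desc (s1.app N) (-(s2.app N)) =
      biprod.desc (s1.app M) (-(s2.app M)) ≫ Φ12.map φ
    apply biprod.hom_ext' <;> simp

lemma sumInl_app (M : A) : (sumInl Φ1 Φ2).app M = biprod.inl := rfl
lemma sumInr_app (M : A) : (sumInr Φ1 Φ2).app M = biprod.inr := rfl
lemma sumFst_app (M : A) : (sumFst Φ1 Φ2).app M = biprod.fst := rfl
lemma sumSnd_app (M : A) : (sumSnd Φ1 Φ2).app M = biprod.snd := rfl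
lemma sumLift_app (r1 : Φ ⟶ Φ1) (r2 : Φ ⟶ Φ2) (M : A) :
    (sumLift r1 r2).app M = biprod.lift (r1.app M) (r2.app M) := rfl
lemma sumDesc_app (s1 : Φ1 ⟶ Φ12) (s2 : Φ2 ⟶ Φ12) (M : A) :
    (sumDesc s1 s2).app M = biprod.desc (s1.app M) (-(s2.app M)) := rfl

lemma sumInl_fst : sumInl Φ1 Φ2 ≫ sumFst Φ1 Φ2 = 𝟙 Φ1 := by
  ext M
  exact biprod.inl_fst

lemma sumInr_snd : sumInr Φ1 Φ2 ≫ sumSnd Φ1 Φ2 = 𝟙 Φ2 := by
  ext M
  exact biprod.inr_snd

lemma sumInl_snd : sumInl Φ1 Φ2 ≫ sumSnd Φ1 Φ2 = (0 : Φ1 ⟶ Φ2) := by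
  ext M
  exact biprod.inl_snd

lemma sumInr_fst : sumInr Φ1 Φ2 ≫ sumFst Φ1 Φ2 = (0 : Φ2 ⟶ Φ1) := by
  ext M
  exact biprod.inr_fst

lemma sum_total : sumFst Φ1 Φ2 ≫ sumInl Φ1 Φ2 + sumSnd Φ1 Φ2 ≫ sumInr Φ1 Φ2 = 𝟙 (Φsum Φ1 Φ2) := by
  ext M
  exact biprod.total

lemma sumLift_desc (r1 : Φ ⟶ Φ1) (r2 : Φ ⟶ Φ2) (s1 : Φ1 ⟶ Φ12) (s2 : Φ2 ⟶ Φ12)
    (w : r1 ≫ s1 = r2 ≫ s2) : sumLift r1 r2 ≫ sumDesc s1 s2 = 0 := by
  ext M
  have h := congrArg (fun t => t.app M) w
  simp only [NatTrans.comp_app] at h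
  show biprod.lift (r1.app M) (r2.app M) ≫ biprod.desc (s1.app M) (-(s2.app M)) = 0
  rw [biprod.lift_desc, h]
  simp

end sum

section complexes

variable {A : Type u'} [Category.{v'} A] [Abelian A] {B : Type u} [Category.{v} B] [Abelian B]
  {Φ Φ1 Φ2 Φ12 : A ⥤ B} [Φ.Additive] [Φ1.Additive] [Φ2.Additive] [Φ12.Additive]
  (r1 : Φ ⟶ Φ1) (r2 : Φ ⟶ Φ2) (s1 : Φ1 ⟶ Φ12) (s2 : Φ2 ⟶ Φ12) (w : r1 ≫ s1 = r2 ≫ s2)

/-- the objectwise Mayer–Vietoris short complex. -/
noncomputable def mvObj (M : A) : ShortComplex B :=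
  ShortComplex.mk ((sumLift r1 r2).app M) ((sumDesc s1 s2).app M) (by
    rw [← NatTrans.comp_app, sumLift_desc r1 r2 s1 s2 w]
    rfl)

/-- `Φ` applied to a complex. -/
noncomputable abbrev Cx (Φ : A ⥤ B) [Φ.Additive] (I : CochainComplex A ℤ) : CochainComplex B ℤ :=
  (Φ.mapHomologicalComplex (ComplexShape.up ℤ)).obj I

/-- the Mayer–Vietoris short complex of complexes. -/
noncomputable def mvCx (I : CochainComplex A ℤ) : ShortComplex (CochainComplex B ℤ) :=
  ShortComplex.mk ((NatTrans.mapHomologicalComplex (sumLift r1 r2) (ComplexShape.up ℤ)).app I)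
    ((NatTrans.mapHomologicalComplex (sumDesc s1 s2) (ComplexShape.up ℤ)).app I) (by
    rw [← NatTrans.comp_app, ← NatTrans.mapHomologicalComplex_comp, sumLift_desc r1 r2 s1 s2 w]
    ext n
    rfl)

lemma mvCx_shortExact (I : CochainComplex A ℤ)
    (h : ∀ n, (mvObj r1 r2 s1 s2 w (I.X n)).ShortExact) : (mvCx r1 r2 s1 s2 w I).ShortExact :=
  HomologicalComplex.shortExact_of_degreewise_shortExact _ (fun n => h n)

/-- the homology of the sum is the sum of the homologies. -/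
noncomputable def homologySumIso (Φ1 Φ2 : A ⥤ B) [Φ1.Additive] [Φ2.Additive]
    (I : CochainComplex A ℤ) (p : ℤ) :
    (Cx (Φsum Φ1 Φ2) I).homology p ≅ (Cx Φ1 I).homology p ⊞ (Cx Φ2 I).homology p where
  hom := biprod.lift
    (HomologicalComplex.homologyMap
      ((NatTrans.mapHomologicalComplex (sumFst Φ1 Φ2) (ComplexShape.up ℤ)).app I) p)
    (HomologicalComplex.homologyMap
      ((NatTrans.mapHomologicalComplex (sumSnd Φ1 Φ2) (ComplexShape.up ℤ)).app I) p)
  inv := biprod.desc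
    (HomologicalComplex.homologyMap
      ((NatTrans.mapHomologicalComplex (sumInl Φ1 Φ2) (ComplexShape.up ℤ)).app I) p)
    (HomologicalComplex.homologyMap
      ((NatTrans.mapHomologicalComplex (sumInr Φ1 Φ2) (ComplexShape.up ℤ)).app I) p)
  hom_inv_id := by
    rw [biprod.lift_desc, ← HomologicalComplex.homologyMap_comp,
      ← HomologicalComplex.homologyMap_comp, ← HomologicalComplex.homologyMap_add,
      ← NatTrans.comp_app, ← NatTrans.comp_app, ← NatTrans.mapHomologicalComplex_comp,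
      ← NatTrans.mapHomologicalComplex_comp]
    have : (NatTrans.mapHomologicalComplex (sumFst Φ1 Φ2 ≫ sumInl Φ1 Φ2) (ComplexShape.up ℤ)).app I +
        (NatTrans.mapHomologicalComplex (sumSnd Φ1 Φ2 ≫ sumInr Φ1 Φ2) (ComplexShape.up ℤ)).app I =
        𝟙 _ := by
      ext n
      exact congrArg (fun t => t.app (I.X n)) (sum_total (Φ1 := Φ1) (Φ2 := Φ2))
    rw [this, HomologicalComplex.homologyMap_id]
  inv_hom_id := by
    apply biprod.hom_ext' <;> apply biprod.hom_ext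
    · rw [biprod.inl_desc_assoc, Category.assoc, biprod.lift_fst,
        ← HomologicalComplex.homologyMap_comp, ← NatTrans.comp_app,
        ← NatTrans.mapHomologicalComplex_comp, sumInl_fst, Category.comp_id, biprod.inl_fst,
        NatTrans.mapHomologicalComplex_id, NatTrans.id_app, HomologicalComplex.homologyMap_id]
    · rw [biprod.inl_desc_assoc, Category.assoc, biprod.lift_snd,
        ← HomologicalComplex.homologyMap_comp, ← NatTrans.comp_app,
        ← NatTrans.mapHomologicalComplex_comp, sumInl_snd, Category.comp_id, biprod.inl_snd]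
      have : (NatTrans.mapHomologicalComplex (0 : Φ1 ⟶ Φ2) (ComplexShape.up ℤ)).app I = 0 := by
        ext n
        rfl
      rw [this, HomologicalComplex.homologyMap_zero]
    · rw [biprod.inr_desc_assoc, Category.assoc, biprod.lift_fst,
        ← HomologicalComplex.homologyMap_comp, ← NatTrans.comp_app,
        ← NatTrans.mapHomologicalComplex_comp, sumInr_fst, Category.comp_id, biprod.inr_fst]
      have : (NatTrans.mapHomologicalComplex (0 : Φ2 ⟶ Φ1) (ComplexShape.up ℤ)).app I = 0 := by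
        ext n
        rfl
      rw [this, HomologicalComplex.homologyMap_zero]
    · rw [biprod.inr_desc_assoc, Category.assoc, biprod.lift_snd,
        ← HomologicalComplex.homologyMap_comp, ← NatTrans.comp_app,
        ← NatTrans.mapHomologicalComplex_comp, sumInr_snd, Category.comp_id, biprod.inr_snd,
        NatTrans.mapHomologicalComplex_id, NatTrans.id_app, HomologicalComplex.homologyMap_id]

variable {r1 r2 s1 s2 w}

/-- **Mayer–Vietoris**: a weak Serre class containing the cohomology of `Φ1 I`, `Φ2 I`, `Φ12 I`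
contains the cohomology of `Φ I`. -/
theorem mv_prop {P : ObjectProperty B} (hP : WeakSerre P) (I : CochainComplex A ℤ)
    (hSE : (mvCx r1 r2 s1 s2 w I).ShortExact)
    (h1 : ∀ p, P ((Cx Φ1 I).homology p)) (h2 : ∀ p, P ((Cx Φ2 I).homology p))
    (h12 : ∀ p, P ((Cx Φ12 I).homology p)) (p : ℤ) : P ((Cx Φ I).homology p) := by
  have hs : ∀ q, P ((Cx (Φsum Φ1 Φ2) I).homology q) := fun q =>
    hP.iso (homologySumIso Φ1 Φ2 I q).symm (hP.biprod (h1 q) (h2 q))
  have hp : (ComplexShape.up ℤ).Rel (p - 1) p := by simp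
  exact hP.of_five _ _ _ _ _ _ _ (hSE.homology_exact₃ (p - 1) p hp)
    (hSE.homology_exact₁ (p - 1) p hp) (hSE.homology_exact₂ p) (hs (p - 1)) (h12 (p - 1)) (hs p)
    (h12 p)

/-- **Mayer–Vietoris**, vanishing. -/
theorem mv_isZero (I : CochainComplex A ℤ) (hSE : (mvCx r1 r2 s1 s2 w I).ShortExact) (p : ℤ)
    (h1 : IsZero ((Cx Φ1 I).homology p)) (h2 : IsZero ((Cx Φ2 I).homology p))
    (h12 : IsZero ((Cx Φ12 I).homology (p - 1))) : IsZero ((Cx Φ I).homology p) := by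
  have hs : IsZero ((Cx (Φsum Φ1 Φ2) I).homology p) := by
    refine IsZero.of_iso ?_ (homologySumIso Φ1 Φ2 I p)
    rw [IsZero.iff_id_eq_zero]
    apply biprod.hom_ext
    · exact h1.eq_of_tgt _ _
    · exact h2.eq_of_tgt _ _
  have hp : (ComplexShape.up ℤ).Rel (p - 1) p := by simp
  exact (hSE.homology_exact₁ (p - 1) p hp).isZero_of_both_zeros (h12.eq_of_src _ _)
    (hs.eq_of_tgt _ _)

end complexes

end Groth.Agent.Lib.Helper17.MVAbs
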