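import Mathlib

/-!
# `quasiIso_τ₁` for morphisms of short exact sequences of cochain complexes
-/

set_option autoImplicit false

open CategoryTheory ComposableArrows Abelian HomologicalComplex HomologicalComplex.HomologySequence

namespace Groth.Agent.Lib.Helper17.QuasiIsoTau1

variable {C : Type*} [Category* C] [Abelian C]
  {S₁ S₂ : ShortComplex (CochainComplex C ℤ)} (φ : S₁ ⟶ S₂)
  (hS₁ : S₁.ShortExact) (hS₂ : S₂.ShortExact)

include hS₁ hS₂ in
lemma isIso_homologyMap_τ₁ (j : ℤ)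
    (h₂ : ∀ i, IsIso (homologyMap φ.τ₂ i)) (h₃ : ∀ i, IsIso (homologyMap φ.τ₃ i)) :
    IsIso (homologyMap φ.τ₁ j) := by
  have hij : (ComplexShape.up ℤ).Rel (j - 1) j := by simp
  have := h₂ (j - 1)
  have := h₃ (j - 1)
  have := h₂ j
  have := h₃ j
  exact isIso_of_epi_of_isIso_of_isIso_of_mono
    (composableArrows₅_exact hS₁ (j - 1) j hij).δ₀
    (composableArrows₅_exact hS₂ (j - 1) j hij).δ₀
    (δ₀Functor.map (mapComposableArrows₅ φ hS₁ hS₂ (j - 1) j hij))
    (by change Epi (homologyMap φ.τ₂ (j - 1)); infer_instance)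
    (by change IsIso (homologyMap φ.τ₃ (j - 1)); infer_instance)
    (by change IsIso (homologyMap φ.τ₂ j); infer_instance)
    (by change Mono (homologyMap φ.τ₃ j); infer_instance)

include hS₁ hS₂ in
theorem quasiIso_τ₁ (h₂ : QuasiIso φ.τ₂) (h₃ : QuasiIso φ.τ₃) : QuasiIso φ.τ₁ := by
  rw [quasiIso_iff]
  intro i
  rw [quasiIsoAt_iff_isIso_homologyMap]
  apply isIso_homologyMap_τ₁ φ hS₁ hS₂
  all_goals intro i; infer_instance

end Groth.Agent.Lib.Helper17.QuasiIsoTau1
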