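import Groth.Agent.Lib.Helper17.HomologyColim
import Groth.Agent.Lib.Helper17.QuasiIsoTau1
import Groth.Agent.Lib.Helper17.CoprodExact
import Groth.Agent.Lib.Helper17.MVAbs

/-!
# Mayer–Vietoris for the comparison `∐ Ψ(I_i) ⟶ Ψ(J)`
-/

set_option autoImplicit false
universe w v' u' v u

open CategoryTheory Limits

namespace Groth.Agent.Lib.Helper17.CoprodMV

open Groth.Agent.Lib.Helper17.MVAbs Groth.Agent.Lib.Helper17.CoprodExact

section iso

variable {C : Type*} [Category C] [Preadditive C]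

/-- a morphism compatible with sum decompositions of source and target, with isomorphisms on the
summands, is an isomorphism. -/
lemma isIso_of_sum {T T' T1 T1' T2 T2' : C} (a : T ⟶ T') (a1 : T1 ⟶ T1') (a2 : T2 ⟶ T2')
    (f1 : T ⟶ T1) (f2 : T ⟶ T2) (l1 : T1 ⟶ T) (l2 : T2 ⟶ T)
    (f1' : T' ⟶ T1') (f2' : T' ⟶ T2') (l1' : T1' ⟶ T') (l2' : T2' ⟶ T')
    (htot : f1 ≫ l1 + f2 ≫ l2 = 𝟙 T) (htot' : f1' ≫ l1' + f2' ≫ l2' = 𝟙 T')
    (c1 : a ≫ f1' = f1 ≫ a1) (c2 : a ≫ f2' = f2 ≫ a2)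
    (d1 : l1 ≫ a = a1 ≫ l1') (d2 : l2 ≫ a = a2 ≫ l2') [IsIso a1] [IsIso a2] : IsIso a := by
  refine ⟨f1' ≫ inv a1 ≫ l1 + f2' ≫ inv a2 ≫ l2, ?_, ?_⟩
  · rw [Preadditive.comp_add, reassoc_of% c1, reassoc_of% c2, IsIso.hom_inv_id_assoc,
      IsIso.hom_inv_id_assoc, htot]
  · rw [Preadditive.add_comp, Category.assoc, Category.assoc, Category.assoc, Category.assoc,
      d1, d2, IsIso.inv_hom_id_assoc, IsIso.inv_hom_id_assoc, htot']

end iso

section abstract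

variable {A : Type u'} [Category.{v'} A] [Abelian A] {B : Type u} [Category.{v} B] [Abelian B]
  {ι : Type w} [HasCoproductsOfShape ι B] [HasExactColimitsOfShape (Discrete ι) B]
  (I : ι → CochainComplex A ℤ) (J : CochainComplex A ℤ) (g : ∀ i, I i ⟶ J)

/-- the comparison map `∐ Ψ(I_i) ⟶ Ψ(J)`. -/
noncomputable def ψ (Ψ : A ⥤ B) [Ψ.Additive] : (∐ fun i => Cx Ψ (I i)) ⟶ Cx Ψ J :=
  Sigma.desc (fun i => (Ψ.mapHomologicalComplex (ComplexShape.up ℤ)).map (g i))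

@[reassoc (attr := simp)]
lemma ι_ψ (Ψ : A ⥤ B) [Ψ.Additive] (i : ι) :
    Sigma.ι (fun i => Cx Ψ (I i)) i ≫ ψ I J g Ψ =
      (Ψ.mapHomologicalComplex (ComplexShape.up ℤ)).map (g i) :=
  Sigma.ι_desc _ _

/-- the map induced by a natural transformation on the coproducts. -/
noncomputable def σmap {Ψ Ψ' : A ⥤ B} [Ψ.Additive] [Ψ'.Additive] (ρ : Ψ ⟶ Ψ') :
    (∐ fun i => Cx Ψ (I i)) ⟶ ∐ fun i => Cx Ψ' (I i) :=
  Limits.Sigma.map (fun i => (NatTrans.mapHomologicalComplex ρ (ComplexShape.up ℤ)).app (I i))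

lemma ψ_naturality {Ψ Ψ' : A ⥤ B} [Ψ.Additive] [Ψ'.Additive] (ρ : Ψ ⟶ Ψ') :
    σmap I ρ ≫ ψ I J g Ψ' =
      ψ I J g Ψ ≫ (NatTrans.mapHomologicalComplex ρ (ComplexShape.up ℤ)).app J := by
  apply Sigma.hom_ext
  intro i
  rw [σmap, Sigma.ι_map_assoc, ι_ψ, ι_ψ_assoc]
  exact ((NatTrans.mapHomologicalComplex ρ (ComplexShape.up ℤ)).naturality (g i)).symm

lemma σmap_comp {Ψ Ψ' Ψ'' : A ⥤ B} [Ψ.Additive] [Ψ'.Additive] [Ψ''.Additive] (ρ : Ψ ⟶ Ψ')
    (ρ' : Ψ' ⟶ Ψ'') : σmap I (ρ ≫ ρ') = σmap I ρ ≫ σmap I ρ' := by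
  apply Sigma.hom_ext
  intro i
  simp only [σmap, Sigma.ι_map, Sigma.ι_map_assoc]
  rw [NatTrans.mapHomologicalComplex_comp, NatTrans.comp_app, Category.assoc]

lemma σmap_id (Ψ : A ⥤ B) [Ψ.Additive] : σmap I (𝟙 Ψ) = 𝟙 _ := by
  apply Sigma.hom_ext
  intro i
  simp only [σmap, Sigma.ι_map, Category.comp_id]
  rw [NatTrans.mapHomologicalComplex_id, NatTrans.id_app, Category.id_comp]

lemma σmap_add {Ψ Ψ' : A ⥤ B} [Ψ.Additive] [Ψ'.Additive] (ρ ρ' : Ψ ⟶ Ψ') :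
    σmap I (ρ + ρ') = σmap I ρ + σmap I ρ' := by
  apply Sigma.hom_ext
  intro i
  simp only [σmap, Sigma.ι_map, Preadditive.comp_add]
  rw [← Preadditive.add_comp]
  congr 1

lemma σmap_zero {Ψ Ψ' : A ⥤ B} [Ψ.Additive] [Ψ'.Additive] :
    σmap I (0 : Ψ ⟶ Ψ') = 0 := by
  apply Sigma.hom_ext
  intro i
  simp only [σmap, Sigma.ι_map, comp_zero]
  have : (NatTrans.mapHomologicalComplex (0 : Ψ ⟶ Ψ') (ComplexShape.up ℤ)).app (I i) = 0 := by
    ext n
    rfl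
  rw [this, zero_comp]

section sum

variable {Φ1 Φ2 : A ⥤ B} [Φ1.Additive] [Φ2.Additive]

lemma quasiIso_ψ_sum (h1 : QuasiIso (ψ I J g Φ1)) (h2 : QuasiIso (ψ I J g Φ2)) :
    QuasiIso (ψ I J g (Φsum Φ1 Φ2)) := by
  rw [quasiIso_iff]
  intro n
  rw [quasiIsoAt_iff_isIso_homologyMap]
  haveI : IsIso (HomologicalComplex.homologyMap (ψ I J g Φ1) n) := inferInstance
  haveI : IsIso (HomologicalComplex.homologyMap (ψ I J g Φ2) n) := inferInstance
  refine isIso_of_sum (HomologicalComplex.homologyMap (ψ I J g (Φsum Φ1 Φ2)) n)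
    (HomologicalComplex.homologyMap (ψ I J g Φ1) n) (HomologicalComplex.homologyMap (ψ I J g Φ2) n)
    (HomologicalComplex.homologyMap (σmap I (sumFst Φ1 Φ2)) n)
    (HomologicalComplex.homologyMap (σmap I (sumSnd Φ1 Φ2)) n)
    (HomologicalComplex.homologyMap (σmap I (sumInl Φ1 Φ2)) n)
    (HomologicalComplex.homologyMap (σmap I (sumInr Φ1 Φ2)) n)
    (HomologicalComplex.homologyMap
      ((NatTrans.mapHomologicalComplex (sumFst Φ1 Φ2) (ComplexShape.up ℤ)).app J) n)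
    (HomologicalComplex.homologyMap
      ((NatTrans.mapHomologicalComplex (sumSnd Φ1 Φ2) (ComplexShape.up ℤ)).app J) n)
    (HomologicalComplex.homologyMap
      ((NatTrans.mapHomologicalComplex (sumInl Φ1 Φ2) (ComplexShape.up ℤ)).app J) n)
    (HomologicalComplex.homologyMap
      ((NatTrans.mapHomologicalComplex (sumInr Φ1 Φ2) (ComplexShape.up ℤ)).app J) n)
    ?_ ?_ ?_ ?_ ?_ ?_
  · rw [← HomologicalComplex.homologyMap_comp, ← HomologicalComplex.homologyMap_comp,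
      ← HomologicalComplex.homologyMap_add, ← σmap_comp, ← σmap_comp, ← σmap_add, sum_total,
      σmap_id, HomologicalComplex.homologyMap_id]
  · rw [← HomologicalComplex.homologyMap_comp, ← HomologicalComplex.homologyMap_comp,
      ← HomologicalComplex.homologyMap_add, ← NatTrans.comp_app, ← NatTrans.comp_app,
      ← NatTrans.mapHomologicalComplex_comp, ← NatTrans.mapHomologicalComplex_comp]
    have : (NatTrans.mapHomologicalComplex (sumFst Φ1 Φ2 ≫ sumInl Φ1 Φ2) (ComplexShape.up ℤ)).app J +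
        (NatTrans.mapHomologicalComplex (sumSnd Φ1 Φ2 ≫ sumInr Φ1 Φ2) (ComplexShape.up ℤ)).app J =
        𝟙 _ := by
      ext n
      exact congrArg (fun t => t.app (J.X n)) (sum_total (Φ1 := Φ1) (Φ2 := Φ2))
    rw [this, HomologicalComplex.homologyMap_id]
  · rw [← HomologicalComplex.homologyMap_comp, ← HomologicalComplex.homologyMap_comp,
      ψ_naturality]
  · rw [← HomologicalComplex.homologyMap_comp, ← HomologicalComplex.homologyMap_comp,
      ψ_naturality]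
  · rw [← HomologicalComplex.homologyMap_comp, ← HomologicalComplex.homologyMap_comp,
      ψ_naturality]
  · rw [← HomologicalComplex.homologyMap_comp, ← HomologicalComplex.homologyMap_comp,
      ψ_naturality]

end sum

section mv

variable {Φ Φ1 Φ2 Φ12 : A ⥤ B} [Φ.Additive] [Φ1.Additive] [Φ2.Additive] [Φ12.Additive]
  (r1 : Φ ⟶ Φ1) (r2 : Φ ⟶ Φ2) (s1 : Φ1 ⟶ Φ12) (s2 : Φ2 ⟶ Φ12) (w : r1 ≫ s1 = r2 ≫ s2)

/-- the coproduct of the Mayer–Vietoris sequences. -/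
noncomputable def mvSigma : ShortComplex (CochainComplex B ℤ) :=
  ShortComplex.mk (σmap I (sumLift r1 r2)) (σmap I (sumDesc s1 s2)) (by
    rw [← σmap_comp, sumLift_desc r1 r2 s1 s2 w, σmap_zero])

lemma mvSigma_shortExact (h : ∀ i, (mvCx r1 r2 s1 s2 w (I i)).ShortExact) :
    (mvSigma I r1 r2 s1 s2 w).ShortExact := by
  let S := fun i => mvCx r1 r2 s1 s2 w (I i)
  have hex : (Stilde S).Exact := Stilde_exact S (fun i => (h i).exact)
  haveI : Mono (Stilde S).f := by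
    apply (config := { allowSynthFailures := true }) NatTrans.mono_of_mono_app
    rintro ⟨i⟩
    exact (h i).mono_f
  haveI : Epi (Stilde S).g := by
    apply (config := { allowSynthFailures := true }) NatTrans.epi_of_epi_app
    rintro ⟨i⟩
    exact (h i).epi_g
  have hse : (Stilde S).ShortExact := ShortComplex.ShortExact.mk hex
  exact hse.map_of_exact (colim : (Discrete ι ⥤ CochainComplex B ℤ) ⥤ CochainComplex B ℤ)

/-- the morphism of Mayer–Vietoris sequences. -/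
noncomputable def mvφ : mvSigma I r1 r2 s1 s2 w ⟶ mvCx r1 r2 s1 s2 w J where
  τ₁ := ψ I J g Φ
  τ₂ := ψ I J g (Φsum Φ1 Φ2)
  τ₃ := ψ I J g Φ12
  comm₁₂ := (ψ_naturality I J g (sumLift r1 r2)).symm
  comm₂₃ := (ψ_naturality I J g (sumDesc s1 s2)).symm

/-- **Mayer–Vietoris for the comparison map.** -/
theorem quasiIso_ψ_mv (hI : ∀ i, (mvCx r1 r2 s1 s2 w (I i)).ShortExact)
    (hJ : (mvCx r1 r2 s1 s2 w J).ShortExact) (h1 : QuasiIso (ψ I J g Φ1))
    (h2 : QuasiIso (ψ I J g Φ2)) (h12 : QuasiIso (ψ I J g Φ12)) : QuasiIso (ψ I J g Φ) :=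
  Groth.Agent.Lib.Helper17.QuasiIsoTau1.quasiIso_τ₁ (mvφ I J g r1 r2 s1 s2 w)
    (mvSigma_shortExact I r1 r2 s1 s2 w hI) hJ (quasiIso_ψ_sum I J g h1 h2) h12

end mv

end abstract

end Groth.Agent.Lib.Helper17.CoprodMV
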