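import Groth.Agent.Lib.Helper17.SecFun
import Groth.Agent.Lib.Helper17.ZClosLib

/-!
# The functors `M ↦ (f_* j_* j^* M)|_{V₀}` for opens `W ⊆ X`
-/

set_option autoImplicit false
universe u

open CategoryTheory Limits Opposite AlgebraicGeometry TopologicalSpace CochainComplex

namespace Groth.Agent.Lib.Helper17.PhiW

open Groth.Agent.Lib.Helper17.SG7 Groth.Agent.Lib.Helper17.QcSec Groth.Agent.Lib.Helper17.SecGlue
open Groth.Agent.Lib.Helper17.SecFun

variable {X S : Scheme.{u}} (f : X ⟶ S) (V₀ : S.Opens)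

/-- `M ↦ (f_* j_* j^* M)|_{V₀}` for `j : W ⟶ X` the inclusion of an open. -/
noncomputable def ΦW (W : X.Opens) : X.Modules ⥤ V₀.toScheme.Modules :=
  ZClos.resPush W ⋙ Scheme.Modules.pushforward f ⋙ Scheme.Modules.restrictFunctor V₀.ι

instance (W : X.Opens) : (ΦW f V₀ W).Additive := by
  unfold ΦW
  infer_instance

instance (W : X.Opens) : PreservesFiniteLimits (ΦW f V₀ W) := by
  unfold ΦW
  infer_instance

/-- the open over which the sections of `ΦW` are taken. -/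
def uW (W : X.Opens) (V : V₀.toScheme.Opens) : X.Opens := W.ι ''ᵁ W.ι ⁻¹ᵁ f ⁻¹ᵁ V₀.ι ''ᵁ V

lemma uW_eq (W : X.Opens) (V : V₀.toScheme.Opens) : uW f V₀ W V = W ⊓ f ⁻¹ᵁ V₀.ι ''ᵁ V :=
  ZClos.ι_image_preimage _ _

lemma uW_mono (W : X.Opens) {V' V : V₀.toScheme.Opens} (h : V' ≤ V) :
    uW f V₀ W V' ≤ uW f V₀ W V := by
  rw [uW_eq, uW_eq]
  refine inf_le_inf_left _ ?_
  exact (Opens.map f.base).monotone (Scheme.Hom.image_mono _ h)

/-- the equivalence on sections. -/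
noncomputable def eW (W : X.Opens) (V : V₀.toScheme.Opens) (M : X.Modules) :
    ((schemeGens V₀.toScheme).G V ⟶ (ΦW f V₀ W).obj M) ≃ ((schemeGens X).G (uW f V₀ W V) ⟶ M) :=
  (sec V₀.toScheme V _).trans (sec X (uW f V₀ W V) M).symm

lemma sec_eW (W : X.Opens) (V : V₀.toScheme.Opens) (M : X.Modules)
    (σ : (schemeGens V₀.toScheme).G V ⟶ (ΦW f V₀ W).obj M) :
    sec X (uW f V₀ W V) M (eW f V₀ W V M σ) = sec V₀.toScheme V _ σ :=
  Equiv.apply_symm_apply _ _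

/-- the section data of `ΦW`. -/
noncomputable def secData (W : X.Opens) : SecData (ΦW f V₀ W) where
  u := uW f V₀ W
  mono := uW_mono f V₀ W
  e := eW f V₀ W
  he := by
    intro V M N σ φ
    apply (sec X (uW f V₀ W V) N).injective
    refine (sec_eW f V₀ W V N _).trans ?_
    refine (sec_comp V₀.toScheme V σ _).trans ?_
    refine Eq.trans ?_ (sec_comp X (uW f V₀ W V) (eW f V₀ W V M σ) φ).symm
    refine Eq.trans ?_ (congrArg _ (sec_eW f V₀ W V M σ).symm)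
    rfl
  hadd := by
    intro V M σ τ
    apply (sec X (uW f V₀ W V) M).injective
    refine (sec_eW f V₀ W V M _).trans ?_
    refine (sec_add V₀.toScheme V _ σ τ).trans ?_
    refine Eq.trans ?_ (sec_add X (uW f V₀ W V) M _ _).symm
    exact congrArg₂ (· + ·) (sec_eW f V₀ W V M σ).symm (sec_eW f V₀ W V M τ).symm

/-- the transition maps. -/
noncomputable def resΦ {W W' : X.Opens} (h : W' ≤ W) : ΦW f V₀ W ⟶ ΦW f V₀ W' :=
  Functor.whiskerRight (ZClos.resPushMap h)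
    (Scheme.Modules.pushforward f ⋙ Scheme.Modules.restrictFunctor V₀.ι)

lemma uW_anti {W W' : X.Opens} (h : W' ≤ W) (V : V₀.toScheme.Opens) :
    uW f V₀ W' V ≤ uW f V₀ W V := ZClos.resPush_le h _

lemma resΦ_app_app {W W' : X.Opens} (h : W' ≤ W) (M : X.Modules) (V : V₀.toScheme.Opens) :
    ((resΦ f V₀ h).app M).app V = M.presheaf.map (homOfLE (uW_anti f V₀ h V)).op :=
  ZClos.resPushMapApp_app h M _

lemma res_secData {W W' : X.Opens} (h : W' ≤ W) :
    (secData f V₀ W).Res (secData f V₀ W') (resΦ f V₀ h) where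
  le := uW_anti f V₀ h
  comm := by
    intro V M σ
    apply (sec X (uW f V₀ W' V) M).injective
    refine (sec_eW f V₀ W' V M _).trans ?_
    refine (sec_comp V₀.toScheme V σ _).trans ?_
    refine Eq.trans ?_ (sec_res X M (homOfLE (uW_anti f V₀ h V)) _).symm
    refine Eq.trans ?_ (congrArg _ (sec_eW f V₀ W V M σ).symm)
    exact congrArg (fun t => (ConcreteCategory.hom t) (sec V₀.toScheme V _ σ))
      (resΦ_app_app f V₀ h M V)

lemma resΦ_comp {W W' W'' : X.Opens} (h : W' ≤ W) (h' : W'' ≤ W') :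
    resΦ f V₀ h ≫ resΦ f V₀ h' = resΦ f V₀ (h'.trans h) := by
  ext M : 2
  have h1 : (resΦ f V₀ h ≫ resΦ f V₀ h').app M =
      (Scheme.Modules.pushforward f ⋙ Scheme.Modules.restrictFunctor V₀.ι).map
        (ZClos.resPushMapApp h M ≫ ZClos.resPushMapApp h' M) :=
    ((Scheme.Modules.pushforward f ⋙ Scheme.Modules.restrictFunctor V₀.ι).map_comp _ _).symm
  exact h1.trans (congrArg _ (ZClos.resPushMapApp_comp h h' M))

section mv

variable (W1 W2 : X.Opens)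

lemma mv_w : resΦ f V₀ (le_sup_left : W1 ≤ W1 ⊔ W2) ≫ resΦ f V₀ (inf_le_left : W1 ⊓ W2 ≤ W1) =
    resΦ f V₀ (le_sup_right : W2 ≤ W1 ⊔ W2) ≫ resΦ f V₀ (inf_le_right : W1 ⊓ W2 ≤ W2) := by
  rw [resΦ_comp, resΦ_comp]

open Groth.Agent.Lib.Helper17.MVAbs in
/-- **Mayer–Vietoris** for a complex of injective modules. -/
theorem mv_shortExact (I : CochainComplex X.Modules ℤ) (hI : ∀ n, Injective (I.X n)) :
    (mvCx _ _ _ _ (mv_w f V₀ W1 W2) I).ShortExact := by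
  apply mvCx_shortExact
  intro n
  haveI := hI n
  refine mvObj_shortExact (secData f V₀ (W1 ⊔ W2)) (secData f V₀ W1) (secData f V₀ W2)
    (secData f V₀ (W1 ⊓ W2)) (res_secData f V₀ _) (res_secData f V₀ _) (res_secData f V₀ _)
    (res_secData f V₀ _) (mv_w f V₀ W1 W2) ?_ ?_ (I.X n)
  · intro V
    show uW f V₀ (W1 ⊔ W2) V ≤ uW f V₀ W1 V ⊔ uW f V₀ W2 V
    rw [uW_eq, uW_eq, uW_eq, inf_sup_right]
  · intro V
    show uW f V₀ W1 V ⊓ uW f V₀ W2 V ≤ uW f V₀ (W1 ⊓ W2) V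
    rw [uW_eq, uW_eq, uW_eq]
    exact le_inf (le_inf (inf_le_left.trans inf_le_left) (inf_le_right.trans inf_le_left))
      (inf_le_left.trans inf_le_right)

end mv

section base

variable {f V₀}

lemma isAffineOpen_uW (hV₀ : IsAffineOpen V₀) {W : X.Opens} (hW : IsAffineOpen W)
    (hWV : W ≤ f ⁻¹ᵁ V₀) (V : V₀.toScheme.Opens) (hV : IsAffineOpen V) :
    IsAffineOpen (uW f V₀ W V) := by
  haveI : IsAffine W.toScheme := hW
  haveI : IsAffine V₀.toScheme := hV₀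
  have h1 : IsAffineOpen ((f.resLE V₀ W hWV) ⁻¹ᵁ V) := hV.preimage _
  have h2 : IsAffineOpen (W.ι ''ᵁ ((f.resLE V₀ W hWV) ⁻¹ᵁ V)) := h1.image_of_isOpenImmersion W.ι
  have h3 : (f.resLE V₀ W hWV) ⁻¹ᵁ V = W.ι ⁻¹ᵁ f ⁻¹ᵁ V₀.ι ''ᵁ V := by
    have h4 : (f.resLE V₀ W hWV ≫ V₀.ι) ⁻¹ᵁ (V₀.ι ''ᵁ V) = (W.ι ≫ f) ⁻¹ᵁ (V₀.ι ''ᵁ V) := by
      rw [Scheme.Hom.resLE_comp_ι]
    rw [Scheme.Hom.comp_preimage, Scheme.Hom.comp_preimage, Scheme.Hom.preimage_image_eq] at h4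
    exact h4
  rw [h3] at h2
  exact h2

/-- for `W` affine in `f⁻¹ V₀`, `ΦW` is the direct image along the morphism of affine schemes
`W ⟶ V₀`. -/
noncomputable def ΦWIso {W : X.Opens} (hWV : W ≤ f ⁻¹ᵁ V₀) (N : X.Modules) :
    (ΦW f V₀ W).obj N ≅
      (Scheme.Modules.pushforward (f.resLE V₀ W hWV)).obj
        ((Scheme.Modules.restrictFunctor W.ι).obj N) :=
  (Scheme.Modules.restrictFunctor V₀.ι).mapIso
      ((Scheme.Modules.pushforwardComp W.ι f).app _ ≪≫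
        (Scheme.Modules.pushforwardCongr (Scheme.Hom.resLE_comp_ι f hWV).symm).app _ ≪≫
        (Scheme.Modules.pushforwardComp (f.resLE V₀ W hWV) V₀.ι).symm.app _) ≪≫
    (Scheme.Modules.restrictFunctorAdjCounitIso V₀.ι).app _

lemma isQuasicoherent_ΦW (hV₀ : IsAffineOpen V₀) {W : X.Opens} (hW : IsAffineOpen W)
    (hWV : W ≤ f ⁻¹ᵁ V₀) (N : X.Modules) [N.IsQuasicoherent] :
    ((ΦW f V₀ W).obj N).IsQuasicoherent := by
  haveI : IsAffine W.toScheme := hW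
  haveI : IsAffine V₀.toScheme := hV₀
  exact (SheafOfModules.isQuasicoherent V₀.toScheme.ringCatSheaf).prop_of_iso (ΦWIso hWV N).symm
    (Groth.Agent.Lib.Helper29.QCoh.isQuasicoherent_pushforward_of_qcqs _ _)

end base

end Groth.Agent.Lib.Helper17.PhiW
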