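import Groth.Agent.Lib.Helper17.TildePush
import Groth.Agent.Lib.Helper17.PhiW
import Groth.Agent.Lib.Helper29.QCohQcqs

/-!
# Direct images along morphisms of affine schemes commute with coproducts of quasi-coherent modules
-/

set_option autoImplicit false
universe u

open CategoryTheory Limits AlgebraicGeometry

namespace Groth.Agent.Lib.Helper17.CoprodPush

open Groth.Agent.Lib.Helper17.TildePush Groth.Agent.Lib.Helper17.PhiW

section spec

variable {R S : CommRingCat.{u}} (φ : R ⟶ S)

lemma preservesColimit_pushforward_tilde {ι : Type u} (N : ι → ModuleCat.{u} S) :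
    PreservesColimit (Discrete.functor (fun i => (tilde.functor S).obj (N i)))
      (Scheme.Modules.pushforward (Spec.map φ)) := by
  let K : Discrete ι ⥤ ModuleCat.{u} S := Discrete.functor N
  have hc := colimit.isColimit K
  have h1 : IsColimit ((tilde.functor S).mapCocone (colimit.cocone K)) :=
    isColimitOfPreserves _ hc
  haveI : PreservesColimit K (ModuleCat.restrictScalars φ.hom ⋙ tilde.functor R) := inferInstance
  haveI : PreservesColimit K (tilde.functor S ⋙ Scheme.Modules.pushforward (Spec.map φ)) :=
    preservesColimit_of_natIso K (tildePushIso φ).symm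
  have h2 : IsColimit ((tilde.functor S ⋙ Scheme.Modules.pushforward (Spec.map φ)).mapCocone
      (colimit.cocone K)) := isColimitOfPreserves _ hc
  haveI : PreservesColimit (K ⋙ tilde.functor S) (Scheme.Modules.pushforward (Spec.map φ)) :=
    preservesColimit_of_preserves_colimit_cocone h1 h2
  exact preservesColimit_of_iso_diagram _ (Discrete.compNatIsoDiscrete N (tilde.functor S))

end spec

section iso

variable {X Y : Scheme.{u}} (b : X ≅ Y)

/-- the direct image along an isomorphism is an equivalence. -/
noncomputable def pushEquiv : X.Modules ≌ Y.Modules :=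
  CategoryTheory.Equivalence.mk (Scheme.Modules.pushforward b.hom) (Scheme.Modules.pushforward b.inv)
    ((Scheme.Modules.pushforwardId X).symm ≪≫
      Scheme.Modules.pushforwardCongr b.hom_inv_id.symm ≪≫
      (Scheme.Modules.pushforwardComp b.hom b.inv).symm)
    (Scheme.Modules.pushforwardComp b.inv b.hom ≪≫
      Scheme.Modules.pushforwardCongr b.inv_hom_id ≪≫ Scheme.Modules.pushforwardId Y)

instance : (Scheme.Modules.pushforward b.hom).IsEquivalence :=
  (pushEquiv b).isEquivalence_functor

end iso

section affine

variable {W V : Scheme.{u}} [IsAffine W] [IsAffine V] (h : W ⟶ V)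

lemma preservesColimit_pushforward_affine {ι : Type u} (M : ι → W.Modules)
    [∀ i, (M i).IsQuasicoherent] :
    PreservesColimit (Discrete.functor M) (Scheme.Modules.pushforward h) := by
  let a := W.isoSpec
  let b := V.isoSpec
  let φ := h.appTop
  have hnat : a.hom ≫ Spec.map φ = h ≫ b.hom := Scheme.isoSpec_hom_naturality h
  -- the modules on `Spec Γ(W)`
  let M' : ι → (Spec Γ(W, ⊤)).Modules := fun i => (Scheme.Modules.pushforward a.hom).obj (M i)
  haveI : ∀ i, (M' i).IsQuasicoherent := fun i =>
    Groth.Agent.Lib.Helper29.QCoh.isQuasicoherent_pushforward_of_qcqs a.hom (M i)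
  have hess : ∀ i, (tilde.functor Γ(W, ⊤)).essImage (M' i) := fun i => by
    rw [essImage_tilde]
    exact (inferInstance : (M' i).IsQuasicoherent)
  let N : ι → ModuleCat.{u} Γ(W, ⊤) := fun i => (hess i).witness
  have e : ∀ i, (tilde.functor Γ(W, ⊤)).obj (N i) ≅ M' i := fun i => (hess i).getIso
  haveI := preservesColimit_pushforward_tilde φ N
  let eD : Discrete.functor (fun i => (tilde.functor Γ(W, ⊤)).obj (N i)) ≅ Discrete.functor M' :=
    Discrete.natIso (fun i => e i.as)
  have hM' : PreservesColimit (Discrete.functor M') (Scheme.Modules.pushforward (Spec.map φ)) :=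
    preservesColimit_of_iso_diagram _ eD
  haveI : PreservesColimit (Discrete.functor ((Scheme.Modules.pushforward a.hom).obj ∘ M))
      (Scheme.Modules.pushforward (Spec.map φ)) := hM'
  haveI : PreservesColimit (Discrete.functor M ⋙ Scheme.Modules.pushforward a.hom)
      (Scheme.Modules.pushforward (Spec.map φ)) :=
    preservesColimit_of_iso_diagram _
      (Discrete.compNatIsoDiscrete M (Scheme.Modules.pushforward a.hom)).symm
  haveI : PreservesColimit (Discrete.functor M)
      (Scheme.Modules.pushforward a.hom ⋙ Scheme.Modules.pushforward (Spec.map φ)) :=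
    inferInstance
  let eF : Scheme.Modules.pushforward a.hom ⋙ Scheme.Modules.pushforward (Spec.map φ) ≅
      Scheme.Modules.pushforward h ⋙ Scheme.Modules.pushforward b.hom :=
    Scheme.Modules.pushforwardComp a.hom (Spec.map φ) ≪≫ Scheme.Modules.pushforwardCongr hnat ≪≫
      (Scheme.Modules.pushforwardComp h b.hom).symm
  haveI : PreservesColimit (Discrete.functor M)
      (Scheme.Modules.pushforward h ⋙ Scheme.Modules.pushforward b.hom) :=
    preservesColimit_of_natIso _ eF
  exact preservesColimit_of_reflects_of_preserves (Scheme.Modules.pushforward h)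
    (Scheme.Modules.pushforward b.hom)

end affine

section PhiW

variable {X S : Scheme.{u}} {f : X ⟶ S} {V₀ : S.Opens}

/-- `ΦW` as a direct image, functorially. -/
noncomputable def ΦWNatIso {W : X.Opens} (hWV : W ≤ f ⁻¹ᵁ V₀) :
    ΦW f V₀ W ≅ Scheme.Modules.restrictFunctor W.ι ⋙
      Scheme.Modules.pushforward (f.resLE V₀ W hWV) :=
  NatIso.ofComponents (fun N => ΦWIso hWV N) (by
    intro M N φ
    let A := (Scheme.Modules.restrictFunctor W.ι).map φ
    let α : ∀ T : W.toScheme.Modules,
        (Scheme.Modules.pushforward f).obj ((Scheme.Modules.pushforward W.ι).obj T) ⟶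
          (Scheme.Modules.pushforward V₀.ι).obj
            ((Scheme.Modules.pushforward (f.resLE V₀ W hWV)).obj T) := fun T =>
      (Scheme.Modules.pushforwardComp W.ι f).hom.app T ≫
        (Scheme.Modules.pushforwardCongr (Scheme.Hom.resLE_comp_ι f hWV).symm).hom.app T ≫
        (Scheme.Modules.pushforwardComp (f.resLE V₀ W hWV) V₀.ι).inv.app T
    have key : (Scheme.Modules.pushforward f).map ((Scheme.Modules.pushforward W.ι).map A) ≫
        α _ = α _ ≫ (Scheme.Modules.pushforward V₀.ι).map
          ((Scheme.Modules.pushforward (f.resLE V₀ W hWV)).map A) := by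
      have h1 := ((Scheme.Modules.pushforwardComp W.ι f).hom).naturality A
      have h2 := ((Scheme.Modules.pushforwardCongr
        (Scheme.Hom.resLE_comp_ι f hWV).symm).hom).naturality A
      have h3 := ((Scheme.Modules.pushforwardComp (f.resLE V₀ W hWV) V₀.ι).inv).naturality A
      dsimp only [α]
      rw [← Category.assoc, ← Category.assoc]
      erw [h1]
      rw [Category.assoc, Category.assoc]
      erw [reassoc_of% h2, h3]
      simp only [Category.assoc]
      rfl
    have h4 := ((Scheme.Modules.restrictFunctorAdjCounitIso V₀.ι).hom).naturality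
      ((Scheme.Modules.pushforward (f.resLE V₀ W hWV)).map A)
    have final : (Scheme.Modules.restrictFunctor V₀.ι).map
          ((Scheme.Modules.pushforward f).map ((Scheme.Modules.pushforward W.ι).map A)) ≫
        ((Scheme.Modules.restrictFunctor V₀.ι).map (α ((Scheme.Modules.restrictFunctor W.ι).obj N)) ≫
          (Scheme.Modules.restrictFunctorAdjCounitIso V₀.ι).hom.app
            ((Scheme.Modules.pushforward (f.resLE V₀ W hWV)).obj
              ((Scheme.Modules.restrictFunctor W.ι).obj N))) =
        ((Scheme.Modules.restrictFunctor V₀.ι).map (α ((Scheme.Modules.restrictFunctor W.ι).obj M)) ≫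
          (Scheme.Modules.restrictFunctorAdjCounitIso V₀.ι).hom.app
            ((Scheme.Modules.pushforward (f.resLE V₀ W hWV)).obj
              ((Scheme.Modules.restrictFunctor W.ι).obj M))) ≫
          (Scheme.Modules.pushforward (f.resLE V₀ W hWV)).map A := by
      rw [← Category.assoc, ← Functor.map_comp, key, Functor.map_comp, Category.assoc,
        Category.assoc]
      congr 1
    exact final)

/-- **`ΦW` commutes with coproducts of quasi-coherent modules for `W` affine over `V₀` affine.** -/
theorem preservesColimit_ΦW (hV₀ : IsAffineOpen V₀) {W : X.Opens} (hW : IsAffineOpen W)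
    (hWV : W ≤ f ⁻¹ᵁ V₀) {ι : Type u} (M : ι → X.Modules) [∀ i, (M i).IsQuasicoherent] :
    PreservesColimit (Discrete.functor M) (ΦW f V₀ W) := by
  haveI : IsAffine W.toScheme := hW
  haveI : IsAffine V₀.toScheme := hV₀
  let M' : ι → W.toScheme.Modules := fun i => (Scheme.Modules.restrictFunctor W.ι).obj (M i)
  haveI : ∀ i, (M' i).IsQuasicoherent := fun i => inferInstance
  have h1 := preservesColimit_pushforward_affine (f.resLE V₀ W hWV) M'
  haveI : PreservesColimit (Discrete.functor ((Scheme.Modules.restrictFunctor W.ι).obj ∘ M))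
      (Scheme.Modules.pushforward (f.resLE V₀ W hWV)) := h1
  haveI : PreservesColimit (Discrete.functor M ⋙ Scheme.Modules.restrictFunctor W.ι)
      (Scheme.Modules.pushforward (f.resLE V₀ W hWV)) :=
    preservesColimit_of_iso_diagram _
      (Discrete.compNatIsoDiscrete M (Scheme.Modules.restrictFunctor W.ι)).symm
  haveI : PreservesColimit (Discrete.functor M)
      (Scheme.Modules.restrictFunctor W.ι ⋙ Scheme.Modules.pushforward (f.resLE V₀ W hWV)) :=
    inferInstance
  exact preservesColimit_of_natIso _ (ΦWNatIso hWV).symm

end PhiW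

end Groth.Agent.Lib.Helper17.CoprodPush
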