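import Groth.Agent.Lib.Helper17.HomologyColim

/-!
# Homology commutes with exact coproducts
-/

set_option autoImplicit false

open CategoryTheory CategoryTheory.Limits HomologicalComplex

namespace Groth.Agent.Lib.Helper17.HomologyCoprod

universe u v w w'

variable {C : Type u} [Category.{v} C] [Abelian C] {κ : Type w'} [HasCoproductsOfShape κ C]
  [HasExactColimitsOfShape (Discrete κ) C] {ι : Type w} {c : ComplexShape ι}
  (K : κ → HomologicalComplex C c) (n : ι)

/-- the comparison `∐ H(K_i) ⟶ H(∐ K_i)`. -/
noncomputable def sigmaHomology : (∐ fun i => (K i).homology n) ⟶ (∐ K).homology n :=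
  Sigma.desc (fun i => homologyMap (Sigma.ι K i) n)

@[reassoc (attr := simp)]
lemma ι_sigmaHomology (i : κ) :
    Sigma.ι (fun i => (K i).homology n) i ≫ sigmaHomology K n = homologyMap (Sigma.ι K i) n :=
  Sigma.ι_desc _ _

instance isIso_sigmaHomology : IsIso (sigmaHomology K n) := by
  haveI : PreservesColimitsOfShape (Discrete κ) (homologyFunctor C c n) :=
    Groth.Agent.Lib.Helper17.HomologyColim.preservesColimitsOfShape_homologyFunctor n
  have hc : IsColimit (Cofan.mk ((∐ K).homology n) (fun i => homologyMap (Sigma.ι K i) n)) :=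
    isColimitCofanMkObjOfIsColimit (homologyFunctor C c n) K _ (coproductIsCoproduct _)
  let e := IsColimit.coconePointUniqueUpToIso
    (coproductIsCoproduct (fun i => (K i).homology n)) hc
  have h : e.hom = sigmaHomology K n := by
    apply Sigma.hom_ext
    intro i
    rw [ι_sigmaHomology]
    exact IsColimit.comp_coconePointUniqueUpToIso_hom
      (coproductIsCoproduct (fun i => (K i).homology n)) hc ⟨i⟩
  rw [← h]
  infer_instance

variable {K} {L : HomologicalComplex C c} (h : ∀ i, K i ⟶ L)

lemma sigmaHomology_map_desc :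
    sigmaHomology K n ≫ homologyMap (Sigma.desc h) n =
      Sigma.desc (fun i => homologyMap (h i) n) := by
  apply Sigma.hom_ext
  intro i
  rw [ι_sigmaHomology_assoc, Sigma.ι_desc, ← homologyMap_comp, Sigma.ι_desc]

lemma isIso_homologyMap_desc_iff :
    IsIso (homologyMap (Sigma.desc h) n) ↔ IsIso (Sigma.desc (fun i => homologyMap (h i) n)) := by
  rw [← sigmaHomology_map_desc]
  constructor
  · intro _
    infer_instance
  · intro _
    exact IsIso.of_isIso_comp_left (sigmaHomology K n) _

section general

variable {C' : Type*} [Category C'] {D' : Type*} [Category D'] (G : C' ⥤ D') {κ' : Type*}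
  (M : κ' → C') [HasCoproduct M] [HasCoproduct fun i => G.obj (M i)]
  [PreservesColimit (Discrete.functor M) G]

lemma isIso_sigmaDesc_map : IsIso (Sigma.desc (fun i => G.map (Sigma.ι M i))) := by
  have hc : IsColimit (Cofan.mk (G.obj (∐ M)) (fun i => G.map (Sigma.ι M i))) :=
    isColimitCofanMkObjOfIsColimit G M _ (coproductIsCoproduct _)
  let e := IsColimit.coconePointUniqueUpToIso (coproductIsCoproduct (fun i => G.obj (M i))) hc
  have h : e.hom = Sigma.desc (fun i => G.map (Sigma.ι M i)) := by
    apply Sigma.hom_ext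
    intro i
    rw [Sigma.ι_desc]
    exact IsColimit.comp_coconePointUniqueUpToIso_hom
      (coproductIsCoproduct (fun i => G.obj (M i))) hc ⟨i⟩
  rw [← h]
  infer_instance

lemma sigmaDesc_map_desc {T : C'} (h : ∀ i, M i ⟶ T) :
    Sigma.desc (fun i => G.map (Sigma.ι M i)) ≫ G.map (Sigma.desc h) =
      Sigma.desc (fun i => G.map (h i)) := by
  apply Sigma.hom_ext
  intro i
  rw [Sigma.ι_desc_assoc, Sigma.ι_desc, ← G.map_comp, Sigma.ι_desc]

end general

end Groth.Agent.Lib.Helper17.HomologyCoprod
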