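import Groth.Agent.Lib.Helper17.RGammaZ

/-!
# The adjunction `j^* ⊣ Rj_*` for an open immersion: counit and unit
-/

set_option autoImplicit false
universe u

open CategoryTheory Limits Opposite AlgebraicGeometry TopologicalSpace CochainComplex

attribute [local instance] HasDerivedCategory.standard

namespace Groth.Agent.Lib.Helper17.OpenAdj

open Groth.Agent.Lib.Helper17.PushCoh Groth.Agent.Lib.Helper17.PushCoh2
open Groth.Agent.Lib.Helper17.DerAbs Groth.Agent.Lib.Helper17.DerKInj
open Groth.Agent.Lib.Helper17.RFTri Groth.Agent.Lib.Helper17.SuppRes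
open Groth.Agent.Lib.Helper17.MVGamma Pretriangulated

variable {U X : Scheme.{u}} (j : U ⟶ X) [IsOpenImmersion j]

/-- `j_* ; j^* ≅ 𝟭` on homotopy categories, composed with `Qh`. -/
noncomputable def τiso : DCoh.pushKh j ⋙ DCoh.restrictD j ≅
    (DerivedCategory.Qh : HomotopyCategory U.Modules (ComplexShape.up ℤ) ⥤ _) :=
  Functor.associator _ _ _ ≪≫
    Functor.isoWhiskerLeft _ (Scheme.Modules.restrictFunctor j).mapDerivedCategoryFactorsh ≪≫
    (Functor.associator _ _ _).symm ≪≫
    Functor.isoWhiskerRight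
      (Functor.mapHomotopyCategoryCompIso (Scheme.Modules.restrictFunctorAdjCounitIso j)
        (ComplexShape.up ℤ) ≪≫
        Quotient.natIsoLift _ (Functor.isoWhiskerRight
          (Functor.mapHomologicalComplexIdIso U.Modules (ComplexShape.up ℤ))
          (HomotopyCategory.quotient _ _) ≪≫ Functor.leftUnitor _ ≪≫
          (Functor.rightUnitor _).symm))
      DerivedCategory.Qh ≪≫
    Functor.leftUnitor _

variable [DCoh.HasRpush j]

/-- **`(Rj_* F)|_U ≅ F`, naturally in `F`.** -/
noncomputable def RpushRestrictIso : DCoh.Rpush j ⋙ DCoh.restrictD j ≅ 𝟭 (DCoh.D U) := by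
  haveI := isRightDerivedFunctor_comp (enoughLocal_Qh (hA U)) (compat_Qh _) (DCoh.Rpush j)
    (Groth.Agent.Lib.Helper17.RpushRes.unitR j) (DCoh.restrictD j)
  haveI : (𝟭 (DCoh.D U)).IsRightDerivedFunctor
      (Functor.rightUnitor (DerivedCategory.Qh :
        HomotopyCategory U.Modules (ComplexShape.up ℤ) ⥤ _)).inv
      (HomotopyCategory.quasiIso U.Modules (ComplexShape.up ℤ)) :=
    Functor.isRightDerivedFunctor_of_inverts _ _ _
  exact Functor.rightDerivedNatIso _ _
    (Functor.whiskerRight (Groth.Agent.Lib.Helper17.RpushRes.unitR j) (DCoh.restrictD j) ≫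
      (Functor.associator _ _ _).hom)
    (Functor.rightUnitor (DerivedCategory.Qh :
        HomotopyCategory U.Modules (ComplexShape.up ℤ) ⥤ _)).inv
    (HomotopyCategory.quasiIso U.Modules (ComplexShape.up ℤ)) (τiso j)

/-- the counit of any adjunction `j^* ⊣ Rj_*` is an isomorphism. -/
theorem isIso_counit (adj : DCoh.restrictD j ⊣ DCoh.Rpush j) : IsIso adj.counit :=
  adj.isIso_counit_of_iso (RpushRestrictIso j)


omit [DCoh.HasRpush j] in
/-- points off the support stay off the support after restriction. -/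
lemma not_mem_support_restrictD (K : DCoh.D X) (i : ℤ) (y : U)
    (h : j.base y ∉ CohB1.support (DCoh.HD K i)) :
    y ∉ CohB1.support (DCoh.HD ((DCoh.restrictD j).obj K) i) := by
  have hs : Subsingleton ((DCoh.HD K i).presheaf.stalk (j.base y)) := by
    by_contra hc
    exact h hc
  intro hy
  apply hy
  have e1 := (Groth.Agent.Lib.Helper29.QCoh.stalkFunctor U y).mapIso
    (Groth.Agent.Lib.Helper28.DCohRes.HDresDIso j K i)
  have e2 := Groth.Agent.Lib.Helper29.QCoh.restrictStalkIso j (DCoh.HD K i) y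
  exact (e1 ≪≫ e2).addCommGroupIsoToAddEquiv.toEquiv.subsingleton

omit [IsOpenImmersion j] [DCoh.HasRpush j] in
/-- vanishing in `D(O_X)` is local. -/
lemma isZero_of_locally (C : DCoh.D X)
    (h : ∀ x : X, ∃ (V : Scheme.{u}) (k : V ⟶ X) (_ : IsOpenImmersion k),
      x ∈ Set.range k.base ∧ IsZero ((DCoh.restrictD k).obj C)) : IsZero C := by
  apply isZero_of_HD
  intro i
  apply Groth.Agent.Lib.Helper28.DCohRes.isZero_of_locally
  intro x
  obtain ⟨V, k, hk, hx, hz⟩ := h x
  refine ⟨V, k, hk, hx, ?_⟩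
  exact IsZero.of_iso ((DerivedCategory.homologyFunctor _ i).map_isZero hz)
    (Groth.Agent.Lib.Helper28.DCohRes.HDresDIso k C i).symm

omit [IsOpenImmersion j] [DCoh.HasRpush j] in
/-- being an isomorphism in `D(O_X)` is local. -/
lemma isIso_of_locally {M N : DCoh.D X} (φ : M ⟶ N)
    (h : ∀ x : X, ∃ (V : Scheme.{u}) (k : V ⟶ X) (_ : IsOpenImmersion k),
      x ∈ Set.range k.base ∧ IsIso ((DCoh.restrictD k).map φ)) : IsIso φ := by
  obtain ⟨C, b, c, hT⟩ := Pretriangulated.distinguished_cocone_triangle φ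
  refine (Triangle.isZero₃_iff_isIso₁ _ hT).1 ?_
  show IsZero C
  apply isZero_of_locally
  intro x
  obtain ⟨V, k, hk, hx, hiso⟩ := h x
  refine ⟨V, k, hk, hx, ?_⟩
  have hT' := (DCoh.restrictD k).map_distinguished _ hT
  exact (Triangle.isZero₃_iff_isIso₁ _ hT').2 hiso

/-- **the unit `M ⟶ Rj_* j^* M` is an isomorphism when the cohomology of `M` is supported in a
closed subset contained in the image of `j`.** -/
theorem isIso_unit_of_support (adj : DCoh.restrictD j ⊣ DCoh.Rpush j) (M : DCoh.D X) (T : Set X)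
    (hT : IsClosed T) (hTj : T ⊆ Set.range j.base)
    (hM : ∀ i : ℤ, CohB1.support (DCoh.HD M i) ⊆ T) : IsIso (adj.unit.app M) := by
  haveI := isIso_counit j adj
  apply isIso_of_locally
  intro x
  by_cases hx : x ∈ Set.range j.base
  · refine ⟨U, j, inferInstance, hx, ?_⟩
    have h := adj.left_triangle_components M
    haveI : IsIso ((DCoh.restrictD j).map (adj.unit.app M) ≫
        adj.counit.app ((DCoh.restrictD j).obj M)) := by
      rw [h]
      exact IsIso.id _
    exact IsIso.of_isIso_comp_right _ (adj.counit.app ((DCoh.restrictD j).obj M))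
  · let W : X.Opens := complOpen T hT
    have hxW : x ∈ W := fun hxT => hx (hTj hxT)
    refine ⟨W, W.ι, inferInstance, by rw [Scheme.Opens.range_ι]; exact hxW, ?_⟩
    have h1 : IsZero ((DCoh.restrictD W.ι).obj M) :=
      isZero_restrictD M W (fun i y hy hs => hy (hM i hs))
    have h2 : IsZero ((DCoh.restrictD W.ι).obj ((DCoh.Rpush j).obj ((DCoh.restrictD j).obj M))) := by
      obtain ⟨θ⟩ := Groth.Agent.Lib.Helper17.RpushRes.nonempty_iso j W
      have h0 : IsZero ((DCoh.restrictD (j ⁻¹ᵁ W).ι).obj ((DCoh.restrictD j).obj M)) :=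
        isZero_restrictD _ (j ⁻¹ᵁ W) (fun i y hy =>
          not_mem_support_restrictD j M i y (fun hs => hy (hM i hs)))
      have h3 : IsZero ((DCoh.Rpush (j ∣_ W)).obj
          ((DCoh.restrictD (j ⁻¹ᵁ W).ι).obj ((DCoh.restrictD j).obj M))) :=
        isZero_Rpush_obj _ _ h0
      have e : (DCoh.restrictD W.ι).obj ((DCoh.Rpush j).obj ((DCoh.restrictD j).obj M)) ≅
          (DCoh.Rpush (j ∣_ W)).obj
            ((DCoh.restrictD (j ⁻¹ᵁ W).ι).obj ((DCoh.restrictD j).obj M)) :=
        θ.app ((DCoh.restrictD j).obj M)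
      exact h3.of_iso e
    exact ⟨0, h1.eq_of_src _ _, h2.eq_of_src _ _⟩

end Groth.Agent.Lib.Helper17.OpenAdj
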