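import Groth.Agent.Lib.Helper17.CoprodMV
import Groth.Agent.Lib.Helper17.HomologyCoprod
import Groth.Agent.Lib.Helper17.CoprodPush
import Groth.Agent.Lib.Helper17.RpushQC
import Groth.Agent.S0484
import Groth.Agent.Lib.Helper17.OpenAdj

/-!
# `Rf_*` commutes with direct sums on `D_QCoh`
-/

set_option autoImplicit false
universe u

open CategoryTheory Limits Opposite AlgebraicGeometry TopologicalSpace CochainComplex

namespace Groth.Agent.Lib.Helper17.CoprodRpush

open Groth.Agent.Lib.Helper17.SecFun Groth.Agent.Lib.Helper17.PhiW Groth.Agent.Lib.Helper17.MVAbs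
open Groth.Agent.Lib.Helper17.PushCoh Groth.Agent.Lib.Helper17.PhiInd
open Groth.Agent.Lib.Helper17.CoprodMV Groth.Agent.Lib.Helper17.CoprodPush
open Groth.Agent.Lib.Helper17.HomologyCoprod

instance grothendieck (X : Scheme.{u}) : IsGrothendieckAbelian.{u} X.Modules :=
  Groth.Agent.S0484.result (Opens.grothendieckTopology X) X.ringCatSheaf

variable {X S : Scheme.{u}} (f : X ⟶ S) (V₀ : S.Opens) {ι : Type u}
  (I : ι → CochainComplex X.Modules ℤ) (J : CochainComplex X.Modules ℤ) (g : ∀ i, I i ⟶ J)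

example : HasCoproductsOfShape ι X.Modules := inferInstance
example : HasExactColimitsOfShape (Discrete ι) X.Modules := inferInstance

/-- base case. -/
theorem quasiIso_ψ_base (hV₀ : IsAffineOpen V₀) {W : X.Opens} (hW : IsAffineOpen W)
    (hWV : W ≤ f ⁻¹ᵁ V₀) (hI : ∀ i, Good (I i)) (hJ : Good J) (hg : QuasiIso (Sigma.desc g)) :
    QuasiIso (ψ I J g (ΦW f V₀ W)) := by
  have key : ∀ K : CochainComplex X.Modules ℤ, Good K → ∀ p, IsIso (cmp (ΦW f V₀ W) K p) := by
    intro K hK p
    haveI := hK.kinj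
    exact isIso_cmp (secData f V₀ W) (fun V hV => isAffineOpen_uW hV₀ hW hWV V hV) K hK.qc p
  rw [quasiIso_iff]
  intro n
  rw [quasiIsoAt_iff_isIso_homologyMap]
  change IsIso (HomologicalComplex.homologyMap (Sigma.desc (fun i =>
    ((ΦW f V₀ W).mapHomologicalComplex (ComplexShape.up ℤ)).map (g i))) n)
  rw [isIso_homologyMap_desc_iff]
  -- step 2: reduce to `d2`
  let d1 : (∐ fun i => (Cx (ΦW f V₀ W) (I i)).homology n) ⟶ (Cx (ΦW f V₀ W) J).homology n :=
    Sigma.desc (fun i => HomologicalComplex.homologyMap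
      (((ΦW f V₀ W).mapHomologicalComplex (ComplexShape.up ℤ)).map (g i)) n)
  let d2 : (∐ fun i => (ΦW f V₀ W).obj ((I i).homology n)) ⟶ (ΦW f V₀ W).obj (J.homology n) :=
    Sigma.desc (fun i => (ΦW f V₀ W).map (HomologicalComplex.homologyMap (g i) n))
  have h2 : d1 ≫ cmp (ΦW f V₀ W) J n =
      Limits.Sigma.map (fun i => cmp (ΦW f V₀ W) (I i) n) ≫ d2 := by
    apply Sigma.hom_ext
    intro i
    rw [Sigma.ι_desc_assoc, Sigma.ι_map_assoc, Sigma.ι_desc]
    exact cmp_naturality (ΦW f V₀ W) (g i) n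
  haveI : ∀ i, IsIso (cmp (ΦW f V₀ W) (I i) n) := fun i => key _ (hI i) n
  haveI : IsIso (cmp (ΦW f V₀ W) J n) := key _ hJ n
  haveI : IsIso (Limits.Sigma.map (fun i => cmp (ΦW f V₀ W) (I i) n)) :=
    inferInstanceAs (IsIso (Sigma.mapIso (fun i => asIso (cmp (ΦW f V₀ W) (I i) n))).hom)
  suffices hd2 : IsIso d2 by
    haveI := hd2
    haveI : IsIso (d1 ≫ cmp (ΦW f V₀ W) J n) := by
      rw [h2]; infer_instance
    exact IsIso.of_isIso_comp_right d1 (cmp (ΦW f V₀ W) J n)
  -- step 3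
  haveI : ∀ i, ((fun i => (I i).homology n) i).IsQuasicoherent := fun i => (hI i).qc n
  haveI := preservesColimit_ΦW (f := f) hV₀ hW hWV (fun i => (I i).homology n)
  have h3 : Sigma.desc (fun i => (ΦW f V₀ W).map (Sigma.ι (fun i => (I i).homology n) i)) ≫
      (ΦW f V₀ W).map (Sigma.desc (fun i => HomologicalComplex.homologyMap (g i) n)) = d2 :=
    sigmaDesc_map_desc _ _ _
  haveI : IsIso (HomologicalComplex.homologyMap (Sigma.desc g) n) := by
    have := hg
    rw [quasiIso_iff] at this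
    exact (quasiIsoAt_iff_isIso_homologyMap _ _).1 (this n)
  haveI : IsIso (Sigma.desc (fun i => HomologicalComplex.homologyMap (g i) n)) :=
    (isIso_homologyMap_desc_iff n g).1 inferInstance
  haveI := isIso_sigmaDesc_map (ΦW f V₀ W) (fun i => (I i).homology n)
  rw [← h3]
  infer_instance


/-- Mayer–Vietoris step. -/
theorem quasiIso_ψ_mvW (W1 W2 : X.Opens) (hI : ∀ i, Good (I i)) (hJ : Good J)
    (h1 : QuasiIso (ψ I J g (ΦW f V₀ W1))) (h2 : QuasiIso (ψ I J g (ΦW f V₀ W2)))
    (h12 : QuasiIso (ψ I J g (ΦW f V₀ (W1 ⊓ W2)))) :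
    QuasiIso (ψ I J g (ΦW f V₀ (W1 ⊔ W2))) :=
  quasiIso_ψ_mv I J g (resΦ f V₀ le_sup_left) (resΦ f V₀ le_sup_right) (resΦ f V₀ inf_le_left)
    (resΦ f V₀ inf_le_right) (mv_w f V₀ W1 W2)
    (fun i => mv_shortExact f V₀ W1 W2 (I i) (hI i).inj) (mv_shortExact f V₀ W1 W2 J hJ.inj)
    h1 h2 h12

/-- induction. -/
theorem quasiIso_ψ_preimage [QuasiCompact f] [QuasiSeparated f] (hV₀ : IsAffineOpen V₀)
    (hI : ∀ i, Good (I i)) (hJ : Good J) (hg : QuasiIso (Sigma.desc g)) :
    QuasiIso (ψ I J g (ΦW f V₀ (f ⁻¹ᵁ V₀))) := by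
  let X₀ : X.Opens := f ⁻¹ᵁ V₀
  haveI : CompactSpace X₀ := isCompact_iff_compactSpace.1 (f.isCompact_preimage hV₀.isCompact)
  haveI : QuasiSeparatedSpace X₀ :=
    (isQuasiSeparated_iff_quasiSeparatedSpace _ X₀.2).1
      (f.isQuasiSeparated_preimage hV₀.isQuasiSeparated)
  have h := Groth.Agent.Lib.Helper8.QcqsInduction.main X₀.toScheme
    (fun W' => QuasiIso (ψ I J g (ΦW f V₀ (X₀.ι ''ᵁ W'))))
    (fun U hU => quasiIso_ψ_base f V₀ I J g hV₀ (hU.image_of_isOpenImmersion X₀.ι)
      (X₀.ι_image_le U) hI hJ hg)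
    (fun U V _ _ hPU hPV hPUV => by
      rw [image_sup']
      rw [image_inf'] at hPUV
      exact quasiIso_ψ_mvW f V₀ I J g _ _ hI hJ hPU hPV hPUV)
    ⊤ isCompact_univ
  rw [Scheme.Opens.ι_image_top] at h
  exact h

/-- transfer to `f_*` restricted to `V₀`. -/
theorem quasiIso_ψ_pushRes [QuasiCompact f] [QuasiSeparated f] (hV₀ : IsAffineOpen V₀)
    (hI : ∀ i, Good (I i)) (hJ : Good J) (hg : QuasiIso (Sigma.desc g)) :
    QuasiIso (ψ I J g (Scheme.Modules.pushforward f ⋙ Scheme.Modules.restrictFunctor V₀.ι)) := by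
  have h := quasiIso_ψ_preimage f V₀ I J g hV₀ hI hJ hg
  have hn := ψ_naturality I J g (Groth.Agent.Lib.Helper17.RpushQC.τ f V₀)
  haveI : IsIso (σmap I (Groth.Agent.Lib.Helper17.RpushQC.τ f V₀)) := by
    refine ⟨σmap I (inv (Groth.Agent.Lib.Helper17.RpushQC.τ f V₀)), ?_, ?_⟩
    · rw [← σmap_comp, IsIso.hom_inv_id, σmap_id]
    · rw [← σmap_comp, IsIso.inv_hom_id, σmap_id]
  haveI : IsIso ((NatTrans.mapHomologicalComplex (Groth.Agent.Lib.Helper17.RpushQC.τ f V₀)
      (ComplexShape.up ℤ)).app J) := by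
    haveI : IsIso (NatTrans.mapHomologicalComplex (Groth.Agent.Lib.Helper17.RpushQC.τ f V₀)
        (ComplexShape.up ℤ)) :=
      inferInstanceAs (IsIso (NatIso.mapHomologicalComplex
        (asIso (Groth.Agent.Lib.Helper17.RpushQC.τ f V₀)) (ComplexShape.up ℤ)).hom)
    infer_instance
  haveI := h
  have e : ψ I J g (Scheme.Modules.pushforward f ⋙ Scheme.Modules.restrictFunctor V₀.ι) =
      σmap I (Groth.Agent.Lib.Helper17.RpushQC.τ f V₀) ≫ ψ I J g (ΦW f V₀ (f ⁻¹ᵁ V₀)) ≫
        inv ((NatTrans.mapHomologicalComplex (Groth.Agent.Lib.Helper17.RpushQC.τ f V₀)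
      (ComplexShape.up ℤ)).app J) := by
    rw [← Category.assoc, hn, Category.assoc, IsIso.hom_inv_id, Category.comp_id]
  rw [e]
  infer_instance


attribute [local instance] HasDerivedCategory.standard

/-- locality on the base. -/
theorem quasiIso_ψ_push [QuasiCompact f] [QuasiSeparated f]
    (hI : ∀ i, Good (I i)) (hJ : Good J) (hg : QuasiIso (Sigma.desc g)) :
    QuasiIso (ψ I J g (Scheme.Modules.pushforward f)) := by
  rw [← DerivedCategory.isIso_Q_map_iff_quasiIso]
  apply Groth.Agent.Lib.Helper17.OpenAdj.isIso_of_locally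
  intro x
  obtain ⟨V₀, hV₀, hxV⟩ := Groth.Agent.Lib.Helper17.RpushQC.exists_affine_nhd x
  refine ⟨V₀.toScheme, V₀.ι, inferInstance, by rw [Scheme.Opens.range_ι]; exact hxV, ?_⟩
  have h := quasiIso_ψ_pushRes f V₀ I J g hV₀ hI hJ hg
  have hnat := (Scheme.Modules.restrictFunctor V₀.ι).mapDerivedCategoryFactors.hom.naturality
    (ψ I J g (Scheme.Modules.pushforward f))
  -- the chain-level statement
  haveI : PreservesColimit (Discrete.functor (fun i => Cx (Scheme.Modules.pushforward f) (I i)))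
      ((Scheme.Modules.restrictFunctor V₀.ι).mapHomologicalComplex (ComplexShape.up ℤ)) :=
    inferInstance
  haveI hiso := isIso_sigmaDesc_map
    ((Scheme.Modules.restrictFunctor V₀.ι).mapHomologicalComplex (ComplexShape.up ℤ))
    (fun i => Cx (Scheme.Modules.pushforward f) (I i))
  have e : Sigma.desc (fun i =>
      ((Scheme.Modules.restrictFunctor V₀.ι).mapHomologicalComplex (ComplexShape.up ℤ)).map
        (Sigma.ι (fun i => Cx (Scheme.Modules.pushforward f) (I i)) i)) ≫
      ((Scheme.Modules.restrictFunctor V₀.ι).mapHomologicalComplex (ComplexShape.up ℤ)).map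
        (ψ I J g (Scheme.Modules.pushforward f)) =
      ψ I J g (Scheme.Modules.pushforward f ⋙ Scheme.Modules.restrictFunctor V₀.ι) := by
    apply Sigma.hom_ext
    intro i
    rw [Sigma.ι_desc_assoc, ← Functor.map_comp, ι_ψ]
    erw [ι_ψ]
    rfl
  have hq : QuasiIso (((Scheme.Modules.restrictFunctor V₀.ι).mapHomologicalComplex
      (ComplexShape.up ℤ)).map (ψ I J g (Scheme.Modules.pushforward f))) := by
    haveI hd : QuasiIso (Sigma.desc (fun i =>
      ((Scheme.Modules.restrictFunctor V₀.ι).mapHomologicalComplex (ComplexShape.up ℤ)).map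
        (Sigma.ι (fun i => Cx (Scheme.Modules.pushforward f) (I i)) i))) := by
      haveI := hiso
      infer_instance
    have h' : QuasiIso (Sigma.desc (fun i =>
      ((Scheme.Modules.restrictFunctor V₀.ι).mapHomologicalComplex (ComplexShape.up ℤ)).map
        (Sigma.ι (fun i => Cx (Scheme.Modules.pushforward f) (I i)) i)) ≫
      ((Scheme.Modules.restrictFunctor V₀.ι).mapHomologicalComplex (ComplexShape.up ℤ)).map
        (ψ I J g (Scheme.Modules.pushforward f))) := by
      rw [e]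
      exact h
    exact (quasiIso_iff_comp_left (Sigma.desc (fun i =>
      ((Scheme.Modules.restrictFunctor V₀.ι).mapHomologicalComplex (ComplexShape.up ℤ)).map
        (Sigma.ι (fun i => Cx (Scheme.Modules.pushforward f) (I i)) i))) _).1 h'
  haveI : IsIso (DerivedCategory.Q.map (((Scheme.Modules.restrictFunctor V₀.ι).mapHomologicalComplex
      (ComplexShape.up ℤ)).map (ψ I J g (Scheme.Modules.pushforward f)))) :=
    (DerivedCategory.isIso_Q_map_iff_quasiIso _ _).2 hq
  have e2 : (DCoh.restrictD V₀.ι).map (DerivedCategory.Q.map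
      (ψ I J g (Scheme.Modules.pushforward f))) =
      (Scheme.Modules.restrictFunctor V₀.ι).mapDerivedCategoryFactors.hom.app _ ≫
        DerivedCategory.Q.map (((Scheme.Modules.restrictFunctor V₀.ι).mapHomologicalComplex
          (ComplexShape.up ℤ)).map (ψ I J g (Scheme.Modules.pushforward f))) ≫
        (Scheme.Modules.restrictFunctor V₀.ι).mapDerivedCategoryFactors.inv.app _ := by
    rw [← Category.assoc]
    erw [← hnat]
    rw [Category.assoc, Iso.hom_inv_id_app, Category.comp_id]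
    rfl
  rw [e2]
  infer_instance

end Groth.Agent.Lib.Helper17.CoprodRpush
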