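import Groth.Agent.Lib.Helper17.CoprodMV

/-!
# Short exact sequences of functors and the comparison `∐ Ψ(I_i) ⟶ Ψ(J)`
-/

set_option autoImplicit false
universe w v' u' v u

open CategoryTheory Limits

namespace Groth.Agent.Lib.Helper17.CoprodSES

open Groth.Agent.Lib.Helper17.MVAbs Groth.Agent.Lib.Helper17.CoprodExact
open Groth.Agent.Lib.Helper17.CoprodMV

variable {A : Type u'} [Category.{v'} A] [Abelian A] {B : Type u} [Category.{v} B] [Abelian B]
  {ι : Type w} [HasCoproductsOfShape ι B] [HasExactColimitsOfShape (Discrete ι) B]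
  (I : ι → CochainComplex A ℤ) (J : CochainComplex A ℤ) (g : ∀ i, I i ⟶ J)
  {Ψ1 Ψ2 Ψ3 : A ⥤ B} [Ψ1.Additive] [Ψ2.Additive] [Ψ3.Additive]
  (ρ : Ψ1 ⟶ Ψ2) (ρ' : Ψ2 ⟶ Ψ3) (w : ρ ≫ ρ' = 0)

/-- the short complex of complexes `Ψ1 K ⟶ Ψ2 K ⟶ Ψ3 K`. -/
noncomputable def sesCx (K : CochainComplex A ℤ) : ShortComplex (CochainComplex B ℤ) :=
  ShortComplex.mk ((NatTrans.mapHomologicalComplex ρ (ComplexShape.up ℤ)).app K)
    ((NatTrans.mapHomologicalComplex ρ' (ComplexShape.up ℤ)).app K) (by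
    rw [← NatTrans.comp_app, ← NatTrans.mapHomologicalComplex_comp, w]
    ext n
    rfl)

/-- the coproduct of the short complexes. -/
noncomputable def sesSigma : ShortComplex (CochainComplex B ℤ) :=
  ShortComplex.mk (σmap I ρ) (σmap I ρ') (by rw [← σmap_comp, w, σmap_zero])

lemma sesSigma_shortExact (h : ∀ i, (sesCx ρ ρ' w (I i)).ShortExact) :
    (sesSigma I ρ ρ' w).ShortExact := by
  let S := fun i => sesCx ρ ρ' w (I i)
  have hex : (Stilde S).Exact := Stilde_exact S (fun i => (h i).exact)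
  haveI : Mono (Stilde S).f := by
    apply (config := { allowSynthFailures := true }) NatTrans.mono_of_mono_app
    rintro ⟨i⟩
    exact (h i).mono_f
  haveI : Epi (Stilde S).g := by
    apply (config := { allowSynthFailures := true }) NatTrans.epi_of_epi_app
    rintro ⟨i⟩
    exact (h i).epi_g
  have hse : (Stilde S).ShortExact := ShortComplex.ShortExact.mk hex
  exact hse.map_of_exact (colim : (Discrete ι ⥤ CochainComplex B ℤ) ⥤ CochainComplex B ℤ)

/-- the morphism of short complexes. -/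
noncomputable def sesφ : sesSigma I ρ ρ' w ⟶ sesCx ρ ρ' w J where
  τ₁ := ψ I J g Ψ1
  τ₂ := ψ I J g Ψ2
  τ₃ := ψ I J g Ψ3
  comm₁₂ := (ψ_naturality I J g ρ).symm
  comm₂₃ := (ψ_naturality I J g ρ').symm

/-- two out of three for the comparison map, first term. -/
theorem quasiIso_ψ_ses (hI : ∀ i, (sesCx ρ ρ' w (I i)).ShortExact)
    (hJ : (sesCx ρ ρ' w J).ShortExact) (h2 : QuasiIso (ψ I J g Ψ2))
    (h3 : QuasiIso (ψ I J g Ψ3)) : QuasiIso (ψ I J g Ψ1) :=
  Groth.Agent.Lib.Helper17.QuasiIsoTau1.quasiIso_τ₁ (sesφ I J g ρ ρ' w)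
    (sesSigma_shortExact I ρ ρ' w hI) hJ h2 h3

end Groth.Agent.Lib.Helper17.CoprodSES
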