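import Mathlib

set_option autoImplicit false
open CategoryTheory CategoryTheory.Limits
universe v₁ u₁

namespace Groth.Agent.Lib.Helper17.S6126aux

variable {E : Type u₁} [Category.{v₁} E] {ι : Type v₁} (G : ι → E)

/-- the kernel relation of `e` tested on the generators -/
def Rel {P Y : E} (e : P ⟶ Y) : Set (Σ t' : ι, (G t' ⟶ P) × (G t' ⟶ P)) :=
  {s | s.2.1 ≫ e = s.2.2 ≫ e}

theorem main
    (hG : (ObjectProperty.ofObj G).IsSeparating)
    [EnoughInjectives E] [∀ t, HasBinaryCoproduct (G t) (G t)]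
    (hfac : ∀ (t : ι) (X : E) (f : G t ⨿ G t ⟶ X),
      ∃ (Y : E) (e : G t ⨿ G t ⟶ Y) (m : Y ⟶ X), EffectiveEpi e ∧ Mono m ∧ e ≫ m = f) :
    ∃ (κ : Type v₁) (H : κ → E),
      (∀ k, Injective (H k)) ∧ (ObjectProperty.ofObj H).IsCoseparating := by
  classical
  let κ : Type v₁ := Σ t : ι, Set (Σ t' : ι, (G t' ⟶ G t ⨿ G t) × (G t' ⟶ G t ⨿ G t))
  -- the chosen quotient
  let Q : κ → E := fun k =>
    if h : ∃ (Y : E) (e : G k.1 ⨿ G k.1 ⟶ Y), Rel G e = k.2 then h.choose else G k.1 ⨿ G k.1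
  have hQ : ∀ (k : κ) (Y : E) (e : G k.1 ⨿ G k.1 ⟶ Y), Rel G e = k.2 →
      ∃ e' : G k.1 ⨿ G k.1 ⟶ Q k, Rel G e' = k.2 := by
    intro k Y e he
    have h : ∃ (Y : E) (e : G k.1 ⨿ G k.1 ⟶ Y), Rel G e = k.2 := ⟨Y, e, he⟩
    have hQk : Q k = h.choose := dif_pos h
    obtain ⟨e', he'⟩ := h.choose_spec
    refine ⟨e' ≫ eqToHom hQk.symm, Eq.trans ?_ he'⟩
    ext s
    show s.2.1 ≫ e' ≫ eqToHom hQk.symm = s.2.2 ≫ e' ≫ eqToHom hQk.symm ↔
      s.2.1 ≫ e' = s.2.2 ≫ e'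
    rw [← Category.assoc, ← Category.assoc]
    constructor
    · intro hs
      exact (cancel_mono (eqToHom hQk.symm)).mp hs
    · intro hs
      rw [hs]
  refine ⟨κ, fun k => Injective.under (Q k), fun k => inferInstance, ?_⟩
  intro X Z f g hfg
  by_contra hne
  -- find a generator separating f and g
  have : ∃ (t : ι) (x : G t ⟶ X), x ≫ f ≠ x ≫ g := by
    by_contra hcon
    push Not at hcon
    apply hne
    apply hG
    intro G' hG' h
    obtain ⟨t⟩ := hG'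
    exact hcon t h
  obtain ⟨t, x, hx⟩ := this
  obtain ⟨Y, e, m, he, hm, hem⟩ := hfac t Z (coprod.desc (x ≫ f) (x ≫ g))
  let k : κ := ⟨t, Rel G e⟩
  obtain ⟨e'0, he'0⟩ := hQ k Y e rfl
  let e' : G t ⨿ G t ⟶ Q k := e'0
  have he' : Rel G e' = Rel G e := he'0
  -- e' factors through e
  have hcoeq : ∀ {W : E} (g₁ g₂ : W ⟶ G t ⨿ G t), g₁ ≫ e = g₂ ≫ e → g₁ ≫ e' = g₂ ≫ e' := by
    intro W g₁ g₂ h12
    apply hG
    intro G' hG' h
    obtain ⟨t'⟩ := hG'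
    have h1 : (⟨t', (h ≫ g₁, h ≫ g₂)⟩ : Σ t' : ι, (G t' ⟶ G t ⨿ G t) × (G t' ⟶ G t ⨿ G t)) ∈
        Rel G e := by
      show (h ≫ g₁) ≫ e = (h ≫ g₂) ≫ e
      rw [Category.assoc, Category.assoc, h12]
    rw [← he'] at h1
    have h2 : (h ≫ g₁) ≫ e' = (h ≫ g₂) ≫ e' := h1
    simpa using h2
  let d : Y ⟶ Q k := EffectiveEpi.desc e e' hcoeq
  have hd : e ≫ d = e' := EffectiveEpi.fac e e' hcoeq
  -- extend to Z
  let hZ : Z ⟶ Injective.under (Q k) := Injective.factorThru (d ≫ Injective.ι (Q k)) m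
  have hhZ : m ≫ hZ = d ≫ Injective.ι (Q k) := Injective.comp_factorThru _ _
  have hfgk := hfg (Injective.under (Q k)) ⟨k⟩ hZ
  have h1 : coprod.inl ≫ e' ≫ Injective.ι (Q k) = coprod.inr ≫ e' ≫ Injective.ι (Q k) := by
    have e1 : coprod.inl ≫ e' ≫ Injective.ι (Q k) = x ≫ f ≫ hZ := by
      rw [← hd, Category.assoc, ← hhZ, ← Category.assoc e, hem, ← Category.assoc,
        coprod.inl_desc, Category.assoc]
    have e2 : coprod.inr ≫ e' ≫ Injective.ι (Q k) = x ≫ g ≫ hZ := by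
      rw [← hd, Category.assoc, ← hhZ, ← Category.assoc e, hem, ← Category.assoc,
        coprod.inr_desc, Category.assoc]
    rw [e1, e2, hfgk]
  have h2 : coprod.inl ≫ e' = coprod.inr ≫ e' := by
    rw [← Category.assoc, ← Category.assoc] at h1
    exact (cancel_mono _).mp h1
  have h3 : (⟨t, (coprod.inl, coprod.inr)⟩ :
      Σ t' : ι, (G t' ⟶ G t ⨿ G t) × (G t' ⟶ G t ⨿ G t)) ∈ Rel G e' := h2
  rw [he'] at h3
  have h4 : coprod.inl ≫ e = coprod.inr ≫ e := h3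
  apply hx
  have e1 : x ≫ f = coprod.inl ≫ e ≫ m := by rw [hem, coprod.inl_desc]
  have e2 : x ≫ g = coprod.inr ≫ e ≫ m := by rw [hem, coprod.inr_desc]
  rw [e1, e2, ← Category.assoc, h4, Category.assoc]

end Groth.Agent.Lib.Helper17.S6126aux
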