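import Mathlib

/-!
# The fibre of relative differentials at a rational point
-/

set_option autoImplicit false
set_option linter.unusedSectionVars false
universe u

namespace Groth.Agent.Lib.Helper17.CotFibre

open IsLocalRing KaehlerDifferential TensorProduct

variable (k : Type u) [Field k]
  (A B : Type u) [CommRing A] [CommRing B] [IsLocalRing A] [IsLocalRing B]
  [Algebra k A] [Algebra k B] [Algebra A B] [IsScalarTower k A B]

/-- `y ↦ 1 ⊗ dy` on the maximal ideal. -/
noncomputable def gamma0 : maximalIdeal B →ₗ[B] ResidueField B ⊗[B] Ω[B⁄A] where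
  toFun y := (1 : ResidueField B) ⊗ₜ[B] D A B y.1
  map_add' x y := by simp [tmul_add]
  map_smul' b y := by
    simp only [SetLike.val_smul, smul_eq_mul, Derivation.leibniz, tmul_add, tmul_smul,
      RingHom.id_apply]
    have : (y.1 • ((1 : ResidueField B) ⊗ₜ[B] D A B b)) = 0 := by
      rw [smul_tmul', Algebra.smul_def, mul_one]
      have : algebraMap B (ResidueField B) y.1 = 0 := (residue_eq_zero_iff _).2 y.2
      rw [this, zero_tmul]
    rw [this, add_zero]

@[simp] theorem gamma0_apply (y : maximalIdeal B) :
    gamma0 A B y = (1 : ResidueField B) ⊗ₜ[B] D A B y.1 := rfl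

theorem smul_eq_zero_of_mem (x : B) (hx : x ∈ maximalIdeal B) (t : ResidueField B ⊗[B] Ω[B⁄A]) :
    x • t = 0 := by
  rw [← algebraMap_smul (ResidueField B) x t]
  have : algebraMap B (ResidueField B) x = 0 := (residue_eq_zero_iff _).2 hx
  rw [this, zero_smul]

/-- `m/m² → κ ⊗ Ω_{B/A}`. -/
noncomputable def gamma : CotangentSpace B →ₗ[ResidueField B] ResidueField B ⊗[B] Ω[B⁄A] :=
  (Ideal.Cotangent.lift (gamma0 A B) (fun x y => by
    have : (x * y : maximalIdeal B) = x.1 • y := rfl
    rw [this, map_smul]
    exact smul_eq_zero_of_mem A B x.1 x.2 _)).extendScalarsOfSurjective residue_surjective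

theorem gamma_toCotangent (y : maximalIdeal B) :
    gamma A B ((maximalIdeal B).toCotangent y) = (1 : ResidueField B) ⊗ₜ[B] D A B y.1 := rfl

section main

variable (hle : maximalIdeal A ≤ Ideal.comap (IsScalarTower.toAlgHom k A B) (maximalIdeal B))
  (hA : Function.Bijective (algebraMap k (ResidueField A)))
  (hB : Function.Bijective (algebraMap k (ResidueField B)))

include hB in
theorem exists_sub_mem (b : B) : ∃ c : k, b - algebraMap k B c ∈ maximalIdeal B := by
  obtain ⟨c, hc⟩ := hB.2 (residue B b)
  refine ⟨c, ?_⟩
  rw [← residue_eq_zero_iff, map_sub, sub_eq_zero, ← hc]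
  exact (IsScalarTower.algebraMap_apply k B (ResidueField B) c).symm

theorem D_algebraMap (c : k) : D A B (algebraMap k B c) = 0 := by
  rw [IsScalarTower.algebraMap_apply k A B, Derivation.map_algebraMap]

/-- The image of `m_A/m_A²`. -/
noncomputable def phi : (maximalIdeal A).Cotangent →ₗ[k] CotangentSpace B :=
  Ideal.mapCotangent (maximalIdeal A) (maximalIdeal B) (IsScalarTower.toAlgHom k A B) hle

/-- The `κ`-span of the image. -/
noncomputable def U : Submodule (ResidueField B) (CotangentSpace B) :=
  Submodule.span (ResidueField B) (Set.range (phi k A B hle))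

theorem U_le_ker : U k A B hle ≤ LinearMap.ker (gamma A B) := by
  rw [U, Submodule.span_le]
  rintro _ ⟨x, rfl⟩
  obtain ⟨x, rfl⟩ := Ideal.toCotangent_surjective _ x
  rw [SetLike.mem_coe, LinearMap.mem_ker, phi, Ideal.mapCotangent_toCotangent, gamma_toCotangent]
  simp

/-- The retraction `B → k`. -/
noncomputable def resHom : B →+* k :=
  (RingEquiv.ofBijective (algebraMap k (ResidueField B)) hB).symm.toRingHom.comp (residue B)

theorem algebraMap_resHom (b : B) :
    algebraMap k (ResidueField B) (resHom k B hB b) = residue B b :=
  (RingEquiv.ofBijective (algebraMap k (ResidueField B)) hB).apply_symm_apply _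

theorem sub_resHom_mem (b : B) : b - algebraMap k B (resHom k B hB b) ∈ maximalIdeal B := by
  rw [← residue_eq_zero_iff, map_sub, sub_eq_zero, ← algebraMap_resHom k B hB b]
  exact (IsScalarTower.algebraMap_apply k B (ResidueField B) _).symm

theorem resHom_eq_of_sub_mem (b : B) (c : k) (h : b - algebraMap k B c ∈ maximalIdeal B) :
    resHom k B hB b = c := by
  apply hB.1
  rw [algebraMap_resHom]
  rw [← residue_eq_zero_iff, map_sub, sub_eq_zero] at h
  rw [h]
  exact (IsScalarTower.algebraMap_apply k B (ResidueField B) _).symm

/-- `b ↦ b - res b ∈ m`. -/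
noncomputable def delta (b : B) : maximalIdeal B :=
  ⟨b - algebraMap k B (resHom k B hB b), sub_resHom_mem k B hB b⟩

theorem delta_add (b b' : B) : delta k B hB (b + b') = delta k B hB b + delta k B hB b' := by
  apply Subtype.ext
  simp only [delta, map_add, Submodule.coe_add]
  ring

theorem delta_of_mem (y : maximalIdeal B) : delta k B hB y.1 = y := by
  apply Subtype.ext
  have : resHom k B hB y.1 = 0 := resHom_eq_of_sub_mem k B hB y.1 0 (by simp)
  simp [delta, this]

theorem smul_toCotangent (b : B) (y : maximalIdeal B) :
    b • (maximalIdeal B).toCotangent y =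
      (algebraMap k B (resHom k B hB b)) • (maximalIdeal B).toCotangent y := by
  rw [← sub_eq_zero, ← sub_smul, ← map_smul, Ideal.toCotangent_eq_zero]
  rw [pow_two]
  exact Ideal.mul_mem_mul (sub_resHom_mem k B hB b) y.2

theorem toCotangent_delta_mul (b b' : B) :
    (maximalIdeal B).toCotangent (delta k B hB (b * b')) =
      b • (maximalIdeal B).toCotangent (delta k B hB b') +
        b' • (maximalIdeal B).toCotangent (delta k B hB b) := by
  rw [smul_toCotangent k B hB b, smul_toCotangent k B hB b', ← map_smul, ← map_smul, ← map_add,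
    Ideal.toCotangent_eq]
  have : (delta k B hB (b * b') : B) -
      ((algebraMap k B (resHom k B hB b) • delta k B hB b' +
        algebraMap k B (resHom k B hB b') • delta k B hB b : maximalIdeal B) : B) =
      (delta k B hB b : B) * (delta k B hB b' : B) := by
    simp only [delta, map_mul, Submodule.coe_add, Submodule.coe_smul,
      smul_eq_mul]
    ring
  rw [this, pow_two]
  exact Ideal.mul_mem_mul (delta k B hB b).2 (delta k B hB b').2

/-- The quotient `V / U`. -/
abbrev W : Type u := CotangentSpace B ⧸ U k A B hle

noncomputable instance : Module A (W k A B hle) := Module.compHom _ (algebraMap A B)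

instance : IsScalarTower A B (W k A B hle) := IsScalarTower.of_algebraMap_smul fun _ _ => rfl

include hA in
theorem delta_algebraMap_mem (a : A) :
    (maximalIdeal B).toCotangent (delta k B hB (algebraMap A B a)) ∈ U k A B hle := by
  obtain ⟨c, hc⟩ := exists_sub_mem k A hA a
  have h1 : algebraMap A B a - algebraMap k B c ∈ maximalIdeal B := by
    have := hle hc
    rw [Ideal.mem_comap] at this
    simpa [IsScalarTower.algebraMap_apply k A B] using this
  have h2 : resHom k B hB (algebraMap A B a) = c := resHom_eq_of_sub_mem k B hB _ c h1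
  apply Submodule.subset_span
  refine ⟨(maximalIdeal A).toCotangent ⟨a - algebraMap k A c, hc⟩, ?_⟩
  rw [phi, Ideal.mapCotangent_toCotangent]
  congr 1
  apply Subtype.ext
  simp [delta, h2, IsScalarTower.algebraMap_apply k A B]

/-- The underlying function of the derivation. -/
noncomputable def dw (b : B) : W k A B hle :=
  Submodule.Quotient.mk ((maximalIdeal B).toCotangent (delta k B hB b))

theorem dw_add (b b' : B) : dw k A B hle hB (b + b') = dw k A B hle hB b + dw k A B hle hB b' := by
  simp only [dw, delta_add, map_add, Submodule.Quotient.mk_add]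

theorem dw_mul (b b' : B) :
    dw k A B hle hB (b * b') = b • dw k A B hle hB b' + b' • dw k A B hle hB b := by
  simp only [dw, toCotangent_delta_mul, Submodule.Quotient.mk_add, Submodule.Quotient.mk_smul]

include hA in
theorem dw_algebraMap (a : A) : dw k A B hle hB (algebraMap A B a) = 0 := by
  rw [dw, Submodule.Quotient.mk_eq_zero]
  exact delta_algebraMap_mem k A B hle hA hB a

theorem dw_of_mem (y : maximalIdeal B) :
    dw k A B hle hB y.1 = Submodule.Quotient.mk ((maximalIdeal B).toCotangent y) := by
  rw [dw, delta_of_mem]

/-- The derivation `B → V/U`. -/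
noncomputable def Dw : Derivation A B (W k A B hle) :=
  Derivation.mk'
    { toFun := dw k A B hle hB
      map_add' := dw_add k A B hle hB
      map_smul' := fun a b => by
        rw [Algebra.smul_def, dw_mul, dw_algebraMap k A B hle hA hB, smul_zero, add_zero,
          RingHom.id_apply, algebraMap_smul] }
    (dw_mul k A B hle hB)

theorem Dw_apply (b : B) : Dw k A B hle hA hB b = dw k A B hle hB b := rfl

/-- `κ ⊗ Ω_{B/A} → V/U`. -/
noncomputable def Psi : ResidueField B ⊗[B] Ω[B⁄A] →ₗ[ResidueField B] W k A B hle :=
  LinearMap.liftBaseChange (ResidueField B) (Dw k A B hle hA hB).liftKaehlerDifferential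

theorem Psi_tmul (r : ResidueField B) (b : B) :
    Psi k A B hle hA hB (r ⊗ₜ[B] D A B b) = r • dw k A B hle hB b := by
  rw [Psi, LinearMap.liftBaseChange_tmul, Derivation.liftKaehlerDifferential_comp_D, Dw_apply]

include hA hB in
theorem ker_gamma_le : LinearMap.ker (gamma A B) ≤ U k A B hle := by
  intro v hv
  obtain ⟨y, rfl⟩ := Ideal.toCotangent_surjective _ v
  rw [LinearMap.mem_ker, gamma_toCotangent] at hv
  have := congrArg (Psi k A B hle hA hB) hv
  rw [Psi_tmul, one_smul, map_zero, dw_of_mem, Submodule.Quotient.mk_eq_zero] at this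
  exact this

include hA hB in
theorem ker_gamma_eq : LinearMap.ker (gamma A B) = U k A B hle :=
  le_antisymm (ker_gamma_le k A B hle hA hB) (U_le_ker k A B hle)

include hB in
theorem gamma_surjective : Function.Surjective (gamma A B) := by
  rw [← LinearMap.range_eq_top, eq_top_iff]
  rintro t -
  induction t using TensorProduct.induction_on with
  | zero => exact Submodule.zero_mem _
  | add x y hx hy => exact Submodule.add_mem _ hx hy
  | tmul r ω =>
    have hω : ω ∈ Submodule.span B (Set.range (D A B)) := by
      rw [KaehlerDifferential.span_range_derivation]; trivial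
    induction hω using Submodule.span_induction generalizing r with
    | mem x hx =>
      obtain ⟨b, rfl⟩ := hx
      have h1 : r ⊗ₜ[B] D A B b = r • gamma A B ((maximalIdeal B).toCotangent (delta k B hB b)) := by
        rw [gamma_toCotangent, smul_tmul', smul_eq_mul, mul_one]
        congr 1
        simp [delta, D_algebraMap]
      rw [h1]
      exact Submodule.smul_mem _ _ (LinearMap.mem_range_self _ _)
    | zero => rw [tmul_zero]; exact Submodule.zero_mem _
    | add x y _ _ hx hy => rw [tmul_add]; exact Submodule.add_mem _ (hx r) (hy r)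
    | smul a x _ hx =>
      rw [← TensorProduct.smul_tmul]
      exact hx _

instance towerV : IsScalarTower k (ResidueField B) (CotangentSpace B) :=
  IsScalarTower.of_algebraMap_smul fun c v => by
    rw [IsScalarTower.algebraMap_apply k B (ResidueField B), algebraMap_smul, algebraMap_smul]

include hB in
theorem finrank_residueField : Module.finrank k (ResidueField B) = 1 := by
  rw [← (LinearEquiv.ofBijective (Algebra.linearMap k (ResidueField B)) hB).finrank_eq,
    Module.finrank_self]

include hB in
theorem finrank_eq_of_tower (X : Type*) [AddCommGroup X] [Module k X] [Module (ResidueField B) X]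
    [IsScalarTower k (ResidueField B) X] :
    Module.finrank k X = Module.finrank (ResidueField B) X := by
  rw [← Module.finrank_mul_finrank k (ResidueField B) X, finrank_residueField k B hB, one_mul]

include hB in
theorem U_eq_range (v : CotangentSpace B) : v ∈ U k A B hle ↔ v ∈ LinearMap.range (phi k A B hle) := by
  constructor
  · intro hv
    refine Submodule.span_induction (p := fun v _ => v ∈ LinearMap.range (phi k A B hle))
      ?_ ?_ ?_ ?_ hv
    · rintro _ ⟨x, rfl⟩; exact ⟨x, rfl⟩
    · exact Submodule.zero_mem _
    · intro x y _ _ hx hy; exact Submodule.add_mem _ hx hy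
    · rintro r x _ ⟨x', rfl⟩
      obtain ⟨c, rfl⟩ := hB.2 r
      exact ⟨c • x', by rw [map_smul, algebraMap_smul]⟩
  · rintro ⟨x, rfl⟩
    exact Submodule.subset_span ⟨x, rfl⟩

include hA hB in
/-- The main dimension formula. -/
theorem main [IsNoetherianRing B] :
    Module.finrank (ResidueField B) (ResidueField B ⊗[B] Ω[B⁄A]) +
      Module.finrank k ↥(LinearMap.range (phi k A B hle)) =
      Module.finrank k (CotangentSpace B) := by
  have h1 := LinearMap.finrank_range_add_finrank_ker (gamma A B)
  rw [LinearMap.range_eq_top.2 (gamma_surjective k A B hB), finrank_top,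
    ker_gamma_eq k A B hle hA hB] at h1
  rw [finrank_eq_of_tower k B hB (CotangentSpace B), ← h1]
  congr 1
  rw [← finrank_eq_of_tower k B hB ↥(U k A B hle)]
  refine LinearEquiv.finrank_eq
    { toFun := fun x => ⟨x.1, (U_eq_range k A B hle hB x.1).2 x.2⟩
      invFun := fun x => ⟨x.1, (U_eq_range k A B hle hB x.1).1 x.2⟩
      map_add' := fun _ _ => rfl
      map_smul' := fun _ _ => rfl
      left_inv := fun _ => rfl
      right_inv := fun _ => rfl }

end main

end Groth.Agent.Lib.Helper17.CotFibre
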