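import Mathlib

open CategoryTheory CategoryTheory.Limits

universe v u v' u'

noncomputable section

namespace Groth.Agent.Lib.Helper17.CyclesSES

variable {A : Type u} [Category.{v} A] [Abelian A] {B : Type u'} [Category.{v'} B] [Abelian B]
  {ι : Type*} {c : ComplexShape ι} (K : HomologicalComplex A c)

lemma iCycles_toCycles (i j : ι) : K.iCycles i ≫ K.toCycles i j = 0 := by
  rw [← cancel_mono (K.iCycles j)]; simp

/-- the short complex `Z_i → K_i → Z_j` -/
abbrev cyclesSC (i j : ι) : ShortComplex A :=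
  ShortComplex.mk (K.iCycles i) (K.toCycles i j) (iCycles_toCycles K i j)

lemma epi_toCycles {i j : ι} (hij : c.Rel i j) (hj : K.ExactAt j) : Epi (K.toCycles i j) := by
  obtain rfl := c.prev_eq' hij
  exact (ShortComplex.exact_iff_epi_toCycles _).1 hj

lemma cyclesSC_exact {i j : ι} (hij : c.Rel i j) : (cyclesSC K i j).Exact := by
  let S' : ShortComplex A := ShortComplex.mk (K.iCycles i) (K.d i j) (by simp)
  let φ : cyclesSC K i j ⟶ S' :=
    { τ₁ := 𝟙 _
      τ₂ := 𝟙 _
      τ₃ := K.iCycles j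
      comm₁₂ := by simp [S']
      comm₂₃ := by simp [S'] }
  have : Epi φ.τ₁ := inferInstanceAs (Epi (𝟙 _))
  have : IsIso φ.τ₂ := inferInstanceAs (IsIso (𝟙 _))
  have : Mono φ.τ₃ := inferInstanceAs (Mono (K.iCycles j))
  rw [ShortComplex.exact_iff_of_epi_of_isIso_of_mono φ]
  exact ShortComplex.exact_of_f_is_kernel _ (K.cyclesIsKernel i j (c.next_eq' hij))

lemma cyclesSC_shortExact {i j : ι} (hij : c.Rel i j) (hj : K.ExactAt j) :
    (cyclesSC K i j).ShortExact :=
  { exact := cyclesSC_exact K hij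
    mono_f := inferInstanceAs (Mono (K.iCycles i))
    epi_g := epi_toCycles K hij hj }

/-- exactness at `j` of the image complex -/
theorem exactAt_map (G : A ⥤ B) [G.Additive] {i j k : ι} (hij : c.Rel i j) (hjk : c.Rel j k)
    (ha : Epi (G.map (K.toCycles i j)))
    (hb : Mono (G.map (K.iCycles k)))
    (hc : ((cyclesSC K j k).map G).Exact) :
    ((G.mapHomologicalComplex c).obj K).ExactAt j := by
  rw [HomologicalComplex.exactAt_iff' _ i j k (c.prev_eq' hij) (c.next_eq' hjk)]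
  let S₀ : ShortComplex B := ((G.mapHomologicalComplex c).obj K).sc' i j k
  let S₁ : ShortComplex B := ShortComplex.mk (G.map (K.d i j)) (G.map (K.toCycles j k)) (by
    rw [← G.map_comp, K.d_toCycles, G.map_zero])
  let φ : S₁ ⟶ (cyclesSC K j k).map G :=
    { τ₁ := G.map (K.toCycles i j)
      τ₂ := 𝟙 _
      τ₃ := 𝟙 _
      comm₁₂ := by
        change G.map (K.toCycles i j) ≫ G.map (K.iCycles j) = G.map (K.d i j) ≫ 𝟙 _
        rw [← G.map_comp, K.toCycles_i, Category.comp_id]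
      comm₂₃ := by
        change 𝟙 _ ≫ G.map (K.toCycles j k) = G.map (K.toCycles j k) ≫ 𝟙 _
        simp }
  let ψ : S₁ ⟶ S₀ :=
    { τ₁ := 𝟙 _
      τ₂ := 𝟙 _
      τ₃ := G.map (K.iCycles k)
      comm₁₂ := by
        change 𝟙 _ ≫ G.map (K.d i j) = G.map (K.d i j) ≫ 𝟙 _
        simp
      comm₂₃ := by
        change 𝟙 _ ≫ G.map (K.d j k) = G.map (K.toCycles j k) ≫ G.map (K.iCycles k)
        rw [← G.map_comp, K.toCycles_i, Category.id_comp] }
  have : Epi φ.τ₁ := ha
  have : IsIso φ.τ₂ := inferInstanceAs (IsIso (𝟙 _))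
  have : Mono φ.τ₃ := inferInstanceAs (Mono (𝟙 _))
  have : Epi ψ.τ₁ := inferInstanceAs (Epi (𝟙 _))
  have : IsIso ψ.τ₂ := inferInstanceAs (IsIso (𝟙 _))
  have : Mono ψ.τ₃ := hb
  have h1 : S₁.Exact := (ShortComplex.exact_iff_of_epi_of_isIso_of_mono φ).2 hc
  exact (ShortComplex.exact_iff_of_epi_of_isIso_of_mono ψ).1 h1

end Groth.Agent.Lib.Helper17.CyclesSES
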