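import Mathlib
import Groth.Agent.Lib.Helper17.ExtCoh
import Groth.Agent.Lib.Helper17.SheafHomRestr
import Groth.Agent.Lib.Helper28.DCohRes27
import Groth.Agent.Lib.Helper28.DCohRes29
import Groth.Agent.S0485

/-!
# Coherence of the Ext sheaves on a locally Noetherian scheme
-/

set_option autoImplicit false

universe u

open CategoryTheory Limits Opposite AlgebraicGeometry

namespace Groth.Agent.Lib.Helper17.ExtCohGlobal

open Groth.Agent.Lib.Helper17.IHom Groth.Agent.Lib.Helper29.QCoh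
  Groth.Agent.Lib.Helper12.H12Dev

variable {X : Scheme.{u}} [IsLocallyNoetherian X]

theorem isCoh_restrict {U : Scheme.{u}} (j : U ⟶ X) [IsOpenImmersion j] (M : X.Modules)
    (hM : Coh.IsCoh M) : Coh.IsCoh ((Scheme.Modules.restrictFunctor j).obj M) := by
  haveI := hM.1
  haveI := hM.2
  exact ⟨inferInstanceAs (M.restrict j).IsQuasicoherent,
    Groth.Agent.Lib.Helper28.DCohRes.isFiniteType_restrict j M⟩

theorem isCoh_of_locally (M : X.Modules)
    (h : ∀ x : X, ∃ (U : Scheme.{u}) (j : U ⟶ X) (_ : IsOpenImmersion j), x ∈ Set.range j.base ∧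
      Coh.IsCoh ((Scheme.Modules.restrictFunctor j).obj M)) : Coh.IsCoh M := by
  refine ⟨Groth.Agent.Lib.Helper28.DCohRes.isQuasicoherent_of_locally M ?_,
    Groth.Agent.Lib.Helper28.DCohRes.isFiniteType_of_locally M ?_⟩
  · intro x
    obtain ⟨U, j, hj, hx, hc⟩ := h x
    exact ⟨U, j, hj, hx, hc.1⟩
  · intro x
    obtain ⟨U, j, hj, hx, hc⟩ := h x
    exact ⟨U, j, hj, hx, hc.2⟩

/-- **coherence of the Ext sheaves** -/
theorem isCoh_extSh (F G : X.Modules) (hF : Coh.IsCoh F) (hG : Coh.IsCoh G)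
    [ModSite.HasSheafHom (O := X.sheaf) F] [HasInjectiveResolutions (ModSite.Mod X.sheaf)]
    (i : ℕ) : Coh.IsCoh ((ModSite.extSh (O := X.sheaf) F i).obj G) := by
  apply isCoh_of_locally
  intro x
  obtain ⟨_, ⟨V₀, hV₀, rfl⟩, hxV₀, -⟩ :=
    X.isBasis_affineOpens.exists_subset_of_mem_open (Set.mem_univ x) isOpen_univ
  obtain ⟨V, hV, hxV⟩ : ∃ V : X.Opens, IsAffineOpen V ∧ x ∈ V := ⟨V₀, hV₀, hxV₀⟩
  haveI : IsAffine (V : Scheme.{u}) := hV
  haveI : EnoughInjectives (V : Scheme.{u}).Modules :=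
    Groth.Agent.S0485.result (Opens.grothendieckTopology (V : Scheme.{u}))
      (V : Scheme.{u}).ringCatSheaf
  haveI : HasInjectiveResolutions (ModSite.Mod (V : Scheme.{u}).sheaf) :=
    inferInstanceAs (HasInjectiveResolutions (V : Scheme.{u}).Modules)
  haveI : ModSite.HasSheafHom (O := (V : Scheme.{u}).sheaf)
      ((Scheme.Modules.restrictFunctor V.ι).obj F) := hasSheafHom _
  refine ⟨V, V.ι, inferInstance, by rw [Scheme.Opens.range_ι]; exact hxV, ?_⟩
  obtain ⟨e⟩ := Groth.Agent.Lib.Helper17.SheafHomRestr.extShRestrIso V F G i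
  exact isCoh_of_iso e.symm
    (Groth.Agent.Lib.Helper17.ExtCoh.isCoh_extSh _ (isCoh_restrict V.ι G hG) _
      (isCoh_restrict V.ι F hF) i)

end Groth.Agent.Lib.Helper17.ExtCohGlobal
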