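import Mathlib

/-!
# Non-zero-divisors on `Ext` modules
-/

set_option autoImplicit false

universe u

open CategoryTheory Abelian

namespace Groth.Agent.Lib.Helper17.ExtTorsion

variable {A : Type u} [CommRing A]

/-- if `a` is a non-zero-divisor on `B` and `Ext^c(B/aB, N) = 0` then `a` is a non-zero-divisor on
`Ext^c(B, N)` -/
theorem eq_zero_of_smul_eq_zero (B : Type u) [AddCommGroup B] [Module A B]
    (N : ModuleCat.{u} A) (a : A) (c : ℕ)
    (hinj : Function.Injective (fun b : B => a • b))
    (hvan : Subsingleton (Ext (ModuleCat.of A (B ⧸ LinearMap.range (LinearMap.lsmul A B a))) N c))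
    (e : Ext (ModuleCat.of A B) N c) (he : a • e = 0) : e = 0 := by
  let S : ShortComplex (ModuleCat.{u} A) :=
    ShortComplex.mk (ModuleCat.ofHom (LinearMap.lsmul A B a))
      (ModuleCat.ofHom (LinearMap.range (LinearMap.lsmul A B a)).mkQ) (by
        ext b
        exact (Submodule.Quotient.mk_eq_zero _).2 ⟨b, rfl⟩)
  have hS : S.ShortExact := by
    refine ShortComplex.ShortExact.mk' ?_ ?_ ?_
    · rw [ShortComplex.moduleCat_exact_iff_range_eq_ker]
      exact (Submodule.ker_mkQ _).symm
    · exact (ModuleCat.mono_iff_injective _).2 hinj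
    · exact (ModuleCat.epi_iff_surjective _).2 (Submodule.mkQ_surjective _)
  have hf : S.f = a • 𝟙 (ModuleCat.of A B) := by
    apply ModuleCat.hom_ext
    apply LinearMap.ext
    intro b
    rfl
  have h1 : (Ext.mk₀ S.f).comp e (zero_add c) = 0 := by
    rw [hf, Ext.mk₀_smul, Ext.smul_comp, Ext.mk₀_id_comp, he]
  obtain ⟨x, hx⟩ := Ext.contravariant_sequence_exact₂ hS N e h1
  rw [← hx, Subsingleton.elim x 0, Ext.comp_zero]

end Groth.Agent.Lib.Helper17.ExtTorsion
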