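import Mathlib
import Groth.Agent.Lib.Helper17.ExtTorsion
import Groth.Agent.Lib.Helper17.ExtDepth
import Groth.Agent.Lib.Helper17.ExtCohGlobal
import Groth.Agent.Lib.Helper17.GenPt
import Groth.Agent.Lib.Helper12.Dev7
import Groth.Agent.Helper19.ClImmSupp

/-!
# Non-zero-divisors on the sections of `ℰxt^c(ι_* O_X, ωP)` over an affine open
-/

set_option autoImplicit false

universe u

open CategoryTheory Limits AlgebraicGeometry TopologicalSpace Opposite

namespace Groth.Agent.Lib.Helper17.ExtTorsionGeom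

open Groth.Agent.Lib.Helper29.QCoh Groth.Agent.Lib.Helper17.ExtAff
  Groth.Agent.Lib.Helper17.ExtDepthAlg Groth.Agent.Lib.Helper10.Hartogs
  Groth.Agent.Lib.Helper17.ExtDepth

variable {X P : Scheme.{u}}

theorem isCoh_pushforward_unit (ι : X ⟶ P) [IsClosedImmersion ι] :
    Coh.IsCoh ((Scheme.Modules.pushforward ι).obj (Coh.structureModule X)) := by
  have hU := Groth.Agent.Lib.Helper12.H12Dev.isCoh_unitM X
  haveI : (Coh.structureModule X).IsQuasicoherent := hU.1
  haveI : (Coh.structureModule X).IsFiniteType := hU.2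
  exact ⟨isQuasicoherent_pushforward_of_isAffineHom ι _, isFiniteType_pushforward_of_isFinite ι _⟩

/-- multiplication by `a` on `Γ(ι_* O_X, W)` is injective when `a` restricts to a
non-zero-divisor of `X` -/
theorem smul_injective_unit (ι : X ⟶ P) {W : P.Opens} (a : Γ(P, W))
    (ha : ι.app W a ∈ nonZeroDivisors Γ(X, ι ⁻¹ᵁ W)) :
    Function.Injective
      (fun b : Γ((Scheme.Modules.pushforward ι).obj (Coh.structureModule X), W) => a • b) := by
  intro b₁ b₂ h
  have h0 : a • (b₁ - b₂) = 0 := by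
    rw [smul_sub]
    exact sub_eq_zero.2 h
  obtain ⟨d, hd⟩ := toUnit_surjective (X := X) (V := ι ⁻¹ᵁ W)
    (show Γ(unitM X, ι ⁻¹ᵁ W) from (b₁ - b₂))
  have h1 : (ι.app W a) * d = 0 := by
    have h2 : a • (b₁ - b₂) = (show Γ((Scheme.Modules.pushforward ι).obj
        (Coh.structureModule X), W) from (ι.app W a) • (toUnit d : Γ(unitM X, ι ⁻¹ᵁ W))) := by
      rw [pushforward_smul, hd]
    rw [h0] at h2
    exact h2.symm
  have h3 : d = 0 := (mem_nonZeroDivisors_iff_left.1 ha) d h1
  have h4 : b₁ - b₂ = 0 := by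
    rw [h3] at hd
    exact hd.symm
  exact sub_eq_zero.1 h4

/-- the points of the support of `Γ(ι_* O_X, W)/a` are images of non-generic points of `X` -/
theorem exists_nongeneric_of_annihilator_le [IsLocallyNoetherian P] (ι : X ⟶ P)
    [IsClosedImmersion ι]
    (hred : ∀ x : X, closure ({x} : Set ↥X) ∈ irreducibleComponents ↥X →
      _root_.IsReduced (X.presheaf.stalk x))
    {W : P.Opens} (hW : IsAffineOpen W) (a : Γ(P, W))
    (ha : ι.app W a ∈ nonZeroDivisors Γ(X, ι ⁻¹ᵁ W)) (z : P) (hzW : z ∈ W)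
    (hle : Module.annihilator Γ(P, W)
      (Γ((Scheme.Modules.pushforward ι).obj (Coh.structureModule X), W) ⧸
        LinearMap.range (LinearMap.lsmul Γ(P, W)
          Γ((Scheme.Modules.pushforward ι).obj (Coh.structureModule X), W) a)) ≤
      (hW.primeIdealOf ⟨z, hzW⟩).asIdeal) :
    ∃ x' : X, ι x' = z ∧ closure ({x'} : Set ↥X) ∉ irreducibleComponents ↥X := by
  have hG := isCoh_pushforward_unit ι
  haveI := hG.1
  haveI := hG.2
  haveI : IsNoetherianRing Γ(P, W) := IsLocallyNoetherian.component_noetherian ⟨W, hW⟩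
  haveI : Module.Finite Γ(P, W)
      Γ((Scheme.Modules.pushforward ι).obj (Coh.structureModule X), W) :=
    module_finite_of_isFiniteType _ hW
  -- `z` lies in the image of `ι`
  have h1 : Module.annihilator Γ(P, W)
      Γ((Scheme.Modules.pushforward ι).obj (Coh.structureModule X), W) ≤
      (hW.primeIdealOf ⟨z, hzW⟩).asIdeal := by
    refine le_trans ?_ hle
    intro r hr
    rw [Module.mem_annihilator] at hr ⊢
    intro q
    obtain ⟨b, rfl⟩ := Submodule.Quotient.mk_surjective _ q
    rw [← Submodule.Quotient.mk_smul, hr b, Submodule.Quotient.mk_zero]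
  have h2 : z ∈ CohB1.support ((Scheme.Modules.pushforward ι).obj (Coh.structureModule X)) :=
    (mem_support_iff_annihilator_le _ hW z hzW).mpr h1
  rw [Groth.Agent.Helper19.ClImmSupp.support_pushforward] at h2
  obtain ⟨x', -, rfl⟩ := h2
  refine ⟨x', rfl, ?_⟩
  -- `a` vanishes at `ι x'`
  have h3 : a ∈ (hW.primeIdealOf ⟨ι x', hzW⟩).asIdeal := by
    apply hle
    rw [Module.mem_annihilator]
    intro q
    obtain ⟨b, rfl⟩ := Submodule.Quotient.mk_surjective _ q
    rw [← Submodule.Quotient.mk_smul]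
    exact (Submodule.Quotient.mk_eq_zero _).2 ⟨b, rfl⟩
  have h4 : ι x' ∉ P.basicOpen a := fun h =>
    (mem_basicOpen_iff_notMem_primeIdealOf hW (ι x') hzW a).1 h h3
  intro hgen
  haveI := hred x' hgen
  have hm := Groth.Agent.Lib.Helper17.GenPt.maximalIdeal_stalk_eq_bot X x' hgen
  obtain ⟨s, hs, hsa⟩ := Groth.Agent.Lib.Helper17.GenPt.exists_mul_mem_ker ι x' hm hW hzW a h4
  rw [map_mul] at hsa
  have h5 : ι.app W s = 0 := (mem_nonZeroDivisors_iff_right.1 ha) _ hsa
  have h6 : x' ∈ ι ⁻¹ᵁ P.basicOpen s := hs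
  rw [Scheme.preimage_basicOpen, h5, Scheme.basicOpen_zero] at h6
  exact h6

/-- **Lemma L**: over an affine open `W`, a function `a` whose restriction to `X` is a
non-zero-divisor acts injectively on the sections of `ℰxt^c(ι_* O_X, ωP)`, provided `ωP` has depth
at least `c + 1` at the images of the non-generic points of `X`. -/
theorem eq_zero_of_smul_eq_zero [IsLocallyNoetherian P] (ι : X ⟶ P) [IsClosedImmersion ι] (c : ℕ)
    (hred : ∀ x : X, closure ({x} : Set ↥X) ∈ irreducibleComponents ↥X →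
      _root_.IsReduced (X.presheaf.stalk x))
    (ωP : P.Modules) (hωP : Coh.IsCoh ωP)
    (hdepth : ∀ x' : X, closure ({x'} : Set ↥X) ∉ irreducibleComponents ↥X →
      ((c + 1 : ℕ) : ℕ∞) ≤ LocCoh.depth (P.presheaf.stalk (ι x')) (ωP.presheaf.stalk (ι x')))
    [ModSite.HasSheafHom (O := P.sheaf)
      ((Scheme.Modules.pushforward ι).obj (Coh.structureModule X))]
    [HasInjectiveResolutions (ModSite.Mod P.sheaf)]
    {W : P.Opens} (hW : IsAffineOpen W) (a : Γ(P, W))
    (ha : ι.app W a ∈ nonZeroDivisors Γ(X, ι ⁻¹ᵁ W))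
    (m : Γ((ModSite.extSh (O := P.sheaf)
      ((Scheme.Modules.pushforward ι).obj (Coh.structureModule X)) c).obj ωP, W))
    (hm : a • m = 0) : m = 0 := by
  have hG := isCoh_pushforward_unit ι
  haveI := hG.1
  haveI := hG.2
  haveI := hωP.1
  haveI := hωP.2
  have hE := Groth.Agent.Lib.Helper17.ExtCohGlobal.isCoh_extSh
    ((Scheme.Modules.pushforward ι).obj (Coh.structureModule X)) ωP hG hωP c
  haveI := hE.1
  haveI : IsNoetherianRing Γ(P, W) := IsLocallyNoetherian.component_noetherian ⟨W, hW⟩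
  haveI : Module.Finite Γ(P, W)
      Γ((Scheme.Modules.pushforward ι).obj (Coh.structureModule X), W) :=
    module_finite_of_isFiniteType _ hW
  haveI : Module.Finite Γ(P, W) Γ(ωP, W) := module_finite_of_isFiniteType _ hW
  obtain ⟨e1⟩ := extSh_restrict_affine
    ((Scheme.Modules.pushforward ι).obj (Coh.structureModule X)) ωP hG hW c
  let e2 := restrictFromSpecIsoTilde ((ModSite.extSh (O := P.sheaf)
      ((Scheme.Modules.pushforward ι).obj (Coh.structureModule X)) c).obj ωP) hW
  let φ := ((tilde.fullyFaithfulFunctor (R := Γ(P, W))).preimageIso (e2.symm ≪≫ e1)).toLinearEquiv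
  -- vanishing of `Ext^c(B/aB, N)`
  have hvan : Subsingleton (Abelian.Ext (ModuleCat.of Γ(P, W)
      (Γ((Scheme.Modules.pushforward ι).obj (Coh.structureModule X), W) ⧸
        LinearMap.range (LinearMap.lsmul Γ(P, W)
          Γ((Scheme.Modules.pushforward ι).obj (Coh.structureModule X), W) a)))
      (ModuleCat.of Γ(P, W) Γ(ωP, W)) c) := by
    apply ext_subsingleton_of_depth _ Γ(ωP, W) (c + 1) _ c (Nat.lt_succ_self c)
    intro p hp hle
    obtain ⟨z, hzW, rfl⟩ := exists_point_primeIdealOf_eq hW p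
    rw [← depth_stalk_eq_depth_localized ωP hW z hzW]
    obtain ⟨x', rfl, hx'⟩ := exists_nongeneric_of_annihilator_le ι hred hW a ha z hzW hle
    exact hdepth x' hx'
  have h1 : a • φ m = 0 := by
    rw [← map_smul, hm, map_zero]
  have h2 := Groth.Agent.Lib.Helper17.ExtTorsion.eq_zero_of_smul_eq_zero
    Γ((Scheme.Modules.pushforward ι).obj (Coh.structureModule X), W)
    (ModuleCat.of Γ(P, W) Γ(ωP, W)) a c (smul_injective_unit ι a ha) hvan (φ m) h1
  exact φ.map_eq_zero_iff.1 h2

end Groth.Agent.Lib.Helper17.ExtTorsionGeom
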