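import Groth.Agent.Lib.Helper17.LGExt
import Groth.Agent.Lib.Lead.SD.SerreDual2
import Groth.Agent.Lib.Lead.SD.ExtTwist
import Groth.Agent.Lib.Lead.Koszul.GG
import Groth.Agent.Lib.Helper5.ExtAdj
import Groth.Agent.Lib.Helper29.SerreA
import Groth.Agent.Lib.Helper29.QCohIdealMod

/-!
# Vanishing of `H^p(P, 𝒢(-m))` for `m ≫ 0` is the vanishing of `ℰxt^{n-p}(𝒢, ω_P)`
-/

set_option autoImplicit false
set_option maxSynthPendingDepth 3

universe u

open CategoryTheory CategoryTheory.Limits AlgebraicGeometry Opposite Abelian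

namespace Groth.Agent.Lib.Helper17.DualVanish

open Groth.Agent.Lib.Lead.SD Groth.Agent.Lib.Lead.Pn Groth.Agent.Lib.Lead.Koszul
  Groth.Agent.Lib.Lead.TwistExact Groth.Agent.Lib.Helper29.QCoh

section general

variable {X : Scheme.{u}} [HasExt.{u} X.Modules]

lemma subsingleton_hom_unit (M : X.Modules) (h : Subsingleton (Coh.HH X M 0)) :
    Subsingleton (Coh.structureModule X ⟶ M) :=
  ⟨fun _ _ => (Ext.mk₀_bijective _ _).1 ((cmpX_bijective M 0).1 (Subsingleton.elim _ _))⟩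

lemma subsingleton_HH_zero_of_isZero (M : X.Modules) (h : IsZero M) :
    Subsingleton (Coh.HH X M 0) := by
  haveI : Subsingleton (Ext (Coh.structureModule X) M 0) :=
    ⟨fun a b => by
      obtain ⟨f, rfl⟩ := (Ext.mk₀_bijective _ _).2 a
      obtain ⟨g, rfl⟩ := (Ext.mk₀_bijective _ _).2 b
      rw [h.eq_of_tgt f g]⟩
  exact ⟨fun a b => by
    obtain ⟨a', rfl⟩ := (cmpX_bijective M 0).2 a
    obtain ⟨b', rfl⟩ := (cmpX_bijective M 0).2 b
    rw [Subsingleton.elim a' b']⟩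

lemma isZero_of_isGloballyGenerated (M : X.Modules) (hgg : Curv2.IsGloballyGenerated M)
    (h0 : Subsingleton (Coh.HH X M 0)) : IsZero M := by
  obtain ⟨ι₀, p, hp⟩ := hgg
  haveI := subsingleton_hom_unit M h0
  have hp0 : p = 0 :=
    Cofan.IsColimit.hom_ext (SheafOfModules.isColimitFreeCofan ι₀) _ _
      (fun i => Subsingleton.elim (α := Coh.structureModule X ⟶ M) _ _)
  exact @IsZero.of_epi_eq_zero _ _ _ _ _ p hp hp0

end general

section Pn

variable (k : Type u) [Field k] (n : ℕ)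

/-- `O(a) ⊗ O(-a) ≅ O` -/
noncomputable def mu (a : ℤ) :
    CohB1.tensorMod (Twist.twistProjSpace n k a) (Twist.twistProjSpace n k (-a)) ≅
      Coh.structureModule (CohB1.ProjSpace n k) :=
  (nonempty_twist_tensor_iso n k a (-a)).some ≪≫
    eqToIso (congrArg (Twist.twistProjSpace n k) (add_neg_cancel a)) ≪≫
    (nonempty_unit_iso_twist_zero (CohB1.polyGrading n k)).some.symm

/-- `O(-a) ⊗ O(a) ≅ O` -/
noncomputable def mu' (a : ℤ) :
    CohB1.tensorMod (Twist.twistProjSpace n k (-a)) (Twist.twistProjSpace n k a) ≅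
      Coh.structureModule (CohB1.ProjSpace n k) :=
  (nonempty_twist_tensor_iso n k (-a) a).some ≪≫
    eqToIso (congrArg (Twist.twistProjSpace n k) (neg_add_cancel a)) ≪≫
    (nonempty_unit_iso_twist_zero (CohB1.polyGrading n k)).some.symm

/-- `- ⊗ O(a)` as an equivalence, with inverse `- ⊗ O(-a)` -/
noncomputable def twEquiv (a : ℤ) :
    (CohB1.ProjSpace n k).Modules ≌ (CohB1.ProjSpace n k).Modules :=
  tensorRightEquiv (Twist.twistProjSpace n k a) (Twist.twistProjSpace n k (-a)) (mu k n a) (mu' k n a)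

/-- `- ⊗ O(-a)` as an equivalence, with inverse `- ⊗ O(a)` -/
noncomputable def twEquiv' (a : ℤ) :
    (CohB1.ProjSpace n k).Modules ≌ (CohB1.ProjSpace n k).Modules :=
  tensorRightEquiv (Twist.twistProjSpace n k (-a)) (Twist.twistProjSpace n k a) (mu' k n a) (mu k n a)

variable [HasExt.{u} (CohB1.ProjSpace n k).Modules]

theorem isZero_of_forall_subsingleton_HH0 (ℋ : (CohB1.ProjSpace n k).Modules) (hℋ : Coh.IsCoh ℋ)
    (d₀ : ℕ) (h : ∀ d : ℕ, d₀ ≤ d → Subsingleton (Coh.HH (CohB1.ProjSpace n k)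
      (CohB1.tensorMod ℋ (Twist.twistProjSpace n k (d : ℤ))) 0)) : IsZero ℋ := by
  haveI := hℋ.1
  haveI := hℋ.2
  obtain ⟨n₀, hn₀⟩ := exists_isGloballyGenerated_tw n k ℋ
  have hz : IsZero (CohB1.tensorMod ℋ (Twist.twistProjSpace n k ((max d₀ n₀ : ℕ) : ℤ))) :=
    isZero_of_isGloballyGenerated _ (hn₀ _ (le_max_right _ _)) (h _ (le_max_left _ _))
  exact IsZero.of_full_of_faithful_of_isZero (twEquiv k n ((max d₀ n₀ : ℕ) : ℤ)).functor ℋ hz

theorem nonempty_ext_twist_addEquiv (𝒢 ω : (CohB1.ProjSpace n k).Modules) (m : ℤ) (j : ℕ) :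
    Nonempty (Ext (CohB1.tensorMod 𝒢 (Twist.twistProjSpace n k (-m))) ω j ≃+
      Ext 𝒢 (CohB1.tensorMod ω (Twist.twistProjSpace n k m)) j) := by
  let E := twEquiv' k n m
  haveI := preservesBinaryBiproducts_of_preservesBinaryProducts E.functor
  haveI : E.functor.Additive := Functor.additive_of_preservesBinaryBiproducts _
  haveI : E.inverse.Additive := E.toAdjunction.right_adjoint_additive
  exact Groth.Agent.Lib.Helper5.ExtAdj.nonempty_ext_addEquiv E.toAdjunction 𝒢 ω j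

theorem subsingleton_HH_iff_ext (ℱ : (CohB1.ProjSpace n k).Modules) (hℱ : Coh.IsCoh ℱ) (p : ℕ)
    (hp : p ≤ n) :
    Subsingleton (Coh.HH (CohB1.ProjSpace n k) ℱ p) ↔
      Subsingleton (Ext ℱ (Twist.twistProjSpace n k (-((n : ℤ) + 1))) (n - p)) := by
  obtain ⟨e⟩ := (serre_duality ℱ hℱ).1 (n - p) (Nat.sub_le _ _)
  have h1 : n - (n - p) = p := by omega
  rw [h1] at e
  rw [← Module.subsingleton_dual_iff k (V := Coh.HH (CohB1.ProjSpace n k) ℱ p)]
  exact e.toEquiv.subsingleton_congr.symm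

section LG

variable (F G : (CohB1.ProjSpace n k).Modules) (hF : Coh.IsCoh F) (hG : Coh.IsCoh G)
  [ModSite.HasSheafHom (O := (CohB1.ProjSpace n k).sheaf) F]
  [HasInjectiveResolutions (ModSite.Mod (CohB1.ProjSpace n k).sheaf)]

instance : IsLocallyNoetherian (CohB1.ProjSpace n k) := by
  haveI := Groth.Agent.Lib.Helper29.QCoh.isProper_toSpec n k
  exact LocallyOfFiniteType.isLocallyNoetherian (CohB1.ProjSpace.toSpec n k)

include hF hG in
lemma exists_vanishing (q : ℕ) : ∃ j₀ : ℤ, ∀ j : ℤ, j₀ ≤ j → ∀ p : ℕ,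
    Subsingleton (Coh.HH (CohB1.ProjSpace n k)
      ((ModSite.extSh (O := (CohB1.ProjSpace n k).sheaf) F q).obj
        (CohB1.tensorMod G (Twist.twistProjSpace n k j))) (p + 1)) := by
  have hEc : Coh.IsCoh ((ModSite.extSh (O := (CohB1.ProjSpace n k).sheaf) F q).obj G) :=
    Groth.Agent.Lib.Helper17.ExtCohGlobal.isCoh_extSh F G hF hG q
  obtain ⟨j₀, h⟩ := exists_vanishing_tw n k _ hEc
  refine ⟨j₀, fun j hj p => ?_⟩
  obtain ⟨e⟩ := Groth.Agent.Lib.Helper17.ExtTwist2.nonempty_extSh_twist_iso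
    (O := (CohB1.ProjSpace n k).sheaf) F (Twist.twistProjSpace n k j)
    (Groth.Agent.Lib.Helper5.LocBasisScheme.hasLocBases_of_isFinLocFree _
      (isFinLocFree_twist n k j)) q G
  exact Groth.Agent.Lib.Lead.Pn.subsingleton_HH_of_iso e.symm (p + 1) (h j hj (p + 1) (by omega))

include hF hG in
theorem exists_ext_iff_HH0 (i : ℕ) : ∃ d₀ : ℕ, ∀ d : ℕ, d₀ ≤ d →
    (Subsingleton (Ext F (CohB1.tensorMod G (Twist.twistProjSpace n k (d : ℤ))) i) ↔
      Subsingleton (Coh.HH (CohB1.ProjSpace n k)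
        (CohB1.tensorMod ((ModSite.extSh (O := (CohB1.ProjSpace n k).sheaf) F i).obj G)
          (Twist.twistProjSpace n k (d : ℤ))) 0)) := by
  choose j₀ hj₀ using exists_vanishing k n F G hF hG
  refine ⟨((Finset.range i).sup fun q => (j₀ q).toNat), fun d hd => ?_⟩
  obtain ⟨e⟩ := Groth.Agent.Lib.Helper17.LGExt.nonempty_ext_linearEquiv k F
    (CohB1.tensorMod G (Twist.twistProjSpace n k (d : ℤ))) i (fun q hq p => hj₀ q d (by
      have h1 : (j₀ q).toNat ≤ d :=
        le_trans (Finset.le_sup (f := fun q => (j₀ q).toNat) (Finset.mem_range.mpr hq)) hd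
      omega) p)
  obtain ⟨e'⟩ := Groth.Agent.Lib.Helper17.ExtTwist2.nonempty_extSh_twist_iso
    (O := (CohB1.ProjSpace n k).sheaf) F (Twist.twistProjSpace n k (d : ℤ))
    (Groth.Agent.Lib.Helper5.LocBasisScheme.hasLocBases_of_isFinLocFree _
      (isFinLocFree_twist n k (d : ℤ))) i G
  rw [e.toEquiv.subsingleton_congr]
  exact ⟨fun h => Groth.Agent.Lib.Lead.Pn.subsingleton_HH_of_iso e' 0 h,
    fun h => Groth.Agent.Lib.Lead.Pn.subsingleton_HH_of_iso e'.symm 0 h⟩

end LG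

section K

variable (𝒢 : (CohB1.ProjSpace n k).Modules) (h𝒢 : Coh.IsCoh 𝒢)
  [ModSite.HasSheafHom (O := (CohB1.ProjSpace n k).sheaf) 𝒢]
  [HasInjectiveResolutions (ModSite.Mod (CohB1.ProjSpace n k).sheaf)]

lemma isCoh_twist (d : ℤ) : Coh.IsCoh (Twist.twistProjSpace n k d) :=
  ⟨twist_isQuasicoherent n k d,
    isFiniteType_of_isInvertible (isInvertible_twistProjSpace n k d)⟩

include h𝒢 in
/-- `H^p(P, 𝒢(-m)) = 0` for `m ≫ 0` iff `ℰxt^{n-p}(𝒢, ω_P) = 0`. -/
theorem vanishing_iff (p : ℕ) (hp : p ≤ n) :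
    (∃ m₀ : ℤ, ∀ m : ℤ, m₀ ≤ m → Subsingleton (Coh.HH (CohB1.ProjSpace n k)
      (CohB1.tensorMod 𝒢 (Twist.twistProjSpace n k (-m))) p)) ↔
    IsZero ((ModSite.extSh (O := (CohB1.ProjSpace n k).sheaf) 𝒢 (n - p)).obj
      (Twist.twistProjSpace n k (-((n : ℤ) + 1)))) := by
  have hω := isCoh_twist k n (-((n : ℤ) + 1))
  have hℋ : Coh.IsCoh ((ModSite.extSh (O := (CohB1.ProjSpace n k).sheaf) 𝒢 (n - p)).obj
      (Twist.twistProjSpace n k (-((n : ℤ) + 1)))) :=
    Groth.Agent.Lib.Helper17.ExtCohGlobal.isCoh_extSh 𝒢 _ h𝒢 hω (n - p)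
  obtain ⟨d₀, hd₀⟩ := exists_ext_iff_HH0 k n 𝒢 (Twist.twistProjSpace n k (-((n : ℤ) + 1))) h𝒢 hω
    (n - p)
  have key : ∀ m : ℕ, d₀ ≤ m →
      (Subsingleton (Coh.HH (CohB1.ProjSpace n k)
        (CohB1.tensorMod 𝒢 (Twist.twistProjSpace n k (-(m : ℤ)))) p) ↔
      Subsingleton (Coh.HH (CohB1.ProjSpace n k)
        (CohB1.tensorMod ((ModSite.extSh (O := (CohB1.ProjSpace n k).sheaf) 𝒢 (n - p)).obj
          (Twist.twistProjSpace n k (-((n : ℤ) + 1)))) (Twist.twistProjSpace n k (m : ℤ))) 0)) := by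
    intro m hm
    haveI := h𝒢.1
    haveI := h𝒢.2
    haveI := (isCoh_twist k n (-(m : ℤ))).1
    haveI := (isCoh_twist k n (-(m : ℤ))).2
    have hc : Coh.IsCoh (CohB1.tensorMod 𝒢 (Twist.twistProjSpace n k (-(m : ℤ)))) :=
      ⟨inferInstance, inferInstance⟩
    rw [subsingleton_HH_iff_ext k n _ hc p hp]
    obtain ⟨e⟩ := nonempty_ext_twist_addEquiv k n 𝒢 (Twist.twistProjSpace n k (-((n : ℤ) + 1)))
      (m : ℤ) (n - p)
    rw [e.toEquiv.subsingleton_congr]
    exact hd₀ m hm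
  constructor
  · rintro ⟨m₀, hm₀⟩
    refine isZero_of_forall_subsingleton_HH0 k n _ hℋ (max d₀ m₀.toNat) (fun d hd => ?_)
    exact (key d (le_trans (le_max_left _ _) hd)).1 (hm₀ d (by
      have := le_trans (le_max_right d₀ m₀.toNat) hd
      omega))
  · intro hz
    refine ⟨d₀, fun m hm => ?_⟩
    lift m to ℕ using (by omega)
    refine (key m (by exact_mod_cast hm)).2 ?_
    apply subsingleton_HH_zero_of_isZero
    exact Functor.map_isZero (twEquiv k n (m : ℤ)).functor hz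

end K

end Pn

section main

variable (k : Type u) [Field k] (n r s : ℕ) (hr : r ≤ n)
  (X : Scheme.{u}) (ι : X ⟶ CohB1.ProjSpace n k) [IsClosedImmersion ι]
  [ModSite.HasSheafHom (O := (CohB1.ProjSpace n k).sheaf)
    ((Scheme.Modules.pushforward ι).obj (Coh.structureModule X))]
  [HasInjectiveResolutions (ModSite.Mod (CohB1.ProjSpace n k).sheaf)]

lemma bridge (m : ℤ) (p : ℕ) :
    Subsingleton (Coh.HH X ((Scheme.Modules.pullback ι).obj (Twist.twistProjSpace n k (-m))) p) ↔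
      Subsingleton (Coh.HH (CohB1.ProjSpace n k)
        (CohB1.tensorMod ((Scheme.Modules.pushforward ι).obj (Coh.structureModule X))
          (Twist.twistProjSpace n k (-m))) p) := by
  haveI : (Twist.twistProjSpace n k (-m)).IsQuasicoherent := twist_isQuasicoherent n k (-m)
  haveI : (Coh.structureModule X).IsQuasicoherent := isQuasicoherent_unitM X
  rw [← subsingleton_HH_iff_push ι (Twist.twistProjSpace n k (-m)) (isFinLocFree_twist n k (-m))
    (Coh.structureModule X) p]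
  let e : CohB1.tensorMod (Coh.structureModule X)
      ((Scheme.Modules.pullback ι).obj (Twist.twistProjSpace n k (-m))) ≅
      (Scheme.Modules.pullback ι).obj (Twist.twistProjSpace n k (-m)) :=
    Groth.Agent.Lib.Helper17.IHom.tensorUnitIso (O := X.sheaf) _
  exact ⟨fun h => Groth.Agent.Lib.Lead.Pn.subsingleton_HH_of_iso e.symm p h,
    fun h => Groth.Agent.Lib.Lead.Pn.subsingleton_HH_of_iso e p h⟩

include hr in
theorem main :
    (∀ p : ℕ, r - s ≤ p → p < r → ∃ m₀ : ℤ, ∀ m : ℤ, m₀ ≤ m →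
        Subsingleton (Coh.HH X ((Scheme.Modules.pullback ι).obj (Twist.twistProjSpace n k (-m))) p)) ↔
      (∀ p : ℕ, r - s ≤ p → p < r →
        IsZero ((ModSite.extSh (O := (CohB1.ProjSpace n k).sheaf)
          ((Scheme.Modules.pushforward ι).obj (Coh.structureModule X)) (n - p)).obj
          (Twist.twistProjSpace n k (-((n : ℤ) + 1))))) := by
  haveI : HasExt.{u} (CohB1.ProjSpace n k).Modules := hasExt_of_enoughInjectives _
  haveI : (Coh.structureModule X).IsQuasicoherent := isQuasicoherent_unitM X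
  haveI : (Coh.structureModule X).IsFiniteType :=
    isFiniteType_of_isInvertible (isInvertible_unit X)
  have hc : Coh.IsCoh ((Scheme.Modules.pushforward ι).obj (Coh.structureModule X)) :=
    isCoh_push n k ι _ ⟨inferInstance, inferInstance⟩
  refine forall_congr' fun p => forall_congr' fun _ => forall_congr' fun hp => ?_
  rw [← vanishing_iff k n _ hc p (by omega)]
  exact exists_congr fun m₀ => forall_congr' fun m => forall_congr' fun _ => bridge k n X ι m p

end main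

end Groth.Agent.Lib.Helper17.DualVanish
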