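import Mathlib
import Groth.Agent.Lib.Helper17.DT3
import Groth.Agent.Lib.Lead.SD.QCohDual
import Groth.Agent.S0458
import Groth.Agent.Lib.Helper12.Dev12

/-!
# Existence of a coherent `r`-dualizing pair for a closed subscheme of `P^n_k` of dimension `≤ r`
-/

set_option autoImplicit false
set_option maxHeartbeats 4000000
set_option synthInstance.maxHeartbeats 400000
set_option backward.isDefEq.respectTransparency.types false

universe u

open CategoryTheory Limits AlgebraicGeometry TopologicalSpace Opposite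

namespace Groth.Agent.Lib.Helper17.DualTrace

open Groth.Agent.Lib.Helper29.QCoh Groth.Agent.Lib.Lead.SD

theorem exists_isRDualOver (k : Type u) [Field k] (n r : ℕ)
    (X : Scheme.{u}) [X.Over (Spec (CommRingCat.of k))]
    (ι : X ⟶ CohB1.ProjSpace n k) [IsClosedImmersion ι]
    (hι : ι ≫ CohB1.ProjSpace.toSpec n k = X ↘ Spec (CommRingCat.of k))
    (hdim : topologicalKrullDim ↥X ≤ (r : WithBot ℕ∞)) :
    ∃ (ω : X.Modules) (tr : Coh.HH X ω r →ₗ[k] k), Coh.IsCoh ω ∧ Canon.IsRDualOver k X r ω tr := by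
  haveI : IsLocallyNoetherian X := LocallyOfFiniteType.isLocallyNoetherian ι
  haveI : IsProper (X ↘ Spec (CommRingCat.of k)) := by
    rw [← hι]
    infer_instance
  haveI : CompactSpace X :=
    QuasiCompact.compactSpace_of_compactSpace (X ↘ Spec (CommRingCat.of k))
  haveI : IsNoetherian X := { }
  haveI : NoetherianSpace X := inferInstance
  by_cases hrn : r ≤ n
  · haveI : EnoughInjectives (CohB1.ProjSpace n k).Modules :=
      Groth.Agent.S0485.result (Opens.grothendieckTopology (CohB1.ProjSpace n k))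
        (CohB1.ProjSpace n k).ringCatSheaf
    haveI : HasInjectiveResolutions (ModSite.Mod (CohB1.ProjSpace n k).sheaf) :=
      inferInstanceAs (HasInjectiveResolutions (CohB1.ProjSpace n k).Modules)
    haveI : ModSite.HasSheafHom (O := (CohB1.ProjSpace n k).sheaf)
        ((Scheme.Modules.pushforward ι).obj (Coh.structureModule X)) :=
      Groth.Agent.Lib.Helper17.IHom.hasSheafHom _
    obtain ⟨ω, hω, ⟨e⟩⟩ := exists_pushforward_iso_extSh ι (n - r)
      (Twist.twistProjSpace n k (-((n : ℤ) + 1)))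
      (Groth.Agent.Lib.Helper17.DualPnB.isCoh_twist k n _)
    obtain ⟨t, hd⟩ := Groth.Agent.Lib27.Sch.DualizingExt.main k n r hrn X ι hι hdim ω ⟨e⟩
    exact ⟨ω, t, hω, isRDualOver_of_perf k r ω hω.1 t (fun F hF ψ => hd F hF ψ)⟩
  · push Not at hrn
    have hdimX : topologicalKrullDim ↥X ≤ (n : WithBot ℕ∞) :=
      (ι.isClosedEmbedding.isInducing.topologicalKrullDim_le).trans
        (Groth.Agent.Lib.Lead.SD.CMEquiv.topologicalKrullDim_projSpace_le k n)
    haveI : NoetherianSpace ↑X.toTopCat := (inferInstance : NoetherianSpace X)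
    have hvan : ∀ F : X.Modules, Subsingleton (Coh.HH X F r) := fun F =>
      Groth.Agent.S0458.result (X := X.toTopCat) n hdimX (Coh.toAb F) r hrn
    obtain ⟨Z, hz⟩ : ∃ Z : X.Modules, IsZero Z := ⟨_, isZero_zero _⟩
    have hcoh : Coh.IsCoh Z :=
      Groth.Agent.Lib.Helper12.H12Dev.isCoh_of_isZero Z hz
    refine ⟨Z, 0, hcoh, hcoh.1, fun F hF => ⟨?_, ?_⟩⟩
    · intro φ φ' _
      exact hz.eq_of_tgt _ _
    · intro ψ
      refine ⟨0, ?_⟩
      apply LinearMap.ext
      intro x
      haveI := hvan F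
      rw [Subsingleton.elim x 0, map_zero, map_zero]

end Groth.Agent.Lib.Helper17.DualTrace
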