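import Mathlib

/-!
# Localization at a prime which is locally principal is a DVR
-/

set_option autoImplicit false

namespace Groth.Agent.Lib.Helper17.DVRPrincipal

theorem isDVR_of_principal {R : Type*} [CommRing R] [IsDomain R] [IsNoetherianRing R]
    (P : Ideal R) [P.IsPrime] (hP0 : P ≠ ⊥) (g : R) (hg : g ∈ P) (S : Set R)
    (hS : Ideal.span S = P) (h : ∀ f ∈ S, ∃ s ∉ P, ∃ u, f * s = u * g) :
    IsDiscreteValuationRing (Localization.AtPrime P) := by
  have hinj : Function.Injective (algebraMap R (Localization.AtPrime P)) :=
    IsLocalization.injective _ P.primeCompl_le_nonZeroDivisors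
  have : IsDomain (Localization.AtPrime P) :=
    IsLocalization.isDomain_localization P.primeCompl_le_nonZeroDivisors
  have hmax : IsLocalRing.maximalIdeal (Localization.AtPrime P) =
      Ideal.span {algebraMap R (Localization.AtPrime P) g} := by
    rw [← Localization.AtPrime.map_eq_maximalIdeal]
    apply le_antisymm
    · have hS' : Ideal.map (algebraMap R (Localization.AtPrime P)) P =
          Ideal.span (algebraMap R (Localization.AtPrime P) '' S) :=
        (congrArg (Ideal.map (algebraMap R (Localization.AtPrime P))) hS).symm.trans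
          (Ideal.map_span _ _)
      rw [hS', Ideal.span_le]
      rintro _ ⟨f, hf, rfl⟩
      obtain ⟨s, hs, u, hu⟩ := h f hf
      have hsu : IsUnit (algebraMap R (Localization.AtPrime P) s) :=
        IsLocalization.map_units _ (⟨s, hs⟩ : P.primeCompl)
      rw [SetLike.mem_coe, Ideal.mem_span_singleton, ← hsu.dvd_mul_right, ← map_mul, hu, map_mul]
      exact Dvd.intro_left _ rfl
    · rw [Ideal.span_singleton_le_iff_mem]
      exact Ideal.mem_map_of_mem _ hg
  have hnf : ¬ IsField (Localization.AtPrime P) := by
    rw [IsLocalRing.isField_iff_maximalIdeal_eq, ← Localization.AtPrime.map_eq_maximalIdeal,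
      Ideal.map_eq_bot_iff_of_injective hinj]
    exact hP0
  have hpr : (IsLocalRing.maximalIdeal (Localization.AtPrime P)).IsPrincipal := ⟨⟨_, hmax⟩⟩
  exact ((IsDiscreteValuationRing.TFAE (Localization.AtPrime P) hnf).out 0 4).2 hpr

end Groth.Agent.Lib.Helper17.DVRPrincipal
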