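import Mathlib
import Groth.Prelude.Def_ArtFun

/-!
# Endomorphisms of a deformation of a brick are scalars
-/

set_option autoImplicit false
set_option linter.unusedSectionVars false
universe u v w w'

namespace Groth.Agent.Lib.Helper17.DefModEnd

open TensorProduct

/-- Flat colon lemma: if `a • w ∈ J F` with `F` flat then `w ∈ (J : a) F`. -/
theorem mem_colon_smul_top {R : Type u} [CommRing R] {F : Type v} [AddCommGroup F] [Module R F]
    [Module.Flat R F] (J : Ideal R) (a : R) (w : F)
    (hw : a • w ∈ J • (⊤ : Submodule R F)) :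
    w ∈ (LinearMap.ker (J.mkQ ∘ₗ LinearMap.mul R R a) : Ideal R) • (⊤ : Submodule R F) := by
  let g : R →ₗ[R] R ⧸ J := J.mkQ ∘ₗ LinearMap.mul R R a
  let C : Ideal R := LinearMap.ker g
  have hex : Function.Exact (C.subtype.lTensor F) (g.lTensor F) :=
    Module.Flat.lTensor_exact F (LinearMap.exact_subtype_ker_map g)
  have h0 : (g.lTensor F) (w ⊗ₜ[R] (1 : R)) = 0 := by
    apply (TensorProduct.tensorQuotEquivQuotSMul F J).injective
    rw [map_zero, LinearMap.lTensor_tmul]
    have : g 1 = Ideal.Quotient.mk J a := by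
      simp [g]
    rw [this, TensorProduct.tensorQuotEquivQuotSMul_tmul_mk, Submodule.Quotient.mk_eq_zero]
    exact hw
  obtain ⟨z, hz⟩ := (hex _).1 h0
  have key : ∀ z : F ⊗[R] C, TensorProduct.rid R F ((C.subtype.lTensor F) z) ∈
      C • (⊤ : Submodule R F) := by
    intro z
    induction z using TensorProduct.induction_on with
    | zero => simp
    | tmul x c =>
      rw [LinearMap.lTensor_tmul, TensorProduct.rid_tmul]
      exact Submodule.smul_mem_smul c.2 trivial
    | add a b ha hb =>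
      rw [map_add, map_add]
      exact Submodule.add_mem _ ha hb
  have := key z
  rw [hz, TensorProduct.rid_tmul, one_smul] at this
  exact this

/-- In a local ring: `a ∉ J`, `a • w ∈ J F`, `F` flat imply `w ∈ m F`. -/
theorem mem_maximalIdeal_smul_top {R : Type u} [CommRing R] [IsLocalRing R] {F : Type v}
    [AddCommGroup F] [Module R F] [Module.Flat R F] (J : Ideal R) (a : R) (ha : a ∉ J) (w : F)
    (hw : a • w ∈ J • (⊤ : Submodule R F)) :
    w ∈ IsLocalRing.maximalIdeal R • (⊤ : Submodule R F) := by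
  have h := mem_colon_smul_top J a w hw
  have hC : (LinearMap.ker (J.mkQ ∘ₗ LinearMap.mul R R a) : Ideal R) ≤
      IsLocalRing.maximalIdeal R := by
    apply IsLocalRing.le_maximalIdeal
    intro htop
    have h1 : (1 : R) ∈ (LinearMap.ker (J.mkQ ∘ₗ LinearMap.mul R R a) : Ideal R) := by
      rw [htop]; trivial
    rw [LinearMap.mem_ker] at h1
    simp only [LinearMap.coe_comp, Function.comp_apply, LinearMap.mul_apply_apply, mul_one,
      Submodule.mkQ_apply, Submodule.Quotient.mk_eq_zero] at h1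
    exact ha h1
  exact Submodule.smul_mono_left hC h

section main
variable {K : Type u} [Field K]
    {D : Type v} [Ring D] [Algebra K D]
    {E : Type w} [AddCommGroup E] [Module K E] [Module D E] [IsScalarTower K D E] [Nontrivial E]
    (hE : ∀ ψ : E →ₗ[D] E, ∃ c : K, ∀ y : E, ψ y = c • y)
    (R : ArtFun.Art K K)
    {F : Type w'} [AddCommGroup F] [Module K F] [Module R F] [Module D F]
    [IsScalarTower K R F] [IsScalarTower K D F] [SMulCommClass R D F] [Module.Flat R F]
    (θ : F →ₗ[D] E) (hθ : ∀ (r : R) (x : F), θ (r • x) = R.res r • θ x)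
    (hsurj : Function.Surjective θ)
    (hker : ∀ x : F, θ x = 0 ↔ x ∈ IsLocalRing.maximalIdeal R • (⊤ : Submodule R F))

include hsurj hker in
/-- `F` is a faithful `R`-module. -/
theorem faithful (a : R) (ha : ∀ x : F, a • x = 0) : a = 0 := by
  by_contra hne
  obtain ⟨e, he⟩ := exists_ne (0 : E)
  obtain ⟨w, rfl⟩ := hsurj e
  apply he
  rw [hker]
  apply mem_maximalIdeal_smul_top (⊥ : Ideal R) a (by simpa using hne) w
  rw [ha w]
  exact Submodule.zero_mem _

include hθ in
theorem theta_algebraMap_smul (c : K) (x : F) : θ (algebraMap K R c • x) = c • θ x := by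
  rw [hθ]
  congr 1
  exact R.res.commutes c

/-- `J F` is stable under `D`. -/
theorem smul_mem_of_mem (J : Ideal R) (d : D) (v : F) (hv : v ∈ J • (⊤ : Submodule R F)) :
    d • v ∈ J • (⊤ : Submodule R F) := by
  refine Submodule.smul_induction_on hv (fun j hj w _ => ?_) (fun a b ha hb => ?_)
  · rw [← smul_comm j d w]
    exact Submodule.smul_mem_smul hj trivial
  · rw [smul_add]
    exact Submodule.add_mem _ ha hb

include hE hθ hsurj hker in
theorem exists_smul (φ : F →ₗ[R] F) (hφ : ∀ (d : D) (x : F), φ (d • x) = d • φ x) :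
    ∃ r : R, ∀ x : F, φ x = r • x := by
  classical
  let m := IsLocalRing.maximalIdeal R
  let P : Ideal R → Prop := fun J => ∃ r : R, ∀ x, φ x - r • x ∈ J • (⊤ : Submodule R F)
  have hP_top : P ⊤ := ⟨0, fun x => by rw [Submodule.top_smul]; trivial⟩
  obtain ⟨J₀, ⟨r₀, hr₀⟩, hmin⟩ := wellFounded_lt.has_min {J : Ideal R | P J} ⟨⊤, hP_top⟩
  suffices hJ₀ : J₀ = ⊥ by
    refine ⟨r₀, fun x => ?_⟩
    have := hr₀ x
    rw [hJ₀, Submodule.bot_smul, Submodule.mem_bot, sub_eq_zero] at this
    exact this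
  by_contra hJ₀
  -- Nakayama
  have hnak : ¬ J₀ ≤ m • J₀ := by
    intro hle
    apply hJ₀
    exact Submodule.eq_bot_of_le_smul_of_le_jacobson_bot m J₀ (IsNoetherian.noetherian J₀) hle
      (IsLocalRing.maximalIdeal_le_jacobson ⊥)
  have hmJ_le : m • J₀ ≤ J₀ := Submodule.smul_le_right
  -- a maximal proper subideal containing `m J₀`
  obtain ⟨J', ⟨hJ'1, hJ'2⟩, hJ'max⟩ := wellFounded_gt.has_min
    {J' : Ideal R | m • J₀ ≤ J' ∧ J' < J₀}
    ⟨m • J₀, le_rfl, lt_of_le_of_ne hmJ_le (fun h => hnak h.ge)⟩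
  obtain ⟨ε, hεJ₀, hεJ'⟩ := SetLike.exists_of_lt hJ'2
  have hsup : J' ⊔ Ideal.span {ε} = J₀ := by
    have hle : J' ⊔ Ideal.span {ε} ≤ J₀ :=
      sup_le hJ'2.le ((Ideal.span_singleton_le_iff_mem _).2 hεJ₀)
    have hlt : J' < J' ⊔ Ideal.span {ε} := by
      apply lt_of_le_of_ne le_sup_left
      intro h
      apply hεJ'
      rw [h]
      exact Ideal.mem_sup_right (Ideal.mem_span_singleton_self ε)
    by_contra hne
    exact hJ'max (J' ⊔ Ideal.span {ε}) ⟨hJ'1.trans le_sup_left, lt_of_le_of_ne hle hne⟩ hlt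
  -- decomposition
  have hdec : ∀ v ∈ J₀ • (⊤ : Submodule R F), ∃ y : F, v - ε • y ∈ J' • (⊤ : Submodule R F) := by
    intro v hv
    refine Submodule.smul_induction_on hv (fun j hj w _ => ?_) (fun a b ha hb => ?_)
    · rw [← hsup] at hj
      obtain ⟨j', hj', e, he, rfl⟩ := Submodule.mem_sup.1 hj
      obtain ⟨c, rfl⟩ := Ideal.mem_span_singleton'.1 he
      refine ⟨c • w, ?_⟩
      rw [add_smul, mul_smul, smul_comm c ε w, add_sub_cancel_right]
      exact Submodule.smul_mem_smul hj' trivial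
    · obtain ⟨y₁, h₁⟩ := ha
      obtain ⟨y₂, h₂⟩ := hb
      refine ⟨y₁ + y₂, ?_⟩
      rw [smul_add, add_sub_add_comm]
      exact Submodule.add_mem _ h₁ h₂
  -- ψ
  let ψ : F → F := fun x => φ x - r₀ • x
  have hψadd : ∀ x₁ x₂, ψ (x₁ + x₂) = ψ x₁ + ψ x₂ := by
    intro x₁ x₂
    simp only [ψ, map_add, smul_add]
    abel
  have hψsub : ∀ x₁ x₂, ψ (x₁ - x₂) = ψ x₁ - ψ x₂ := by
    intro x₁ x₂
    simp only [ψ, map_sub, smul_sub]
    abel
  have hψR : ∀ (a : R) x, ψ (a • x) = a • ψ x := by
    intro a x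
    simp only [ψ, map_smul, smul_sub]
    rw [smul_comm]
  have hψD : ∀ (d : D) x, ψ (d • x) = d • ψ x := by
    intro d x
    simp only [ψ, hφ, smul_sub]
    rw [smul_comm]
  choose y hy using fun x => hdec (ψ x) (hr₀ x)
  choose s hs using hsurj
  have hkey : ∀ w : F, ε • w ∈ J' • (⊤ : Submodule R F) → θ w = 0 := by
    intro w hw
    rw [hker]
    exact mem_maximalIdeal_smul_top J' ε hεJ' w hw
  have hmJF : ∀ (a : R) (v : F), a ∈ m → v ∈ J₀ • (⊤ : Submodule R F) →
      a • v ∈ J' • (⊤ : Submodule R F) := by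
    intro a v ha hv
    have h1 : a • v ∈ m • (J₀ • (⊤ : Submodule R F)) := Submodule.smul_mem_smul ha hv
    rw [← Submodule.smul_assoc] at h1
    exact Submodule.smul_mono_left hJ'1 h1
  have hJm : ∀ (v : F), v ∈ m • (⊤ : Submodule R F) → ε • v ∈ J' • (⊤ : Submodule R F) := by
    intro v hv
    refine Submodule.smul_induction_on hv (fun a ha w _ => ?_) (fun a b ha hb => ?_)
    · rw [smul_comm]
      exact hmJF a (ε • w) ha (Submodule.smul_mem_smul hεJ₀ trivial)
    · rw [smul_add]
      exact Submodule.add_mem _ ha hb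
  have hψker : ∀ x, θ x = 0 → ψ x ∈ J' • (⊤ : Submodule R F) := by
    intro x hx
    rw [hker] at hx
    refine Submodule.smul_induction_on hx (fun a ha w _ => ?_) (fun a b ha hb => ?_)
    · rw [hψR]
      exact hmJF a (ψ w) ha (hr₀ w)
    · rw [hψadd]
      exact Submodule.add_mem _ ha hb
  have hK : ∀ x y', ψ x - ε • y' ∈ J' • (⊤ : Submodule R F) → θ y' = θ (y (s (θ x))) := by
    intro x y' h
    have h1 : ψ (x - s (θ x)) ∈ J' • (⊤ : Submodule R F) := by
      apply hψker
      rw [map_sub, hs, sub_self]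
    rw [hψsub] at h1
    have h2 := hy (s (θ x))
    have h3 : ε • (y' - y (s (θ x))) ∈ J' • (⊤ : Submodule R F) := by
      have : ε • (y' - y (s (θ x))) = (ψ x - ψ (s (θ x))) - (ψ x - ε • y') +
          (ψ (s (θ x)) - ε • y (s (θ x))) := by
        rw [smul_sub]; abel
      rw [this]
      exact Submodule.add_mem _ (Submodule.sub_mem _ h1 h) h2
    have := hkey _ h3
    rw [map_sub, sub_eq_zero] at this
    exact this
  let Ψ : E →ₗ[D] E :=
    { toFun := fun e => θ (y (s e))
      map_add' := by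
        intro e₁ e₂
        have h := hK (s e₁ + s e₂) (y (s e₁) + y (s e₂)) (by
          rw [hψadd, smul_add, add_sub_add_comm]
          exact Submodule.add_mem _ (hy _) (hy _))
        rw [map_add, map_add, hs, hs] at h
        exact h.symm
      map_smul' := by
        intro d e
        have h := hK (d • s e) (d • y (s e)) (by
          rw [hψD, smul_comm ε d, ← smul_sub]
          exact smul_mem_of_mem R J' d _ (hy _))
        rw [map_smul, map_smul, hs] at h
        exact h.symm }
  obtain ⟨c, hc⟩ := hE Ψ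
  have hPJ' : P J' := by
    refine ⟨r₀ + ε * algebraMap K R c, fun x => ?_⟩
    have h1 : φ x - (r₀ + ε * algebraMap K R c) • x =
        (ψ x - ε • y x) + ε • (y x - algebraMap K R c • x) := by
      simp only [ψ, add_smul, mul_smul, smul_sub]
      abel
    rw [h1]
    apply Submodule.add_mem _ (hy x)
    apply hJm
    rw [← hker, map_sub, theta_algebraMap_smul R θ hθ, hK x (y x) (hy x)]
    have := hc (θ x)
    change θ (y (s (θ x))) = c • θ x at this
    rw [this, sub_self]
  exact hmin J' hPJ' hJ'2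

include hE hθ hsurj hker in
theorem existsUnique_smul (φ : F →ₗ[R] F) (hφ : ∀ (d : D) (x : F), φ (d • x) = d • φ x) :
    ∃! r : R, ∀ x : F, φ x = r • x := by
  obtain ⟨r, hr⟩ := exists_smul hE R θ hθ hsurj hker φ hφ
  refine ⟨r, hr, fun r' hr' => ?_⟩
  rw [← sub_eq_zero]
  apply faithful R θ hsurj hker
  intro x
  rw [sub_smul, ← hr, ← hr', sub_self]

end main

end Groth.Agent.Lib.Helper17.DefModEnd
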