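import Mathlib.Algebra.Homology.DerivedCategory.Ext.Linear
import Mathlib.Algebra.Homology.DerivedCategory.Ext.ExactSequences
import Mathlib.Algebra.Homology.DerivedCategory.Ext.EnoughInjectives
import Groth.Agent.Lib.Helper22.DimShiftIso

/-!
# The degenerate local-to-global `Ext` isomorphism, abstractly and linearly

`𝒞` an `R`-linear abelian category with enough injectives, `T : 𝒞 ⥤ 𝒞` left exact (the internal Hom
`ℋom(F, -)`), `U` an object (the unit) with natural `R`-linear `η : Hom(F, G) ≃ Hom(U, T G)` and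
`Ext^{>0}(U, T I) = 0` for injective `I`.  If `Ext^{>0}(U, R^qT G) = 0` for all `q < m` then
`Ext^m(F, G) ≃ₗ[R] Hom(U, R^mT G)`.
-/

set_option autoImplicit false

universe w v u

open CategoryTheory Limits Abelian

namespace Groth.Agent.Lib.Helper17.DegLG

open Groth.Agent.Lib.Helper22.DimShift

variable {𝒞 : Type u} [Category.{v} 𝒞] [Abelian 𝒞] [HasExt.{w} 𝒞] [EnoughInjectives 𝒞]

section helpers

variable {U : 𝒞}

lemma ext_zero_of_iso {Y Y' : 𝒞} (e : Y ≅ Y') {n : ℕ} (h : ∀ x : Ext U Y n, x = 0)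
    (x : Ext U Y' n) : x = 0 := by
  have h1 : x = (x.comp (Ext.mk₀ e.inv) (add_zero n)).comp (Ext.mk₀ e.hom) (add_zero n) := by
    rw [Ext.comp_assoc_of_third_deg_zero, Ext.mk₀_comp_mk₀, e.inv_hom_id, Ext.comp_mk₀_id]
  rw [h1, h (x.comp (Ext.mk₀ e.inv) (add_zero n)), Ext.zero_comp]

lemma ext_X₃_zero {S : ShortComplex 𝒞} (hS : S.ShortExact) (n : ℕ)
    (h2 : ∀ x : Ext U S.X₂ n, x = 0) (h1 : ∀ x : Ext U S.X₁ (n + 1), x = 0)
    (x : Ext U S.X₃ n) : x = 0 := by
  obtain ⟨x₂, rfl⟩ := Ext.covariant_sequence_exact₃ U hS x rfl (h1 _)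
  rw [h2 x₂, Ext.zero_comp]

lemma ext_X₂_zero {S : ShortComplex 𝒞} (hS : S.ShortExact) (n : ℕ)
    (h1 : ∀ x : Ext U S.X₁ n, x = 0) (h3 : ∀ x : Ext U S.X₃ n, x = 0)
    (x : Ext U S.X₂ n) : x = 0 := by
  obtain ⟨x₁, rfl⟩ := Ext.covariant_sequence_exact₂ U hS x (h3 _)
  rw [h1 x₁, Ext.zero_comp]

lemma exists_lift {S : ShortComplex 𝒞} (hS : S.ShortExact) (h1 : ∀ x : Ext U S.X₁ 1, x = 0)
    (c : U ⟶ S.X₃) : ∃ b : U ⟶ S.X₂, b ≫ S.g = c := by
  obtain ⟨x₂, hx₂⟩ := Ext.covariant_sequence_exact₃ U hS (Ext.mk₀ c) (zero_add 1) (h1 _)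
  obtain ⟨b, rfl⟩ := (Ext.mk₀_bijective _ _).2 x₂
  rw [Ext.mk₀_comp_mk₀] at hx₂
  exact ⟨b, (Ext.mk₀_bijective _ _).1 hx₂⟩

end helpers

section main

variable (T : 𝒞 ⥤ 𝒞) [T.Additive] [PreservesFiniteLimits T]

/-- first sequence `0 → TG → TI → C → 0` -/
noncomputable def ses1 (G : 𝒞) : ShortComplex 𝒞 :=
  ShortComplex.mk (T.map (injSC G).f) (Abelian.factorThruImage (T.map (injSC G).g)) (by
    rw [← cancel_mono (Abelian.image.ι _), Category.assoc, Abelian.image.fac, zero_comp,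
      ← T.map_comp, (injSC G).zero, T.map_zero])

lemma ses1_shortExact (G : 𝒞) : (ses1 T G).ShortExact := by
  have hS := injSC_shortExact G
  haveI : Mono (injSC G).f := hS.mono_f
  have hex : ((injSC G).map T).Exact :=
    hS.exact.map_of_mono_of_preservesKernel T inferInstance inferInstance
  let φ : ses1 T G ⟶ (injSC G).map T :=
    { τ₁ := 𝟙 _
      τ₂ := 𝟙 _
      τ₃ := Abelian.image.ι _
      comm₁₂ := by
        change 𝟙 _ ≫ T.map _ = T.map _ ≫ 𝟙 _
        rw [Category.id_comp, Category.comp_id]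
      comm₂₃ := by
        change 𝟙 _ ≫ T.map _ = Abelian.factorThruImage _ ≫ Abelian.image.ι _
        rw [Category.id_comp, Abelian.image.fac] }
  haveI : Epi φ.τ₁ := inferInstanceAs (Epi (𝟙 _))
  haveI : IsIso φ.τ₂ := inferInstanceAs (IsIso (𝟙 _))
  haveI : Mono φ.τ₃ := inferInstanceAs (Mono (Abelian.image.ι _))
  have hex1 : (ses1 T G).Exact := (ShortComplex.exact_iff_of_epi_of_isIso_of_mono φ).2 hex
  have hm : Mono (ses1 T G).f := inferInstanceAs (Mono (T.map (injSC G).f))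
  have he : Epi (ses1 T G).g := inferInstanceAs (Epi (Abelian.factorThruImage _))
  exact ShortComplex.ShortExact.mk' hex1 hm he

/-- second sequence `0 → C → TQ → coker → 0` -/
noncomputable def ses2 (G : 𝒞) : ShortComplex 𝒞 :=
  ShortComplex.mk (Abelian.image.ι (T.map (injSC G).g)) (cokernel.π (T.map (injSC G).g))
    (kernel.condition _)

lemma ses2_shortExact (G : 𝒞) : (ses2 T G).ShortExact := by
  have hm : Mono (ses2 T G).f := inferInstanceAs (Mono (Abelian.image.ι _))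
  have he : Epi (ses2 T G).g := inferInstanceAs (Epi (cokernel.π _))
  exact ShortComplex.ShortExact.mk' (ShortComplex.exact_kernel _) hm he

variable {R : Type*} [CommRing R] [Linear R 𝒞] (F U : 𝒞)
  (η : ∀ G : 𝒞, (F ⟶ G) ≃ₗ[R] (U ⟶ T.obj G))
  (hη : ∀ {G G' : 𝒞} (φ : F ⟶ G) (g : G ⟶ G'), η G' (φ ≫ g) = η G φ ≫ T.map g)
  (hac : ∀ (I : 𝒞), Injective I → ∀ (p : ℕ) (x : Ext U (T.obj I) (p + 1)), x = 0)

include hac in
lemma ext_C_zero (G : 𝒞) (p : ℕ) (hTG : ∀ x : Ext U (T.obj G) (p + 2), x = 0)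
    (x : Ext U (ses1 T G).X₃ (p + 1)) : x = 0 :=
  ext_X₃_zero (ses1_shortExact T G) (p + 1)
    (hac _ (inferInstanceAs (Injective (injSC G).X₂)) p) hTG x

include η hη hac in
theorem one (G : 𝒞) (h1 : ∀ x : Ext U (T.obj G) 1, x = 0) (h2 : ∀ x : Ext U (T.obj G) 2, x = 0) :
    Nonempty (Ext F G 1 ≃ₗ[R] (U ⟶ cokernel (T.map (injSC G).g))) := by
  have hS := injSC_shortExact G
  let δ : (F ⟶ (injSC G).X₃) →ₗ[R] Ext F G 1 :=
    { toFun := fun φ => (Ext.mk₀ φ).comp hS.extClass (zero_add 1)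
      map_add' := fun φ φ' => by rw [Ext.mk₀_add, Ext.add_comp]
      map_smul' := fun a φ => by rw [Ext.mk₀_smul, Ext.smul_comp]; rfl }
  have hδ : ∀ φ, δ φ = (Ext.mk₀ φ).comp hS.extClass (zero_add 1) := fun _ => rfl
  have hδsurj : Function.Surjective δ := by
    intro x
    obtain ⟨x₃, hx₃⟩ := Ext.covariant_sequence_exact₁ F hS x
      (Ext.eq_zero_of_injective _) (zero_add 1)
    obtain ⟨φ, rfl⟩ := (Ext.mk₀_bijective _ _).2 x₃
    exact ⟨φ, hx₃⟩
  let ψ : (F ⟶ (injSC G).X₃) →ₗ[R] (U ⟶ cokernel (T.map (injSC G).g)) :=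
    (Linear.rightComp R U (cokernel.π (T.map (injSC G).g))).comp
      (η (injSC G).X₃).toLinearMap
  have hψ : ∀ φ, ψ φ = η (injSC G).X₃ φ ≫ cokernel.π (T.map (injSC G).g) := fun _ => rfl
  have hC1 : ∀ x : Ext U (ses1 T G).X₃ 1, x = 0 := ext_C_zero T U hac G 0 h2
  have hψsurj : Function.Surjective ψ := by
    intro y
    obtain ⟨z, hz⟩ := exists_lift (ses2_shortExact T G) hC1 y
    exact ⟨(η (injSC G).X₃).symm z, by rw [hψ, LinearEquiv.apply_symm_apply]; exact hz⟩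
  have hker : LinearMap.ker δ = LinearMap.ker ψ := by
    ext φ
    rw [LinearMap.mem_ker, LinearMap.mem_ker, hδ, hψ]
    constructor
    · intro h
      obtain ⟨x₂, hx₂⟩ := Ext.covariant_sequence_exact₃ F hS (Ext.mk₀ φ) (zero_add 1) h
      obtain ⟨φ', rfl⟩ := (Ext.mk₀_bijective _ _).2 x₂
      rw [Ext.mk₀_comp_mk₀] at hx₂
      have : φ' ≫ (injSC G).g = φ := (Ext.mk₀_bijective _ _).1 hx₂
      rw [← this, hη, Category.assoc, cokernel.condition, comp_zero]
    · intro h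
      -- η φ factors through the image
      let c : U ⟶ (ses1 T G).X₃ := kernel.lift _ (η (injSC G).X₃ φ) h
      have hc : c ≫ Abelian.image.ι (T.map (injSC G).g) = η (injSC G).X₃ φ := kernel.lift_ι _ _ _
      obtain ⟨b, hb⟩ : ∃ b : U ⟶ T.obj (injSC G).X₂,
          b ≫ Abelian.factorThruImage (T.map (injSC G).g) = c :=
        exists_lift (ses1_shortExact T G) h1 c
      have hb' : b ≫ T.map (injSC G).g = η (injSC G).X₃ φ := by
        have e1 : b ≫ T.map (injSC G).g = b ≫ (Abelian.factorThruImage (T.map (injSC G).g) ≫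
            Abelian.image.ι (T.map (injSC G).g)) := congrArg (b ≫ ·) (Abelian.image.fac _).symm
        rw [e1, ← Category.assoc]
        exact (congrArg (· ≫ Abelian.image.ι (T.map (injSC G).g)) hb).trans hc
      have hφ : φ = (η (injSC G).X₂).symm b ≫ (injSC G).g := by
        apply (η (injSC G).X₃).injective
        rw [hη, LinearEquiv.apply_symm_apply, hb']
      rw [hφ, ← Ext.mk₀_comp_mk₀, Ext.comp_assoc_of_second_deg_zero, hS.comp_extClass,
        Ext.comp_zero]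
  exact ⟨(δ.quotKerEquivOfSurjective hδsurj).symm ≪≫ₗ
    Submodule.quotEquivOfEq _ _ hker ≪≫ₗ ψ.quotKerEquivOfSurjective hψsurj⟩

/-- the dimension shift `Ext^{m+2}(F, G) ≃ₗ Ext^{m+1}(F, Q)` -/
theorem shift (G : 𝒞) (m : ℕ) :
    Nonempty (Ext F (injSC G).X₃ (m + 1) ≃ₗ[R] Ext F G (m + 2)) := by
  have hS := injSC_shortExact G
  let δ : Ext F (injSC G).X₃ (m + 1) →ₗ[R] Ext F G (m + 2) :=
    { toFun := fun x => x.comp hS.extClass rfl
      map_add' := fun x y => by rw [Ext.add_comp]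
      map_smul' := fun a x => by rw [Ext.smul_comp]; rfl }
  refine ⟨LinearEquiv.ofBijective δ ⟨?_, ?_⟩⟩
  · rw [← LinearMap.ker_eq_bot, LinearMap.ker_eq_bot']
    intro x hx
    obtain ⟨x₂, rfl⟩ := Ext.covariant_sequence_exact₃ F hS x rfl hx
    rw [Ext.eq_zero_of_injective x₂, Ext.zero_comp]
  · intro y
    exact Ext.covariant_sequence_exact₁ F hS y (Ext.eq_zero_of_injective _) rfl

include η hη hac in
theorem main (m : ℕ) : ∀ (G : 𝒞),
    (∀ q, q < m → ∀ (p : ℕ) (x : Ext U ((T.rightDerived q).obj G) (p + 1)), x = 0) →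
    Nonempty (Ext F G m ≃ₗ[R] (U ⟶ (T.rightDerived m).obj G)) := by
  have hzero : ∀ (G : 𝒞), (∀ (p : ℕ) (x : Ext U ((T.rightDerived 0).obj G) (p + 1)), x = 0) →
      ∀ (p : ℕ) (x : Ext U (T.obj G) (p + 1)), x = 0 := fun G h p x =>
    ext_zero_of_iso (T.rightDerivedZeroIsoSelf.app G) (h p) x
  rcases m with _ | m
  · intro G _
    exact ⟨Ext.linearEquiv₀ ≪≫ₗ η G ≪≫ₗ
      Linear.homCongr R (Iso.refl U) (T.rightDerivedZeroIsoSelf.app G).symm⟩
  · induction m with
    | zero =>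
      intro G h
      have h0 := hzero G (h 0 Nat.one_pos)
      obtain ⟨e⟩ := one T F U η hη hac G (h0 0) (h0 1)
      exact ⟨e ≪≫ₗ Linear.homCongr R (Iso.refl U)
        (rightDerivedOneIso T (injSC G) (injSC_shortExact G)).symm⟩
    | succ m ih =>
      intro G h
      have h0 := hzero G (h 0 (Nat.succ_pos _))
      obtain ⟨e1⟩ := shift (R := R) F G m
      have hQ : ∀ q, q < m + 1 → ∀ (p : ℕ) (x : Ext U ((T.rightDerived q).obj (injSC G).X₃) (p + 1)),
          x = 0 := by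
        intro q hq p x
        rcases q with _ | q
        · refine ext_zero_of_iso (T.rightDerivedZeroIsoSelf.app _).symm ?_ x
          intro y
          refine ext_X₂_zero (ses2_shortExact T G) (p + 1) (ext_C_zero T U hac G p (h0 (p + 1))) ?_ y
          intro z
          exact ext_zero_of_iso (rightDerivedOneIso T (injSC G) (injSC_shortExact G))
            (h 1 (by omega) p) z
        · exact ext_zero_of_iso (rightDerivedSuccSuccIso T (injSC G) (injSC_shortExact G) q)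
            (h (q + 2) (by omega) p) x
      obtain ⟨e2⟩ := ih (injSC G).X₃ hQ
      exact ⟨e1.symm ≪≫ₗ e2 ≪≫ₗ Linear.homCongr R (Iso.refl U)
        (rightDerivedSuccSuccIso T (injSC G) (injSC_shortExact G) m).symm⟩

end main

end Groth.Agent.Lib.Helper17.DegLG
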