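import Mathlib
import Groth.Agent.Lib.Helper17.DerKInj
import Groth.Agent.Lib.Helper17.AdjHo

/-!
# Derived adjunction at the level of homotopy categories
-/

set_option autoImplicit false
set_option linter.unusedSectionVars false
set_option linter.style.haveILetI false

open CategoryTheory CategoryTheory.Limits CategoryTheory.Functor

universe w₁ w₂ v₁ v₂ v₃ u₁ u₂ u₃

namespace Groth.Agent.Lib.Helper17.DerKInjH

open Groth.Agent.Lib.Helper17.DerAbs Groth.Agent.Lib.Helper17.DProd DerivedCategory
  Groth.Agent.Lib.Helper17.DerKInj Groth.Agent.Lib.Helper17.AdjHo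

variable {A : Type u₁} [Category.{v₁} A] [Abelian A] [HasDerivedCategory.{w₁} A]
  {B : Type u₂} [Category.{v₂} B] [Abelian B] [HasDerivedCategory.{w₂} B]

section

variable (hB : HasKInjRes B) (F : A ⥤ B) (G : B ⥤ A) (adj : F ⊣ G)
    [F.Additive] [G.Additive] [PreservesFiniteLimits F] [PreservesFiniteColimits F]
    (RG : DerivedCategory B ⥤ DerivedCategory A)
    (β : G.mapHomotopyCategory (ComplexShape.up ℤ) ⋙ DerivedCategory.Qh ⟶
      DerivedCategory.Qh ⋙ RG)
    [RG.IsRightDerivedFunctor β (HomotopyCategory.quasiIso B (ComplexShape.up ℤ))]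

include hB

lemma isRightDerivedFunctor_comp_Qh {H : Type u₃} [Category.{v₃} H]
    (Ψ : DerivedCategory A ⥤ H) :
    (RG ⋙ Ψ).IsRightDerivedFunctor
      (whiskerRight β Ψ ≫ (Functor.associator _ _ _).hom)
      (HomotopyCategory.quasiIso B (ComplexShape.up ℤ)) :=
  isRightDerivedFunctor_comp (enoughLocal_Qh hB) (compat_Qh _) RG β Ψ

omit hB in
instance i1 : F.mapDerivedCategory.IsLeftDerivedFunctor F.mapDerivedCategoryFactorsh.hom
    (HomotopyCategory.quasiIso A (ComplexShape.up ℤ)) :=
  isLeftDerivedFunctor_of_inverts _ _ F.mapDerivedCategoryFactorsh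

omit hB in
instance i2 : (F.mapDerivedCategory ⋙ RG).IsLeftDerivedFunctor
    ((Functor.associator _ _ _).inv ≫ whiskerRight F.mapDerivedCategoryFactorsh.hom RG)
    (HomotopyCategory.quasiIso A (ComplexShape.up ℤ)) :=
  isLeftDerivedFunctor_of_inverts _ _
    ((Functor.associator _ _ _).symm ≪≫ isoWhiskerRight F.mapDerivedCategoryFactorsh RG)

/-- The derived adjunction `F ⊣ RG` for `F` exact with right adjoint `G`, when the target of `F`
has K-injective resolutions; `RG` is any right derived functor of `G` (homotopy category level). -/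
noncomputable def derivedAdj : F.mapDerivedCategory ⊣ RG :=
  haveI := isRightDerivedFunctor_comp_Qh hB G RG β F.mapDerivedCategory
  (adjHo adj (ComplexShape.up ℤ)).derived (HomotopyCategory.quasiIso A (ComplexShape.up ℤ))
    (HomotopyCategory.quasiIso B (ComplexShape.up ℤ)) F.mapDerivedCategoryFactorsh.hom β

/-- the unit of the derived functor is invertible on K-injectives -/
lemma isIso_β_app (I : CochainComplex B ℤ) [I.IsKInjective] :
    IsIso (β.app ((HomotopyCategory.quotient _ _).obj I)) :=
  isIso_app (enoughLocal_Qh hB) (compat_Qh _) RG β ⟨I, inferInstance, rfl⟩ (isLocalObj_Qh I)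

lemma derivedAdj_counit_fac (X : HomotopyCategory B (ComplexShape.up ℤ)) :
    F.mapDerivedCategory.map (β.app X) ≫ (derivedAdj hB F G adj RG β).counit.app (Qh.obj X) =
      F.mapDerivedCategoryFactorsh.hom.app ((G.mapHomotopyCategory _).obj X) ≫
        Qh.map ((adjHo adj (ComplexShape.up ℤ)).counit.app X) := by
  haveI := isRightDerivedFunctor_comp_Qh hB G RG β F.mapDerivedCategory
  exact Adjunction.derivedε_fac_app (adjHo adj (ComplexShape.up ℤ))
    (HomotopyCategory.quasiIso B (ComplexShape.up ℤ)) F.mapDerivedCategoryFactorsh.hom β X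

/-- if the counit of `F ⊣ G` is invertible, so is the counit of the derived adjunction -/
theorem isIso_derivedAdj_counit [IsIso adj.counit] :
    IsIso (derivedAdj hB F G adj RG β).counit := by
  haveI : ∀ Y, IsIso ((derivedAdj hB F G adj RG β).counit.app Y) := by
    intro Y
    obtain ⟨X, ⟨e⟩⟩ : ∃ X : HomotopyCategory B (ComplexShape.up ℤ), Nonempty (Qh.obj X ≅ Y) :=
      ⟨_, ⟨Qh.objObjPreimageIso Y⟩⟩
    obtain ⟨K, rfl⟩ := HomotopyCategory.quotient_obj_surjective X
    obtain ⟨I, f, hI, hf⟩ := hB K
    haveI : IsIso (Qh.map ((HomotopyCategory.quotient _ _).map f)) :=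
      Localization.inverts Qh (HomotopyCategory.quasiIso B (ComplexShape.up ℤ)) _
        ((HomotopyCategory.quotient_map_mem_quasiIso_iff f).2 hf)
    let e' : Y ≅ Qh.obj ((HomotopyCategory.quotient _ _).obj I) :=
      e.symm ≪≫ asIso (Qh.map ((HomotopyCategory.quotient _ _).map f))
    rw [NatTrans.isIso_app_iff_of_iso _ e']
    have h := derivedAdj_counit_fac hB F G adj RG β ((HomotopyCategory.quotient _ _).obj I)
    haveI := isIso_β_app hB G RG β I
    haveI : IsIso ((adjHo adj (ComplexShape.up ℤ)).counit.app
        ((HomotopyCategory.quotient _ _).obj I)) := by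
      rw [adjHo_counit_app]
      haveI : IsIso ((Groth.Agent.Lib.Helper13.Kan.adjCx adj (ComplexShape.up ℤ)).counit.app I) := by
        haveI : ∀ n, IsIso (((Groth.Agent.Lib.Helper13.Kan.adjCx adj
            (ComplexShape.up ℤ)).counit.app I).f n) := by
          intro n
          rw [Groth.Agent.Lib.Helper13.Kan.adjCx_counit_app_f]
          exact NatIso.isIso_app_of_isIso adj.counit (I.X n)
        exact HomologicalComplex.Hom.isIso_of_components _
      exact Functor.map_isIso _ _
    haveI : IsIso (F.mapDerivedCategory.map (β.app ((HomotopyCategory.quotient _ _).obj I)) ≫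
        (derivedAdj hB F G adj RG β).counit.app
          (Qh.obj ((HomotopyCategory.quotient _ _).obj I))) := by
      rw [h]
      infer_instance
    exact IsIso.of_isIso_comp_left
      (F.mapDerivedCategory.map (β.app ((HomotopyCategory.quotient _ _).obj I))) _
  exact NatIso.isIso_of_isIso_app _

end

end Groth.Agent.Lib.Helper17.DerKInjH
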