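/-
helper17: resolutions of unbounded complexes by objects of a class of finite "dimension"
(Hartshorne, Residues and Duality, I.4.6).
-/
import Mathlib

universe v u

open CategoryTheory CategoryTheory.Limits

namespace Groth.Agent.Lib.Helper17.PUnb

variable {A : Type u} [Category.{v} A] [Abelian A]

section Cone

open CochainComplex

/-- the map induced on mapping cones by a square of quasi-isomorphisms is a quasi-isomorphism -/
lemma quasiIso_mappingCone_map {K₁ L₁ K₂ L₂ : CochainComplex A ℤ} (φ₁ : K₁ ⟶ L₁) (φ₂ : K₂ ⟶ L₂)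
    (a : K₁ ⟶ K₂) (b : L₁ ⟶ L₂) (comm : φ₁ ≫ b = a ≫ φ₂) [QuasiIso a] [QuasiIso b] :
    QuasiIso (mappingCone.map φ₁ φ₂ a b comm) := by
  letI := HasDerivedCategory.standard A
  rw [← DerivedCategory.isIso_Q_map_iff_quasiIso]
  let ψ := DerivedCategory.Q.mapTriangle.map (mappingCone.triangleMap φ₁ φ₂ a b comm)
  have h₁ : IsIso ψ.hom₁ := by
    change IsIso (DerivedCategory.Q.map a)
    infer_instance
  have h₂ : IsIso ψ.hom₂ := by
    change IsIso (DerivedCategory.Q.map b)
    infer_instance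
  exact Pretriangulated.isIso₃_of_isIso₁₂ ψ
    (DerivedCategory.mappingCone_triangle_distinguished φ₁)
    (DerivedCategory.mappingCone_triangle_distinguished φ₂) h₁ h₂

/-- **Rotation**: for a short exact sequence of complexes `0 → Y' → E → Y'' → 0` and a
quasi-isomorphism `g : Y'' ⟶ I`, there is a quasi-isomorphism `Y'⟦1⟧ ⟶ cone (E ⟶ I)`. -/
lemma exists_quasiIso_shift_to_cone {S : ShortComplex (CochainComplex A ℤ)} (hS : S.ShortExact)
    {I : CochainComplex A ℤ} (g : S.X₃ ⟶ I) [QuasiIso g] :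
    ∃ f : S.X₁⟦(1 : ℤ)⟧ ⟶ mappingCone (S.g ≫ g), QuasiIso f := by
  haveI := mappingCone.quasiIso_descShortComplex hS
  have comm : mappingCone.inr S.f ≫ (mappingCone.descShortComplex S ≫ g) = 𝟙 S.X₂ ≫ (S.g ≫ g) := by
    rw [← Category.assoc, mappingCone.inr_descShortComplex, Category.id_comp]
  haveI := quasiIso_mappingCone_map (mappingCone.inr S.f) (S.g ≫ g) (𝟙 S.X₂)
    (mappingCone.descShortComplex S ≫ g) comm
  exact ⟨(mappingCone.rotateHomotopyEquiv S.f).hom ≫
    mappingCone.map (mappingCone.inr S.f) (S.g ≫ g) (𝟙 S.X₂)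
      (mappingCone.descShortComplex S ≫ g) comm, inferInstance⟩

end Cone

section Class

variable (P : ObjectProperty A)
  (h1 : ∀ X : A, ∃ (Y : A) (i : X ⟶ Y), P Y ∧ Mono i)
  (h2 : ∀ S : ShortComplex A, S.ShortExact → P S.X₁ → (P S.X₂ ↔ P S.X₃))

include h1 h2 in
lemma P_of_isZero {Z : A} (hZ : IsZero Z) : P Z := by
  obtain ⟨Y, -, hY, -⟩ := h1 Z
  let S : ShortComplex A := ShortComplex.mk (𝟙 Y) (0 : Y ⟶ Z) (by simp)
  have hS : S.ShortExact := by
    have sp : S.Splitting :=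
      { r := 𝟙 Y
        s := 0
        f_r := by simp [S]
        s_g := hZ.eq_of_src _ _
        id := by simp [S] }
    exact sp.shortExact
  exact (h2 S hS hY).1 hY

include h1 h2 in
lemma P_of_iso {X Y : A} (e : X ≅ Y) (hX : P X) : P Y := by
  obtain ⟨Z, hZ⟩ := HasZeroObject.zero (C := A)
  let S : ShortComplex A := ShortComplex.mk (0 : Z ⟶ X) e.hom (by simp)
  have hS : S.ShortExact := by
    have sp : S.Splitting :=
      { r := 0
        s := e.inv
        f_r := hZ.eq_of_src _ _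
        s_g := by simp [S]
        id := by simp [S] }
    exact sp.shortExact
  exact (h2 S hS (P_of_isZero P h1 h2 hZ)).1 hX

include h2 in
lemma P_biprod {X Y : A} (hX : P X) (hY : P Y) : P (X ⊞ Y) := by
  let S : ShortComplex A := ShortComplex.mk (biprod.inl : X ⟶ X ⊞ Y) biprod.snd (by simp)
  have hS : S.ShortExact := by
    have sp : S.Splitting :=
      { r := biprod.fst
        s := biprod.inr
        f_r := by simp [S]
        s_g := by simp [S]
        id := by
          dsimp [S]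
          exact biprod.total (X := X) (Y := Y) }
    exact sp.shortExact
  exact (h2 S hS hX).2 hY

end Class

section Hull

/-- chosen hulls -/
structure Hull (P : ObjectProperty A) where
  obj : A → A
  ι : ∀ X, X ⟶ obj X
  mono : ∀ X, Mono (ι X)
  mem : ∀ X, P (obj X)

noncomputable def Hull.ofExists {P : ObjectProperty A}
    (h1 : ∀ X : A, ∃ (Y : A) (i : X ⟶ Y), P Y ∧ Mono i) : Hull P where
  obj X := (h1 X).choose
  ι X := (h1 X).choose_spec.choose
  mono X := (h1 X).choose_spec.choose_spec.2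
  mem X := (h1 X).choose_spec.choose_spec.1

variable {P : ObjectProperty A} (hl : Hull P)

/-- the contractible complex of hulls containing `Y` -/
noncomputable def EObj (Y : CochainComplex A ℤ) : CochainComplex A ℤ :=
  CochainComplex.of (fun k => hl.obj (Y.X k) ⊞ hl.obj (Y.X (k + 1)))
    (fun k => biprod.snd ≫ biprod.inl) (fun k => by simp)

/-- the embedding of `Y` -/
noncomputable def EMap (Y : CochainComplex A ℤ) : Y ⟶ EObj hl Y where
  f k := biprod.lift (hl.ι (Y.X k)) (Y.d k (k + 1) ≫ hl.ι (Y.X (k + 1)))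
  comm' i j hij := by
    obtain rfl : i + 1 = j := hij
    dsimp [EObj]
    rw [CochainComplex.of_d]
    apply biprod.hom_ext
    · simp
    · simp

instance (Y : CochainComplex A ℤ) (k : ℤ) : Mono ((EMap hl Y).f k) := by
  haveI := hl.mono (Y.X k)
  exact mono_of_mono_fac (show (EMap hl Y).f k ≫ biprod.fst = hl.ι (Y.X k) from
    biprod.lift_fst _ _)

/-- embedding data for a complex -/
structure HullData (Y : CochainComplex A ℤ) where
  E : CochainComplex A ℤ
  i : Y ⟶ E
  mono : ∀ k, Mono (i.f k)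

/-- the nontrivial embedding -/
noncomputable def HullData.big (Y : CochainComplex A ℤ) : HullData Y where
  E := EObj hl Y
  i := EMap hl Y
  mono _ := inferInstance

/-- the trivial embedding -/
def HullData.triv (Y : CochainComplex A ℤ) : HullData Y where
  E := Y
  i := 𝟙 Y
  mono k := by simp only [HomologicalComplex.id_f]; infer_instance

end Hull

section Main

variable {P : ObjectProperty A} (hl : Hull P) (N : ℕ) (X : CochainComplex A ℤ)

open Classical in
/-- nontrivial hull below `N`, trivial hull from `N` on -/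
noncomputable def hullC (q : ℕ) (Y : CochainComplex A ℤ) : HullData Y :=
  if q < N then HullData.big hl Y else HullData.triv Y

lemma hullC_of_lt {q : ℕ} (h : q < N) (Y : CochainComplex A ℤ) :
    hullC hl N q Y = HullData.big hl Y := if_pos h

lemma hullC_of_not_lt {q : ℕ} (h : ¬ q < N) (Y : CochainComplex A ℤ) :
    hullC hl N q Y = HullData.triv Y := if_neg h

/-- the successive cokernels -/
noncomputable def Cseq : ℕ → CochainComplex A ℤ
  | 0 => X
  | q + 1 => cokernel (hullC hl N q (Cseq q)).i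

noncomputable abbrev Eq (q : ℕ) : CochainComplex A ℤ := (hullC hl N q (Cseq hl N X q)).E

noncomputable abbrev iq (q : ℕ) : Cseq hl N X q ⟶ Eq hl N X q := (hullC hl N q (Cseq hl N X q)).i

noncomputable def πq (q : ℕ) : Eq hl N X q ⟶ Cseq hl N X (q + 1) := cokernel.π (iq hl N X q)

@[reassoc (attr := simp)]
lemma iq_πq (q : ℕ) : iq hl N X q ≫ πq hl N X q = 0 := cokernel.condition _

@[reassoc (attr := simp)]
lemma iq_πq_f (q : ℕ) (k : ℤ) : (iq hl N X q).f k ≫ (πq hl N X q).f k = 0 := by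
  rw [← HomologicalComplex.comp_f, iq_πq]
  rfl

noncomputable def Sq (q : ℕ) : ShortComplex (CochainComplex A ℤ) :=
  ShortComplex.mk (iq hl N X q) (πq hl N X q) (iq_πq hl N X q)

instance (q : ℕ) (k : ℤ) : Mono ((iq hl N X q).f k) := (hullC hl N q (Cseq hl N X q)).mono k

instance (q : ℕ) : Mono (iq hl N X q) := HomologicalComplex.mono_of_mono_f _ inferInstance

instance (q : ℕ) : Epi (πq hl N X q) :=
  (inferInstance : Epi (cokernel.π (iq hl N X q)))

lemma Sq_shortExact (q : ℕ) : (Sq hl N X q).ShortExact := by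
  haveI : Mono (Sq hl N X q).f := by dsimp [Sq]; infer_instance
  haveI : Epi (Sq hl N X q).g := by dsimp only [Sq]; infer_instance
  exact ShortComplex.ShortExact.mk (ShortComplex.exact_cokernel (iq hl N X q))

lemma Sq_eval_shortExact (q : ℕ) (k : ℤ) :
    ((Sq hl N X q).map (HomologicalComplex.eval A (ComplexShape.up ℤ) k)).ShortExact :=
  (Sq_shortExact hl N X q).map_of_exact _

instance (q : ℕ) (k : ℤ) : Epi ((πq hl N X q).f k) :=
  (Sq_eval_shortExact hl N X q k).epi_g

section Kk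

variable (k : ℤ)

/-- the complex `E₀ᵏ → E₁ᵏ → ⋯` -/
noncomputable def Kk : CochainComplex A ℕ :=
  CochainComplex.of (fun q => (Eq hl N X q).X k)
    (fun q => (πq hl N X q).f k ≫ (iq hl N X (q + 1)).f k)
    (fun q => by simp)

lemma Kk_d (q : ℕ) : (Kk hl N X k).d q (q + 1) = (πq hl N X q).f k ≫ (iq hl N X (q + 1)).f k :=
  by
  dsimp only [Kk]
  rw [CochainComplex.of_d]

lemma Kk_exactAt (q : ℕ) : (Kk hl N X k).ExactAt (q + 1) := by
  rw [HomologicalComplex.exactAt_iff' _ q (q + 1) (q + 1 + 1) (CochainComplex.prev_nat_succ q)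
    (by simp)]
  let S₁ := (Sq hl N X (q + 1)).map (HomologicalComplex.eval A (ComplexShape.up ℤ) k)
  have hS₁ : S₁.Exact := (Sq_eval_shortExact hl N X (q + 1) k).exact
  let S' : ShortComplex A := ShortComplex.mk ((πq hl N X q).f k ≫ (iq hl N X (q + 1)).f k)
    ((πq hl N X (q + 1)).f k) (by simp)
  let φ₁ : S' ⟶ S₁ :=
    { τ₁ := (πq hl N X q).f k
      τ₂ := 𝟙 _
      τ₃ := 𝟙 _
      comm₁₂ := by
        change (πq hl N X q).f k ≫ (iq hl N X (q + 1)).f k =
          ((πq hl N X q).f k ≫ (iq hl N X (q + 1)).f k) ≫ 𝟙 _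
        rw [Category.comp_id]
      comm₂₃ := by
        change 𝟙 _ ≫ (πq hl N X (q + 1)).f k = (πq hl N X (q + 1)).f k ≫ 𝟙 _
        rw [Category.comp_id, Category.id_comp] }
  let φ₂ : S' ⟶ (Kk hl N X k).sc' q (q + 1) (q + 1 + 1) :=
    { τ₁ := 𝟙 _
      τ₂ := 𝟙 _
      τ₃ := (iq hl N X (q + 1 + 1)).f k
      comm₁₂ := by
        change 𝟙 _ ≫ (Kk hl N X k).d q (q + 1) =
          ((πq hl N X q).f k ≫ (iq hl N X (q + 1)).f k) ≫ 𝟙 _
        rw [Kk_d, Category.comp_id, Category.id_comp]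
      comm₂₃ := by
        change 𝟙 _ ≫ (Kk hl N X k).d (q + 1) (q + 1 + 1) =
          (πq hl N X (q + 1)).f k ≫ (iq hl N X (q + 1 + 1)).f k
        rw [Kk_d, Category.id_comp] }
  haveI : Epi φ₁.τ₁ := (inferInstance : Epi ((πq hl N X q).f k))
  haveI : IsIso φ₁.τ₂ := (inferInstance : IsIso (𝟙 ((Eq hl N X (q + 1)).X k)))
  haveI : Mono φ₁.τ₃ := (inferInstance : Mono (𝟙 ((Cseq hl N X (q + 1 + 1)).X k)))
  haveI : Epi φ₂.τ₁ := (inferInstance : Epi (𝟙 ((Eq hl N X q).X k)))
  haveI : IsIso φ₂.τ₂ := (inferInstance : IsIso (𝟙 ((Eq hl N X (q + 1)).X k)))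
  haveI : Mono φ₂.τ₃ := (inferInstance : Mono ((iq hl N X (q + 1 + 1)).f k))
  rw [← ShortComplex.exact_iff_of_epi_of_isIso_of_mono φ₂,
    ShortComplex.exact_iff_of_epi_of_isIso_of_mono φ₁]
  exact hS₁

end Kk

section Final

omit hl in
lemma HullData.isZero_cokernel_of_eq_triv {Y : CochainComplex A ℤ} (D : HullData Y)
    (h : D = HullData.triv Y) : IsZero (cokernel D.i) := by
  subst h
  haveI : Epi (HullData.triv Y).i := (inferInstance : Epi (𝟙 Y))
  exact isZero_cokernel_of_epi _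

omit hl in
lemma HullData.isIso_of_eq_triv {Y : CochainComplex A ℤ} (D : HullData Y)
    (h : D = HullData.triv Y) : IsIso D.i := by
  subst h
  exact (inferInstance : IsIso (𝟙 Y))

omit hl in
lemma HullData.P_iff_of_eq_triv {Y : CochainComplex A ℤ} (D : HullData Y)
    (h : D = HullData.triv Y) (k : ℤ) : P (D.E.X k) ↔ P (Y.X k) := by
  subst h
  exact Iff.rfl

omit hl in
lemma HullData.isZero_of_eq_triv {Y : CochainComplex A ℤ} (D : HullData Y)
    (h : D = HullData.triv Y) (hY : IsZero Y) : IsZero D.E := by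
  subst h
  exact hY

variable (h2 : ∀ S : ShortComplex A, S.ShortExact → P S.X₁ → (P S.X₂ ↔ P S.X₃))

include h2 in
lemma HullData.P_of_eq_big {Y : CochainComplex A ℤ} (D : HullData Y)
    (h : D = HullData.big hl Y) (k : ℤ) : P (D.E.X k) := by
  subst h
  exact P_biprod P h2 (hl.mem _) (hl.mem _)

include h2 in
lemma P_Eq {q : ℕ} (hq : q < N) (k : ℤ) : P ((Eq hl N X q).X k) :=
  HullData.P_of_eq_big hl h2 _ (hullC_of_lt hl N hq _) k

lemma isZero_Cseq_succ {q : ℕ} (hq : ¬ q < N) : IsZero (Cseq hl N X (q + 1)) :=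
  HullData.isZero_cokernel_of_eq_triv _ (hullC_of_not_lt hl N hq _)

lemma isZero_Eq {q : ℕ} (hq : N < q) : IsZero (Eq hl N X q) := by
  obtain ⟨q, rfl⟩ : ∃ r, q = r + 1 := ⟨q - 1, by omega⟩
  exact HullData.isZero_of_eq_triv _ (hullC_of_not_lt hl N (by omega) _)
    (isZero_Cseq_succ hl N X (by omega))

include h2 in
lemma P_Cseq_N (m : ℕ) (hN : N = m + 1)
    (h3 : ∀ K : CochainComplex A ℕ, (∀ i : ℕ, 1 ≤ i → i ≤ N → K.ExactAt i) →
      (∀ i : ℕ, N < i → IsZero (K.X i)) →
      Epi (K.d (N - 1) N) → (∀ i : ℕ, i < N → P (K.X i)) → P (K.X N)) (k : ℤ) :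
    P ((Cseq hl N X N).X k) := by
  refine (HullData.P_iff_of_eq_triv (P := P) (hullC hl N N (Cseq hl N X N))
    (hullC_of_not_lt hl N (lt_irrefl N) _) k).1 ?_
  refine h3 (Kk hl N X k) ?_ ?_ ?_ ?_
  · intro i hi _
    obtain ⟨i, rfl⟩ : ∃ r, i = r + 1 := ⟨i - 1, by omega⟩
    exact Kk_exactAt hl N X k i
  · intro i hi
    exact (HomologicalComplex.eval A (ComplexShape.up ℤ) k).map_isZero (isZero_Eq hl N X hi)
  · subst hN
    rw [Nat.add_sub_cancel, Kk_d]
    haveI : IsIso (iq hl (m + 1) X (m + 1)) :=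
      HullData.isIso_of_eq_triv _ (hullC_of_not_lt hl (m + 1) (lt_irrefl _) _)
    haveI : IsIso ((iq hl (m + 1) X (m + 1)).f k) :=
      (inferInstance : IsIso ((HomologicalComplex.eval A (ComplexShape.up ℤ) k).map
        (iq hl (m + 1) X (m + 1))))
    change Epi ((πq hl (m + 1) X m).f k ≫ (iq hl (m + 1) X (m + 1)).f k)
    exact epi_comp _ _
  · intro i hi
    exact P_Eq hl N X h2 hi k

open CochainComplex in
include h2 in
lemma exists_resolution_aux (m : ℕ) (hN : N = m + 1)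
    (h3 : ∀ K : CochainComplex A ℕ, (∀ i : ℕ, 1 ≤ i → i ≤ N → K.ExactAt i) →
      (∀ i : ℕ, N < i → IsZero (K.X i)) →
      Epi (K.d (N - 1) N) → (∀ i : ℕ, i < N → P (K.X i)) → P (K.X N)) :
    ∀ (j q : ℕ), q + j = N → ∃ (I : CochainComplex A ℤ) (f : Cseq hl N X q ⟶ I),
      QuasiIso f ∧ ∀ k, P (I.X k) := by
  have h1 : ∀ X : A, ∃ (Y : A) (i : X ⟶ Y), P Y ∧ Mono i :=
    fun X => ⟨hl.obj X, hl.ι X, hl.mem X, hl.mono X⟩
  intro j
  induction j with
  | zero =>
    intro q hq
    obtain rfl : q = N := by omega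
    exact ⟨_, 𝟙 _, inferInstance, P_Cseq_N hl q X h2 m hN h3⟩
  | succ j ih =>
    intro q hq
    obtain ⟨I, g, hg, hI⟩ := ih (q + 1) (by omega)
    obtain ⟨f, hf⟩ : ∃ f : (Cseq hl N X q)⟦(1 : ℤ)⟧ ⟶ mappingCone (πq hl N X q ≫ g), QuasiIso f :=
      @exists_quasiIso_shift_to_cone _ _ _ _ (Sq_shortExact hl N X q) I g hg
    refine ⟨(mappingCone (πq hl N X q ≫ g))⟦(-1 : ℤ)⟧,
      (shiftFunctorCompIsoId (CochainComplex A ℤ) (1 : ℤ) (-1) (by simp)).inv.app _ ≫
        f⟦(-1 : ℤ)⟧', ?_, ?_⟩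
    · haveI : QuasiIso (f⟦(-1 : ℤ)⟧') := (quasiIso_shift_iff f (-1)).2 hf
      infer_instance
    · intro k
      change P ((mappingCone (πq hl N X q ≫ g)).X (k + -1))
      refine P_of_iso P h1 h2
        (HomologicalComplex.homotopyCofiber.XIsoBiprod (πq hl N X q ≫ g) (k + -1) k
          (by simp)).symm ?_
      exact P_biprod P h2 (P_Eq hl N X h2 (by omega) k) (hI _)

include h2 in
/-- **Main theorem**: every complex admits a quasi-isomorphism to a complex with terms in `P`. -/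
theorem exists_resolution (h1 : ∀ X : A, ∃ (Y : A) (i : X ⟶ Y), P Y ∧ Mono i) (n : ℕ) (hn : 1 ≤ n)
    (h3 : ∀ K : CochainComplex A ℕ, (∀ i : ℕ, 1 ≤ i → i ≤ n → K.ExactAt i) →
      (∀ i : ℕ, n < i → IsZero (K.X i)) →
      Epi (K.d (n - 1) n) → (∀ i : ℕ, i < n → P (K.X i)) → P (K.X n)) :
    ∃ (I : CochainComplex A ℤ) (f : X ⟶ I), QuasiIso f ∧ ∀ k : ℤ, P (I.X k) := by
  obtain ⟨m, rfl⟩ : ∃ m, n = m + 1 := ⟨n - 1, by omega⟩
  exact exists_resolution_aux (Hull.ofExists h1) (m + 1) X h2 m rfl h3 (m + 1) 0 (by omega)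

end Final

end Main

end Groth.Agent.Lib.Helper17.PUnb
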