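import Mathlib
import Groth.Prelude
import Groth.Agent.Lib.Helper17.PUnb
import Groth.Agent.Lib.Helper17.TotQis

/-! Dimension functions and resolutions of unbounded complexes (Stacks 07K7 style). -/

universe v u

namespace Groth.Agent.Lib.Helper17.DimFun

open CategoryTheory CategoryTheory.Limits
open Groth.Agent.Lib.Helper17.PUnb Groth.Agent.Lib.Helper17.TotQis

variable {A : Type u} [Category.{v} A] [Abelian A]

section Telescope

variable (Y : ℕ → CochainComplex A ℤ) (t : ∀ j, Y j ⟶ Y (j + 1))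

lemma isIso_ofSequence_map_f (k : ℤ) (J : ℕ) (hJ : ∀ j, J ≤ j → IsIso ((t j).f k))
    (i j : ℕ) (hij : i ≤ j) (hi : J ≤ i) :
    IsIso (((Functor.ofSequence t).map (homOfLE hij)).f k) := by
  obtain ⟨n, rfl⟩ := Nat.exists_eq_add_of_le hij
  induction n with
  | zero =>
    have : homOfLE hij = 𝟙 i := Subsingleton.elim _ _
    rw [this, CategoryTheory.Functor.map_id]
    simp only [HomologicalComplex.id_f]
    infer_instance
  | succ n ih =>
    have h1 : i ≤ i + n := by omega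
    have h2 : i + n ≤ i + n + 1 := by omega
    have : homOfLE hij = homOfLE h1 ≫ homOfLE h2 := Subsingleton.elim _ _
    rw [this, Functor.map_comp, HomologicalComplex.comp_f, Functor.ofSequence_map_homOfLE_succ]
    exact IsIso.comp_isIso' (ih h1) (hJ (i + n) (by omega))

lemma quasiIso_ofSequence_map (ht : ∀ j, QuasiIso (t j))
    (i j : ℕ) (hij : i ≤ j) :
    QuasiIso ((Functor.ofSequence t).map (homOfLE hij)) := by
  obtain ⟨n, rfl⟩ := Nat.exists_eq_add_of_le hij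
  induction n with
  | zero =>
    have : homOfLE hij = 𝟙 i := Subsingleton.elim _ _
    rw [this, CategoryTheory.Functor.map_id]
    infer_instance
  | succ n ih =>
    have h1 : i ≤ i + n := by omega
    have h2 : i + n ≤ i + n + 1 := by omega
    have : homOfLE hij = homOfLE h1 ≫ homOfLE h2 := Subsingleton.elim _ _
    rw [this, Functor.map_comp, Functor.ofSequence_map_homOfLE_succ]
    exact @quasiIso_comp _ _ _ _ _ _ _ _ _ _ _ _ _ (ih h1) (ht (i + n))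

theorem telescope (ht : ∀ j, QuasiIso (t j))
    (hiso : ∀ k : ℤ, ∃ J : ℕ, ∀ j, J ≤ j → IsIso ((t j).f k)) :
    ∃ (L : CochainComplex A ℤ) (f : Y 0 ⟶ L), QuasiIso f ∧
      ∀ k : ℤ, ∃ J : ℕ, ∀ j, J ≤ j → Nonempty ((Y j).X k ≅ L.X k) := by
  let F : ℕ ⥤ CochainComplex A ℤ := Functor.ofSequence t
  have hec : ∀ k : ℤ, ∃ J : ℕ,
      (F ⋙ HomologicalComplex.eval A (ComplexShape.up ℤ) k).IsEventuallyConstantFrom J := by
    intro k
    obtain ⟨J, hJ⟩ := hiso k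
    refine ⟨J, ?_⟩
    intro j φ
    have : φ = homOfLE (leOfHom φ) := Subsingleton.elim _ _
    rw [this]
    exact isIso_ofSequence_map_f Y t k J hJ J j (leOfHom φ) le_rfl
  haveI : ∀ k : ℤ, HasColimit (F ⋙ HomologicalComplex.eval A (ComplexShape.up ℤ) k) :=
    fun k => (hec k).choose_spec.hasColimit
  let c := colimit.cocone F
  have hc : IsColimit c := colimit.isColimit F
  have hι : ∀ k : ℤ, ∃ J : ℕ, ∀ j, J ≤ j → IsIso ((c.ι.app j).f k) := by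
    intro k
    obtain ⟨J, hJ⟩ := hec k
    refine ⟨J, fun j hj => ?_⟩
    exact hJ.isIso_ι_of_isColimit'
      (isColimitOfPreserves (HomologicalComplex.eval A (ComplexShape.up ℤ) k) hc) j (homOfLE hj)
  refine ⟨c.pt, c.ι.app 0, ?_, ?_⟩
  · rw [quasiIso_iff]
    intro k
    obtain ⟨J1, hJ1⟩ := hι (k - 1)
    obtain ⟨J2, hJ2⟩ := hι k
    obtain ⟨J3, hJ3⟩ := hι (k + 1)
    let j := max J1 (max J2 J3)
    have h0 : c.ι.app 0 = F.map (homOfLE (Nat.zero_le j)) ≫ c.ι.app j := (c.w _).symm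
    rw [h0]
    have q1 : QuasiIsoAt (F.map (homOfLE (Nat.zero_le j))) k :=
      (quasiIso_iff _).1 (quasiIso_ofSequence_map Y t ht 0 j (Nat.zero_le j)) k
    have q2 : QuasiIsoAt (c.ι.app j) k :=
      quasiIsoAt_of_isIso_f _ k (hJ1 j (by omega)) (hJ2 j (by omega)) (hJ3 j (by omega))
    exact @quasiIsoAt_comp _ _ _ _ _ _ _ _ _ _ _ _ _ _ q1 q2
  · intro k
    obtain ⟨J, hJ⟩ := hι k
    exact ⟨J, fun j hj => ⟨@asIso _ _ _ _ ((c.ι.app j).f k) (hJ j hj)⟩⟩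

end Telescope

section Psi

variable {P : ObjectProperty A} (hl : Hull P) (Y : CochainComplex A ℤ)

/-- the quotient `E(Y)/Y` -/
noncomputable def CObj : CochainComplex A ℤ := cokernel (EMap hl Y)

/-- the projection `E(Y) ⟶ E(Y)/Y` -/
noncomputable def CProj : EObj hl Y ⟶ CObj hl Y := cokernel.π (EMap hl Y)

@[reassoc (attr := simp)]
lemma EMap_CProj : EMap hl Y ≫ CProj hl Y = 0 := cokernel.condition _

@[reassoc (attr := simp)]
lemma EMap_CProj_f (k : ℤ) : (EMap hl Y).f k ≫ (CProj hl Y).f k = 0 := by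
  rw [← HomologicalComplex.comp_f, EMap_CProj]
  rfl

/-- the short exact sequence `0 → Y → E(Y) → C(Y) → 0` -/
noncomputable def SC : ShortComplex (CochainComplex A ℤ) :=
  ShortComplex.mk (EMap hl Y) (CProj hl Y) (EMap_CProj hl Y)

instance : Mono (EMap hl Y) := HomologicalComplex.mono_of_mono_f _ inferInstance

instance : Epi (CProj hl Y) := (inferInstance : Epi (cokernel.π (EMap hl Y)))

lemma SC_shortExact : (SC hl Y).ShortExact := by
  haveI : Mono (SC hl Y).f := by dsimp [SC]; infer_instance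
  haveI : Epi (SC hl Y).g := by dsimp only [SC]; infer_instance
  exact ShortComplex.ShortExact.mk (ShortComplex.exact_cokernel (EMap hl Y))

lemma SC_eval_shortExact (k : ℤ) :
    ((SC hl Y).map (HomologicalComplex.eval A (ComplexShape.up ℤ) k)).ShortExact :=
  (SC_shortExact hl Y).map_of_exact _

instance (k : ℤ) : Epi ((CProj hl Y).f k) := (SC_eval_shortExact hl Y k).epi_g

/-- first projection of `E(Y)ᵏ` -/
noncomputable def Efst (k : ℤ) : (EObj hl Y).X k ⟶ hl.obj (Y.X k) :=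
  (biprod.fst : hl.obj (Y.X k) ⊞ hl.obj (Y.X (k + 1)) ⟶ _)

/-- second projection of `E(Y)ᵏ` -/
noncomputable def Esnd (k : ℤ) : (EObj hl Y).X k ⟶ hl.obj (Y.X (k + 1)) :=
  (biprod.snd : hl.obj (Y.X k) ⊞ hl.obj (Y.X (k + 1)) ⟶ _)

/-- first inclusion of `E(Y)ᵏ` -/
noncomputable def Einl (k : ℤ) : hl.obj (Y.X k) ⟶ (EObj hl Y).X k :=
  (biprod.inl : _ ⟶ hl.obj (Y.X k) ⊞ hl.obj (Y.X (k + 1)))

/-- second inclusion of `E(Y)ᵏ` -/
noncomputable def Einr (k : ℤ) : hl.obj (Y.X (k + 1)) ⟶ (EObj hl Y).X k :=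
  (biprod.inr : _ ⟶ hl.obj (Y.X k) ⊞ hl.obj (Y.X (k + 1)))

@[reassoc (attr := simp)]
lemma Einl_Efst (k : ℤ) : Einl hl Y k ≫ Efst hl Y k = 𝟙 _ := biprod.inl_fst

@[reassoc (attr := simp)]
lemma Einl_Esnd (k : ℤ) : Einl hl Y k ≫ Esnd hl Y k = 0 := biprod.inl_snd

@[reassoc (attr := simp)]
lemma Einr_Efst (k : ℤ) : Einr hl Y k ≫ Efst hl Y k = 0 := biprod.inr_fst

@[reassoc (attr := simp)]
lemma Einr_Esnd (k : ℤ) : Einr hl Y k ≫ Esnd hl Y k = 𝟙 _ := biprod.inr_snd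

lemma E_total (k : ℤ) : Efst hl Y k ≫ Einl hl Y k + Esnd hl Y k ≫ Einr hl Y k = 𝟙 _ :=
  biprod.total

lemma E_hom_ext {T : A} (k : ℤ) (a b : T ⟶ (EObj hl Y).X k)
    (h1 : a ≫ Efst hl Y k = b ≫ Efst hl Y k) (h2 : a ≫ Esnd hl Y k = b ≫ Esnd hl Y k) : a = b :=
  biprod.hom_ext _ _ h1 h2

@[reassoc]
lemma EObj_d (k : ℤ) : (EObj hl Y).d k (k + 1) = Esnd hl Y k ≫ Einl hl Y (k + 1) := by
  dsimp only [EObj, Esnd, Einl]
  rw [CochainComplex.of_d]

@[reassoc (attr := simp)]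
lemma EMap_f_fst (k : ℤ) : (EMap hl Y).f k ≫ Efst hl Y k = hl.ι (Y.X k) :=
  biprod.lift_fst _ _

@[reassoc (attr := simp)]
lemma EMap_f_snd (k : ℤ) : (EMap hl Y).f k ≫ Esnd hl Y k = Y.d k (k + 1) ≫ hl.ι (Y.X (k + 1)) :=
  biprod.lift_snd _ _

lemma EMap_f (k : ℤ) : (EMap hl Y).f k =
    hl.ι (Y.X k) ≫ Einl hl Y k + Y.d k (k + 1) ≫ hl.ι (Y.X (k + 1)) ≫ Einr hl Y k := by
  apply E_hom_ext hl Y k <;> simp

lemma EObj_exactAt (j : ℤ) : (EObj hl Y).ExactAt j := by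
  obtain ⟨k, rfl⟩ : ∃ k, j = k + 1 := ⟨j - 1, by ring⟩
  rw [HomologicalComplex.exactAt_iff' _ k (k + 1) (k + 1 + 1) (by simp) (by simp)]
  rw [ShortComplex.exact_iff_exact_up_to_refinements]
  intro T x hx
  change T ⟶ (EObj hl Y).X (k + 1) at x
  change x ≫ (EObj hl Y).d (k + 1) (k + 1 + 1) = 0 at hx
  rw [EObj_d] at hx
  have hx' : x ≫ Esnd hl Y (k + 1) = 0 := by
    have := hx =≫ Efst hl Y (k + 1 + 1)
    simpa using this
  refine ⟨T, 𝟙 T, inferInstance, x ≫ Efst hl Y (k + 1) ≫ Einr hl Y k, ?_⟩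
  change 𝟙 T ≫ x = (x ≫ Efst hl Y (k + 1) ≫ Einr hl Y k) ≫ (EObj hl Y).d k (k + 1)
  rw [EObj_d, Category.id_comp]
  apply E_hom_ext hl Y (k + 1)
  · simp
  · simp [hx']

lemma ψ'_comm_aux (i : ℤ) :
    (hl.ι (Y.X (i + 1)) ≫ Einr hl Y i ≫ (CProj hl Y).f i) ≫ (CObj hl Y).d i (i + 1) =
      -(Y.d (i + 1) (i + 1 + 1) ≫ hl.ι (Y.X (i + 1 + 1)) ≫ Einr hl Y (i + 1) ≫
        (CProj hl Y).f (i + 1)) := by
  have h := EMap_CProj_f hl Y (i + 1)
  rw [EMap_f] at h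
  simp only [Preadditive.add_comp, Category.assoc] at h
  have h1 : (CProj hl Y).f i ≫ (CObj hl Y).d i (i + 1) =
      (EObj hl Y).d i (i + 1) ≫ (CProj hl Y).f (i + 1) := (CProj hl Y).comm i (i + 1)
  simp only [Category.assoc, h1, EObj_d_assoc, Einr_Esnd_assoc]
  exact eq_neg_of_add_eq_zero_left h

/-- the chain map `Y⟦1⟧ ⟶ C(Y)` -/
noncomputable def ψ' : Y⟦(1 : ℤ)⟧ ⟶ CObj hl Y where
  f k := hl.ι (Y.X (k + 1)) ≫ Einr hl Y k ≫ (CProj hl Y).f k
  comm' i j hij := by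
    obtain rfl : i + 1 = j := hij
    change (hl.ι (Y.X (i + 1)) ≫ Einr hl Y i ≫ (CProj hl Y).f i) ≫ (CObj hl Y).d i (i + 1) =
      ((1 : ℤ).negOnePow • Y.d (i + 1) (i + 1 + 1)) ≫
        (hl.ι (Y.X (i + 1 + 1)) ≫ Einr hl Y (i + 1) ≫ (CProj hl Y).f (i + 1))
    rw [ψ'_comm_aux, Int.negOnePow_one, Units.neg_smul, one_smul, Preadditive.neg_comp]

lemma ψ'_f (k : ℤ) : (ψ' hl Y).f k = hl.ι (Y.X (k + 1)) ≫ Einr hl Y k ≫ (CProj hl Y).f k := rfl

lemma isIso_Einr_CProj (k : ℤ) (h : IsIso (hl.ι (Y.X k))) :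
    IsIso (Einr hl Y k ≫ (CProj hl Y).f k) := by
  have hS := SC_eval_shortExact hl Y k
  haveI : Epi ((SC hl Y).map (HomologicalComplex.eval A (ComplexShape.up ℤ) k)).g := hS.epi_g
  have hk : ((SC hl Y).map (HomologicalComplex.eval A (ComplexShape.up ℤ) k)).f ≫
      (Esnd hl Y k - Efst hl Y k ≫ inv (hl.ι (Y.X k)) ≫ Y.d k (k + 1) ≫ hl.ι (Y.X (k + 1))) = 0 := by
    change (EMap hl Y).f k ≫ _ = 0
    simp
  let q := hS.exact.desc _ hk
  have hq : (CProj hl Y).f k ≫ q =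
      Esnd hl Y k - Efst hl Y k ≫ inv (hl.ι (Y.X k)) ≫ Y.d k (k + 1) ≫ hl.ι (Y.X (k + 1)) :=
    hS.exact.g_desc _ hk
  have h0 := EMap_CProj_f hl Y k
  rw [EMap_f] at h0
  simp only [Preadditive.add_comp, Category.assoc] at h0
  have h1 : Einl hl Y k ≫ (CProj hl Y).f k =
      -(inv (hl.ι (Y.X k)) ≫ Y.d k (k + 1) ≫ hl.ι (Y.X (k + 1)) ≫ Einr hl Y k ≫
        (CProj hl Y).f k) := by
    rw [← cancel_epi (hl.ι (Y.X k)), Preadditive.comp_neg, IsIso.hom_inv_id_assoc]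
    exact eq_neg_of_add_eq_zero_left h0
  refine ⟨q, ?_, ?_⟩
  · rw [Category.assoc, hq]
    simp
  · rw [← cancel_epi ((CProj hl Y).f k), reassoc_of% hq, Category.comp_id]
    conv_rhs => rw [← Category.id_comp ((CProj hl Y).f k), ← E_total hl Y k]
    simp only [Preadditive.sub_comp, Preadditive.add_comp, Category.assoc, h1,
      Preadditive.comp_neg]
    abel

lemma isIso_ψ'_f (k : ℤ) (h1 : IsIso (hl.ι (Y.X k))) (h2 : IsIso (hl.ι (Y.X (k + 1)))) :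
    IsIso ((ψ' hl Y).f k) := by
  rw [ψ'_f]
  haveI := isIso_Einr_CProj hl Y k h1
  exact IsIso.comp_isIso' h2 (isIso_Einr_CProj hl Y k h1)

open HomologicalComplex in
lemma quasiIso_ψ' : QuasiIso (ψ' hl Y) := by
  rw [quasiIso_iff]
  intro k
  rw [quasiIsoAt_iff_isIso_homologyMap]
  have hS := SC_shortExact hl Y
  have hδ : IsIso (hS.δ k (k + 1) rfl) :=
    hS.isIso_δ k (k + 1) rfl ((EObj_exactAt hl Y k).isZero_homology)
      ((EObj_exactAt hl Y (k + 1)).isZero_homology)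
  have key : homologyMap (ψ' hl Y) k ≫ hS.δ k (k + 1) rfl =
      ((homologyFunctor A (ComplexShape.up ℤ) 0).shiftIso (1 : ℤ) k (k + 1)
        (by ring)).hom.app Y := by
    rw [← cancel_epi ((Y⟦(1 : ℤ)⟧).homologyπ k)]
    let z : (Y⟦(1 : ℤ)⟧).cycles k ⟶ (Y⟦(1 : ℤ)⟧).X k := (Y⟦(1 : ℤ)⟧).iCycles k
    have hz : z ≫ (Y⟦(1 : ℤ)⟧).d k (k + 1) = 0 := (Y⟦(1 : ℤ)⟧).iCycles_d k (k + 1)
    have hid : (Y⟦(1 : ℤ)⟧).liftCycles z (k + 1) (by simp) hz = 𝟙 _ := by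
      rw [← cancel_mono ((Y⟦(1 : ℤ)⟧).iCycles k), liftCycles_i, Category.id_comp]
    rw [← Category.id_comp ((Y⟦(1 : ℤ)⟧).homologyπ k), ← hid]
    let z' : (Y⟦(1 : ℤ)⟧).cycles k ⟶ Y.X (k + 1) := z
    have hz' : z' ≫ Y.d (k + 1) (k + 1 + 1) = 0 := by
      have h2 : z' ≫ ((1 : ℤ).negOnePow • Y.d (k + 1) (k + 1 + 1)) = 0 := hz
      rw [Int.negOnePow_one, Units.neg_smul, one_smul, Preadditive.comp_neg, neg_eq_zero] at h2
      exact h2
    have hL : ((Y⟦(1 : ℤ)⟧).liftCycles z (k + 1) (by simp) hz ≫ (Y⟦(1 : ℤ)⟧).homologyπ k) ≫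
        homologyMap (ψ' hl Y) k ≫ hS.δ k (k + 1) rfl =
        Y.liftCycles z' (k + 1 + 1) (by simp) hz' ≫ Y.homologyπ (k + 1) := by
      rw [Category.assoc, homologyπ_naturality_assoc, liftCycles_comp_cyclesMap_assoc]
      exact hS.δ_eq k (k + 1) rfl (z ≫ (ψ' hl Y).f k) _ (z' ≫ hl.ι (Y.X (k + 1)) ≫ Einr hl Y k)
        (by simp [SC, ψ'_f, z']) z' (by
          change z' ≫ (EMap hl Y).f (k + 1) =
            (z' ≫ hl.ι (Y.X (k + 1)) ≫ Einr hl Y k) ≫ (EObj hl Y).d k (k + 1)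
          rw [EMap_f, EObj_d, Preadditive.comp_add, reassoc_of% hz']
          simp) (k + 1 + 1) (by simp)
    have hR : ((Y⟦(1 : ℤ)⟧).liftCycles z (k + 1) (by simp) hz ≫ (Y⟦(1 : ℤ)⟧).homologyπ k) ≫
        ((homologyFunctor A (ComplexShape.up ℤ) 0).shiftIso (1 : ℤ) k (k + 1)
          (by ring)).hom.app Y =
        Y.liftCycles z' (k + 1 + 1) (by simp) hz' ≫ Y.homologyπ (k + 1) := by
      rw [Category.assoc]
      refine (CochainComplex.liftCycles_shift_homologyπ_assoc Y z (k + 1) (by simp) hz (k + 1)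
        (by ring) (k + 1 + 1) (by simp) _).trans ?_
      erw [Iso.inv_hom_id_app]
      have e1 : Y.liftCycles (z ≫ (Y.shiftFunctorObjXIso 1 k (k + 1) (by ring)).hom) (k + 1 + 1)
          (by simp) (by
            have : (Y.shiftFunctorObjXIso 1 k (k + 1) (by ring)).hom = 𝟙 _ := by
              simp [HomologicalComplex.XIsoOfEq]
              rfl
            rw [this]
            erw [Category.comp_id]
            exact hz') = Y.liftCycles z' (k + 1 + 1) (by simp) hz' := by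
        rw [← cancel_mono (Y.iCycles (k + 1)), liftCycles_i, liftCycles_i]
        simp [z', HomologicalComplex.XIsoOfEq]
      rw [e1]
      exact congrArg _ (Category.comp_id _)
    exact hL.trans hR.symm
  have h3 : IsIso (homologyMap (ψ' hl Y) k ≫ hS.δ k (k + 1) rfl) := by
    rw [key]
    exact (inferInstance : IsIso (((homologyFunctor A (ComplexShape.up ℤ) 0).shiftIso (1 : ℤ) k
      (k + 1) (by ring)).hom.app Y))
  exact @IsIso.of_isIso_comp_right _ _ _ _ _ (homologyMap (ψ' hl Y) k) (hS.δ k (k + 1) rfl) hδ h3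

/-- `Ψ(Y) = C(Y)⟦-1⟧` -/
noncomputable def PsiObj : CochainComplex A ℤ := (CObj hl Y)⟦(-1 : ℤ)⟧

/-- `Y ≅ Y⟦1⟧⟦-1⟧` -/
noncomputable def unitIso : Y ≅ (Y⟦(1 : ℤ)⟧)⟦(-1 : ℤ)⟧ :=
  ((shiftFunctorCompIsoId (CochainComplex A ℤ) (1 : ℤ) (-1) (by norm_num)).app Y).symm

/-- the quasi-isomorphism `Y ⟶ Ψ(Y)` -/
noncomputable def psi : Y ⟶ PsiObj hl Y := (unitIso Y).hom ≫ (ψ' hl Y)⟦(-1 : ℤ)⟧'

lemma quasiIso_psi : QuasiIso (psi hl Y) := by
  haveI := quasiIso_ψ' hl Y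
  dsimp only [psi]
  have h1 : QuasiIso ((ψ' hl Y)⟦(-1 : ℤ)⟧') := by
    rw [CochainComplex.quasiIso_shift_iff]
    infer_instance
  have h2 : QuasiIso (unitIso Y).hom := inferInstance
  exact @quasiIso_comp _ _ _ _ _ _ _ _ _ _ _ _ _ h2 h1

lemma isIso_psi_f (k : ℤ) (h1 : IsIso (hl.ι (Y.X (k - 1)))) (h2 : IsIso (hl.ι (Y.X k))) :
    IsIso ((psi hl Y).f k) := by
  dsimp only [psi]
  rw [HomologicalComplex.comp_f, CochainComplex.shiftFunctor_map_f']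
  have e1 : k - 1 = k + -1 := by ring
  have e2 : k = k + -1 + 1 := by ring
  rw [e1] at h1
  rw [e2] at h2
  have h3 := isIso_ψ'_f hl Y (k + -1) h1 h2
  have h4 : IsIso ((unitIso Y).hom.f k) :=
    (inferInstance : IsIso ((HomologicalComplex.eval A (ComplexShape.up ℤ) k).map (unitIso Y).hom))
  exact IsIso.comp_isIso' h4 h3

end Psi

section Main

variable (d : A → ℕ∞) (hl : Hull (fun X : A => d X = 0))
  (h2 : ∀ X Y : A, d (X ⊞ Y) ≤ max (d X) (d Y))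
  (h3 : ∀ S : ShortComplex A, S.ShortExact → d S.X₃ ≤ max (d S.X₁ - 1) (d S.X₂))

include h2 h3 in
lemma d_CObj (Y : CochainComplex A ℤ) (j : ℤ) : d ((CObj hl Y).X j) ≤ d (Y.X j) - 1 := by
  have hS := SC_eval_shortExact hl Y j
  have h := h3 _ hS
  have hE : d ((EObj hl Y).X j) = 0 := by
    have h4 := h2 (hl.obj (Y.X j)) (hl.obj (Y.X (j + 1)))
    have m1 : d (hl.obj (Y.X j)) = 0 := hl.mem _
    have m2 : d (hl.obj (Y.X (j + 1))) = 0 := hl.mem _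
    rw [m1, m2] at h4
    change d (hl.obj (Y.X j) ⊞ hl.obj (Y.X (j + 1))) = 0
    simpa using h4
  change d ((CObj hl Y).X j) ≤ max (d (Y.X j) - 1) (d ((EObj hl Y).X j)) at h
  rw [hE] at h
  simpa using h

/-- the iterated sequence -/
noncomputable def Yseq (K : CochainComplex A ℤ) : ℕ → CochainComplex A ℤ
  | 0 => K
  | j + 1 => PsiObj hl (Yseq K j)

/-- the transition maps -/
noncomputable def tseq (K : CochainComplex A ℤ) (j : ℕ) : Yseq d hl K j ⟶ Yseq d hl K (j + 1) :=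
  psi hl (Yseq d hl K j)

include h2 h3 in
lemma d_Yseq (K : CochainComplex A ℤ) (j : ℕ) (k : ℤ) :
    d ((Yseq d hl K j).X k) ≤ d (K.X (k - j)) - j := by
  induction j generalizing k with
  | zero => simp [Yseq]
  | succ j ih =>
    change d ((CObj hl (Yseq d hl K j)).X (k + -1)) ≤ _
    refine (d_CObj d hl h2 h3 _ _).trans ?_
    refine (tsub_le_tsub_right (ih (k + -1)) 1).trans ?_
    have e : k + -1 - (j : ℤ) = k - ((j + 1 : ℕ) : ℤ) := by push_cast; ring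
    rw [e, tsub_tsub]
    push_cast
    exact le_rfl

include h2 h3 in
theorem exists_resolution (hiso : ∀ ⦃X Y : A⦄, Nonempty (X ≅ Y) → d X = d Y)
    (hliso : ∀ X, d X = 0 → IsIso (hl.ι X))
    (K : CochainComplex A ℤ)
    (hK : ∀ m : ℤ, ∃ N : ℤ, ∀ n : ℤ, n ≤ N → ∃ k : ℕ, d (K.X n) = k ∧ n + k ≤ m) :
    ∃ (L : CochainComplex A ℤ) (f : K ⟶ L), QuasiIso f ∧ ∀ n, d (L.X n) = 0 := by
  have hz : ∀ k : ℤ, ∃ J : ℕ, ∀ j, J ≤ j → d ((Yseq d hl K j).X k) = 0 := by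
    intro k
    obtain ⟨N, hN⟩ := hK k
    refine ⟨(k - N).toNat, fun j hj => ?_⟩
    obtain ⟨c, hc, hc'⟩ := hN (k - j) (by omega)
    have h5 := d_Yseq d hl h2 h3 K j k
    rw [hc] at h5
    have hcj : c ≤ j := by omega
    have h6 : ((c : ℕ∞) - (j : ℕ∞)) = 0 := tsub_eq_zero_of_le (by exact_mod_cast hcj)
    rw [h6] at h5
    exact le_antisymm h5 zero_le
  have hiso' : ∀ k : ℤ, ∃ J : ℕ, ∀ j, J ≤ j → IsIso ((tseq d hl K j).f k) := by
    intro k
    obtain ⟨J1, hJ1⟩ := hz (k - 1)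
    obtain ⟨J2, hJ2⟩ := hz k
    refine ⟨max J1 J2, fun j hj => ?_⟩
    exact isIso_psi_f hl _ k (hliso _ (hJ1 j (by omega))) (hliso _ (hJ2 j (by omega)))
  obtain ⟨L, f, hf, hL⟩ := telescope (Yseq d hl K) (tseq d hl K)
    (fun j => quasiIso_psi hl _) hiso'
  refine ⟨L, f, hf, fun n => ?_⟩
  obtain ⟨J1, hJ1⟩ := hL n
  obtain ⟨J2, hJ2⟩ := hz n
  rw [← hiso (hJ1 (max J1 J2) (by omega))]
  exact hJ2 _ (by omega)

end Main

end Groth.Agent.Lib.Helper17.DimFun
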