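import Mathlib
import Groth.Prelude.Def_Disc
import Groth.Agent.Lib.Helper17.DiscTransfer

/-!
# Noether different and flat base change
-/

set_option linter.style.haveILetI false

namespace Groth.Agent.Lib.Helper17.DiscTransfer

open TensorProduct

universe u

theorem noetherDifferent_flat_baseChange {A B A' B' : Type u} [CommRing A] [CommRing B]
    [CommRing A'] [CommRing B'] [Algebra A B] [Algebra A A'] [Algebra A B'] [Algebra B B']
    [Algebra A' B'] [IsScalarTower A B B'] [IsScalarTower A A' B']
    [Algebra.IsPushout A B A' B'] [Algebra.FiniteType A B] [Module.Flat A A'] :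
    Disc.noetherDifferent A' B' = (Disc.noetherDifferent A B).map (algebraMap B B') := by
  let g : B →ₐ[A] B' := IsScalarTower.toAlgHom A B B'
  haveI hBB' : Module.Flat B B' :=
    Module.Flat.isBaseChange (R := A) (M := A') (S := B) B'
      (Algebra.IsPushout.out (R := A) (S := B) (R' := A') (S' := B'))
  have hg : g.toRingHom.Flat := by
    show (algebraMap B B').Flat
    rw [RingHom.flat_algebraMap_iff]
    infer_instance
  have hid : (AlgHom.id A B).toRingHom.Flat := RingHom.Flat.id B
  have hflat1 : (Algebra.TensorProduct.map (AlgHom.id A B) g).toRingHom.Flat :=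
    RingHom.Flat.tensorProductMap (R := A) (S := A) hid hg
  let ε : B' ⊗[A'] B' ≃ₐ[B] B ⊗[A] B' := Algebra.IsPushout.cancelBaseChangeAlg A B A' B' B'
  let φ : B ⊗[A] B →+* B' ⊗[A'] B' :=
    (ε.symm : B ⊗[A] B' →+* B' ⊗[A'] B').comp (Algebra.TensorProduct.map (AlgHom.id A B) g).toRingHom
  have hφ : ∀ b₁ b₂ : B, φ (b₁ ⊗ₜ b₂) = algebraMap B B' b₁ ⊗ₜ algebraMap B B' b₂ := by
    intro b₁ b₂
    show ε.symm (Algebra.TensorProduct.map (AlgHom.id A B) g (b₁ ⊗ₜ b₂)) = _
    rw [Algebra.TensorProduct.map_tmul, Algebra.IsPushout.cancelBaseChangeAlg_symm_tmul]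
    rfl
  have hflat : φ.Flat := RingHom.Flat.comp hflat1 (RingHom.Flat.of_bijective ε.symm.bijective)
  refine noetherDifferent_transfer (algebraMap B B') φ ?_ hflat (KaehlerDifferential.ideal_fg A B) ?_
  · intro x
    induction x using TensorProduct.induction_on with
    | zero => simp
    | tmul a b =>
      rw [hφ]
      simp
    | add x y hx hy =>
      simp only [map_add] at hx hy ⊢
      rw [hx, hy]
  · intro b'
    set I : Ideal (B' ⊗[A'] B') := (RingHom.ker (Algebra.TensorProduct.lmul' (S := B) A)).map φ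
      with hI
    let k₁ : B' →ₐ[A] (B' ⊗[A'] B' ⧸ I) :=
      ((Ideal.Quotient.mkₐ A' I).comp
        (Algebra.TensorProduct.includeRight (R := A') (A := B') (B := B'))).restrictScalars A
    let k₂ : B' →ₐ[A] (B' ⊗[A'] B' ⧸ I) :=
      ((Ideal.Quotient.mkₐ A' I).comp
        (Algebra.TensorProduct.includeLeft (R := A') (S := A') (A := B') (B := B'))).restrictScalars A
    have key : k₁ = k₂ := by
      apply Algebra.IsPushout.algHom_ext (R := A) (S := B) (R' := A') (S' := B')
      · ext a'
        show Ideal.Quotient.mk I ((1 : B') ⊗ₜ[A'] (algebraMap A' B' a')) =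
          Ideal.Quotient.mk I ((algebraMap A' B' a') ⊗ₜ[A'] (1 : B'))
        rw [Algebra.algebraMap_eq_smul_one, TensorProduct.tmul_smul, ← TensorProduct.smul_tmul']
      · ext b
        show Ideal.Quotient.mk I ((1 : B') ⊗ₜ[A'] (algebraMap B B' b)) =
          Ideal.Quotient.mk I ((algebraMap B B' b) ⊗ₜ[A'] (1 : B'))
        rw [Ideal.Quotient.eq]
        have h1 : (1 : B) ⊗ₜ[A] b - b ⊗ₜ[A] (1 : B) ∈
            RingHom.ker (Algebra.TensorProduct.lmul' (S := B) A) :=
          KaehlerDifferential.one_smul_sub_smul_one_mem_ideal A b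
        have h2 := Ideal.mem_map_of_mem φ h1
        rw [map_sub, hφ, hφ, map_one] at h2
        exact h2
    have := congrArg (fun k => k b') key
    have h4 : Ideal.Quotient.mk I ((1 : B') ⊗ₜ[A'] b') = Ideal.Quotient.mk I (b' ⊗ₜ[A'] (1 : B')) :=
      this
    rw [Ideal.Quotient.eq] at h4
    exact h4

end Groth.Agent.Lib.Helper17.DiscTransfer
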