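import Mathlib
import Groth.Prelude.Def_Disc

/-!
# The zero locus of the Noether different is the ramification locus
-/

set_option linter.style.haveILetI false

namespace Groth.Agent.Lib.Helper17.DiscUnram

open TensorProduct Polynomial

universe u v

variable {A : Type u} {B : Type v} [CommRing A] [CommRing B] [Algebra A B]

theorem smul_kaehler (b : B) (ω : Ω[B⁄A]) : b • ω = (b ⊗ₜ[A] (1 : B)) • ω := by
  rw [← algebraMap_smul (B ⊗[A] B) b ω]
  rfl

theorem ideal_smul_eq_zero {y : B ⊗[A] B} (hy : y ∈ KaehlerDifferential.ideal A B)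
    (ω : Ω[B⁄A]) : y • ω = 0 :=
  Ideal.Cotangent.smul_eq_zero_of_mem hy (show (KaehlerDifferential.ideal A B).Cotangent from ω)

theorem noetherDifferent_le_annihilator :
    Disc.noetherDifferent A B ≤ Module.annihilator B Ω[B⁄A] := by
  unfold Disc.noetherDifferent
  rw [Ideal.map_le_iff_le_comap]
  intro e he
  rw [Ideal.mem_comap, Module.mem_annihilator]
  intro ω
  obtain ⟨x, rfl⟩ := KaehlerDifferential.fromIdeal_surjective A B ω
  rw [smul_kaehler]
  have h1 : (Algebra.TensorProduct.lmul' (S := B) A e) ⊗ₜ[A] (1 : B) - e ∈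
      KaehlerDifferential.ideal A B := by
    show _ ∈ RingHom.ker _
    rw [RingHom.mem_ker, map_sub]
    simp
  have h2 : (Algebra.TensorProduct.lmul' (S := B) A e) ⊗ₜ[A] (1 : B) =
      ((Algebra.TensorProduct.lmul' (S := B) A e) ⊗ₜ[A] (1 : B) - e) + e := by ring
  rw [h2, add_smul, ideal_smul_eq_zero h1, zero_add, ← map_smul]
  have h3 : e • x = 0 := by
    ext
    exact Submodule.mem_annihilator.mp he x x.2
  rw [h3, map_zero]

theorem exists_pow_mem_noetherDifferent [Algebra.FiniteType A B] (s : B)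
    (hs : s ∈ Module.annihilator B Ω[B⁄A]) : ∃ n : ℕ, s ^ n ∈ Disc.noetherDifferent A B := by
  set I : Ideal (B ⊗[A] B) := KaehlerDifferential.ideal A B with hI
  haveI : Module.Finite (B ⊗[A] B) I := Module.Finite.iff_fg.mpr (KaehlerDifferential.ideal_fg A B)
  let t : B ⊗[A] B := s ⊗ₜ[A] (1 : B)
  let f : Module.End (B ⊗[A] B) I := Algebra.lsmul (B ⊗[A] B) (B ⊗[A] B) I t
  have hf : LinearMap.range f ≤ I • (⊤ : Submodule (B ⊗[A] B) I) := by
    rintro _ ⟨x, rfl⟩
    have h1 : KaehlerDifferential.fromIdeal A B (f x) = 0 := by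
      show KaehlerDifferential.fromIdeal A B (t • x) = 0
      rw [map_smul]
      have := Module.mem_annihilator.mp hs (KaehlerDifferential.fromIdeal A B x)
      rw [smul_kaehler] at this
      exact this
    exact (Submodule.Quotient.mk_eq_zero _).mp h1
  obtain ⟨p, hpm, -, hpc, hp0⟩ :=
    LinearMap.exists_monic_and_natDegree_eq_and_coeff_mem_pow_and_aeval_eq_zero (B ⊗[A] B) f I hf
  refine ⟨p.natDegree, ?_⟩
  let d : B ⊗[A] B := aeval t p
  have hd : d ∈ Submodule.annihilator I := by
    rw [Submodule.mem_annihilator]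
    intro x hx
    have h1 : aeval f p = Algebra.lsmul (B ⊗[A] B) (B ⊗[A] B) I d := by
      show aeval (Algebra.lsmul (B ⊗[A] B) (B ⊗[A] B) I t) p = _
      rw [aeval_algHom_apply]
    rw [h1] at hp0
    have h2 := congrArg (fun g : Module.End (B ⊗[A] B) I => (g ⟨x, hx⟩ : B ⊗[A] B)) hp0
    exact h2
  have hμ : Algebra.TensorProduct.lmul' (S := B) A d = s ^ p.natDegree := by
    show (Algebra.TensorProduct.lmul' (S := B) A : B ⊗[A] B →+* B) (p.eval₂ (algebraMap _ _) t) = _
    rw [Polynomial.hom_eval₂, Polynomial.eval₂_eq_sum_range]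
    rw [Finset.sum_eq_single p.natDegree]
    · rw [Polynomial.Monic.coeff_natDegree hpm]
      simp [t]
    · intro k hk hkn
      have hk' : k < p.natDegree := lt_of_le_of_ne (Nat.lt_succ_iff.mp (Finset.mem_range.mp hk)) hkn
      have h1 : p.coeff k ∈ I := by
        have := hpc k
        refine Ideal.pow_le_self ?_ this
        omega
      have h2 : (Algebra.TensorProduct.lmul' (S := B) A) (p.coeff k) = 0 := h1
      simp only [RingHom.comp_apply, Algebra.algebraMap_self, RingHom.id_apply]
      rw [show ((Algebra.TensorProduct.lmul' (S := B) A : B ⊗[A] B →+* B)) (p.coeff k) = 0 from h2,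
        zero_mul]
    · intro h
      exact absurd (Finset.mem_range.mpr (Nat.lt_succ_self _)) h
  rw [← hμ]
  exact Ideal.mem_map_of_mem _ hd

theorem zeroLocus_noetherDifferent [Algebra.FiniteType A B] :
    {q : PrimeSpectrum B | Disc.noetherDifferent A B ≤ q.asIdeal} =
      (Algebra.unramifiedLocus A B)ᶜ := by
  rw [Algebra.unramifiedLocus_eq_compl_support, compl_compl, Module.support_eq_zeroLocus]
  ext q
  simp only [Set.mem_ofPred_eq, PrimeSpectrum.mem_zeroLocus, SetLike.coe_subset_coe]
  constructor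
  · intro h s hs
    obtain ⟨n, hn⟩ := exists_pow_mem_noetherDifferent s hs
    exact q.isPrime.mem_of_pow_mem n (h hn)
  · intro h
    exact le_trans noetherDifferent_le_annihilator h

end Groth.Agent.Lib.Helper17.DiscUnram
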