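import Mathlib
import Groth.Prelude.Def_SixF1
import Groth.Agent.S0101
import Groth.Agent.Lib.Helper17.DerAbs2
import Groth.Agent.Lib.Helper17.DerKInjH
import Groth.Agent.Lib.Helper5.KInjAdj

/-!
# Composition of unbounded derived direct images of abelian étale sheaves
-/

set_option autoImplicit false
set_option linter.unusedSectionVars false
set_option linter.style.haveILetI false

open CategoryTheory CategoryTheory.Limits CategoryTheory.Functor AlgebraicGeometry Opposite

attribute [local instance] HasDerivedCategory.standard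

namespace Groth.Agent.Lib.Helper17.EtComp

open Groth.Agent.Lib.Helper17.DerAbs Groth.Agent.Lib.Helper17.DerKInj
  Groth.Agent.Lib.Helper17.DerKInjH

section General

universe v₁ v₂ u₁ u₂

variable {A : Type u₁} [Category.{v₁} A] [Preadditive A] {B : Type u₂} [Category.{v₂} B]
  [Preadditive B]

lemma isIso_mapHomotopyCategory_app {F G : A ⥤ B} [F.Additive] [G.Additive] (e : F ≅ G)
    {ι : Type*} (c : ComplexShape ι) (X : HomotopyCategory A c) :
    IsIso ((NatTrans.mapHomotopyCategory e.hom c).app X) := by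
  refine ⟨(NatTrans.mapHomotopyCategory e.inv c).app X, ?_, ?_⟩
  · rw [← NatTrans.comp_app, ← NatTrans.mapHomotopyCategory_comp, e.hom_inv_id,
      NatTrans.mapHomotopyCategory_id]
    rfl
  · rw [← NatTrans.comp_app, ← NatTrans.mapHomotopyCategory_comp, e.inv_hom_id,
      NatTrans.mapHomotopyCategory_id]
    rfl

end General

universe u

variable {X Y Z : Scheme.{u}}

instance pull_preservesFiniteLimits (f : X ⟶ Y) : PreservesFiniteLimits (EtCoh.pull f) :=
  Groth.Agent.S0101.main f

instance pull_preservesFiniteColimits (f : X ⟶ Y) : PreservesFiniteColimits (EtCoh.pull f) :=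
  haveI := (EtCoh.pullPushAdj f).leftAdjoint_preservesColimits
  inferInstance

instance pull_additive (f : X ⟶ Y) : (EtCoh.pull f).Additive :=
  (EtCoh.pullPushAdj f).left_adjoint_additive

/-- direct image of abelian étale sheaves preserves K-injective complexes -/
lemma isKInjective_push (f : X ⟶ Y) (I : CochainComplex (EtCoh.Ab X) ℤ) [I.IsKInjective] :
    CochainComplex.IsKInjective
      (((EtCoh.push f).mapHomologicalComplex (ComplexShape.up ℤ)).obj I) :=
  Groth.Agent.Lib.Helper5.KInjAdj.isKInjective_map (EtCoh.pullPushAdj f) I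

lemma hasKInjRes (X : Scheme.{u}) : HasKInjRes (EtCoh.Ab X) :=
  hasKInjRes_of_isGrothendieckAbelian

variable (f : X ⟶ Y) (g : Y ⟶ Z)
  [DCoh.HasRpushEt X f] [DCoh.HasRpushEt Y g] [DCoh.HasRpushEt X (f ≫ g)]

lemma isIso_compUnit_app (I : CochainComplex (EtCoh.Ab X) ℤ) [I.IsKInjective] :
    IsIso ((EtSix.compUnit f g).app ((HomotopyCategory.quotient _ _).obj I)) := by
  haveI := isKInjective_push f I
  haveI h1 : IsIso (((DCoh.pushEtKh X f).totalRightDerivedUnit DerivedCategory.Qh
      (HomotopyCategory.quasiIso (EtCoh.Ab X) (ComplexShape.up ℤ))).app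
        ((HomotopyCategory.quotient _ _).obj I)) :=
    isIso_β_app (hasKInjRes X) (EtCoh.push f) (DCoh.RpushEt X f) _ I
  haveI h2 : IsIso (((DCoh.pushEtKh Y g).totalRightDerivedUnit DerivedCategory.Qh
      (HomotopyCategory.quasiIso (EtCoh.Ab Y) (ComplexShape.up ℤ))).app
        (((EtCoh.push f).mapHomotopyCategory (ComplexShape.up ℤ)).obj
          ((HomotopyCategory.quotient _ _).obj I))) :=
    isIso_β_app (hasKInjRes Y) (EtCoh.push g) (DCoh.RpushEt Y g) _
      (((EtCoh.push f).mapHomologicalComplex (ComplexShape.up ℤ)).obj I)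
  haveI h3 := isIso_mapHomotopyCategory_app (EtCoh.pushComp g f).symm (ComplexShape.up ℤ)
    ((HomotopyCategory.quotient _ _).obj I)
  dsimp [EtSix.compUnit] at h3 ⊢
  infer_instance

theorem isIso_compMap : IsIso (EtSix.compMap f g) := by
  refine isIso_rightDerivedDesc (enoughLocal_Qh (hasKInjRes X)) (compat_Qh _) _ _ _ _ ?_
  rintro _ ⟨I, hI, rfl⟩ -
  haveI := hI
  exact isIso_compUnit_app f g I

end Groth.Agent.Lib.Helper17.EtComp
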