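import Mathlib
import Groth.Agent.Lib.Helper17.AdjHo

/-!
# The derived adjunction on bounded below derived categories

For `L ⊣ R` with `L` exact between abelian categories with enough injectives,
`L.rightDerivedFunctorPlus ⊣ R.rightDerivedFunctorPlus`.
-/

set_option autoImplicit false
set_option linter.unusedSectionVars false
set_option linter.style.haveILetI false

open CategoryTheory CategoryTheory.Limits CategoryTheory.Functor

universe w₁ w₂ v₁ v₂ u₁ u₂

namespace Groth.Agent.Lib.Helper17.PlusAdj

open Groth.Agent.Lib.Helper17.AdjHo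

variable {A : Type u₁} [Category.{v₁} A] [Abelian A] [HasDerivedCategory.{w₁} A]
  {B : Type u₂} [Category.{v₂} B] [Abelian B] [HasDerivedCategory.{w₂} B]
  {L : A ⥤ B} {R : B ⥤ A} (adj : L ⊣ R) [L.Additive] [R.Additive]

/-- the adjunction on bounded below homotopy categories -/
noncomputable def adjPlus : L.mapHomotopyCategoryPlus ⊣ R.mapHomotopyCategoryPlus :=
  (adjHo adj (ComplexShape.up ℤ)).restrictFullyFaithful
    (HomotopyCategory.Plus.fullyFaithfulι A) (HomotopyCategory.Plus.fullyFaithfulι B)
    (Iso.refl _) (Iso.refl _)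

variable (L) in
lemma inverts_L [PreservesFiniteLimits L] [PreservesFiniteColimits L] :
    (HomotopyCategory.Plus.quasiIso A).IsInvertedBy
      (L.mapHomotopyCategoryPlus ⋙ DerivedCategory.Plus.Qh) := by
  intro X Y f hf
  have h1 : IsIso (DerivedCategory.Qh.map ((HomotopyCategory.Plus.ι A).map f)) :=
    Localization.inverts DerivedCategory.Qh (HomotopyCategory.quasiIso A _) _ hf
  have h2 : IsIso ((L.mapHomotopyCategory (ComplexShape.up ℤ) ⋙ DerivedCategory.Qh).map
      ((HomotopyCategory.Plus.ι A).map f)) := by
    rw [← NatIso.isIso_map_iff L.mapDerivedCategoryFactorsh]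
    exact Functor.map_isIso L.mapDerivedCategory
      (DerivedCategory.Qh.map ((HomotopyCategory.Plus.ι A).map f))
  have h3 : IsIso (DerivedCategory.Plus.ι.map
      ((L.mapHomotopyCategoryPlus ⋙ DerivedCategory.Plus.Qh).map f)) := h2
  exact isIso_of_fully_faithful DerivedCategory.Plus.ι _

variable [EnoughInjectives A] [EnoughInjectives B]
  [PreservesFiniteLimits L] [PreservesFiniteColimits L]

variable (L) in
instance isIso_unit_L : IsIso L.rightDerivedFunctorPlusUnit :=
  isIso_of_isRightDerivedFunctor_of_inverts L.rightDerivedFunctorPlus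
    L.rightDerivedFunctorPlusUnit (inverts_L L)

variable (L) in
/-- the inverse of the unit, as an isomorphism -/
noncomputable def αIso : DerivedCategory.Plus.Qh ⋙ L.rightDerivedFunctorPlus ≅
    L.mapHomotopyCategoryPlus ⋙ DerivedCategory.Plus.Qh :=
  (asIso L.rightDerivedFunctorPlusUnit).symm

instance i1 : L.rightDerivedFunctorPlus.IsLeftDerivedFunctor (αIso L).hom
    (HomotopyCategory.Plus.quasiIso A) :=
  isLeftDerivedFunctor_of_inverts _ _ (αIso L)

variable (L R) in
instance i2 : (L.rightDerivedFunctorPlus ⋙ R.rightDerivedFunctorPlus).IsLeftDerivedFunctor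
    ((Functor.associator _ _ _).inv ≫ whiskerRight (αIso L).hom R.rightDerivedFunctorPlus)
    (HomotopyCategory.Plus.quasiIso A) :=
  isLeftDerivedFunctor_of_inverts _ _
    ((Functor.associator _ _ _).symm ≪≫ isoWhiskerRight (αIso L) R.rightDerivedFunctorPlus)

variable (L R) in
instance i3 : (R.rightDerivedFunctorPlus ⋙ L.rightDerivedFunctorPlus).IsRightDerivedFunctor
    (whiskerRight R.rightDerivedFunctorPlusUnit L.rightDerivedFunctorPlus ≫
      (Functor.associator _ _ _).hom)
    (HomotopyCategory.Plus.quasiIso B) := by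
  refine (HomotopyCategory.Plus.localizerMorphism_derives
    (R.mapHomotopyCategoryPlus ⋙ DerivedCategory.Plus.Qh ⋙
      L.rightDerivedFunctorPlus)).isRightDerivedFunctor_of_isIso _ (fun X₁ => ?_)
  haveI : IsIso (R.rightDerivedFunctorPlusUnit.app
      ((HomotopyCategory.Plus.localizerMorphism B).functor.obj X₁)) :=
    (HomotopyCategory.Plus.localizerMorphism_derives
      (R.mapHomotopyCategoryPlus ⋙ DerivedCategory.Plus.Qh)).isIso_of_isRightDerivedFunctor _ _
  dsimp
  infer_instance

/-- The derived adjunction on `D^+`. -/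
noncomputable def derivedAdjPlus : L.rightDerivedFunctorPlus ⊣ R.rightDerivedFunctorPlus :=
  (adjPlus adj).derived (HomotopyCategory.Plus.quasiIso A) (HomotopyCategory.Plus.quasiIso B)
    (αIso L).hom R.rightDerivedFunctorPlusUnit

end Groth.Agent.Lib.Helper17.PlusAdj
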