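import Mathlib
import Groth.Prelude.Def_EtDl
import Groth.Agent.Lib.Helper10.LanFlat
import Groth.Agent.Lib.Helper17.PlusAdj

/-!
# Exactness of the inverse image of étale sheaves of modules, and the derived adjunction on `D^+`
-/

set_option autoImplicit false
set_option linter.unusedSectionVars false
set_option linter.style.haveILetI false

open CategoryTheory CategoryTheory.Limits CategoryTheory.Functor AlgebraicGeometry Opposite

namespace Groth.Agent.Lib.Helper17.EtModPull

section Lan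

universe w v₁ v₂ u₁ u₂

variable {C : Type u₁} [Category.{v₁} C] {D : Type u₂} [Category.{v₂} D]

open Groth.Agent.Lib.Helper10.LanFlat

theorem lan_preservesFiniteLimits_of_flat_moduleCat (Λ : Type w) [Ring Λ] (F : C ⥤ D)
    [RepresentablyFlat F] [UnivLE.{v₁, w}] [UnivLE.{max u₁ v₂, w}]
    [∀ K : Dᵒᵖ, HasColimitsOfShape (CostructuredArrow F.op K) (ModuleCat.{w} Λ)] :
    PreservesFiniteLimits
      (F.op.lan : (Cᵒᵖ ⥤ ModuleCat.{w} Λ) ⥤ (Dᵒᵖ ⥤ ModuleCat.{w} Λ)) := by
  have h4 : ∀ K : Dᵒᵖ, IsFiltered (CostructuredArrow F.op K) := fun K =>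
    IsFiltered.of_equivalence (structuredArrowOpEquivalence F (Opposite.unop K))
  have h5 : ∀ K : Dᵒᵖ, HasExactColimitsOfShape (CostructuredArrow F.op K) (ModuleCat.{w} Λ) := by
    intro K
    let e := (ShrinkHoms.equivalence.{w} (CostructuredArrow F.op K)).trans
      (Shrink.equivalence.{w, w} (ShrinkHoms.{max u₁ v₂} (CostructuredArrow F.op K)))
    have := IsFiltered.of_equivalence e
    exact HasExactColimitsOfShape.of_domain_equivalence _ e.symm
  exact lan_preservesFiniteLimits_of_flat (ModuleCat.{w} Λ) F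

theorem hasColimitsOfShape_costructuredArrow_moduleCat (Λ : Type w) [Ring Λ] (F : C ⥤ D)
    [UnivLE.{v₁, w}] [UnivLE.{max u₁ v₂, w}] (K : Dᵒᵖ) :
    HasColimitsOfShape (CostructuredArrow F.op K) (ModuleCat.{w} Λ) :=
  hasColimitsOfShape_of_equivalence
    ((ShrinkHoms.equivalence.{w} (CostructuredArrow F.op K)).trans
      (Shrink.equivalence.{w, w} (ShrinkHoms.{max u₁ v₂} (CostructuredArrow F.op K)))).symm

end Lan

universe u

variable (Λ : Type (u + 1)) [CommRing Λ]

instance pull_preservesFiniteLimits {X Y : Scheme.{u}} (f : X ⟶ Y) :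
    PreservesFiniteLimits (EtModW.pull Λ f) := by
  have h1 : ∀ K : (X.Etale)ᵒᵖ, HasColimitsOfShape (CostructuredArrow (EtCoh.bc f).op K)
      (ModuleCat.{u + 1} Λ) :=
    fun K => hasColimitsOfShape_costructuredArrow_moduleCat.{u + 1, u, u, u + 1, u + 1} Λ
      (EtCoh.bc f) K
  have h2 : PreservesFiniteLimits ((EtCoh.bc f).op.lan :
      ((Y.Etale)ᵒᵖ ⥤ ModuleCat.{u + 1} Λ) ⥤ ((X.Etale)ᵒᵖ ⥤ ModuleCat.{u + 1} Λ)) :=
    lan_preservesFiniteLimits_of_flat_moduleCat.{u + 1, u, u, u + 1, u + 1} Λ (EtCoh.bc f)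
  exact Functor.sheafPullbackConstruction.preservesFiniteLimits (EtCoh.bc f) (ModuleCat.{u + 1} Λ)
    Y.smallEtaleTopology X.smallEtaleTopology

end Groth.Agent.Lib.Helper17.EtModPull
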