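import Mathlib

/-!
# Effaceability of Ext classes, and bijectivity of maps on Ext induced by exact functors
-/

set_option autoImplicit false

open CategoryTheory CategoryTheory.Limits DerivedCategory

namespace Groth.Agent.Lib.Helper17.ExtEff

universe w w' v v' u u'

variable {C : Type u} [Category.{v} C] [Abelian C]

section

variable [HasDerivedCategory.{w} C]

/-- a morphism `L[0] ⟶ Y` in the derived category, with `Y` a complex that is zero in degree `0`,
is killed by an epimorphism `L' ⟶ L` -/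
theorem exists_epi_comp_eq_zero_Q {L : C} (Y : CochainComplex C ℤ) (hY : IsZero (Y.X 0))
    (f : Q.obj ((CochainComplex.singleFunctor C 0).obj L) ⟶ Q.obj Y) :
    ∃ (L' : C) (p : L' ⟶ L), Epi p ∧ Q.map ((CochainComplex.singleFunctor C 0).map p) ≫ f = 0 := by
  obtain ⟨X', hX', s, hs, g, rfl⟩ := right_fac_of_isStrictlyLE f 0
  have hd : X'.d 0 1 = 0 := (X'.isZero_of_isStrictlyLE 0 1 (by norm_num)).eq_of_tgt _ _
  let i : (CochainComplex.singleFunctor C 0).obj (X'.X 0) ⟶ X' :=
    HomologicalComplex.mkHomFromSingle (𝟙 _) (fun k hk => by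
      obtain rfl : (0 : ℤ) + 1 = k := hk
      rw [Category.id_comp]
      exact hd)
  let s' : X' ⟶ (HomologicalComplex.single C (ComplexShape.up ℤ) 0).obj L := s
  obtain ⟨p, hpdef⟩ : ∃ p : X'.X 0 ⟶ L,
      p = s'.f 0 ≫ (HomologicalComplex.singleObjXSelf (ComplexShape.up ℤ) 0 L).hom := ⟨_, rfl⟩
  have hp : i ≫ s = (CochainComplex.singleFunctor C 0).map p := by
    apply HomologicalComplex.from_single_hom_ext
    change (HomologicalComplex.mkHomFromSingle (𝟙 (X'.X 0)) _).f 0 ≫ s'.f 0 =
      ((HomologicalComplex.single C (ComplexShape.up ℤ) 0).map p).f 0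
    rw [HomologicalComplex.mkHomFromSingle_f, HomologicalComplex.single_map_f_self, hpdef]
    simp
  have hig : i ≫ g = 0 := by
    apply HomologicalComplex.from_single_hom_ext
    exact hY.eq_of_tgt _ _
  refine ⟨X'.X 0, p, ?_, ?_⟩
  · apply Preadditive.epi_of_cokernel_zero
    have h1 : s ≫ (CochainComplex.singleFunctor C 0).map (cokernel.π p) = 0 := by
      apply HomologicalComplex.to_single_hom_ext
      change s'.f 0 ≫ ((HomologicalComplex.single C (ComplexShape.up ℤ) 0).map (cokernel.π p)).f 0 =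
        (0 : X' ⟶ _).f 0
      rw [HomologicalComplex.single_map_f_self, HomologicalComplex.zero_f]
      have := cokernel.condition p
      rw [hpdef, Category.assoc] at this
      rw [← hpdef] at this
      rw [reassoc_of% this, zero_comp]
    have h2 : Q.map ((CochainComplex.singleFunctor C 0).map (cokernel.π p)) = 0 := by
      rw [← cancel_epi (Q.map s), ← Q.map_comp, h1, Q.map_zero, comp_zero]
    apply (DerivedCategory.singleFunctor C 0).map_injective
    rw [Functor.map_zero]
    exact h2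
  · rw [← hp, Q.map_comp, Category.assoc, IsIso.hom_inv_id_assoc, ← Q.map_comp, hig, Q.map_zero]

end

open Abelian

/-- every class in `Extⁿ(L, M)`, `n ≥ 1`, is killed by an epimorphism `L' ⟶ L` -/
theorem exists_epi_comp_eq_zero [HasExt.{w} C] {L M : C} {n : ℕ} (hn : 1 ≤ n)
    (y : Ext.{w} L M n) :
    ∃ (L' : C) (p : L' ⟶ L), Epi p ∧ (Ext.mk₀ p).comp y (zero_add n) = 0 := by
  letI := HasDerivedCategory.standard C
  let Y : CochainComplex C ℤ := ((CochainComplex.singleFunctor C 0).obj M)⟦(n : ℤ)⟧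
  have hY : IsZero (Y.X 0) := by
    change IsZero (((HomologicalComplex.single C (ComplexShape.up ℤ) 0).obj M).X (0 + (n : ℤ)))
    exact HomologicalComplex.isZero_single_obj_X _ _ _ _ (by omega)
  let e : (Q.obj ((CochainComplex.singleFunctor C 0).obj M))⟦(n : ℤ)⟧ ≅ Q.obj Y :=
    ((Q.commShiftIso (n : ℤ)).app _).symm
  let f : Q.obj ((CochainComplex.singleFunctor C 0).obj L) ⟶
    (Q.obj ((CochainComplex.singleFunctor C 0).obj M))⟦(n : ℤ)⟧ := y.hom
  obtain ⟨L', p, hp, h⟩ := exists_epi_comp_eq_zero_Q Y hY (f ≫ e.hom)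
  refine ⟨L', p, hp, ?_⟩
  apply Ext.ext
  rw [Ext.comp_hom, Ext.mk₀_hom, ShiftedHom.mk₀_comp, Ext.zero_hom]
  change Q.map ((CochainComplex.singleFunctor C 0).map p) ≫ f = 0
  rw [← cancel_mono e.hom, zero_comp, Category.assoc]
  exact h

section Bij

variable {D : Type u'} [Category.{v'} D] [Abelian D] [HasExt.{w} C] [HasExt.{w'} D]
  (φ : C ⥤ D) [φ.Additive] [PreservesFiniteLimits φ] [PreservesFiniteColimits φ] (M : C)

theorem bijective_of_effaceable
    (h0 : ∀ L : C, Function.Bijective (fun f : L ⟶ M => φ.map f))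
    (heff : ∀ (L : C) (n : ℕ), 1 ≤ n → ∀ x : Ext.{w'} (φ.obj L) (φ.obj M) n,
      ∃ (L' : C) (p : L' ⟶ L), Epi p ∧ (Ext.mk₀ (φ.map p)).comp x (zero_add n) = 0)
    (n : ℕ) : ∀ (L : C),
      Function.Bijective (fun f : Ext.{w} L M n => Ext.mapExactFunctor φ f) := by
  induction n with
  | zero =>
    intro L
    have := Ext.mapExactFunctor₀ φ L M
    change Function.Bijective (Ext.mapExactFunctor φ (X := L) (Y := M) (n := 0))
    rw [this]
    exact Ext.homEquiv₀.symm.bijective.comp ((h0 L).comp Ext.homEquiv₀.bijective)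
  | succ n ih =>
    intro L
    constructor
    · change Function.Injective (φ.mapExtAddHom L M (n + 1))
      rw [injective_iff_map_eq_zero]
      intro y hy
      rw [Functor.mapExtAddHom_apply] at hy
      obtain ⟨L', p, hp, hpy⟩ := exists_epi_comp_eq_zero (Nat.le_add_left 1 n) y
      let S := ShortComplex.mk (kernel.ι p) p (kernel.condition p)
      haveI : Epi S.g := hp
      have hS : S.ShortExact := { exact := ShortComplex.exact_kernel p }
      obtain ⟨z, hz⟩ := Ext.contravariant_sequence_exact₃ hS M y hpy (add_comm 1 n)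
      have h1 : (hS.map_of_exact φ).extClass.comp (z.mapExactFunctor φ) (add_comm 1 n) = 0 := by
        have e2 := Ext.mapExactFunctor_comp φ hS.extClass z (add_comm 1 n)
        rw [hz, hy] at e2
        rw [← Ext.mapExactFunctor_extClass φ hS]
        exact e2.symm
      obtain ⟨w₀, hw₀⟩ := Ext.contravariant_sequence_exact₁ (hS.map_of_exact φ) (φ.obj M)
        (z.mapExactFunctor φ) (add_comm 1 n) h1
      obtain ⟨w₁, rfl⟩ := (ih S.X₂).2 w₀
      have h2 : (Ext.mk₀ S.f).comp w₁ (zero_add n) = z := (ih S.X₁).1 (by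
        change ((Ext.mk₀ S.f).comp w₁ (zero_add n)).mapExactFunctor φ = z.mapExactFunctor φ
        rw [Ext.mapExactFunctor_comp, Ext.mapExactFunctor_mk₀]
        exact hw₀)
      rw [← hz, ← h2]
      exact hS.extClass_comp_assoc _
    · intro x
      obtain ⟨L', p, hp, hpx⟩ := heff L (n + 1) (Nat.le_add_left 1 n) x
      let S := ShortComplex.mk (kernel.ι p) p (kernel.condition p)
      haveI : Epi S.g := hp
      have hS : S.ShortExact := { exact := ShortComplex.exact_kernel p }
      obtain ⟨z, hz⟩ := Ext.contravariant_sequence_exact₃ (hS.map_of_exact φ) (φ.obj M) x hpx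
        (add_comm 1 n)
      obtain ⟨z', rfl⟩ := (ih S.X₁).2 z
      refine ⟨hS.extClass.comp z' (add_comm 1 n), ?_⟩
      change (hS.extClass.comp z' (add_comm 1 n)).mapExactFunctor φ = x
      rw [Ext.mapExactFunctor_comp, Ext.mapExactFunctor_extClass]
      exact hz

theorem bijective_iff_effaceable :
    (∀ (L : C) (n : ℕ),
      Function.Bijective (fun f : Ext.{w} L M n => Ext.mapExactFunctor φ f)) ↔
      ((∀ L : C, Function.Bijective (fun f : L ⟶ M => φ.map f)) ∧
        ∀ (L : C) (n : ℕ), 1 ≤ n → ∀ x : Ext.{w'} (φ.obj L) (φ.obj M) n,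
          ∃ (L' : C) (p : L' ⟶ L), Epi p ∧
            (Ext.mk₀ (φ.map p)).comp x (zero_add n) = 0) := by
  constructor
  · intro h
    refine ⟨fun L => ⟨?_, ?_⟩, fun L n hn x => ?_⟩
    · intro f g hfg
      apply (Ext.mk₀_bijective L M).1
      apply (h L 0).1
      change (Ext.mk₀ f).mapExactFunctor φ = (Ext.mk₀ g).mapExactFunctor φ
      rw [Ext.mapExactFunctor_mk₀, Ext.mapExactFunctor_mk₀]
      exact congrArg _ hfg
    · intro g
      obtain ⟨y, hy⟩ := (h L 0).2 (Ext.mk₀ g)
      obtain ⟨f, rfl⟩ := (Ext.mk₀_bijective L M).2 y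
      refine ⟨f, ?_⟩
      apply (Ext.mk₀_bijective _ _).1
      change (Ext.mk₀ f).mapExactFunctor φ = Ext.mk₀ g at hy
      rw [Ext.mapExactFunctor_mk₀] at hy
      exact hy
    · obtain ⟨y, rfl⟩ := (h L n).2 x
      obtain ⟨L', p, hp, hpy⟩ := exists_epi_comp_eq_zero hn y
      refine ⟨L', p, hp, ?_⟩
      change (Ext.mk₀ (φ.map p)).comp (y.mapExactFunctor φ) (zero_add n) = 0
      rw [← Ext.mapExactFunctor_mk₀, ← Ext.mapExactFunctor_comp, hpy, Ext.mapExactFunctor_zero]
  · rintro ⟨h0, heff⟩ L n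
    exact bijective_of_effaceable φ M h0 heff n L

end Bij

end Groth.Agent.Lib.Helper17.ExtEff
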