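import Mathlib

/-!
# Square-zero extensions and generic smoothness

`exists_pow_smul_eq_zero`: for an extension `P` of `B` over `A` with square-zero kernel and
`f = algebraMap g` such that `B_f` is formally smooth over `A`, the kernel of the conormal map
`P.cotangentComplex` is `f`-power torsion.
-/

set_option autoImplicit false
universe u

namespace Groth.Agent.Lib.Helper17.ExtLoc

open Algebra KaehlerDifferential TensorProduct

theorem exists_pow_smul_eq_zero {A B : Type u} [CommRing A] [CommRing B] [Algebra A B]
    (P : Algebra.Extension.{u} A B) (hsq : P.ker ^ 2 = ⊥) (g : P.Ring)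
    [Algebra.FormallySmooth A (Localization.Away (algebraMap P.Ring B g))]
    (x : P.Cotangent) (hx : P.cotangentComplex x = 0) :
    ∃ n : ℕ, (algebraMap P.Ring B g) ^ n • x = 0 := by
  let Eg := Localization.Away g
  let Bf := Localization.Away (algebraMap P.Ring B g)
  let φ : Eg →ₐ[A] Bf := Localization.awayMapₐ (IsScalarTower.toAlgHom A P.Ring B) g
  have hφsurj : Function.Surjective φ := by
    change Function.Surjective (Localization.awayMap (algebraMap P.Ring B) g)
    rw [Localization.awayMap_surjective_iff]
    intro a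
    obtain ⟨b, rfl⟩ := P.algebraMap_surjective a
    exact ⟨b, 0, by simp⟩
  have hker : RingHom.ker (φ : Eg →+* Bf) = P.ker.map (algebraMap P.Ring Eg) :=
    IsLocalization.ker_map (M := Submonoid.powers g) (S := Eg) Bf (algebraMap P.Ring B)
      (Submonoid.map_powers _ g)
  have hsq' : RingHom.ker (φ : Eg →+* Bf) ^ 2 = ⊥ := by
    rw [hker, ← Ideal.map_pow, hsq, Ideal.map_bot]
  let P' : Algebra.Extension.{u} A Bf := Algebra.Extension.ofSurjective φ hφsurj
  let τ : Bf →ₐ[A] P'.Ring :=
    FormallySmooth.liftOfSurjective (AlgHom.id A Bf) φ hφsurj ⟨2, hsq'⟩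
  have hτ : (IsScalarTower.toAlgHom A P'.Ring Bf).comp τ = AlgHom.id A Bf :=
    FormallySmooth.comp_liftOfSurjective (AlgHom.id A Bf) φ hφsurj ⟨2, hsq'⟩
  have hsq'' : RingHom.ker (algebraMap P'.Ring Bf) ^ 2 = ⊥ := hsq'
  let h : P.Hom P' :=
    { toRingHom := algebraMap P.Ring Eg
      toRingHom_algebraMap := fun a => by
        exact (IsScalarTower.algebraMap_apply A P.Ring Eg a).symm
      algebraMap_toRingHom := fun e => by
        change Localization.awayMap (algebraMap P.Ring B) g (algebraMap P.Ring Eg e) = _
        exact IsLocalization.map_eq _ _ }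
  have h0 : P'.cotangentComplex (Algebra.Extension.Cotangent.map h x) = 0 := by
    rw [← Algebra.Extension.CotangentSpace.map_cotangentComplex, hx, map_zero]
  obtain ⟨y, rfl⟩ := Algebra.Extension.Cotangent.mk_surjective x
  rw [Algebra.Extension.Cotangent.map_mk, Algebra.Extension.cotangentComplex_mk] at h0
  have hret := retractionOfSectionOfKerSqZero_comp_kerToTensor τ hsq'' hτ
  have hy' : h.toRingHom y.1 ∈ RingHom.ker (algebraMap P'.Ring Bf) := by
    have := h.algebraMap_toRingHom y.1
    rw [RingHom.mem_ker]
    rw [show algebraMap P.Ring B y.1 = 0 from y.2, map_zero] at this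
    exact this
  have h1 : kerToTensor A P'.Ring Bf ⟨h.toRingHom y.1, hy'⟩ = 0 := h0
  have h2 := LinearMap.congr_fun hret ⟨h.toRingHom y.1, hy'⟩
  rw [LinearMap.comp_apply, h1, map_zero, LinearMap.id_apply] at h2
  have h3 : algebraMap P.Ring Eg y.1 = 0 := congrArg Subtype.val h2.symm
  rw [← map_zero (algebraMap P.Ring Eg), IsLocalization.eq_iff_exists (Submonoid.powers g)] at h3
  obtain ⟨⟨_, n, rfl⟩, hn⟩ := h3
  refine ⟨n, ?_⟩
  rw [← map_pow, algebraMap_smul, ← map_smul]
  have : g ^ n • y = 0 := by
    ext
    simpa using hn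
  rw [this, map_zero]

/-- An element of a projective module over a reduced ring which is killed, for every minimal
prime `p`, by some element outside `p`, is zero. -/
theorem eq_zero_of_forall_minimalPrimes {B M : Type*} [CommRing B] [IsReduced B]
    [AddCommGroup M] [Module B M] [Module.Projective B M] (x : M)
    (h : ∀ p ∈ minimalPrimes B, ∃ s : B, s ∉ p ∧ s • x = 0) : x = 0 := by
  obtain ⟨s, hs⟩ := (Module.projective_def' (R := B) (P := M)).1 inferInstance
  have hsx : s x = 0 := by
    ext m
    have hmem : (s x) m ∈ sInf (minimalPrimes B) := by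
      rw [Ideal.mem_sInf]
      intro p hp
      obtain ⟨t, htp, htx⟩ := h p hp
      have : t * (s x) m = 0 := by
        have := congrArg (fun v => v m) (congrArg s htx)
        simpa using this
      exact (hp.1.1.mem_or_mem (this ▸ p.zero_mem)).resolve_left htp
    rw [minimalPrimes, Ideal.sInf_minimalPrimes] at hmem
    have h0 : (⊥ : Ideal B).radical = ⊥ := by
      have := nilradical_eq_zero B
      rwa [nilradical] at this
    rw [h0] at hmem
    simpa using hmem
  have := LinearMap.congr_fun hs x
  simp only [LinearMap.coe_comp, Function.comp_apply, LinearMap.id_coe, id_eq] at this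
  rw [← this, hsx, map_zero]

end Groth.Agent.Lib.Helper17.ExtLoc
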