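import Mathlib

/-!
# Every class in `Ext¹` is the class of a short exact sequence
-/

set_option autoImplicit false

open CategoryTheory CategoryTheory.Limits Pretriangulated DerivedCategory

namespace Groth.Agent.Lib.Helper17.ExtRealize

universe w v u

variable {C : Type u} [Category.{v} C] [Abelian C]

section

variable [HasDerivedCategory.{w} C]

/-- a distinguished triangle `X[0] ⟶ W ⟶ Z[0] ⟶ X[1]` comes from a short exact sequence -/
theorem exists_shortExact_of_distTriang {X Z : C}
    (φ : (singleFunctor C 0).obj Z ⟶ ((singleFunctor C 0).obj X)⟦(1 : ℤ)⟧) :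
    ∃ (Y : C) (f : X ⟶ Y) (g : Y ⟶ Z) (w : f ≫ g = 0) (hS : (ShortComplex.mk f g w).ShortExact),
      hS.singleδ = φ := by
  obtain ⟨W, f', g', hT⟩ := distinguished_cocone_triangle₂ φ
  haveI : W.IsGE 0 := TStructure.t.isGE₂ _ hT 0
    (inferInstanceAs (((singleFunctor C 0).obj X).IsGE 0))
    (inferInstanceAs (((singleFunctor C 0).obj Z).IsGE 0))
  haveI : W.IsLE 0 := TStructure.t.isLE₂ _ hT 0
    (inferInstanceAs (((singleFunctor C 0).obj X).IsLE 0))
    (inferInstanceAs (((singleFunctor C 0).obj Z).IsLE 0))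
  obtain ⟨Y, ⟨e⟩⟩ := exists_iso_singleFunctor_obj_of_isGE_of_isLE W 0
  let F := singleFunctor C 0
  let f : X ⟶ Y := F.preimage (f' ≫ e.hom)
  let g : Y ⟶ Z := F.preimage (e.inv ≫ g')
  have hf : F.map f = f' ≫ e.hom := F.map_preimage _
  have hg : F.map g = e.inv ≫ g' := F.map_preimage _
  have hfg' : f' ≫ g' = 0 := comp_distTriang_mor_zero₁₂ _ hT
  have w : f ≫ g = 0 := F.map_injective (by
    rw [F.map_comp, hf, hg, Category.assoc, e.hom_inv_id_assoc, hfg', F.map_zero])
  let T := Triangle.mk f' g' φ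
  let T' := Triangle.mk (F.map f) (F.map g) φ
  have hT' : T' ∈ distTriang _ := isomorphic_distinguished _ hT _
    (Triangle.isoMk T' T (Iso.refl _) e.symm (Iso.refl _)
      (by
        change F.map f ≫ e.inv = 𝟙 _ ≫ f'
        rw [hf, Category.assoc, e.hom_inv_id, Category.comp_id, Category.id_comp])
      (by
        change F.map g ≫ 𝟙 _ = e.inv ≫ g'
        rw [hg, Category.comp_id])
      (by
        change φ ≫ (shiftFunctor (DerivedCategory C) (1 : ℤ)).map (𝟙 _) = 𝟙 _ ≫ φ
        rw [CategoryTheory.Functor.map_id, Category.comp_id, Category.id_comp]))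
  have hS : (ShortComplex.mk f g w).ShortExact := by
    let ι := singleFunctorCompHomologyFunctorIso C 0
    have hex := HomologySequence.exact₂ T' hT' 0
    have hmono : Mono ((homologyFunctor C 0).map T'.mor₁) := by
      rw [HomologySequence.mono_homologyMap_mor₁_iff T' hT' (-1) 0 (by norm_num)]
      exact (isZero_of_isGE ((singleFunctor C 0).obj Z) 0 (-1) (by norm_num)).eq_of_src _ _
    have hepi : Epi ((homologyFunctor C 0).map T'.mor₂) := by
      rw [HomologySequence.epi_homologyMap_mor₂_iff T' hT' 0 1 (by norm_num)]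
      exact (isZero_of_isLE ((singleFunctor C 0).obj X) 0 1 (by norm_num)).eq_of_tgt _ _
    refine ShortComplex.shortExact_of_iso (ShortComplex.isoMk (ι.app X) (ι.app Y) (ι.app Z)
      (ι.hom.naturality f).symm (ι.hom.naturality g).symm)
      { exact := hex
        mono_f := hmono
        epi_g := hepi }
  refine ⟨Y, f, g, w, hS, ?_⟩
  obtain ⟨c, hc1, hc2⟩ := complete_distinguished_triangle_morphism _ _
    hS.singleTriangle_distinguished hT' (𝟙 _) (𝟙 _) (by
      change F.map f ≫ 𝟙 _ = 𝟙 _ ≫ F.map f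
      rw [Category.comp_id, Category.id_comp])
  let c' : F.obj Z ⟶ F.obj Z := c
  have hc1' : F.map g ≫ c' = F.map g := by
    have : F.map g ≫ c' = 𝟙 _ ≫ F.map g := hc1
    rw [this, Category.id_comp]
  have hc2' : hS.singleδ = c' ≫ φ := by
    have : hS.singleδ ≫ (shiftFunctor (DerivedCategory C) (1 : ℤ)).map (𝟙 (F.obj X)) =
        c' ≫ φ := hc2
    rwa [CategoryTheory.Functor.map_id, Category.comp_id] at this
  obtain ⟨c₀, hc₀⟩ := F.map_surjective c'
  have h1 : g ≫ c₀ = g := F.map_injective (by rw [F.map_comp, hc₀, hc1'])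
  have h2 : c₀ = 𝟙 Z := by
    have : Epi g := hS.epi_g
    rw [← cancel_epi g, h1, Category.comp_id]
  rw [hc2', ← hc₀, h2, F.map_id, Category.id_comp]

end

/-- **Realization of `Ext¹` classes**: every element of `Ext¹(Z, X)` is the class of a short exact
sequence `0 ⟶ X ⟶ Y ⟶ Z ⟶ 0`. -/
theorem exists_extClass [HasExt.{w} C] {X Z : C} (x : Abelian.Ext.{w} Z X 1) :
    ∃ (Y : C) (f : X ⟶ Y) (g : Y ⟶ Z) (w : f ≫ g = 0)
      (hS : (ShortComplex.mk f g w).ShortExact), hS.extClass = x := by
  letI := HasDerivedCategory.standard C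
  obtain ⟨Y, f, g, w, hS, h⟩ := exists_shortExact_of_distTriang x.hom
  exact ⟨Y, f, g, w, hS, Abelian.Ext.ext (by rw [ShortComplex.ShortExact.extClass_hom, h])⟩

end Groth.Agent.Lib.Helper17.ExtRealize
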