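import Groth.Agent.Lib.Helper5.FinLocFreeDual
import Groth.Agent.Lib.Helper22.DimShiftIso

/-!
# `ℰxt^q(F, G ⊗ L) ≅ ℰxt^q(F, G) ⊗ L` for `L` with local bases (second variable twist)
-/

set_option autoImplicit false

universe u

open CategoryTheory Limits Opposite

noncomputable section

namespace Groth.Agent.Lib.Helper17.ExtTwist2

open Groth.Agent.Lib.Helper17.IHom Groth.Agent.Lib.Helper17.Tensor
  Groth.Agent.Lib.Helper5.DualBasis Groth.Agent.Lib.Helper5.TensorDual
  Groth.Agent.Lib.Helper5.FinLocFreeDual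

variable {C : Type u} [SmallCategory C] {J : GrothendieckTopology C} {O : Sheaf J CommRingCat.{u}}

/-- `Hom(F, - ⊗ L) ≅ Hom(F, -) ⊗ L` -/
def twistCommIso (F L : ModSite.Mod O) (hL : HasLocBases L) [ModSite.HasSheafHom F] :
    TT L ⋙ ModSite.sheafHom F ≅ ModSite.sheafHom F ⋙ TT L :=
  Functor.isoWhiskerRight (tensorIsoHomDual L hL) (ModSite.sheafHom F) ≪≫
  Functor.isoWhiskerLeft (HFun (dual L)) (sheafHomIso F) ≪≫
  (HFunTensIso F (dual L)).symm ≪≫
  HFunCongr (braidIso F (dual L)) ≪≫
  HFunTensIso (dual L) F ≪≫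
  Functor.isoWhiskerLeft (HFun F) (tensorIsoHomDual L hL).symm ≪≫
  Functor.isoWhiskerRight (sheafHomIso F).symm (TT L)

theorem nonempty_extSh_twist_iso (F L : ModSite.Mod O) (hL : HasLocBases L) [ModSite.HasSheafHom F]
    [HasInjectiveResolutions (ModSite.Mod O)] (q : ℕ) (G : ModSite.Mod O) :
    Nonempty ((ModSite.extSh F q).obj (tens G L) ≅ tens ((ModSite.extSh F q).obj G) L) := by
  haveI : EnoughInjectives (ModSite.Mod O) := Groth.Agent.S0485.result J (ModSite.ringSh O)
  haveI := preservesFiniteLimits_TT L hL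
  haveI : PreservesColimitsOfSize.{0, 0} (TT L) := (HAdj L).leftAdjoint_preservesColimits
  haveI : (TT L).PreservesHomology := Functor.preservesHomologyOfExact _
  haveI : (TT L).PreservesEpimorphisms := inferInstance
  obtain ⟨e1⟩ := Groth.Agent.Lib.Helper22.DimShift.nonempty_rightDerived_comp_iso (TT L)
    (ModSite.sheafHom F) (ModSite.sheafHom F ⋙ TT L) (twistCommIso F L hL)
    (fun I hI => by haveI := hI; exact injective_TT_obj L hL I) q G
    (fun n => isZero_rightDerived_succ_of_preservesEpi (TT L)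
      (fun f _ => inferInstance) n G)
  let e2 := (Groth.Agent.Lib.Helper5.RDPost.rightDerivedPostIso (ModSite.sheafHom F) (TT L) q).app G
  exact ⟨e1 ≪≫ e2⟩

end Groth.Agent.Lib.Helper17.ExtTwist2
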