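import Mathlib
import Groth.Prelude.Def_CxOX
import Groth.Prelude.Def_ModSite2
import Groth.Agent.Lib.Helper5.QS

/-!
# Sections with support in a closed subset, on schemes
-/

set_option autoImplicit false

universe u

open CategoryTheory Limits Opposite AlgebraicGeometry

namespace Groth.Agent.Lib.Helper17.SectOnSch

open Groth.Agent.Lib.Helper5.QS

section site

variable {C : Type u} [SmallCategory C] {J : GrothendieckTopology C}
  {O : Sheaf J CommRingCat.{u}} (U : C)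

/-- a morphism restricts to zero over `U` iff it vanishes on sections over objects over `U` -/
lemma restr_map_eq_zero_iff_app {K H : ModSite.Mod O} (f : K ⟶ H) :
    (ModSite.restr O U).map f = 0 ↔ ∀ (V : C) (_ : V ⟶ U), f.val.app (op V) = 0 := by
  constructor
  · intro h V g
    have := congrArg (fun φ => φ.val.app (op (Over.mk g))) h
    exact this
  · intro h
    apply SheafOfModules.hom_ext
    apply PresheafOfModules.hom_ext
    intro Z
    exact h Z.unop.left Z.unop.hom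

variable [ModSite.HasPushOver O U]

lemma sectOnι_app_eq_zero (H : ModSite.Mod O) (V : C) (g : V ⟶ U) :
    ((ModSite.sectOnι O U).app H).val.app (op V) = 0 := by
  have h := restr_map_comp_ι O U (𝟙 ((ModSite.sectOn O U).obj H))
  rw [Category.id_comp] at h
  exact (restr_map_eq_zero_iff_app U _).mp h V g

end site

section scheme

variable {Y : Scheme.{u}} (U : Y.Opens)

/-- unit of Mathlib's adjunction `(-)|_U ⊣ j_*` -/
noncomputable abbrev η' (H : Y.Modules) :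
    H ⟶ (Scheme.Modules.pushforward U.ι).obj ((Scheme.Modules.restrictFunctor U.ι).obj H) :=
  (Scheme.Modules.restrictAdjunction U.ι).unit.app H

lemma η'_apply (H : Y.Modules) (V : Y.Opens) (x : H.val.obj (op V)) :
    ((η' U H).val.app (op V)).hom x =
      (H.val.map (homOfLE (U.ι.image_preimage_le V)).op).hom x := rfl

lemma map_injective_of_le (H : Y.Modules) {W V : Y.Opens} (hWV : W ≤ V) (hVW : V ≤ W) :
    Function.Injective (H.val.map (homOfLE hWV).op).hom := by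
  obtain rfl := le_antisymm hWV hVW
  have : (homOfLE hWV) = 𝟙 W := rfl
  rw [this, op_id, H.val.map_id]
  exact fun a b h => h

lemma comp_η'_eq_zero_iff {K H : Y.Modules} (f : K ⟶ H) :
    f ≫ η' U H = 0 ↔ ∀ V : Y.Opens, V ≤ U → f.val.app (op V) = 0 := by
  constructor
  · intro h V hV
    apply ModuleCat.hom_ext
    apply LinearMap.ext
    intro x
    have h1 : ((f ≫ η' U H).val.app (op V)).hom x = 0 := by rw [h]; rfl
    have h2 : ((η' U H).val.app (op V)).hom ((f.val.app (op V)).hom x) = 0 := h1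
    rw [η'_apply] at h2
    have hle : V ≤ U.ι ''ᵁ U.ι ⁻¹ᵁ V := by
      rw [U.ι.image_preimage_eq_opensRange_inf, Scheme.Opens.opensRange_ι]
      exact le_inf hV le_rfl
    apply map_injective_of_le H (U.ι.image_preimage_le V) hle
    refine h2.trans ?_
    exact (map_zero (H.val.map (homOfLE (U.ι.image_preimage_le V)).op).hom).symm
  · intro h
    apply SheafOfModules.hom_ext
    apply PresheafOfModules.hom_ext
    intro V
    apply ModuleCat.hom_ext
    apply LinearMap.ext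
    intro x
    change ((η' U H).val.app V).hom ((f.val.app V).hom x) = 0
    obtain ⟨V⟩ := V
    rw [η'_apply]
    have hnat := PresheafOfModules.naturality_apply f.val
      (homOfLE (U.ι.image_preimage_le V)).op x
    rw [← hnat]
    have hle : U.ι ''ᵁ U.ι ⁻¹ᵁ V ≤ U := by
      rw [U.ι.image_preimage_eq_opensRange_inf, Scheme.Opens.opensRange_ι]
      exact inf_le_left
    rw [h _ hle]
    rfl

end scheme

section scheme2

variable {Y : Scheme.{u}} (U : Y.Opens)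

/-- `Γ_Z H` as an `O_Y`-module -/
noncomputable abbrev GZ (H : Y.Modules) : Y.Modules := (ModSite.sectOn Y.sheaf U).obj H

/-- the inclusion `Γ_Z H ⟶ H` -/
noncomputable abbrev ιZ (H : Y.Modules) : GZ U H ⟶ H := (ModSite.sectOnι Y.sheaf U).app H

instance (H : Y.Modules) : Mono (ιZ U H) :=
  inferInstanceAs (Mono (ι Y.sheaf U H))

lemma ιZ_app_zero (H : Y.Modules) (V : Y.Opens) (hV : V ≤ U) :
    (ιZ U H).val.app (op V) = 0 :=
  sectOnι_app_eq_zero U H V (homOfLE hV)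

lemma ιZ_η' (H : Y.Modules) : ιZ U H ≫ η' U H = 0 :=
  (comp_η'_eq_zero_iff U _).mpr (fun V hV => ιZ_app_zero U H V hV)

/-- morphisms vanishing over `U` factor through `Γ_Z` -/
noncomputable def liftZ {K H : Y.Modules} (f : K ⟶ H)
    (hf : ∀ V : Y.Opens, V ≤ U → f.val.app (op V) = 0) : K ⟶ GZ U H :=
  liftS Y.sheaf U f ((restr_map_eq_zero_iff_app U f).mpr (fun V g => hf V (leOfHom g)))

lemma liftZ_ι {K H : Y.Modules} (f : K ⟶ H)
    (hf : ∀ V : Y.Opens, V ≤ U → f.val.app (op V) = 0) : liftZ U f hf ≫ ιZ U H = f :=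
  liftS_ι Y.sheaf U f _

/-- `Γ_Z H` is the kernel of `H ⟶ j_* j^* H` -/
noncomputable def isLimitKernelFork (H : Y.Modules) :
    IsLimit (KernelFork.ofι (ιZ U H) (ιZ_η' U H)) :=
  KernelFork.IsLimit.ofι' _ _ (fun k hk =>
    ⟨liftZ U k ((comp_η'_eq_zero_iff U k).mp hk), liftZ_ι U k _⟩)

end scheme2

section restrict

variable {Y W : Scheme.{u}} (j : W ⟶ Y) [IsOpenImmersion j] (U : Y.Opens)

/-- restriction along `j` -/
noncomputable abbrev Rj : Y.Modules ⥤ W.Modules := Scheme.Modules.restrictFunctor j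

lemma image_le_of_le_preimage {V' : W.Opens} (h : V' ≤ j ⁻¹ᵁ U) : j ''ᵁ V' ≤ U :=
  (j.image_mono h).trans (j.image_preimage_le U)

lemma Rj_map_ιZ_app_zero (H : Y.Modules) (V' : W.Opens) (hV' : V' ≤ j ⁻¹ᵁ U) :
    ((Rj j).map (ιZ U H)).val.app (op V') = 0 := by
  apply ModuleCat.hom_ext
  apply LinearMap.ext
  intro x
  have h := ιZ_app_zero U H (j ''ᵁ V') (image_le_of_le_preimage j U hV')
  exact congrArg (fun φ => φ.hom x) h

/-- the comparison `(Γ_Z H)|_W ⟶ Γ_{Z ∩ W}(H|_W)` -/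
noncomputable def cmp (H : Y.Modules) :
    (Rj j).obj (GZ U H) ⟶ GZ (j ⁻¹ᵁ U) ((Rj j).obj H) :=
  liftZ (j ⁻¹ᵁ U) ((Rj j).map (ιZ U H)) (Rj_map_ιZ_app_zero j U H)

lemma cmp_ι (H : Y.Modules) :
    cmp j U H ≫ ιZ (j ⁻¹ᵁ U) ((Rj j).obj H) = (Rj j).map (ιZ U H) :=
  liftZ_ι _ _ _

lemma key (H : Y.Modules) (V' : W.Opens) (V₁ : Y.Opens) (h1 : V₁ ≤ j ''ᵁ V') (hU : V₁ ≤ U)
    (x : (GZ (j ⁻¹ᵁ U) ((Rj j).obj H)).val.obj (op V')) :
    (H.val.map (homOfLE h1).op).hom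
      (((ιZ (j ⁻¹ᵁ U) ((Rj j).obj H)).val.app (op V')).hom x) = 0 := by
  obtain ⟨V₂, rfl⟩ : ∃ V₂ : W.Opens, V₁ = j ''ᵁ V₂ := by
    refine ⟨j ⁻¹ᵁ V₁, ?_⟩
    rw [j.image_preimage_eq_opensRange_inf]
    exact (inf_eq_right.mpr (h1.trans (j.image_le_opensRange V'))).symm
  have h2 : V₂ ≤ V' := (j.image_le_image_iff _ _).mp h1
  have h3 : V₂ ≤ j ⁻¹ᵁ U := by
    intro y hy
    exact hU ⟨y, hy, rfl⟩
  have hnat := PresheafOfModules.naturality_apply (ιZ (j ⁻¹ᵁ U) ((Rj j).obj H)).val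
    (homOfLE h2).op x
  rw [ιZ_app_zero (j ⁻¹ᵁ U) ((Rj j).obj H) V₂ h3] at hnat
  exact hnat.symm

lemma ιZ_comp_Rj_map_η' (H : Y.Modules) :
    ιZ (j ⁻¹ᵁ U) ((Rj j).obj H) ≫ (Rj j).map (η' U H) = 0 := by
  apply SheafOfModules.hom_ext
  apply PresheafOfModules.hom_ext
  intro V'
  apply ModuleCat.hom_ext
  apply LinearMap.ext
  intro x
  obtain ⟨V'⟩ := V'
  have hle : U.ι ''ᵁ U.ι ⁻¹ᵁ (j ''ᵁ V') ≤ U := by
    rw [U.ι.image_preimage_eq_opensRange_inf, Scheme.Opens.opensRange_ι]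
    exact inf_le_left
  exact key j U H V' _ (U.ι.image_preimage_le (j ''ᵁ V')) hle x

end restrict

section restrict2

variable {Y W : Scheme.{u}} (j : W ⟶ Y) [IsOpenImmersion j] (U : Y.Opens)

instance : (Rj j).Additive :=
  (Scheme.Modules.restrictAdjunction j).left_adjoint_additive

lemma Rj_map_ιZ_comp (H : Y.Modules) : (Rj j).map (ιZ U H) ≫ (Rj j).map (η' U H) = 0 := by
  rw [← Functor.map_comp, ιZ_η', Functor.map_zero]

/-- the restricted kernel fork is a kernel fork -/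
noncomputable def isLimitRj (H : Y.Modules) :
    IsLimit (KernelFork.ofι ((Rj j).map (ιZ U H)) (Rj_map_ιZ_comp j U H)) :=
  KernelFork.mapIsLimit _ (isLimitKernelFork U H) (Rj j)

instance (H : Y.Modules) : Mono ((Rj j).map (ιZ U H)) :=
  inferInstance

/-- the inverse of the comparison -/
noncomputable def cmpInv (H : Y.Modules) :
    GZ (j ⁻¹ᵁ U) ((Rj j).obj H) ⟶ (Rj j).obj (GZ U H) :=
  (KernelFork.IsLimit.lift' (isLimitRj j U H) (ιZ (j ⁻¹ᵁ U) ((Rj j).obj H))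
    (ιZ_comp_Rj_map_η' j U H)).1

lemma cmpInv_ι (H : Y.Modules) :
    cmpInv j U H ≫ (Rj j).map (ιZ U H) = ιZ (j ⁻¹ᵁ U) ((Rj j).obj H) :=
  (KernelFork.IsLimit.lift' (isLimitRj j U H) (ιZ (j ⁻¹ᵁ U) ((Rj j).obj H))
    (ιZ_comp_Rj_map_η' j U H)).2

/-- the comparison is an isomorphism -/
noncomputable def cmpIso (H : Y.Modules) :
    (Rj j).obj (GZ U H) ≅ GZ (j ⁻¹ᵁ U) ((Rj j).obj H) where
  hom := cmp j U H
  inv := cmpInv j U H
  hom_inv_id := by
    rw [← cancel_mono ((Rj j).map (ιZ U H)), Category.assoc, cmpInv_ι, cmp_ι, Category.id_comp]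
  inv_hom_id := by
    rw [← cancel_mono (ιZ (j ⁻¹ᵁ U) ((Rj j).obj H)), Category.assoc, cmp_ι, cmpInv_ι,
      Category.id_comp]

/-- `Γ_Z` on morphisms, typed in `Y.Modules` -/
noncomputable abbrev GZmap {Y : Scheme.{u}} (U : Y.Opens) {H H' : Y.Modules} (φ : H ⟶ H') :
    GZ U H ⟶ GZ U H' := (ModSite.sectOn Y.sheaf U).map φ

lemma GZmap_ι {Y : Scheme.{u}} (U : Y.Opens) {H H' : Y.Modules} (φ : H ⟶ H') :
    GZmap U φ ≫ ιZ U H' = ιZ U H ≫ φ := ι_naturality Y.sheaf U φ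

lemma cmp_naturality {H H' : Y.Modules} (φ : H ⟶ H') :
    (Rj j).map (GZmap U φ) ≫ cmp j U H' =
      cmp j U H ≫ GZmap (j ⁻¹ᵁ U) ((Rj j).map φ) := by
  apply (cancel_mono (ιZ (j ⁻¹ᵁ U) ((Rj j).obj H'))).mp
  calc ((Rj j).map (GZmap U φ) ≫ cmp j U H') ≫ ιZ (j ⁻¹ᵁ U) ((Rj j).obj H')
      = (Rj j).map (GZmap U φ) ≫ (cmp j U H' ≫ ιZ (j ⁻¹ᵁ U) ((Rj j).obj H')) :=
        Category.assoc _ _ _
    _ = (Rj j).map (GZmap U φ) ≫ (Rj j).map (ιZ U H') :=
        congrArg (fun t => (Rj j).map (GZmap U φ) ≫ t) (cmp_ι j U H')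
    _ = (Rj j).map (GZmap U φ ≫ ιZ U H') := ((Rj j).map_comp _ _).symm
    _ = (Rj j).map (ιZ U H ≫ φ) := congrArg (Rj j).map (GZmap_ι U φ)
    _ = (Rj j).map (ιZ U H) ≫ (Rj j).map φ := (Rj j).map_comp _ _
    _ = (cmp j U H ≫ ιZ (j ⁻¹ᵁ U) ((Rj j).obj H)) ≫ (Rj j).map φ :=
        congrArg (fun t => t ≫ (Rj j).map φ) (cmp_ι j U H).symm
    _ = cmp j U H ≫ (ιZ (j ⁻¹ᵁ U) ((Rj j).obj H) ≫ (Rj j).map φ) := Category.assoc _ _ _
    _ = cmp j U H ≫ (GZmap (j ⁻¹ᵁ U) ((Rj j).map φ) ≫ ιZ (j ⁻¹ᵁ U) ((Rj j).obj H')) :=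
        congrArg (fun t => cmp j U H ≫ t) (GZmap_ι (j ⁻¹ᵁ U) ((Rj j).map φ)).symm
    _ = (cmp j U H ≫ GZmap (j ⁻¹ᵁ U) ((Rj j).map φ)) ≫ ιZ (j ⁻¹ᵁ U) ((Rj j).obj H') :=
        (Category.assoc _ _ _).symm

/-- **`Γ_Z` commutes with restriction to an open subscheme** -/
noncomputable def sectOnRestrictIso :
    ModSite.sectOn Y.sheaf U ⋙ Rj j ≅ Rj j ⋙ ModSite.sectOn W.sheaf (j ⁻¹ᵁ U) :=
  NatIso.ofComponents (fun H => cmpIso j U H) (fun φ => cmp_naturality j U φ)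

end restrict2

end Groth.Agent.Lib.Helper17.SectOnSch
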