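import Mathlib
import Groth.Agent.Lib.Helper17.SectOnSch
import Groth.Agent.Lib.Helper17.ExtTilde
import Groth.Agent.Lib.Helper29.QCohQcqs
import Groth.Agent.Lib.Helper29.QCohCrit

/-!
# `ℰxt^i_Z(M~, N~)` is quasi-coherent on `Spec A`
-/

set_option autoImplicit false

universe u

open CategoryTheory Limits Opposite AlgebraicGeometry Abelian

namespace Groth.Agent.Lib.Helper17.ExtZAff

open Groth.Agent.Lib.Helper17.IHom Groth.Agent.Lib.Helper29.QCoh
  Groth.Agent.Lib.Helper17.HomTilde Groth.Agent.Lib.Helper17.HomTildeNat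
  Groth.Agent.Lib.Helper17.ExtModShift Groth.Agent.Lib.Helper22.DimShift
  Groth.Agent.Lib.Helper17.SectOnSch Groth.Agent.Lib.Helper17.ExtTilde

section general

variable {Y : Scheme.{u}} (U : Y.Opens)

/-- `Γ_Z H` is the kernel of `H ⟶ j_* j^* H` -/
noncomputable def GZIsoKernel (H : Y.Modules) : GZ U H ≅ kernel (η' U H) :=
  IsLimit.conePointUniqueUpToIso (isLimitKernelFork U H) (limit.isLimit (parallelPair (η' U H) 0))

/-- `Γ_Z` of a quasi-coherent module is quasi-coherent -/
theorem isQuasicoherent_GZ [QuasiCompact U.ι] (H : Y.Modules) [H.IsQuasicoherent] :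
    (GZ U H).IsQuasicoherent := by
  haveI : ((Scheme.Modules.restrictFunctor U.ι).obj H).IsQuasicoherent :=
    inferInstanceAs (H.restrict U.ι).IsQuasicoherent
  haveI : ((Scheme.Modules.pushforward U.ι).obj
      ((Scheme.Modules.restrictFunctor U.ι).obj H)).IsQuasicoherent :=
    isQuasicoherent_pushforward_of_qcqs U.ι _
  haveI : (kernel (η' U H)).IsQuasicoherent := isQuasicoherent_kernel _
  exact isQuasicoherent_of_iso (GZIsoKernel U H).symm

end general

section affine

variable (A : Type u) [CommRing A] [IsNoetherianRing A] (M : Type u) [AddCommGroup M] [Module A M]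
  [Module.Finite A M]
  [ModSite.HasSheafHom (O := (Spec (CommRingCat.of A)).sheaf) (tl A M)]
  [HasInjectiveResolutions (ModSite.Mod (Spec (CommRingCat.of A)).sheaf)]
  (U : (Spec (CommRingCat.of A)).Opens)

/-- `Γ_Z` as an endofunctor of `(Spec A).Modules` -/
noncomputable abbrev SZ : (Spec (CommRingCat.of A)).Modules ⥤ (Spec (CommRingCat.of A)).Modules :=
  ModSite.sectOn (Spec (CommRingCat.of A)).sheaf U

/-- `N ↦ Γ_Z ℋom(M~, N)` -/
noncomputable abbrev Φ : (Spec (CommRingCat.of A)).Modules ⥤ (Spec (CommRingCat.of A)).Modules :=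
  GM A M ⋙ SZ A U

instance : (SZ A U).Additive := ModSite.sectOn_additive (Spec (CommRingCat.of A)).sheaf U

instance : PreservesFiniteLimits (SZ A U) :=
  ⟨fun _ => (Groth.Agent.Lib.Helper5.QS.adj (Spec (CommRingCat.of A)).sheaf
    U).rightAdjoint_preservesLimits.preservesLimitsOfShape⟩

instance : (Φ A M U).Additive := inferInstanceAs ((GM A M ⋙ SZ A U).Additive)

instance : PreservesFiniteLimits (Φ A M U) :=
  inferInstanceAs (PreservesFiniteLimits (GM A M ⋙ SZ A U))

instance : QuasiCompact U.ι := inferInstance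

instance isQuasicoherent_T (N : ModuleCat.{u} A) : ((T A).obj N).IsQuasicoherent :=
  inferInstanceAs ((tilde (R := CommRingCat.of A) N).IsQuasicoherent)

lemma isQuasicoherent_Φ (N : ModuleCat.{u} A) :
    ((Φ A M U).obj ((T A).obj N)).IsQuasicoherent := by
  haveI : ((GM A M).obj ((T A).obj N)).IsQuasicoherent :=
    isQuasicoherent_of_iso (eN A M N).symm
  exact isQuasicoherent_GZ U ((GM A M).obj ((T A).obj N))

theorem qc_zero (N : ModuleCat.{u} A) :
    (((Φ A M U).rightDerived 0).obj ((T A).obj N)).IsQuasicoherent := by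
  haveI := isQuasicoherent_Φ A M U N
  exact isQuasicoherent_of_iso (((Φ A M U).rightDerivedZeroIsoSelf).app ((T A).obj N)).symm

theorem qc_one (N : ModuleCat.{u} A) :
    (((Φ A M U).rightDerived 1).obj ((T A).obj N)).IsQuasicoherent := by
  let iso1 : ((Φ A M U).rightDerived 1).obj ((T A).obj N) ≅ cokernel ((Φ A M U).map (ST A N).g) :=
    rightDerivedOneIso (Φ A M U) (ST A N) (ST_shortExact A N)
  haveI : ((Φ A M U).obj (ST A N).X₂).IsQuasicoherent := isQuasicoherent_Φ A M U (injSC N).X₂
  haveI : ((Φ A M U).obj (ST A N).X₃).IsQuasicoherent := isQuasicoherent_Φ A M U (injSC N).X₃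
  haveI : (cokernel ((Φ A M U).map (ST A N).g)).IsQuasicoherent := isQuasicoherent_cokernel _
  exact isQuasicoherent_of_iso iso1.symm

theorem qc_succ_succ (n : ℕ)
    (ih : ∀ N : ModuleCat.{u} A,
      (((Φ A M U).rightDerived (n + 1)).obj ((T A).obj N)).IsQuasicoherent)
    (N : ModuleCat.{u} A) :
    (((Φ A M U).rightDerived (n + 2)).obj ((T A).obj N)).IsQuasicoherent := by
  let iso1 : ((Φ A M U).rightDerived (n + 2)).obj ((T A).obj N) ≅
      ((Φ A M U).rightDerived (n + 1)).obj ((T A).obj (injSC N).X₃) :=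
    rightDerivedSuccSuccIso (Φ A M U) (ST A N) (ST_shortExact A N) n
  haveI := ih (injSC N).X₃
  exact isQuasicoherent_of_iso iso1.symm

/-- **`ℰxt^i_Z(M~, N~)` is quasi-coherent** -/
theorem qc : ∀ (i : ℕ) (N : ModuleCat.{u} A),
    (((Φ A M U).rightDerived i).obj ((T A).obj N)).IsQuasicoherent
  | 0 => qc_zero A M U
  | 1 => qc_one A M U
  | (n + 2) => qc_succ_succ A M U n (qc (n + 1))

end affine

end Groth.Agent.Lib.Helper17.ExtZAff
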