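import Mathlib
import Groth.Agent.Lib.Helper17.SectOnSch
import Groth.Agent.Lib.Helper17.SheafHomRestr
import Groth.Agent.Lib.Helper17.SheafHomRestrGen

/-!
# `ℰxt_Z` commutes with restriction to open subschemes
-/

set_option autoImplicit false

universe u

open CategoryTheory Limits Opposite AlgebraicGeometry

namespace Groth.Agent.Lib.Helper17.ExtZRestr

open Groth.Agent.Lib.Helper17.SectOnSch

section

variable {Y W : Scheme.{u}} (j : W ⟶ Y) [IsOpenImmersion j] (U : Y.Opens) (F : Y.Modules)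
  [ModSite.HasSheafHom (O := Y.sheaf) F]
  [ModSite.HasSheafHom (O := W.sheaf) ((Scheme.Modules.restrictFunctor j).obj F)]

/-- restriction commutes with `ℰxt_Z`, given that it commutes with `ℋom` -/
theorem extZShRestrIso_of
    (e : ModSite.sheafHom (O := Y.sheaf) F ⋙ Scheme.Modules.restrictFunctor j ≅
      Scheme.Modules.restrictFunctor j ⋙
        ModSite.sheafHom (O := W.sheaf) ((Scheme.Modules.restrictFunctor j).obj F))
    [(CxOX.extZero j).PreservesMonomorphisms]
    [HasInjectiveResolutions (ModSite.Mod Y.sheaf)]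
    [HasInjectiveResolutions (ModSite.Mod W.sheaf)] (G : Y.Modules) (i : ℕ) :
    Nonempty
    ((Scheme.Modules.restrictFunctor j).obj ((ModSite.extZSh (O := Y.sheaf) U F i).obj G) ≅
      (ModSite.extZSh (O := W.sheaf) (j ⁻¹ᵁ U)
        ((Scheme.Modules.restrictFunctor j).obj F) i).obj
          ((Scheme.Modules.restrictFunctor j).obj G)) := by
  let R : Y.Modules ⥤ W.Modules := Scheme.Modules.restrictFunctor j
  let S : Y.Modules ⥤ Y.Modules := ModSite.sheafHom (O := Y.sheaf) F
  let S' : W.Modules ⥤ W.Modules := ModSite.sheafHom (O := W.sheaf) (R.obj F)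
  let Z : Y.Modules ⥤ Y.Modules := ModSite.sectOn Y.sheaf U
  let Z' : W.Modules ⥤ W.Modules := ModSite.sectOn W.sheaf (j ⁻¹ᵁ U)
  let T : Y.Modules ⥤ Y.Modules := S ⋙ Z
  let T' : W.Modules ⥤ W.Modules := S' ⋙ Z'
  haveI : S.Additive := ModSite.sheafHom_additive (O := Y.sheaf) F
  haveI : S'.Additive := ModSite.sheafHom_additive (O := W.sheaf) (R.obj F)
  haveI : Z.Additive := ModSite.sectOn_additive Y.sheaf U
  haveI : Z'.Additive := ModSite.sectOn_additive W.sheaf (j ⁻¹ᵁ U)
  haveI : T.Additive := inferInstanceAs (S ⋙ Z).Additive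
  haveI : T'.Additive := inferInstanceAs (S' ⋙ Z').Additive
  haveI : R.Additive := (Scheme.Modules.restrictAdjunction j).left_adjoint_additive
  haveI : HasInjectiveResolutions Y.Modules := ‹HasInjectiveResolutions (ModSite.Mod Y.sheaf)›
  haveI : HasInjectiveResolutions W.Modules := ‹HasInjectiveResolutions (ModSite.Mod W.sheaf)›
  haveI : R.PreservesInjectiveObjects :=
    Functor.preservesInjectiveObjects_of_adjunction_of_preservesMonomorphisms
      (CxOX.extZeroAdj j)
  let eZ : Z ⋙ R ≅ R ⋙ Z' := sectOnRestrictIso j U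
  let E : T ⋙ R ≅ R ⋙ T' :=
    Functor.associator S Z R ≪≫ Functor.isoWhiskerLeft S eZ ≪≫
      (Functor.associator S R Z').symm ≪≫ Functor.isoWhiskerRight e Z' ≪≫
      Functor.associator R S' Z'
  exact ⟨((Groth.Agent.Lib.Helper5.RDPost.rightDerivedPostIso T R i).symm.app G) ≪≫
    ((Groth.Agent.Lib.Helper22.DimShift.rightDerivedIsoOfNatIso E i).app G) ≪≫
    ((Groth.Agent.Lib.Helper5.RDComp.rightDerivedCompIso R T' i).app G)⟩

end

end Groth.Agent.Lib.Helper17.ExtZRestr
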