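import Mathlib
import Groth.Agent.Lib.Helper17.ExtZRestr
import Groth.Agent.Lib.Helper17.ExtZAff
import Groth.Agent.Lib.Helper17.ExtAff
import Groth.Agent.Lib.Helper28.DCohRes27

/-!
# `ℰxt^i_Z(F, G)` is quasi-coherent
-/

set_option autoImplicit false

universe u

open CategoryTheory Limits Opposite AlgebraicGeometry

namespace Groth.Agent.Lib.Helper17.ExtZQc

open Groth.Agent.Lib.Helper17.IHom Groth.Agent.Lib.Helper29.QCoh
  Groth.Agent.Lib.Helper17.ExtAff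

section site

variable {C : Type u} [SmallCategory C] {J : GrothendieckTopology C} {O : Sheaf J CommRingCat.{u}}

/-- the `ℰxt_Z` sheaves of isomorphic pairs are isomorphic -/
theorem extZSh_iso_of_iso [HasInjectiveResolutions (ModSite.Mod O)] (U : C)
    [ModSite.HasPushOver O U] {P P' Q Q' : ModSite.Mod O}
    [ModSite.HasSheafHom P] [ModSite.HasSheafHom P']
    (e : P ≅ P') (e' : Q ≅ Q') (i : ℕ) :
    Nonempty ((ModSite.extZSh U P i).obj Q ≅ (ModSite.extZSh U P' i).obj Q') := by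
  have i1 : (ModSite.extZSh U P' i).obj Q' ≅ (ModSite.extZSh U P' i).obj Q :=
    (ModSite.extZSh U P' i).mapIso e'.symm
  have i2 : (ModSite.extZSh U P' i).obj Q ≅ (ModSite.extZSh U P i).obj Q :=
    (Groth.Agent.Lib.Helper22.DimShift.rightDerivedIsoOfNatIso
      (Functor.isoWhiskerRight (Groth.Agent.Lib.Helper17.InjExt.sheafHomIsoOfIso e)
        (ModSite.sectOn O U)) i).app Q
  exact ⟨(i1 ≪≫ i2).symm⟩

end site

variable {X : Scheme.{u}} [IsLocallyNoetherian X]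

/-- **`ℰxt^i_Z(F, G)` is quasi-coherent** for `F` coherent and `G` quasi-coherent on a locally
Noetherian scheme -/
theorem isQuasicoherent_extZSh [HasInjectiveResolutions (ModSite.Mod X.sheaf)] (U : X.Opens)
    (F G : X.Modules) (hF : Coh.IsCoh F) [G.IsQuasicoherent]
    [ModSite.HasSheafHom (O := X.sheaf) F] (i : ℕ) :
    ((ModSite.extZSh (O := X.sheaf) U F i).obj G).IsQuasicoherent := by
  haveI := hF.1
  haveI := hF.2
  apply Groth.Agent.Lib.Helper28.DCohRes.isQuasicoherent_of_locally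
  intro x
  obtain ⟨_, ⟨W₀, hW₀, rfl⟩, hxW₀, -⟩ :=
    X.isBasis_affineOpens.exists_subset_of_mem_open (Set.mem_univ x) isOpen_univ
  obtain ⟨W, hW, hxW⟩ : ∃ W : X.Opens, IsAffineOpen W ∧ x ∈ W := ⟨W₀, hW₀, hxW₀⟩
  refine ⟨Spec Γ(X, W), hW.fromSpec, inferInstance, ?_, ?_⟩
  · rw [hW.range_fromSpec]
    exact hxW
  haveI : IsAffine (W : Scheme.{u}) := hW
  haveI : IsNoetherianRing Γ(X, W) := IsLocallyNoetherian.component_noetherian ⟨W, hW⟩
  haveI : Module.Finite Γ(X, W) Γ(F, W) := module_finite_of_isFiniteType F hW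
  let e₀ : Spec Γ(X, W) ⟶ (W : Scheme.{u}) := hW.isoSpec.inv
  have hj : hW.fromSpec = e₀ ≫ W.ι := rfl
  let RV := Scheme.Modules.restrictFunctor W.ι
  let Re := Scheme.Modules.restrictFunctor e₀
  haveI : EnoughInjectives (W : Scheme.{u}).Modules :=
    Groth.Agent.S0485.result (Opens.grothendieckTopology (W : Scheme.{u}))
      (W : Scheme.{u}).ringCatSheaf
  haveI : HasInjectiveResolutions (ModSite.Mod (W : Scheme.{u}).sheaf) :=
    inferInstanceAs (HasInjectiveResolutions (W : Scheme.{u}).Modules)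
  haveI : EnoughInjectives (Spec Γ(X, W)).Modules :=
    Groth.Agent.S0485.result (Opens.grothendieckTopology (Spec Γ(X, W)))
      (Spec Γ(X, W)).ringCatSheaf
  haveI : HasInjectiveResolutions (ModSite.Mod (Spec Γ(X, W)).sheaf) :=
    inferInstanceAs (HasInjectiveResolutions (Spec Γ(X, W)).Modules)
  haveI : ModSite.HasSheafHom (O := (W : Scheme.{u}).sheaf) (RV.obj F) := hasSheafHom _
  haveI : ModSite.HasSheafHom (O := (Spec Γ(X, W)).sheaf) (Re.obj (RV.obj F)) := hasSheafHom _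
  haveI : ModSite.HasSheafHom (O := (Spec Γ(X, W)).sheaf)
      (tilde (R := Γ(X, W)) (ModuleCat.of Γ(X, W) Γ(F, W))) := hasSheafHom _
  obtain ⟨e1⟩ := Groth.Agent.Lib.Helper17.ExtZRestr.extZShRestrIso_of W.ι U F
    (Groth.Agent.Lib.Helper17.SheafHomRestr.sheafHomRestrIso W F) G i
  obtain ⟨e2⟩ := Groth.Agent.Lib.Helper17.ExtZRestr.extZShRestrIso_of e₀ (W.ι ⁻¹ᵁ U) (RV.obj F)
    (Groth.Agent.Lib.Helper17.SheafHomRestrGen.sheafHomRestrIso
      (Groth.Agent.Lib.Helper17.SheafHomRestrGen.counitIso_of_isIso e₀ (RV.obj F)))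
    (RV.obj G) i
  let c : ∀ M : X.Modules, M.restrict hW.fromSpec ≅ Re.obj (RV.obj M) := fun M =>
    (Scheme.Modules.restrictFunctorComp e₀ W.ι).app M
  let eG : Re.obj (RV.obj G) ≅ tilde (R := Γ(X, W)) (ModuleCat.of Γ(X, W) Γ(G, W)) :=
    (c G).symm ≪≫ restrictFromSpecIsoTilde G hW
  let eF : Re.obj (RV.obj F) ≅ tilde (R := Γ(X, W)) (ModuleCat.of Γ(X, W) Γ(F, W)) :=
    (c F).symm ≪≫ restrictFromSpecIsoTilde F hW
  obtain ⟨e3⟩ := extZSh_iso_of_iso (O := (Spec Γ(X, W)).sheaf) (e₀ ⁻¹ᵁ (W.ι ⁻¹ᵁ U)) eF eG i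
  have hq := Groth.Agent.Lib.Helper17.ExtZAff.qc Γ(X, W) Γ(F, W) (e₀ ⁻¹ᵁ (W.ι ⁻¹ᵁ U)) i
    (ModuleCat.of Γ(X, W) Γ(G, W))
  exact isQuasicoherent_of_iso (hM := hq) (c _ ≪≫ Re.mapIso e1 ≪≫ e2 ≪≫ e3).symm

end Groth.Agent.Lib.Helper17.ExtZQc
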