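import Mathlib
import Groth.Prelude.Def_ModSite2
import Groth.Agent.Lib.Helper17.IHom

/-!
# `ℰxt_Z(F, -) ≅ ℰxt(F, -)` when `F|_U = 0`
-/

set_option autoImplicit false

universe u

open CategoryTheory Limits Opposite

namespace Groth.Agent.Lib.Helper17.ExtZSupp

open Groth.Agent.Lib.Helper17.IHom

variable {C : Type u} [SmallCategory C] {J : GrothendieckTopology C}
  (O : Sheaf J CommRingCat.{u})

/-- a sheaf of modules all of whose sections are trivial is a zero object -/
lemma isZero_of_subsingleton (M : ModSite.Mod O)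
    (h : ∀ V : C, Subsingleton (M.val.obj (op V))) : IsZero M := by
  rw [IsZero.iff_id_eq_zero]
  apply SheafOfModules.hom_ext
  apply PresheafOfModules.hom_ext
  intro V
  apply ModuleCat.hom_ext
  apply LinearMap.ext
  intro x
  haveI := h V.unop
  exact Subsingleton.elim _ _

variable {O}

/-- the restriction to `C/U` vanishes as soon as all sections over objects over `U` do -/
lemma isZero_restr (M : ModSite.Mod O) (U : C)
    (h : ∀ (V : C) (_ : V ⟶ U), Subsingleton (M.val.obj (op V))) :
    IsZero ((ModSite.restr O U).obj M) := by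
  apply isZero_of_subsingleton
  intro Z
  exact h Z.left Z.hom

/-- the internal hom out of a module vanishing over `U` vanishes over `U` -/
lemma isZero_restr_sheafHom (F N : ModSite.Mod O) [ModSite.HasSheafHom F] (U : C)
    (h : ∀ (V : C) (_ : V ⟶ U), Subsingleton (F.val.obj (op V))) :
    IsZero ((ModSite.restr O U).obj ((ModSite.sheafHom F).obj N)) := by
  apply isZero_restr
  intro V g
  have hz : IsZero ((ModSite.restr O V).obj F) :=
    isZero_restr F V (fun W k => h W (k ≫ g))
  have e := sectSheafHomEquiv F N V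
  refine ⟨fun a b => e.injective ?_⟩
  exact hz.eq_of_src _ _

variable (O) in
/-- `Γ_Z(H) ⟶ H` is an isomorphism when `H|_U = 0` -/
lemma isIso_sectOnι (U : C) [ModSite.HasPushOver O U] (H : ModSite.Mod O)
    (hH : IsZero ((ModSite.restr O U).obj H)) : IsIso ((ModSite.sectOnι O U).app H) := by
  have hz : IsZero ((ModSite.pushOver O U).obj ((ModSite.restr O U).obj H)) := by
    haveI : (ModSite.pushOver O U).IsRightAdjoint := (ModSite.restrPushOverAdj O U).isRightAdjoint
    haveI := preservesBinaryBiproducts_of_preservesBinaryProducts (ModSite.pushOver O U)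
    haveI : (ModSite.pushOver O U).Additive := Functor.additive_of_preservesBinaryBiproducts _
    exact Functor.map_isZero _ hH
  have h0 : (ModSite.restrPushOverAdj O U).unit.app H = 0 := hz.eq_of_tgt _ _
  refine ⟨kernel.lift _ (𝟙 H) (by rw [h0, comp_zero]), ?_, ?_⟩
  · apply equalizer.hom_ext
    change (kernel.ι _ ≫ kernel.lift _ _ _) ≫ kernel.ι _ = 𝟙 _ ≫ kernel.ι _
    rw [Category.assoc, kernel.lift_ι]
    exact (Category.comp_id _).trans (Category.id_comp _).symm
  · change kernel.lift _ _ _ ≫ kernel.ι _ = 𝟙 _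
    rw [kernel.lift_ι]
    rfl

/-- `ℋom(F, -) ⋙ Γ_Z ≅ ℋom(F, -)` when `F` vanishes over `U` -/
noncomputable def sheafHomSectOnIso (F : ModSite.Mod O) [ModSite.HasSheafHom F] (U : C)
    [ModSite.HasPushOver O U]
    (h : ∀ (V : C) (_ : V ⟶ U), Subsingleton (F.val.obj (op V))) :
    ModSite.sheafHom F ⋙ ModSite.sectOn O U ≅ ModSite.sheafHom F :=
  haveI : ∀ N, IsIso ((Functor.whiskerLeft (ModSite.sheafHom F) (ModSite.sectOnι O U)).app N) :=
    fun N => isIso_sectOnι O U _ (isZero_restr_sheafHom F N U h)
  haveI : IsIso (Functor.whiskerLeft (ModSite.sheafHom F) (ModSite.sectOnι O U)) :=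
    NatIso.isIso_of_isIso_app _
  asIso (Functor.whiskerLeft (ModSite.sheafHom F) (ModSite.sectOnι O U)) ≪≫
    (ModSite.sheafHom F).rightUnitor

/-- isomorphic additive functors have isomorphic right derived functors -/
noncomputable def rightDerivedIsoOfIso {A B : Type*} [Category A] [Category B] [Abelian A]
    [Abelian B] [HasInjectiveResolutions A] {F G : A ⥤ B} [F.Additive] [G.Additive]
    (e : F ≅ G) (n : ℕ) : F.rightDerived n ≅ G.rightDerived n where
  hom := NatTrans.rightDerived e.hom n
  inv := NatTrans.rightDerived e.inv n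
  hom_inv_id := by
    rw [← NatTrans.rightDerived_comp, e.hom_inv_id, NatTrans.rightDerived_id]
  inv_hom_id := by
    rw [← NatTrans.rightDerived_comp, e.inv_hom_id, NatTrans.rightDerived_id]

/-- `ℰxt^q_Z(F, -) ≅ ℰxt^q(F, -)` when `F` vanishes over `U` -/
noncomputable def extZShIso (F : ModSite.Mod O) [ModSite.HasSheafHom F] (U : C)
    [ModSite.HasPushOver O U] [HasInjectiveResolutions (ModSite.Mod O)]
    (h : ∀ (V : C) (_ : V ⟶ U), Subsingleton (F.val.obj (op V))) (q : ℕ) :
    ModSite.extZSh U F q ≅ ModSite.extSh F q :=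
  rightDerivedIsoOfIso (sheafHomSectOnIso F U h) q

end Groth.Agent.Lib.Helper17.ExtZSupp
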