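import Groth.Agent.Lib.Helper17.RpushQC
import Groth.Agent.Lib.Helper17.MVGamma

/-!
# Extending objects of `D_QCoh` from a quasi-compact open
-/

set_option autoImplicit false
universe u

open CategoryTheory Limits Opposite AlgebraicGeometry TopologicalSpace CochainComplex

attribute [local instance] HasDerivedCategory.standard

namespace Groth.Agent.Lib.Helper17.ExtendQC

open Groth.Agent.Lib.Helper17.PushCoh Groth.Agent.Lib.Helper17.PushCoh2
open Groth.Agent.Lib.Helper17.RFTri Groth.Agent.Lib.Helper17.MVAbs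
open Groth.Agent.Lib.Helper17.MVGamma

/-- every object of `D_QCoh(U)` extends to `X` when `U ⟶ X` is quasi-compact. -/
theorem exists_extension (X : Scheme.{u}) (U : X.Opens) [QuasiCompact U.ι]
    (F : DCoh.D (U : Scheme.{u})) (hF : DCoh.IsQCohD F) :
    ∃ G : CochainComplex X.Modules ℤ, DCoh.IsQCohD (DCoh.toD X G) ∧
      Nonempty (DerivedCategory.Q.obj ((DCoh.restrictCx U).obj G) ≅ F) := by
  obtain ⟨I, hI, ⟨e⟩⟩ := exists_kInjective_iso (hA (U : Scheme.{u})) F
  haveI := hI
  refine ⟨Cx (Scheme.Modules.pushforward U.ι) I, ?_, ⟨?_⟩⟩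
  · have h1 : DCoh.IsQCohD ((DCoh.Rpush U.ι).obj F) :=
      Groth.Agent.Lib.Helper17.RpushQC.isQCohD_Rpush U.ι F hF
    intro i
    exact (SheafOfModules.isQuasicoherent X.ringCatSheaf).prop_of_iso
      ((DerivedCategory.homologyFunctor X.Modules i).mapIso
        ((DCoh.Rpush U.ι).mapIso e ≪≫ RpushIso U.ι I)) (h1 i)
  · refine DerivedCategory.Q.mapIso ?_ ≪≫ e.symm
    exact (NatIso.mapHomologicalComplex (Scheme.Modules.restrictFunctorAdjCounitIso U.ι)
      (ComplexShape.up ℤ)).app I ≪≫
      HomologicalComplex.Hom.isoOfComponents (fun n => Iso.refl _) (by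
        intro i j _
        exact (Category.id_comp _).trans (Category.comp_id _).symm)

end Groth.Agent.Lib.Helper17.ExtendQC
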