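import Mathlib

/-!
# Dévissage for full faithfulness of triangulated functors
-/

set_option autoImplicit false
set_option linter.style.haveILetI false

universe v₁ v₂ u₁ u₂

open CategoryTheory Limits Pretriangulated

namespace Groth.Agent.Lib.Helper17.FFDev

variable {C : Type u₁} [Category.{v₁} C] [Preadditive C] [HasZeroObject C] [HasShift C ℤ]
  [∀ n : ℤ, (shiftFunctor C n).Additive] [Pretriangulated C]
  {D : Type u₂} [Category.{v₂} D] [Preadditive D] [HasZeroObject D] [HasShift D ℤ]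
  [∀ n : ℤ, (shiftFunctor D n).Additive] [Pretriangulated D]
  (G : C ⥤ D)

/-- `G` is injective on `Hom(K, L)` -/
def Inj (K L : C) : Prop := Function.Injective (fun f : K ⟶ L => G.map f)

/-- `G` is surjective on `Hom(K, L)` -/
def Surj (K L : C) : Prop := Function.Surjective (fun f : K ⟶ L => G.map f)

/-- `G` is bijective on `Hom(K, L)` -/
def Bij (K L : C) : Prop := Inj G K L ∧ Surj G K L

variable {G}

lemma Inj.of_iso {K K' L L' : C} (e : K ≅ K') (e' : L ≅ L') (h : Inj G K L) : Inj G K' L' := by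
  intro f f' hff'
  dsimp only at hff'
  have : G.map (e.hom ≫ f ≫ e'.inv) = G.map (e.hom ≫ f' ≫ e'.inv) := by
    simp only [G.map_comp, hff']
  have := h this
  simpa using this

lemma Surj.of_iso {K K' L L' : C} (e : K ≅ K') (e' : L ≅ L') (h : Surj G K L) :
    Surj G K' L' := by
  intro θ
  obtain ⟨f, hf⟩ := h (G.map e.hom ≫ θ ≫ G.map e'.inv)
  dsimp only at hf
  refine ⟨e.inv ≫ f ≫ e'.hom, ?_⟩
  dsimp only
  rw [G.map_comp, G.map_comp, hf]
  simp [← G.map_comp_assoc, ← G.map_comp]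

lemma Bij.of_iso {K K' L L' : C} (e : K ≅ K') (e' : L ≅ L') (h : Bij G K L) : Bij G K' L' :=
  ⟨h.1.of_iso e e', h.2.of_iso e e'⟩

section Shift

variable [G.CommShift ℤ]

lemma map_shift_eq {K L : C} (n : ℤ) (g : K ⟶ L) :
    G.map (g⟦n⟧') = (G.commShiftIso n).hom.app K ≫ (G.map g)⟦n⟧' ≫
      (G.commShiftIso n).inv.app L := by
  have := (G.commShiftIso n).hom.naturality g
  dsimp at this
  rw [← cancel_mono ((G.commShiftIso n).hom.app L), this]
  simp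

lemma Inj.shift {K L : C} (n : ℤ) (h : Inj G K L) : Inj G (K⟦n⟧) (L⟦n⟧) := by
  intro f f' hff'
  dsimp only at hff'
  obtain ⟨g, rfl⟩ := (shiftFunctor C n).map_surjective f
  obtain ⟨g', rfl⟩ := (shiftFunctor C n).map_surjective f'
  rw [map_shift_eq, map_shift_eq, cancel_epi, cancel_mono] at hff'
  have := (shiftFunctor D n).map_injective hff'
  rw [h this]

lemma Surj.shift {K L : C} (n : ℤ) (h : Surj G K L) : Surj G (K⟦n⟧) (L⟦n⟧) := by
  intro θ
  obtain ⟨θ', hθ'⟩ := (shiftFunctor D n).map_surjective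
    ((G.commShiftIso n).inv.app K ≫ θ ≫ (G.commShiftIso n).hom.app L)
  obtain ⟨g, hg⟩ := h θ'
  dsimp only at hg
  refine ⟨g⟦n⟧', ?_⟩
  dsimp only
  rw [map_shift_eq, hg, hθ']
  simp

lemma Bij.shift {K L : C} (n : ℤ) (h : Bij G K L) : Bij G (K⟦n⟧) (L⟦n⟧) :=
  ⟨h.1.shift n, h.2.shift n⟩

end Shift

section Mid

variable [G.CommShift ℤ] [G.IsTriangulated]

/-- five lemma, covariant variable -/
lemma Bij.mid_cov (T : Triangle C) (hT : T ∈ distTriang C) (K : C)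
    (h₁ : Bij G K T.obj₁) (h₃ : Bij G K T.obj₃) (hi : Inj G K (T.obj₁⟦(1 : ℤ)⟧))
    (hs : Surj G K (T.obj₃⟦(-1 : ℤ)⟧)) : Bij G K T.obj₂ := by
  have hGT := G.map_distinguished T hT
  have hT' := inv_rot_of_distTriang T hT
  have hGT' := G.map_distinguished _ hT'
  constructor
  · intro f f' hff'
    dsimp only at hff'
    rw [← sub_eq_zero] at hff' ⊢
    rw [← G.map_sub] at hff'
    generalize f - f' = d at hff'
    have h0 : d ≫ T.mor₂ = 0 := by
      apply h₃.1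
      dsimp only
      rw [G.map_comp, hff', zero_comp, G.map_zero]
    obtain ⟨g, hg⟩ := Triangle.coyoneda_exact₂ T hT d h0
    have h1 : G.map g ≫ G.map T.mor₁ = 0 := by rw [← G.map_comp, ← hg, hff']
    obtain ⟨(θ : G.obj K ⟶ G.obj (T.obj₃⟦(-1 : ℤ)⟧)), hθ⟩ :=
      Triangle.coyoneda_exact₂ _ hGT' (G.map g) h1
    obtain ⟨h, hh⟩ := hs θ
    dsimp only at hh
    let w' : T.obj₃⟦(-1 : ℤ)⟧ ⟶ T.obj₁ := T.invRotate.mor₁
    change G.map g = θ ≫ G.map w' at hθ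
    have h2 : g = h ≫ w' := by
      apply h₁.1
      dsimp only
      rw [hθ, G.map_comp, hh]
    have hw : w' ≫ T.mor₁ = 0 := comp_distTriang_mor_zero₁₂ _ hT'
    rw [hg, h2, Category.assoc, hw, comp_zero]
  · intro θ
    obtain ⟨f₃, hf₃⟩ := h₃.2 (θ ≫ G.map T.mor₂)
    dsimp only at hf₃
    have h0 : f₃ ≫ T.mor₃ = 0 := by
      apply hi
      dsimp only
      rw [G.map_comp, hf₃, Category.assoc, ← G.map_comp, comp_distTriang_mor_zero₂₃ _ hT,
        G.map_zero, comp_zero, G.map_zero]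
    obtain ⟨f₂, hf₂⟩ := Triangle.coyoneda_exact₃ T hT f₃ h0
    have h1 : (θ - G.map f₂) ≫ G.map T.mor₂ = 0 := by
      rw [Preadditive.sub_comp, ← hf₃, ← G.map_comp, ← hf₂, sub_self]
    obtain ⟨(θ₁ : G.obj K ⟶ G.obj T.obj₁), hθ₁⟩ := Triangle.coyoneda_exact₂ _ hGT _ h1
    obtain ⟨f₁, hf₁⟩ := h₁.2 θ₁
    dsimp only at hf₁
    refine ⟨f₂ + f₁ ≫ T.mor₁, ?_⟩
    dsimp only
    rw [G.map_add, G.map_comp, hf₁]
    change θ - G.map f₂ = θ₁ ≫ G.map T.mor₁ at hθ₁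
    rw [← hθ₁]
    abel

/-- five lemma, contravariant variable -/
lemma Bij.mid_contra (T : Triangle C) (hT : T ∈ distTriang C) (L : C)
    (h₁ : Bij G T.obj₁ L) (h₃ : Bij G T.obj₃ L) (hs : Surj G (T.obj₁⟦(1 : ℤ)⟧) L)
    (hi : Inj G (T.obj₃⟦(-1 : ℤ)⟧) L) : Bij G T.obj₂ L := by
  have hGT := G.map_distinguished T hT
  have hT' := inv_rot_of_distTriang T hT
  have hGT' := G.map_distinguished _ hT'
  have hTr := rot_of_distTriang T hT
  have hGTr := G.map_distinguished _ hTr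
  constructor
  · intro f f' hff'
    dsimp only at hff'
    rw [← sub_eq_zero] at hff' ⊢
    rw [← G.map_sub] at hff'
    generalize f - f' = d at hff'
    have h0 : T.mor₁ ≫ d = 0 := by
      apply h₁.1
      dsimp only
      rw [G.map_comp, hff', comp_zero, G.map_zero]
    obtain ⟨g, hg⟩ := Triangle.yoneda_exact₂ T hT d h0
    have h1 : G.map T.mor₂ ≫ G.map g = 0 := by rw [← G.map_comp, ← hg, hff']
    obtain ⟨(θ : G.obj (T.obj₁⟦(1 : ℤ)⟧) ⟶ G.obj L), hθ⟩ :=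
      Triangle.yoneda_exact₂ _ hGTr (G.map g) h1
    obtain ⟨h, hh⟩ := hs θ
    dsimp only at hh
    change G.map g = G.map T.mor₃ ≫ θ at hθ
    have h2 : g = T.mor₃ ≫ h := by
      apply h₃.1
      dsimp only
      rw [hθ, G.map_comp, hh]
    rw [hg, h2, ← Category.assoc, comp_distTriang_mor_zero₂₃ _ hT, zero_comp]
  · intro θ
    obtain ⟨f₁, hf₁⟩ := h₁.2 (G.map T.mor₁ ≫ θ)
    dsimp only at hf₁
    let w' : T.obj₃⟦(-1 : ℤ)⟧ ⟶ T.obj₁ := T.invRotate.mor₁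
    have hw : w' ≫ T.mor₁ = 0 := comp_distTriang_mor_zero₁₂ _ hT'
    have h0 : w' ≫ f₁ = 0 := by
      apply hi
      dsimp only
      rw [G.map_comp, hf₁, ← Category.assoc, ← G.map_comp, hw, G.map_zero, zero_comp,
        G.map_zero]
    obtain ⟨(f₂ : T.obj₂ ⟶ L), hf₂⟩ := Triangle.yoneda_exact₂ _ hT' f₁ h0
    change f₁ = T.mor₁ ≫ f₂ at hf₂
    have h1 : G.map T.mor₁ ≫ (θ - G.map f₂) = 0 := by
      rw [Preadditive.comp_sub, ← hf₁, ← G.map_comp, ← hf₂, sub_self]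
    obtain ⟨(θ₃ : G.obj T.obj₃ ⟶ G.obj L), hθ₃⟩ := Triangle.yoneda_exact₂ _ hGT _ h1
    obtain ⟨f₃, hf₃⟩ := h₃.2 θ₃
    dsimp only at hf₃
    refine ⟨f₂ + T.mor₂ ≫ f₃, ?_⟩
    dsimp only
    rw [G.map_add, G.map_comp, hf₃]
    change θ - G.map f₂ = G.map T.mor₂ ≫ θ₃ at hθ₃
    rw [← hθ₃]
    abel

end Mid

end Groth.Agent.Lib.Helper17.FFDev
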