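import Mathlib
import Groth.Prelude.Def_W4c61motalbdualityCompl
import Groth.Agent.S16344

/-!
# Inverse limit argument for completions w.r.t. open subgroups of finite index
-/

set_option linter.style.haveILetI false

namespace Groth.Agent.Lib.Helper17.FIComplLim

open W4c61motalbduality

universe u v w

section
variable {A : Type u} [AddCommGroup A] [TopologicalSpace A]

/-- intersection of two open finite index subgroups -/
def OpenFI.inf (U V : OpenFI A) : OpenFI A where
  toAddSubgroup := U.toAddSubgroup ⊓ V.toAddSubgroup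
  isOpen' := U.isOpen'.inter V.isOpen'
  finiteIndex' := by
    haveI := U.finiteIndex'
    haveI := V.finiteIndex'
    infer_instance

/-- finite intersection of open finite index subgroups -/
def OpenFI.iInf {ι : Type*} [Finite ι] (f : ι → OpenFI A) : OpenFI A where
  toAddSubgroup := ⨅ i, (f i).toAddSubgroup
  isOpen' := by
    rw [AddSubgroup.coe_iInf]
    exact isOpen_iInter_of_finite (fun i => (f i).isOpen')
  finiteIndex' := AddSubgroup.finiteIndex_iInf (fun i => (f i).finiteIndex')

instance (U : OpenFI A) : Finite (A ⧸ U.toAddSubgroup) := by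
  haveI := U.finiteIndex'
  exact AddSubgroup.finite_quotient_of_finiteIndex

/-- The inverse limit lemma. -/
theorem exists_mem (S : ∀ U : OpenFI A, Set (A ⧸ U.toAddSubgroup))
    (hne : ∀ U, (S U).Nonempty)
    (hmap : ∀ (U V : OpenFI A) (h : U.toAddSubgroup ≤ V.toAddSubgroup), ∀ x ∈ S U,
      QuotientAddGroup.map U.toAddSubgroup V.toAddSubgroup (AddMonoidHom.id A) h x ∈ S V) :
    ∃ x : FICompl A, ∀ U, x.1 U ∈ S U := by
  letI : Preorder (OpenFI A) := Preorder.lift (fun U => OrderDual.toDual U.toAddSubgroup)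
  haveI : IsDirected (OpenFI A) (· ≤ ·) := ⟨fun U V => ⟨OpenFI.inf U V,
    (inf_le_left : U.toAddSubgroup ⊓ V.toAddSubgroup ≤ U.toAddSubgroup),
    (inf_le_right : U.toAddSubgroup ⊓ V.toAddSubgroup ≤ V.toAddSubgroup)⟩⟩
  letI : ∀ U : OpenFI A, TopologicalSpace (A ⧸ U.toAddSubgroup) := fun _ => ⊥
  haveI : ∀ U : OpenFI A, DiscreteTopology (A ⧸ U.toAddSubgroup) := fun _ => ⟨rfl⟩
  obtain ⟨x, hx1, hx2⟩ := Groth.Agent.S16344.exists_compatible (ι := OpenFI A)
    (fun U => A ⧸ U.toAddSubgroup)
    (fun i j (h : i ≤ j) => QuotientAddGroup.map j.toAddSubgroup i.toAddSubgroup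
      (AddMonoidHom.id A) h)
    (fun i j h => continuous_of_discreteTopology)
    (fun i j k hij hjk x => by
      obtain ⟨a, rfl⟩ := QuotientAddGroup.mk_surjective x
      rfl)
    S (fun U => isClosed_discrete _) hne
    (fun i j h x hx => hmap j i h x hx)
  exact ⟨⟨x, fun U V h => hx2 V U h⟩, hx1⟩

end

section
variable {A : Type u} {B : Type v} {C : Type w}
  [AddCommGroup A] [TopologicalSpace A]
  [AddCommGroup B] [TopologicalSpace B]
  [AddCommGroup C] [TopologicalSpace C]

/-- image of an open finite index subgroup under an open surjective hom -/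
def OpenFI.image (p : B →+ C) (hpo : IsOpenMap p) (hps : Function.Surjective p) (V : OpenFI B) :
    OpenFI C where
  toAddSubgroup := V.toAddSubgroup.map p
  isOpen' := by
    rw [AddSubgroup.coe_map]
    exact hpo _ V.isOpen'
  finiteIndex' := by
    haveI := V.finiteIndex'
    refine ⟨fun h0 => ?_⟩
    have := AddSubgroup.index_map_dvd V.toAddSubgroup hps
    rw [h0, zero_dvd_iff] at this
    exact AddSubgroup.FiniteIndex.index_ne_zero this

theorem map_apply (f : A →+ B) (hf : Continuous f) (x : FICompl A) (V : OpenFI B) :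
    (FICompl.map f hf x).1 V = QuotientAddGroup.map (V.comap f hf).toAddSubgroup V.toAddSubgroup f
      (V.comap_le f) (x.1 (V.comap f hf)) := rfl

theorem surjective_map (p : B →+ C) (hp : Continuous p)
    (hpo : IsOpenMap p) (hps : Function.Surjective p) :
    Function.Surjective (FICompl.map p hp) := by
  intro z
  obtain ⟨x, hx⟩ := exists_mem (A := B)
    (fun V => {y : B ⧸ V.toAddSubgroup | ∀ (W : OpenFI C)
      (h : V.toAddSubgroup ≤ W.toAddSubgroup.comap p),
      QuotientAddGroup.map V.toAddSubgroup W.toAddSubgroup p h y = z.1 W})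
    (fun V => by
      obtain ⟨c, hc⟩ := QuotientAddGroup.mk_surjective (z.1 (OpenFI.image p hpo hps V))
      obtain ⟨b, rfl⟩ := hps c
      refine ⟨QuotientAddGroup.mk b, fun W h => ?_⟩
      have hle : (OpenFI.image p hpo hps V).toAddSubgroup ≤ W.toAddSubgroup :=
        AddSubgroup.map_le_iff_le_comap.mpr h
      rw [← z.2 _ _ hle, ← hc]
      rfl)
    (fun U V h x hx W hW => by
      obtain ⟨b, rfl⟩ := QuotientAddGroup.mk_surjective x
      have := hx W (h.trans hW)
      exact this)
  refine ⟨x, ?_⟩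
  ext W
  rw [map_apply]
  exact hx _ W le_rfl

theorem range_le_ker (i : A →+ B) (hi : Continuous i) (p : B →+ C) (hp : Continuous p)
    (hex : p.ker = i.range) :
    (FICompl.map i hi).range ≤ (FICompl.map p hp).ker := by
  rintro _ ⟨x, rfl⟩
  rw [AddMonoidHom.mem_ker]
  ext W
  rw [map_apply, map_apply]
  obtain ⟨a, ha⟩ := QuotientAddGroup.mk_surjective
    (x.1 ((W.comap p hp).comap i hi))
  rw [← ha]
  show ((p (i a) : C) : C ⧸ W.toAddSubgroup) = 0
  have : p (i a) = 0 := by
    have : i a ∈ p.ker := hex ▸ ⟨a, rfl⟩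
    exact this
  rw [this]
  rfl

theorem ker_le_range (i : A →+ B) (hi : Continuous i) (p : B →+ C) (hp : Continuous p)
    (hpo : IsOpenMap p) (hps : Function.Surjective p) (hex : p.ker = i.range) :
    (FICompl.map p hp).ker ≤ (FICompl.map i hi).range := by
  classical
  intro y hy
  rw [AddMonoidHom.mem_ker] at hy
  -- each component of `y` comes from `A`
  have h1 : ∀ V : OpenFI B, ∃ a : A, ((i a : B) : B ⧸ V.toAddSubgroup) = y.1 V := by
    intro V
    set W := OpenFI.image p hpo hps V with hW
    have h2 : (FICompl.map p hp y).1 W = 0 := by rw [hy]; rfl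
    rw [map_apply] at h2
    have hle : V.toAddSubgroup ≤ (W.comap p hp).toAddSubgroup := by
      intro v hv
      exact ⟨v, hv, rfl⟩
    have h3 := y.2 V (W.comap p hp) hle
    obtain ⟨b, hb⟩ := QuotientAddGroup.mk_surjective (y.1 V)
    rw [← h3, ← hb] at h2
    have h4 : ((p b : C) : C ⧸ W.toAddSubgroup) = 0 := h2
    rw [QuotientAddGroup.eq_zero_iff] at h4
    obtain ⟨v, hv, hpv⟩ := h4
    have h5 : b - v ∈ p.ker := by
      rw [AddMonoidHom.mem_ker, map_sub, hpv, sub_self]
    rw [hex] at h5
    obtain ⟨a, ha⟩ := h5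
    refine ⟨a, ?_⟩
    rw [ha, ← hb, QuotientAddGroup.mk_sub]
    have : ((v : B) : B ⧸ V.toAddSubgroup) = 0 := (QuotientAddGroup.eq_zero_iff v).mpr hv
    rw [this, sub_zero]
  obtain ⟨x, hx⟩ := exists_mem (A := A)
    (fun U => {x : A ⧸ U.toAddSubgroup | ∀ (V : OpenFI B)
      (h : U.toAddSubgroup ≤ V.toAddSubgroup.comap i),
      QuotientAddGroup.map U.toAddSubgroup V.toAddSubgroup i h x = y.1 V})
    (fun U => by
      by_contra hempty
      rw [Set.not_nonempty_iff_eq_empty, Set.eq_empty_iff_forall_notMem] at hempty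
      have h2 : ∀ x : A ⧸ U.toAddSubgroup, ∃ (V : OpenFI B)
          (h : U.toAddSubgroup ≤ V.toAddSubgroup.comap i),
          QuotientAddGroup.map U.toAddSubgroup V.toAddSubgroup i h x ≠ y.1 V := by
        intro x
        have := hempty x
        simp only [Set.mem_ofPred_eq, not_forall] at this
        exact this
      choose Vx hVx hne using h2
      set Vs : OpenFI B := OpenFI.iInf Vx with hVs
      have hVsle : ∀ x, Vs.toAddSubgroup ≤ (Vx x).toAddSubgroup := fun x => iInf_le _ x
      have hUle : U.toAddSubgroup ≤ Vs.toAddSubgroup.comap i := by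
        intro a ha
        show i a ∈ ⨅ x, (Vx x).toAddSubgroup
        rw [AddSubgroup.mem_iInf]
        exact fun x => hVx x ha
      obtain ⟨a, ha⟩ := h1 Vs
      apply hne (QuotientAddGroup.mk a)
      rw [← y.2 Vs (Vx _) (hVsle _), ← ha]
      rfl)
    (fun U U' h x hx V hV => by
      obtain ⟨a, rfl⟩ := QuotientAddGroup.mk_surjective x
      exact hx V (h.trans hV))
  refine ⟨x, ?_⟩
  ext V
  rw [map_apply]
  exact hx _ V le_rfl

end

end Groth.Agent.Lib.Helper17.FIComplLim
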