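import Mathlib
import Groth.Prelude.Def_FSRel

/-!
# Relative formal smoothness and the first fundamental sequence (helper17)

`exists_leftInverse`: if `C` is formally smooth over `B` relative to `A` (square-zero form) then
`C ⊗[B] Ω[B⁄A] → Ω[C⁄A]` has a `C`-linear left inverse; `isFormallySmoothRel_of_leftInverse` is the
converse.
-/

namespace Groth.Agent.Lib.Helper17.FSRel

open TensorProduct

universe u

set_option linter.unusedSectionVars false

section ext
variable (A B C : Type u) [CommRing A] [CommRing B]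
    [CommRing C] [Algebra A B] [Algebra B C] [Algebra A C] [IsScalarTower A B C]

/-- The trivial square-zero extension of `C` by `C ⊗[B] Ω[B⁄A]`, as a type synonym: it carries a
`B`-algebra structure twisted by the universal derivation. -/
def Ext : Type u := TrivSqZeroExt C (C ⊗[B] Ω[B⁄A])

noncomputable instance : CommRing (Ext A B C) :=
  inferInstanceAs (CommRing (TrivSqZeroExt C (C ⊗[B] Ω[B⁄A])))

noncomputable instance : Algebra A (Ext A B C) :=
  inferInstanceAs (Algebra A (TrivSqZeroExt C (C ⊗[B] Ω[B⁄A])))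

noncomputable instance : Algebra C (Ext A B C) :=
  inferInstanceAs (Algebra C (TrivSqZeroExt C (C ⊗[B] Ω[B⁄A])))

instance : IsScalarTower A C (Ext A B C) :=
  inferInstanceAs (IsScalarTower A C (TrivSqZeroExt C (C ⊗[B] Ω[B⁄A])))

/-- The twisted structure map `b ↦ (b, 1 ⊗ d b)`. -/
noncomputable def twist : B →+* Ext A B C where
  toFun b := (TrivSqZeroExt.inl (algebraMap B C b) + TrivSqZeroExt.inr ((1 : C) ⊗ₜ[B] KaehlerDifferential.D A B b) :
    TrivSqZeroExt C (C ⊗[B] Ω[B⁄A]))
  map_one' := by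
    simp only [map_one, Derivation.map_one_eq_zero, tmul_zero, TrivSqZeroExt.inr_zero, add_zero]
    rfl
  map_mul' x y := by
    show (_ : TrivSqZeroExt C (C ⊗[B] Ω[B⁄A])) = _ * _
    ext
    · simp
    · simp only [Derivation.leibniz, tmul_add, tmul_smul, TrivSqZeroExt.snd_add, TrivSqZeroExt.snd_inl,
        TrivSqZeroExt.snd_inr, zero_add, TrivSqZeroExt.snd_mul, TrivSqZeroExt.fst_add,
        TrivSqZeroExt.fst_inl, TrivSqZeroExt.fst_inr, add_zero, algebraMap_smul,
        op_smul_eq_smul]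
  map_zero' := by
    simp only [map_zero, tmul_zero, TrivSqZeroExt.inr_zero, add_zero, TrivSqZeroExt.inl_zero]
    rfl
  map_add' x y := by
    simp only [map_add, tmul_add, TrivSqZeroExt.inl_add, TrivSqZeroExt.inr_add]
    show (_ : TrivSqZeroExt C (C ⊗[B] Ω[B⁄A])) = _ + _
    abel


noncomputable instance twistAlgebra : Algebra B (Ext A B C) := (twist A B C).toAlgebra

lemma algebraMap_B_apply (b : B) : algebraMap B (Ext A B C) b =
    (TrivSqZeroExt.inl (algebraMap B C b) + TrivSqZeroExt.inr ((1 : C) ⊗ₜ[B] KaehlerDifferential.D A B b) :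
    TrivSqZeroExt C (C ⊗[B] Ω[B⁄A])) := rfl

lemma algebraMap_A_apply (a : A) : algebraMap A (Ext A B C) a =
    (TrivSqZeroExt.inl (algebraMap A C a) : TrivSqZeroExt C (C ⊗[B] Ω[B⁄A])) := rfl

instance : IsScalarTower A B (Ext A B C) := by
  refine IsScalarTower.of_algebraMap_eq (fun a => ?_)
  rw [algebraMap_B_apply, algebraMap_A_apply, Derivation.map_algebraMap, tmul_zero,
    TrivSqZeroExt.inr_zero, add_zero, ← IsScalarTower.algebraMap_apply]

/-- first projection, as an `A`-algebra map. -/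
noncomputable def fst' : Ext A B C →ₐ[A] C := TrivSqZeroExt.fstHom A C (C ⊗[B] Ω[B⁄A])

/-- second projection, as an `A`-linear map. -/
noncomputable def snd' : Ext A B C →ₗ[A] C ⊗[B] Ω[B⁄A] :=
  (TrivSqZeroExt.sndHom C (C ⊗[B] Ω[B⁄A])).restrictScalars A

lemma fst'_algebraMap_B (b : B) : fst' A B C (algebraMap B (Ext A B C) b) = algebraMap B C b := by
  show TrivSqZeroExt.fst ((TrivSqZeroExt.inl (algebraMap B C b) +
    TrivSqZeroExt.inr ((1 : C) ⊗ₜ[B] KaehlerDifferential.D A B b) : TrivSqZeroExt C (C ⊗[B] Ω[B⁄A]))) = _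
  simp

lemma snd'_algebraMap_B (b : B) : snd' A B C (algebraMap B (Ext A B C) b) =
    (1 : C) ⊗ₜ[B] KaehlerDifferential.D A B b := by
  show TrivSqZeroExt.snd ((TrivSqZeroExt.inl (algebraMap B C b) +
    TrivSqZeroExt.inr ((1 : C) ⊗ₜ[B] KaehlerDifferential.D A B b) : TrivSqZeroExt C (C ⊗[B] Ω[B⁄A]))) = _
  simp

lemma snd'_mul (x y : Ext A B C) : snd' A B C (x * y) =
    fst' A B C x • snd' A B C y + fst' A B C y • snd' A B C x := by
  have h := TrivSqZeroExt.snd_mul (R := C) (M := C ⊗[B] Ω[B⁄A]) x y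
  rw [op_smul_eq_smul] at h
  exact h

/-- The square-zero ideal. -/
noncomputable def J : Ideal (Ext A B C) := RingHom.ker (fst' A B C)

lemma J_sq : J A B C ^ 2 = ⊥ := TrivSqZeroExt.kerIdeal_sq C (C ⊗[B] Ω[B⁄A])

lemma mem_J_iff (x : Ext A B C) : x ∈ J A B C ↔ fst' A B C x = 0 := RingHom.mem_ker

/-- The `A`-algebra section `c ↦ (c, 0)`. -/
noncomputable def sec : C →ₐ[A] Ext A B C :=
  TrivSqZeroExt.inlAlgHom A C (C ⊗[B] Ω[B⁄A])

lemma fst'_sec (c : C) : fst' A B C (sec A B C c) = c := rfl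

/-- The `B`-algebra map `C → Ext ⧸ J`. -/
noncomputable def u0 : C →ₐ[B] Ext A B C ⧸ J A B C :=
  { ((Ideal.Quotient.mkₐ A (J A B C)).comp (sec A B C) : C →+* Ext A B C ⧸ J A B C) with
    commutes' := by
      intro b
      show Ideal.Quotient.mk (J A B C) (sec A B C (algebraMap B C b)) =
        Ideal.Quotient.mk (J A B C) (algebraMap B (Ext A B C) b)
      rw [Ideal.Quotient.eq, mem_J_iff, map_sub, fst'_sec, fst'_algebraMap_B, sub_self] }

lemma u0_apply (c : C) : u0 A B C c = Ideal.Quotient.mk (J A B C) (sec A B C c) := rfl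

theorem exists_leftInverse (h : EGA41.IsFormallySmoothRel A B C) :
    ∃ l : Ω[C⁄A] →ₗ[C] C ⊗[B] Ω[B⁄A],
      l ∘ₗ KaehlerDifferential.mapBaseChange A B C = LinearMap.id := by
  obtain ⟨v, hv⟩ := h (Ext A B C) (J A B C) (J_sq A B C) (u0 A B C) ⟨sec A B C, by
    ext c; rfl⟩
  -- `fst (v c) = c`
  have hfst : ∀ c : C, fst' A B C (v c) = c := by
    intro c
    have h1 : Ideal.Quotient.mk (J A B C) (v c) = Ideal.Quotient.mk (J A B C) (sec A B C c) := by
      have := congrArg (fun φ : C →ₐ[B] Ext A B C ⧸ J A B C => φ c) hv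
      exact this
    rw [Ideal.Quotient.eq, mem_J_iff, map_sub, fst'_sec, sub_eq_zero] at h1
    exact h1
  -- the derivation
  let δl : C →ₗ[A] C ⊗[B] Ω[B⁄A] := (snd' A B C) ∘ₗ (v.restrictScalars A).toLinearMap
  have hδl : ∀ c, δl c = snd' A B C (v c) := fun c => rfl
  let δ : Derivation A C (C ⊗[B] Ω[B⁄A]) := Derivation.mk' δl (by
    intro c c'
    rw [hδl, hδl, hδl, map_mul, snd'_mul, hfst, hfst])
  have hδ : ∀ c, δ c = snd' A B C (v c) := fun c => rfl
  have hδB : ∀ b : B, δ (algebraMap B C b) = (1 : C) ⊗ₜ[B] KaehlerDifferential.D A B b := by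
    intro b
    rw [hδ, v.commutes, snd'_algebraMap_B]
  refine ⟨δ.liftKaehlerDifferential, ?_⟩
  refine LinearMap.ext fun x => ?_
  induction x using TensorProduct.induction_on with
  | zero => simp
  | add x y hx hy => rw [map_add, hx, hy, map_add]
  | tmul c ω =>
    have hmem : ω ∈ Submodule.span B (Set.range (KaehlerDifferential.D A B)) := by
      rw [KaehlerDifferential.span_range_derivation]; trivial
    revert c
    induction hmem using Submodule.span_induction with
    | mem ω hω =>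
      intro c
      obtain ⟨b, rfl⟩ := hω
      rw [LinearMap.comp_apply, KaehlerDifferential.mapBaseChange_tmul, KaehlerDifferential.map_D,
        map_smul, Derivation.liftKaehlerDifferential_comp_D, hδB, LinearMap.id_apply,
        TensorProduct.smul_tmul', smul_eq_mul, mul_one]
    | zero => intro c; simp
    | add ω ω' _ _ h1 h2 => intro c; rw [tmul_add, map_add, h1, h2, map_add]
    | smul b ω _ h1 =>
      intro c
      rw [← TensorProduct.smul_tmul]
      exact h1 (b • c)

theorem isFormallySmoothRel_of_leftInverse (l : Ω[C⁄A] →ₗ[C] C ⊗[B] Ω[B⁄A])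
    (hl : l ∘ₗ KaehlerDifferential.mapBaseChange A B C = LinearMap.id) :
    EGA41.IsFormallySmoothRel A B C := by
  intro E _ _ _ _ J hJ u₀ ⟨u, hu⟩
  let _ : Algebra C E := u.toRingHom.toAlgebra
  have hCE : ∀ c : C, algebraMap C E c = u c := fun c => rfl
  have : IsScalarTower A C E := IsScalarTower.of_algebraMap_eq (fun a => (u.commutes a).symm)
  have hu' : ∀ c : C, Ideal.Quotient.mk J (u c) = u₀ c := by
    intro c
    exact congrArg (fun φ : C →ₐ[A] E ⧸ J => φ c) hu
  let f : B →ₐ[A] E := u.comp (IsScalarTower.toAlgHom A B C)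
  have e : (Ideal.Quotient.mkₐ A J).comp f = IsScalarTower.toAlgHom A B (E ⧸ J) := by
    ext b
    show Ideal.Quotient.mk J (u (algebraMap B C b)) = algebraMap B (E ⧸ J) b
    rw [hu', u₀.commutes]
  let φ : Derivation A B J := derivationToSquareZeroOfLift J hJ f e
  have hφ : ∀ b : B, ((φ b : J) : E) = u (algebraMap B C b) - algebraMap B E b := fun b => rfl
  have hJJ : ∀ x y : E, x ∈ J → y ∈ J → x * y = 0 := by
    intro x y hx hy
    have : x * y ∈ J ^ 2 := by rw [pow_two]; exact Ideal.mul_mem_mul hx hy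
    rw [hJ] at this
    exact this
  have : IsScalarTower B C J := by
    refine ⟨fun b c j => ?_⟩
    apply Subtype.ext
    show (b • c) • (j : E) = b • (c • (j : E))
    have e1 : (b • c) • (j : E) = u (algebraMap B C b) * (u c * j) := by
      rw [Algebra.smul_def (b • c) (j : E), hCE, Algebra.smul_def b c, map_mul, mul_assoc]
    have e2 : b • (c • (j : E)) = algebraMap B E b * (u c * j) := by
      rw [Algebra.smul_def c (j : E), hCE, Algebra.smul_def b]
    rw [e1, e2]
    have := hJJ _ _ (φ b).2 (J.mul_mem_left (u c) j.2)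
    rw [hφ, sub_mul, sub_eq_zero] at this
    exact this
  let ψ₀ : Ω[B⁄A] →ₗ[B] J := φ.liftKaehlerDifferential
  let ψ : C ⊗[B] Ω[B⁄A] →ₗ[C] J := LinearMap.liftBaseChange C ψ₀
  let δ : Derivation A C J := (ψ ∘ₗ l).compDer (KaehlerDifferential.D A C)
  have hδ : ∀ c, δ c = ψ (l (KaehlerDifferential.D A C c)) := fun c => rfl
  have hδB : ∀ b : B, ((δ (algebraMap B C b) : J) : E) = u (algebraMap B C b) - algebraMap B E b := by
    intro b
    have h1 : KaehlerDifferential.D A C (algebraMap B C b) =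
        KaehlerDifferential.mapBaseChange A B C ((1 : C) ⊗ₜ[B] KaehlerDifferential.D A B b) := by
      rw [KaehlerDifferential.mapBaseChange_tmul, one_smul, KaehlerDifferential.map_D]
    have h2 : l (KaehlerDifferential.mapBaseChange A B C ((1 : C) ⊗ₜ[B] KaehlerDifferential.D A B b)) =
        (1 : C) ⊗ₜ[B] KaehlerDifferential.D A B b :=
      congrArg (fun g : C ⊗[B] Ω[B⁄A] →ₗ[C] C ⊗[B] Ω[B⁄A] => g ((1 : C) ⊗ₜ[B] KaehlerDifferential.D A B b)) hl
    rw [hδ, h1, h2, LinearMap.liftBaseChange_tmul, one_smul, Derivation.liftKaehlerDifferential_comp_D, hφ]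
  let v₀ : C →ₐ[A] E := liftOfDerivationToSquareZero J hJ (-δ)
  have hv₀ : ∀ c, v₀ c = ((-δ) c : E) + algebraMap C E c := fun c => rfl
  let v : C →ₐ[B] E :=
    { (v₀ : C →+* E) with
      commutes' := by
        intro b
        show v₀ (algebraMap B C b) = algebraMap B E b
        rw [hv₀, Derivation.neg_apply, Submodule.coe_neg, hδB, hCE]
        ring }
  refine ⟨v, ?_⟩
  ext c
  show Ideal.Quotient.mk J (v₀ c) = u₀ c
  rw [hv₀, map_add, Ideal.Quotient.eq_zero_iff_mem.mpr ((-δ) c).2, zero_add, hCE, hu']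

end ext

end Groth.Agent.Lib.Helper17.FSRel
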