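import Mathlib
import Groth.Agent.Lib27.NoethSerre

set_option autoImplicit false
set_option linter.unusedSectionVars false
set_option linter.style.haveILetI false
open CategoryTheory CategoryTheory.Limits ZeroObject

universe w u₁ u₂

namespace Groth.Agent.Lib.Helper17.FaithAdj

section
variable {A : Type u₁} [Category.{w} A] [Abelian A]
  {B : Type u₂} [Category.{w} B] [Abelian B]
  (F : A ⥤ B) [F.Additive] [F.Faithful]
  [PreservesFiniteLimits F] [PreservesFiniteColimits F]

lemma reflectsFiniteLimits : ReflectsFiniteLimits F where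
  reflects _ _ _ := reflectsLimitsOfShape_of_reflectsIsomorphisms

end

section Main

variable {A : Type u₁} [Category.{w} A] [Abelian A] [HasColimitsOfSize.{w, w} A]
  {B : Type u₂} [Category.{w} B] [Abelian B] [HasColimitsOfSize.{w, w} B] [AB5OfSize.{w, w} B]
  {F : A ⥤ B} {G : B ⥤ A} (adj : F ⊣ G) [F.Additive] [F.Faithful]
  [PreservesFiniteLimits F] [PreservesFiniteColimits F] [PreservesFilteredColimitsOfSize.{w, w} G]

include adj in
lemma ab5 : AB5OfSize.{w, w} A := by
  constructor
  intro J _ _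
  haveI : PreservesColimitsOfSize.{w, w} F := adj.leftAdjoint_preservesColimits
  haveI := reflectsFiniteLimits F
  exact HasExactColimitsOfShape.domain_of_functor J F

section union

variable {J : Type w} [SmallCategory J] [IsFiltered J]
  (X : A) (Q : J ⥤ B) (q : (Functor.const J).obj (F.obj X) ⟶ Q)

/-- the adjoint maps `X ⟶ G (Q j)` -/
def pmap (j : J) : X ⟶ G.obj (Q.obj j) := adj.unit.app X ≫ G.map (q.app j)

lemma map_comp_q_eq_zero {W : A} (z : W ⟶ X) (j : J) (hz : z ≫ pmap adj X Q q j = 0) :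
    F.map z ≫ q.app j = 0 := by
  have h1 : q.app j = F.map (pmap adj X Q q j) ≫ adj.counit.app (Q.obj j) := by
    simp [pmap]
  rw [h1, ← F.map_comp_assoc, hz, F.map_zero, zero_comp]

/-- the natural transformation assembled from `pmap` -/
def pNat : (Functor.const J).obj X ⟶ Q ⋙ G where
  app j := pmap adj X Q q j
  naturality j j' φ := by
    have := q.naturality φ
    dsimp at this ⊢
    simp only [Category.id_comp] at this ⊢
    simp only [pmap, Category.assoc, ← G.map_comp, this]

attribute [local instance] IsFiltered.isConnected in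
include adj in
theorem eq_zero_of_union (hQ : IsZero (colimit Q)) {Y : A} (u : X ⟶ Y)
    (hu : ∀ (j : J) (W : A) (z : W ⟶ X), z ≫ pmap adj X Q q j = 0 → z ≫ u = 0) : u = 0 := by
  haveI := ab5 adj
  haveI : G.Additive := adj.right_adjoint_additive
  let P := pNat adj X Q q
  let S : ShortComplex (J ⥤ A) := ShortComplex.mk (kernel.ι P) P (kernel.condition P)
  have hS : S.Exact := S.exact_of_f_is_kernel (kernelIsKernel P)
  let cX : Cocone S.X₁ := ⟨X, S.f⟩
  let f : colimit S.X₁ ⟶ X := colimit.desc S.X₁ cX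
  have hf' : ∀ j, colimit.ι S.X₁ j ≫ f = (kernel.ι P).app j := fun j => colimit.ι_desc cX j
  have hc₂ : IsColimit (constCocone J X) := isColimitConstCocone J X
  have hc₃ : IsColimit (G.mapCocone (colimit.cocone Q)) :=
    isColimitOfPreserves G (colimit.isColimit Q)
  have hz₃ : IsZero (G.obj (colimit Q)) := G.map_isZero hQ
  have hf : ∀ j, (colimit.cocone S.X₁).ι.app j ≫ f = S.f.app j ≫ (constCocone J X).ι.app j := by
    intro j
    exact (hf' j).trans (Category.comp_id _).symm
  have hg : ∀ j, (constCocone J X).ι.app j ≫ (0 : X ⟶ G.obj (colimit Q)) =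
      S.g.app j ≫ (G.mapCocone (colimit.cocone Q)).ι.app j :=
    fun j => hz₃.eq_of_tgt _ _
  have hex := colim.exact_mapShortComplex hS (colimit.isColimit S.X₁) hc₂ hc₃ f 0 hf hg
  haveI : Epi f := hex.epi_f rfl
  rw [← cancel_epi f, comp_zero]
  apply colimit.hom_ext
  intro j
  rw [comp_zero, reassoc_of% (hf' j)]
  apply hu j
  have h2 : (kernel.ι P ≫ P).app j = 0 := by rw [kernel.condition]; rfl
  exact h2

end union


section Qfun

open scoped Classical

variable {ι : Type w} (s : ι → B) (Y : B)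

/-- the index category: finite sets of maps from the family to `Y` -/
abbrev JJ := Finset (Σ i, s i ⟶ Y)

/-- the map from the finite coproduct -/
noncomputable def sg (j : JJ s Y) : (∐ fun h : j => s h.1.1) ⟶ Y := Sigma.desc (fun h => h.1.2)

lemma comp_cokernel_sg (j : JJ s Y) (h : Σ i, s i ⟶ Y) (hh : h ∈ j) :
    h.2 ≫ cokernel.π (sg s Y j) = 0 := by
  have : h.2 = Sigma.ι (fun h : j => s h.1.1) ⟨h, hh⟩ ≫ sg s Y j := by
    simp [sg]
  rw [this, Category.assoc, cokernel.condition, comp_zero]

/-- the quotients of `Y` by the finitely generated subobjects -/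
noncomputable def Qf : JJ s Y ⥤ B where
  obj j := cokernel (sg s Y j)
  map {j j'} φ := cokernel.desc _ (cokernel.π _) (by
    apply Sigma.hom_ext
    intro h
    have h1 : Sigma.ι (fun h : j => s h.1.1) h ≫ sg s Y j = h.1.2 := by simp [sg]
    rw [reassoc_of% h1, comp_zero]
    exact comp_cokernel_sg s Y j' h.1 (leOfHom φ h.2))
  map_id j := by
    apply coequalizer.hom_ext
    simp
  map_comp φ ψ := by
    apply coequalizer.hom_ext
    simp

/-- the projections -/
noncomputable def qf : (Functor.const (JJ s Y)).obj Y ⟶ Qf s Y where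
  app j := cokernel.π (sg s Y j)
  naturality j j' φ := by
    simp [Qf]

instance (j : JJ s Y) : Epi ((qf s Y).app j) := by
  dsimp [qf]; exact coequalizer.π_epi

lemma isZero_colimit_Qf
    (hsep : ∀ ⦃X Y : B⦄ (f g : X ⟶ Y), (∀ (i : ι) (h : s i ⟶ X), h ≫ f = h ≫ g) → f = g) :
    IsZero (colimit (Qf s Y)) := by
  have key : ∀ j : JJ s Y, colimit.ι (Qf s Y) j = 0 := by
    intro j
    rw [← cancel_epi ((qf s Y).app j), comp_zero]
    apply hsep
    intro i h
    rw [comp_zero]
    let j' : JJ s Y := j ∪ {⟨i, h⟩}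
    have φ : j ⟶ j' := homOfLE Finset.subset_union_left
    have h1 : (qf s Y).app j ≫ colimit.ι (Qf s Y) j = (qf s Y).app j' ≫ colimit.ι (Qf s Y) j' := by
      rw [← colimit.w (Qf s Y) φ]
      have := (qf s Y).naturality φ
      dsimp at this
      rw [Category.id_comp] at this
      rw [this, Category.assoc]
    rw [h1]
    have h2 : h ≫ (qf s Y).app j' = 0 :=
      comp_cokernel_sg s Y j' ⟨i, h⟩ (Finset.mem_union_right _ (Finset.mem_singleton_self _))
    rw [reassoc_of% h2, zero_comp]
  rw [IsZero.iff_id_eq_zero]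
  apply colimit.hom_ext
  intro j
  rw [key j, zero_comp, zero_comp]

end Qfun


section SubQuot

variable {ι : Type w} (s : ι → B)

/-- `c` is a subquotient of a finite coproduct of members of the family `s` -/
def SubQuot (c : B) : Prop :=
  ∃ (T : Type w) (_ : Finite T) (f : T → ι) (b : B) (e : (∐ fun t => s (f t)) ⟶ b) (m : c ⟶ b),
    Epi e ∧ Mono m

variable {s}

lemma SubQuot.of_iso {c c' : B} (h : SubQuot s c) (φ : c' ≅ c) : SubQuot s c' := by
  obtain ⟨T, hT, f, b, e, m, he, hm⟩ := h
  exact ⟨T, hT, f, b, e, φ.hom ≫ m, he, mono_comp _ _⟩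

lemma SubQuot.of_isZero {c : B} (h : IsZero c) : SubQuot s c :=
  ⟨PEmpty, inferInstance, PEmpty.elim, _, 𝟙 _, 0, inferInstance, h.mono _⟩

open scoped Classical in
include adj in
lemma subQuot_of_comp_pmap_eq_zero (X : A) (j : JJ s (F.obj X)) {W : A} (z : W ⟶ X) [Mono z]
    (hz : z ≫ pmap adj X (Qf s (F.obj X)) (qf s (F.obj X)) j = 0) : SubQuot s (F.obj W) := by
  have h1 : F.map z ≫ cokernel.π (sg s (F.obj X) j) = 0 :=
    map_comp_q_eq_zero adj X (Qf s (F.obj X)) (qf s (F.obj X)) z j hz
  refine ⟨j, inferInstance, fun h => h.1.1, Abelian.image (sg s (F.obj X) j),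
    Abelian.factorThruImage (sg s (F.obj X) j), kernel.lift _ (F.map z) h1, inferInstance, ?_⟩
  have h2 : kernel.lift _ (F.map z) h1 ≫ kernel.ι (cokernel.π (sg s (F.obj X) j)) = F.map z :=
    kernel.lift_ι _ _ _
  haveI : Mono (kernel.lift _ (F.map z) h1 ≫ kernel.ι (cokernel.π (sg s (F.obj X) j))) := by
    rw [h2]; infer_instance
  exact mono_of_mono _ (kernel.ι (cokernel.π (sg s (F.obj X) j)))

end SubQuot


section Small

omit [HasColimitsOfSize.{w, w} B] [AB5OfSize.{w, w} B] in
lemma exists_subobject_cokernel {Z b : B} (S : Subobject Z) (e : Z ⟶ b) [Epi e]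
    (hS : S = kernelSubobject e) {c : B} (m : c ⟶ b) [Mono m] :
    ∃ S₂ : Subobject (cokernel S.arrow), Nonempty (c ≅ (S₂ : B)) := by
  subst hS
  have hk : IsLimit (KernelFork.ofι (kernelSubobject e).arrow (kernelSubobject_arrow_comp e)) :=
    IsLimit.ofIsoLimit (kernelIsKernel e) (Fork.ext (kernelSubobjectIso e).symm (by simp))
  have hc := Abelian.epiIsCokernelOfKernel _ hk
  let φ : b ≅ cokernel (kernelSubobject e).arrow :=
    hc.coconePointUniqueUpToIso (colimit.isColimit (parallelPair (kernelSubobject e).arrow 0))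
  exact ⟨Subobject.mk (m ≫ φ.hom), ⟨(Subobject.underlyingIso (m ≫ φ.hom)).symm⟩⟩

variable {ι : Type w} (s : ι → B) [WellPowered.{w} B]

/-- a small type parametrizing subquotients of finite coproducts -/
def Xi : Type w :=
  Σ (n : ℕ) (f : Fin n → ι), Σ (S : Shrink.{w} (Subobject (∐ fun k => s (f k)))),
    Shrink.{w} (Subobject (cokernel ((equivShrink.{w} _).symm S).arrow))

/-- the object attached to a parameter -/
noncomputable def cXi (x : Xi s) : B := (((equivShrink.{w} _).symm x.2.2.2 : Subobject _) : B)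

lemma exists_iso_cXi {c : B} (h : SubQuot s c) : ∃ x : Xi s, Nonempty (c ≅ cXi s x) := by
  obtain ⟨T, hT, f, b, e, m, he, hm⟩ := h
  let ε : Fin (Nat.card T) ≃ T := (Finite.equivFin T).symm
  let r : (∐ fun k => s ((f ∘ ε) k)) ≅ ∐ fun t => s (f t) := Sigma.reindex ε (fun t => s (f t))
  let e' := r.hom ≫ e
  obtain ⟨S', hS'⟩ : ∃ S', (equivShrink.{w} _).symm S' = kernelSubobject e' :=
    ⟨equivShrink.{w} _ (kernelSubobject e'), Equiv.symm_apply_apply _ _⟩
  obtain ⟨S₂, ⟨φ⟩⟩ := exists_subobject_cokernel _ e' hS' m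
  refine ⟨⟨Nat.card T, f ∘ ε, S', equivShrink.{w} _ S₂⟩, ⟨φ ≪≫ eqToIso ?_⟩⟩
  exact congrArg (fun S : Subobject _ => (S : B)) (Equiv.symm_apply_apply (equivShrink.{w} _) S₂).symm

end Small


section Classify

/-- the object of `A` attached to a map `b ⟶ F G b` -/
noncomputable def EE (b : B) (ρ : b ⟶ F.obj (G.obj b)) : A :=
  equalizer (G.map ρ) (adj.unit.app (G.obj b))

omit [HasColimitsOfSize.{w, w} A] [HasColimitsOfSize.{w, w} B] [AB5OfSize.{w, w} B]
  [PreservesFilteredColimitsOfSize.{w, w} G] in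
lemma exists_iso_EE (a : A) (b : B) (θ : F.obj a ≅ b) :
    ∃ ρ : b ⟶ F.obj (G.obj b), Nonempty (a ≅ EE adj b ρ) := by
  let ρ : b ⟶ F.obj (G.obj b) := θ.inv ≫ F.map (adj.unit.app a) ≫ F.map (G.map θ.hom)
  let i : a ⟶ G.obj b := adj.unit.app a ≫ G.map θ.hom
  have w : i ≫ G.map ρ = i ≫ adj.unit.app (G.obj b) := by
    have h1 : adj.unit.app a ≫ adj.unit.app (G.obj (F.obj a)) =
        adj.unit.app a ≫ G.map (F.map (adj.unit.app a)) := adj.unit.naturality (adj.unit.app a)
    have h2 : G.map θ.hom ≫ adj.unit.app (G.obj b) =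
        adj.unit.app (G.obj (F.obj a)) ≫ G.map (F.map (G.map θ.hom)) :=
      adj.unit.naturality (G.map θ.hom)
    have h3 : G.map θ.hom ≫ G.map ρ =
        G.map (F.map (adj.unit.app a)) ≫ G.map (F.map (G.map θ.hom)) := by
      rw [← G.map_comp, ← G.map_comp]
      congr 1
      simp [ρ]
    dsimp only [i]
    rw [Category.assoc, Category.assoc, h3, h2, reassoc_of% h1]
  have hsplit : IsSplitEqualizer (F.map (G.map ρ)) (F.map (adj.unit.app (G.obj b))) (F.map i) :=
    { leftRetraction := adj.counit.app b ≫ θ.inv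
      rightRetraction := adj.counit.app (F.obj (G.obj b))
      condition := by rw [← F.map_comp, ← F.map_comp, w]
      ι_leftRetraction := by
        simp [i]
      bottom_rightRetraction := by simp
      top_rightRetraction := by
        have := adj.counit.naturality ρ
        dsimp at this
        rw [this]
        simp [ρ, i] }
  haveI := reflectsFiniteLimits F
  have hlim : IsLimit (Fork.ofι i w) := isLimitOfIsLimitForkMap F w hsplit.isEqualizer
  exact ⟨ρ, ⟨IsLimit.conePointUniqueUpToIso hlim (limit.isLimit _)⟩⟩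

end Classify


section Sep

variable {ι : Type w} (s : ι → B) [WellPowered.{w} B]
  (hsep : ∀ ⦃X Y : B⦄ (f g : X ⟶ Y), (∀ (i : ι) (h : s i ⟶ X), h ≫ f = h ≫ g) → f = g)

open scoped Classical in
include adj hsep in
theorem exists_separating_family :
    ∃ (κ : Type w) (t : κ → A), (∀ k, SubQuot s (F.obj (t k))) ∧
      ∀ ⦃X Y : A⦄ (f g : X ⟶ Y), (∀ (k : κ) (h : t k ⟶ X), h ≫ f = h ≫ g) → f = g := by
  let κ : Type w := Σ x : Xi s, (cXi s x ⟶ F.obj (G.obj (cXi s x)))
  let E : κ → A := fun k => EE adj (cXi s k.1) k.2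
  let t : κ → A := fun k => if SubQuot s (F.obj (E k)) then E k else 0
  refine ⟨κ, t, ?_, ?_⟩
  · intro k
    dsimp only [t]
    split_ifs with h
    · exact h
    · exact SubQuot.of_isZero (F.map_isZero (isZero_zero A))
  · intro X Y f g hfg
    rw [← sub_eq_zero]
    apply eq_zero_of_union adj X (Qf s (F.obj X)) (qf s (F.obj X)) (isZero_colimit_Qf s _ hsep)
    intro j W z hz
    let p := pmap adj X (Qf s (F.obj X)) (qf s (F.obj X)) j
    have hK : SubQuot s (F.obj (kernel p)) :=
      subQuot_of_comp_pmap_eq_zero adj X j (kernel.ι p) (kernel.condition p)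
    obtain ⟨x, ⟨θ⟩⟩ := exists_iso_cXi s hK
    obtain ⟨ρ, ⟨φ⟩⟩ := exists_iso_EE adj (kernel p) (cXi s x) θ
    have hE : SubQuot s (F.obj (E ⟨x, ρ⟩)) := hK.of_iso (F.mapIso φ.symm)
    have ht : t ⟨x, ρ⟩ = E ⟨x, ρ⟩ := if_pos hE
    have h1 := hfg ⟨x, ρ⟩ (eqToHom ht ≫ φ.inv ≫ kernel.ι p)
    have h2 : kernel.ι p ≫ (f - g) = 0 := by
      rw [Preadditive.comp_sub, sub_eq_zero]
      have h3 : (eqToHom ht ≫ φ.inv) ≫ kernel.ι p ≫ f = (eqToHom ht ≫ φ.inv) ≫ kernel.ι p ≫ g := by
        simpa only [Category.assoc] using h1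
      exact (cancel_epi _).1 h3
    rw [← kernel.lift_ι p z hz, Category.assoc, h2, comp_zero]

end Sep


section Noeth

omit [HasColimitsOfSize.{w, w} B] [AB5OfSize.{w, w} B] in
lemma noeth_of_jointly_epi (T : Type w) [Finite T] : ∀ (b : B) (c : T → B) (g : ∀ t, c t ⟶ b),
    (∀ t, IsNoetherianObject (c t)) →
    (∀ (W : B) (v : b ⟶ W), (∀ t, g t ≫ v = 0) → v = 0) → IsNoetherianObject b := by
  induction T using Finite.induction_empty_option with
  | of_equiv e ih =>
    intro b c g hc hg
    exact ih b (c ∘ e) (fun t => g (e t)) (fun t => hc _)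
      (fun W v hv => hg W v (fun t => by
        obtain ⟨t', rfl⟩ := e.surjective t
        exact hv t'))
  | h_empty =>
    intro b c g hc hg
    exact isNoetherianObject_of_isZero ((IsZero.iff_id_eq_zero b).2 (hg b (𝟙 b) (fun t => t.elim)))
  | h_option ih =>
    intro b c g hc hg
    have h' : IsNoetherianObject (cokernel (g none)) :=
      ih _ (fun t => c (some t)) (fun t => g (some t) ≫ cokernel.π (g none)) (fun t => hc _) (by
        intro W v hv
        have : cokernel.π (g none) ≫ v = 0 := hg W _ (fun t => by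
          cases t with
          | none => rw [cokernel.condition_assoc, zero_comp]
          | some t => simpa using hv t)
        rwa [← cancel_epi (cokernel.π (g none)), comp_zero])
    have h'' : IsNoetherianObject (Abelian.image (g none)) :=
      isNoetherianObject.is_of_prop (isNoetherianObject.prop_of_epi
        (Abelian.factorThruImage (g none)) (isNoetherianObject.prop_of_is _))
    let S : ShortComplex B := ShortComplex.mk (Abelian.image.ι (g none)) (cokernel.π (g none))
      (kernel.condition _)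
    have hS : S.ShortExact :=
      { exact := S.exact_of_f_is_kernel (kernelIsKernel _)
        mono_f := by dsimp [S]; infer_instance
        epi_g := by dsimp [S]; exact coequalizer.π_epi }
    exact isNoetherianObject.is_of_prop (isNoetherianObject.prop_X₂_of_shortExact hS
      (isNoetherianObject.prop_of_is _) (isNoetherianObject.prop_of_is _))

variable {ι : Type w} {s : ι → B}

omit [AB5OfSize.{w, w} B] in
lemma noeth_of_subQuot (hsN : ∀ i, IsNoetherianObject (s i)) {c : B} (h : SubQuot s c) :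
    IsNoetherianObject c := by
  obtain ⟨T, hT, f, b, e, m, he, hm⟩ := h
  haveI : IsNoetherianObject b :=
    noeth_of_jointly_epi T b (fun t => s (f t)) (fun t => Sigma.ι (fun t => s (f t)) t ≫ e)
      (fun t => hsN _) (by
        intro W v hv
        rw [← cancel_epi e, comp_zero]
        apply Sigma.hom_ext
        intro t
        rw [comp_zero, ← Category.assoc]
        exact hv t)
  exact isNoetherianObject_of_mono m

end Noeth


section NoethIff

omit [HasColimitsOfSize.{w, w} A] [HasColimitsOfSize.{w, w} B] [AB5OfSize.{w, w} B] in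
/-- the easy direction -/
lemma noeth_of_noeth_map (F : A ⥤ B) [F.Additive] [F.Faithful] [PreservesFiniteLimits F]
    [PreservesFiniteColimits F] (a : A) [IsNoetherianObject (F.obj a)] :
    IsNoetherianObject a := by
  let φ : Subobject a → Subobject (F.obj a) := fun S => Subobject.mk (F.map S.arrow)
  have hmono : ∀ S S' : Subobject a, S ≤ S' → φ S ≤ φ S' := by
    intro S S' h
    refine Subobject.mk_le_mk_of_comm (F.map (Subobject.ofLE S S' h)) ?_
    rw [← F.map_comp, Subobject.ofLE_arrow]
  have hrefl : ∀ S S' : Subobject a, φ S ≤ φ S' → S ≤ S' := by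
    intro S S' h
    have h1 : F.map S.arrow ≫ F.map (cokernel.π S'.arrow) = 0 := by
      rw [← Subobject.ofMkLEMk_comp h, Category.assoc, ← F.map_comp, cokernel.condition,
        F.map_zero, comp_zero]
    have h2 : S.arrow ≫ cokernel.π S'.arrow = 0 := by
      apply F.map_injective
      rw [F.map_comp, h1, F.map_zero]
    exact Subobject.le_of_comm (Abelian.monoLift S'.arrow S.arrow h2)
      (Abelian.monoLift_comp _ _ _)
  have hstrict : StrictMono φ := by
    intro S S' h
    exact lt_of_le_not_ge (hmono _ _ h.le) (fun h' => h.not_ge (hrefl _ _ h'))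
  exact isNoetherianObject.is_of_prop (hstrict.wellFoundedGT)

variable {ι : Type w} {s : ι → B}

open scoped Classical in
include adj in
/-- the hard direction -/
lemma noeth_map_of_noeth (hsN : ∀ i, IsNoetherianObject (s i))
    (hsep : ∀ ⦃X Y : B⦄ (f g : X ⟶ Y), (∀ (i : ι) (h : s i ⟶ X), h ≫ f = h ≫ g) → f = g)
    (a : A) [IsNoetherianObject a] : IsNoetherianObject (F.obj a) := by
  let Q := Qf s (F.obj a)
  let q := qf s (F.obj a)
  let p := fun j : JJ s (F.obj a) => pmap adj a Q q j
  let K : JJ s (F.obj a) → Subobject a := fun j => kernelSubobject (p j)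
  have hKmono : ∀ j j' : JJ s (F.obj a), j ≤ j' → K j ≤ K j' := by
    intro j j' h
    have h1 : p j' = p j ≫ G.map (Q.map (homOfLE h)) := by
      have := (pNat adj a Q q).naturality (homOfLE h)
      dsimp at this
      rw [Category.id_comp] at this
      exact this
    dsimp only [K]
    rw [h1]
    exact kernelSubobject_comp_le _ _
  obtain ⟨_, ⟨j₀, rfl⟩, hmax⟩ := (wellFounded_gt (α := Subobject a)).has_min (Set.range K)
    ⟨K ∅, ⟨∅, rfl⟩⟩
  have hle : ∀ j, K j ≤ K j₀ := by
    intro j
    have h1 : K j₀ ≤ K (j ∪ j₀) := hKmono _ _ Finset.subset_union_right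
    have h2 : K j ≤ K (j ∪ j₀) := hKmono _ _ Finset.subset_union_left
    have h3 : ¬ K j₀ < K (j ∪ j₀) := hmax _ ⟨_, rfl⟩
    rw [eq_of_le_of_not_lt h1 h3]
    exact h2
  have hu : cokernel.π (kernel.ι (p j₀)) = 0 := by
    apply eq_zero_of_union adj a Q q (isZero_colimit_Qf s _ hsep)
    intro j W z hz
    have h1 : (K j₀).Factors z :=
      Subobject.factors_of_le z (hle j) (kernelSubobject_factors (p j) z hz)
    rw [← Subobject.factorThru_arrow _ _ h1]
    dsimp only [K]
    rw [← kernelSubobject_arrow, Category.assoc, Category.assoc, cokernel.condition, comp_zero,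
      comp_zero]
  haveI : Epi (kernel.ι (p j₀)) := Abelian.epi_of_cokernel_π_eq_zero _ hu
  have hp : p j₀ = 0 := by
    rw [← cancel_epi (kernel.ι (p j₀)), kernel.condition, comp_zero]
  have hq : cokernel.π (sg s (F.obj a) j₀) = 0 := by
    have := map_comp_q_eq_zero adj a Q q (𝟙 a) j₀ (by rw [Category.id_comp]; exact hp)
    rw [F.map_id, Category.id_comp] at this
    exact this
  refine noeth_of_jointly_epi j₀ (F.obj a) (fun h => s h.1.1) (fun h => h.1.2) (fun _ => hsN _) ?_
  intro W v hv
  have h1 : sg s (F.obj a) j₀ ≫ v = 0 := by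
    apply Sigma.hom_ext
    intro h
    simp only [sg, colimit.ι_desc_assoc, Cofan.mk_pt, Cofan.mk_ι_app, comp_zero]
    exact hv h
  rw [← cokernel.π_desc _ v h1, hq, zero_comp]

end NoethIff


section Final

variable {ι : Type w} {s : ι → B}

omit [HasColimitsOfSize.{w, w} B] [AB5OfSize.{w, w} B] in
lemma wellPowered_of_sep
    (hsep : ∀ ⦃X Y : B⦄ (f g : X ⟶ Y), (∀ (i : ι) (h : s i ⟶ X), h ≫ f = h ≫ g) → f = g) :
    WellPowered.{w} B := by
  have h1 : (ObjectProperty.ofObj s).IsSeparating := by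
    intro X Y f g h
    exact hsep f g (fun i h' => h (s i) ⟨i⟩ h')
  exact wellPowered_of_isDetecting h1.isDetecting

include adj in
theorem main_noeth (hsN : ∀ i, IsNoetherianObject (s i))
    (hsep : ∀ ⦃X Y : B⦄ (f g : X ⟶ Y), (∀ (i : ι) (h : s i ⟶ X), h ≫ f = h ≫ g) → f = g) :
    AB5OfSize.{w, w} A ∧
      ∃ (κ : Type w) (t : κ → A), (∀ k, IsNoetherianObject (t k)) ∧
        ∀ ⦃X Y : A⦄ (f g : X ⟶ Y), (∀ (k : κ) (h : t k ⟶ X), h ≫ f = h ≫ g) → f = g := by
  haveI := wellPowered_of_sep hsep
  refine ⟨ab5 adj, ?_⟩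
  obtain ⟨κ, t, ht, hsep'⟩ := exists_separating_family adj s hsep
  refine ⟨κ, t, fun k => ?_, hsep'⟩
  haveI := noeth_of_subQuot hsN (ht k)
  exact noeth_of_noeth_map F (t k)

include adj in
theorem main_iff (hsN : ∀ i, IsNoetherianObject (s i))
    (hsep : ∀ ⦃X Y : B⦄ (f g : X ⟶ Y), (∀ (i : ι) (h : s i ⟶ X), h ≫ f = h ≫ g) → f = g)
    (a : A) : IsNoetherianObject a ↔ IsNoetherianObject (F.obj a) :=
  ⟨fun _ => noeth_map_of_noeth adj hsN hsep a, fun _ => noeth_of_noeth_map F a⟩

end Final

end Main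

section Groth

variable {A : Type u₁} [Category.{w} A] [Abelian A] [HasColimitsOfSize.{w, w} A]
  {B : Type u₂} [Category.{w} B] [Abelian B] [IsGrothendieckAbelian.{w} B]
  {F : A ⥤ B} {G : B ⥤ A} (adj : F ⊣ G) [F.Additive] [F.Faithful]
  [PreservesFiniteLimits F] [PreservesFiniteColimits F] [PreservesFilteredColimitsOfSize.{w, w} G]

include adj in
theorem main_groth : IsGrothendieckAbelian.{w} A := by
  haveI : HasSeparator B := IsGrothendieckAbelian.hasSeparator.{w}
  haveI : WellPowered.{w} B := IsGrothendieckAbelian.wellPowered B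
  have hsep : ∀ ⦃X Y : B⦄ (f g : X ⟶ Y),
      (∀ (i : PUnit.{w + 1}) (h : (fun _ : PUnit.{w + 1} => separator B) i ⟶ X),
        h ≫ f = h ≫ g) → f = g :=
    fun X Y f g h => (isSeparator_separator B).def f g (fun h' => h PUnit.unit h')
  obtain ⟨κ, t, -, hsep'⟩ := exists_separating_family adj (fun _ : PUnit.{w + 1} => separator B) hsep
  have h1 : (ObjectProperty.ofObj t).IsSeparating := by
    rintro X Y f g h
    exact hsep' f g (fun k h' => h (t k) ⟨k⟩ h')
  exact
    { ab5OfSize := ab5 adj
      hasSeparator := ⟨⟨_, (isSeparator_sigma t).2 h1⟩⟩ }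

end Groth

end Groth.Agent.Lib.Helper17.FaithAdj
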