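import Mathlib
import Groth.Agent.Lib.Helper17.KInjRes
import Groth.Agent.Lib.Helper5.KInjAdj

/-!
# Functors from a preorder to a Grothendieck abelian category:
evaluation of K-injective complexes, split epimorphisms for injective functors.
-/

set_option autoImplicit false
set_option linter.unusedSectionVars false
set_option linter.style.haveILetI false

open CategoryTheory CategoryTheory.Limits

universe v u

namespace Groth.Agent.Lib.Helper17.FilKInjA

variable {A : Type u} [Category.{v} A] [Abelian A] [IsGrothendieckAbelian.{v} A]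

noncomputable instance isGrothendieckAbelianFun (D : Type) [SmallCategory D] :
    IsGrothendieckAbelian.{v} (D ⥤ A) where
  locallySmall := inferInstance
  hasFilteredColimitsOfSize := inferInstance
  ab5OfSize := ⟨fun _ _ _ => inferInstance⟩
  hasSeparator := HasSeparator.of_equivalence ((opOpEquivalence D).congrLeft (E := A))

section Zero

variable {B : Type*} [Category B] [HasZeroMorphisms B]

lemma preservesFiniteLimits_of_isZero {A' : Type*} [Category A'] (F : A' ⥤ B)
    (h : ∀ X, IsZero (F.obj X)) : PreservesFiniteLimits F :=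
  ⟨fun _ _ _ => ⟨fun {_} => ⟨fun {_} _ => ⟨{
    lift := fun _ => 0
    fac := fun _ _ => (h _).eq_of_tgt _ _
    uniq := fun _ _ _ => (h _).eq_of_tgt _ _ }⟩⟩⟩⟩

end Zero

variable {D : Type} [Preorder D]

/-- evaluation at `x` -/
abbrev ev (x : D) : (D ⥤ A) ⥤ A := (evaluation D A).obj x

/-- left adjoint of evaluation -/
noncomputable abbrev L (x : D) : A ⥤ (D ⥤ A) := evaluationLeftAdjoint A x

/-- the adjunction -/
noncomputable abbrev adjL (x : D) : L (A := A) x ⊣ ev x := evaluationAdjunctionRight A x

lemma isZero_L_obj_obj (x t : D) (h : ¬ x ≤ t) (N : A) : IsZero (((L x).obj N).obj t) := by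
  haveI : IsEmpty (x ⟶ t) := ⟨fun f => h (leOfHom f)⟩
  exact (isColimitEquivIsInitialOfIsEmpty _ _ (colimit.isColimit _)).isZero

lemma preservesFiniteLimits_L_comp_ev (x t : D) :
    PreservesFiniteLimits (L (A := A) x ⋙ (evaluation D A).obj t) := by
  by_cases h : x ≤ t
  · haveI : Unique (x ⟶ t) := uniqueOfSubsingleton (homOfLE h)
    let e : 𝟭 A ≅ L (A := A) x ⋙ (evaluation D A).obj t :=
      NatIso.ofComponents (fun N => (coproductUniqueIso (fun _ : x ⟶ t => N)).symm)
        (fun {N N'} f => by
          dsimp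
          exact (Sigma.ι_desc (f := fun _ : x ⟶ t => N)
            (fun h => f ≫ Sigma.ι (fun _ : x ⟶ t => N') h) default).symm)
    exact preservesFiniteLimits_of_natIso e
  · exact preservesFiniteLimits_of_isZero _ (fun N => isZero_L_obj_obj x t h N)

instance preservesFiniteLimits_L (x : D) : PreservesFiniteLimits (L (A := A) x) :=
  preservesFiniteLimits_of_evaluation _ (fun t => preservesFiniteLimits_L_comp_ev x t)

instance additive_L (x : D) : (L (A := A) x).Additive := (adjL (A := A) x).left_adjoint_additive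

instance preservesFiniteColimits_L (x : D) : PreservesFiniteColimits (L (A := A) x) :=
  haveI := (adjL (A := A) x).leftAdjoint_preservesColimits
  inferInstance

instance preservesHomology_L (x : D) : (L (A := A) x).PreservesHomology := inferInstance

/-- evaluation of a complex of functors -/
abbrev evCx (x : D) : CochainComplex (D ⥤ A) ℤ ⥤ CochainComplex A ℤ :=
  (ev (A := A) x).mapHomologicalComplex (ComplexShape.up ℤ)

lemma isKInjective_evCx (x : D) (I : CochainComplex (D ⥤ A) ℤ) [I.IsKInjective] :
    ((evCx x).obj I).IsKInjective :=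
  Groth.Agent.Lib.Helper5.KInjAdj.isKInjective_map (adjL (A := A) x) I

lemma injective_ev (x : D) (E : D ⥤ A) [Injective E] : Injective (E.obj x) :=
  Injective.injective_of_adjoint (adjL (A := A) x) E

lemma quasiIso_evCx (x : D) {X Y : CochainComplex (D ⥤ A) ℤ} (φ : X ⟶ Y) [QuasiIso φ] :
    QuasiIso ((evCx x).map φ) := inferInstance

set_option backward.isDefEq.respectTransparency false in
/-- the comparison `L y N ⟶ L x N` for `x ≤ y` -/
noncomputable def σ {x y : D} (h : x ≤ y) (N : A) :
    (evaluationLeftAdjoint A y).obj N ⟶ (evaluationLeftAdjoint A x).obj N where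
  app t := Sigma.desc (fun g : y ⟶ t => Sigma.ι (fun _ : x ⟶ t => N) (homOfLE h ≫ g))
  naturality := by
    intro t t' f
    refine Sigma.hom_ext (f := fun _ : y ⟶ t => N) _ _ (fun g => ?_)
    simp

set_option backward.isDefEq.respectTransparency false in
instance mono_σ {x y : D} (h : x ≤ y) (N : A) : Mono (σ h N) := by
  haveI : ∀ t, Mono ((σ h N).app t) := by
    intro t
    by_cases hy : y ≤ t
    · let ρ : (∐ fun _ : x ⟶ t => N) ⟶ (∐ fun _ : y ⟶ t => N) :=
        Sigma.desc (fun _ => Sigma.ι (fun _ : y ⟶ t => N) (homOfLE hy))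
      have hρ : (σ h N).app t ≫ ρ = 𝟙 _ := by
        refine Sigma.hom_ext (f := fun _ : y ⟶ t => N) _ _ (fun g => ?_)
        dsimp [σ, ρ]
        simp only [Sigma.ι_desc_assoc, Sigma.ι_desc]
        rw [Subsingleton.elim g (homOfLE hy)]
        exact (Category.comp_id _).symm
      exact mono_of_mono_fac hρ
    · exact ⟨fun a b _ => (isZero_L_obj_obj y t hy N).eq_of_tgt a b⟩
  exact NatTrans.mono_of_mono_app _

set_option backward.isDefEq.respectTransparency false in
/-- the transition maps of an injective functor on a preorder are split epimorphisms -/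
lemma exists_section {x y : D} (h : x ≤ y) (E : D ⥤ A) [Injective E] :
    ∃ s : E.obj y ⟶ E.obj x, s ≫ E.map (homOfLE h) = 𝟙 _ := by
  let N := E.obj y
  let ε : (evaluationLeftAdjoint A y).obj N ⟶ E := (evaluationAdjunctionRight A y).counit.app E
  let g : (evaluationLeftAdjoint A x).obj N ⟶ E := Injective.factorThru ε (σ h N)
  have hg : σ h N ≫ g = ε := Injective.comp_factorThru _ _
  refine ⟨Sigma.ι (fun _ : x ⟶ x => N) (𝟙 x) ≫ g.app x, ?_⟩
  have nat := g.naturality (homOfLE h)
  have h1 : Sigma.ι (fun _ : x ⟶ x => N) (𝟙 x) ≫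
      ((evaluationLeftAdjoint A x).obj N).map (homOfLE h) =
      Sigma.ι (fun _ : y ⟶ y => N) (𝟙 y) ≫ (σ h N).app y := by
    simp [σ]
  have h2 : Sigma.ι (fun _ : y ⟶ y => N) (𝟙 y) ≫ ε.app y = 𝟙 _ := by
    simp [ε, N]
  calc (Sigma.ι (fun _ : x ⟶ x => N) (𝟙 x) ≫ g.app x) ≫ E.map (homOfLE h)
      = Sigma.ι (fun _ : x ⟶ x => N) (𝟙 x) ≫
        ((evaluationLeftAdjoint A x).obj N).map (homOfLE h) ≫ g.app y := by
          rw [Category.assoc, nat]
    _ = Sigma.ι (fun _ : y ⟶ y => N) (𝟙 y) ≫ (σ h N ≫ g).app y := by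
          rw [reassoc_of% h1, NatTrans.comp_app]
    _ = 𝟙 _ := by rw [hg, h2]

end Groth.Agent.Lib.Helper17.FilKInjA
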