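import Mathlib

/-!
# Degreewise split short exact sequences of complexes and K-injectivity; retracts of injectives
-/

set_option autoImplicit false
set_option linter.unusedSectionVars false
set_option linter.style.haveILetI false

open CategoryTheory CategoryTheory.Limits

universe v u

namespace Groth.Agent.Lib.Helper17.FilKInjB

section Retract

variable {B : Type u} [Category.{v} B]

lemma injective_of_retract {X Y : B} (i : X ⟶ Y) (r : Y ⟶ X) (h : i ≫ r = 𝟙 X)
    [Injective Y] : Injective X where
  factors {M N} f m _ := by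
    refine ⟨Injective.factorThru (f ≫ i) m ≫ r, ?_⟩
    rw [← Category.assoc, Injective.comp_factorThru, Category.assoc, h, Category.comp_id]

variable [Abelian B]

lemma injective_kernel_of_section {Y Z : B} (g : Y ⟶ Z) (s : Z ⟶ Y) (hs : s ≫ g = 𝟙 Z)
    [Injective Y] : Injective (kernel g) := by
  refine injective_of_retract (kernel.ι g)
    (kernel.lift g (𝟙 Y - g ≫ s) (by simp [hs])) ?_
  rw [← cancel_mono (kernel.ι g)]
  simp

lemma injective_cokernel_of_mono {X Y : B} (m : X ⟶ Y) [Mono m] [Injective X] [Injective Y] :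
    Injective (cokernel m) := by
  let r : Y ⟶ X := Injective.factorThru (𝟙 X) m
  have hr : m ≫ r = 𝟙 X := Injective.comp_factorThru _ _
  refine injective_of_retract (cokernel.desc m (𝟙 Y - r ≫ m) (by simp [reassoc_of% hr]))
    (cokernel.π m) ?_
  rw [← cancel_epi (cokernel.π m)]
  simp

end Retract

section KInj

variable {A : Type u} [Category.{v} A] [Abelian A]

open HomotopyCategory in
lemma isKInjective_X₁ (S : ShortComplex (CochainComplex A ℤ))
    (σ : ∀ n, (S.map (HomologicalComplex.eval A (ComplexShape.up ℤ) n)).Splitting)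
    [S.X₂.IsKInjective] [S.X₃.IsKInjective] : S.X₁.IsKInjective := by
  rw [CochainComplex.isKInjective_iff_rightOrthogonal]
  have hT : CochainComplex.trianglehOfDegreewiseSplit S σ ∈ distTriang _ :=
    (distinguished_iff_iso_trianglehOfDegreewiseSplit _).2 ⟨S, σ, ⟨Iso.refl _⟩⟩
  exact ObjectProperty.ext_of_isTriangulatedClosed₁ _ _ hT
    (CochainComplex.IsKInjective.rightOrthogonal S.X₂)
    (CochainComplex.IsKInjective.rightOrthogonal S.X₃)

open HomotopyCategory in
lemma isKInjective_X₃ (S : ShortComplex (CochainComplex A ℤ))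
    (σ : ∀ n, (S.map (HomologicalComplex.eval A (ComplexShape.up ℤ) n)).Splitting)
    [S.X₁.IsKInjective] [S.X₂.IsKInjective] : S.X₃.IsKInjective := by
  rw [CochainComplex.isKInjective_iff_rightOrthogonal]
  have hT : CochainComplex.trianglehOfDegreewiseSplit S σ ∈ distTriang _ :=
    (distinguished_iff_iso_trianglehOfDegreewiseSplit _).2 ⟨S, σ, ⟨Iso.refl _⟩⟩
  exact ObjectProperty.ext_of_isTriangulatedClosed₃ _ _ hT
    (CochainComplex.IsKInjective.rightOrthogonal S.X₁)
    (CochainComplex.IsKInjective.rightOrthogonal S.X₂)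

/-- degreewise splittings from degreewise sections -/
noncomputable def splittingOfSection (S : ShortComplex (CochainComplex A ℤ)) (hS : S.ShortExact)
    (s : ∀ n, S.X₃.X n ⟶ S.X₂.X n) (hs : ∀ n, s n ≫ S.g.f n = 𝟙 _) (n : ℤ) :
    (S.map (HomologicalComplex.eval A (ComplexShape.up ℤ) n)).Splitting :=
  ShortComplex.Splitting.ofExactOfSection _
    (hS.map_of_exact (HomologicalComplex.eval A (ComplexShape.up ℤ) n)).exact (s n) (hs n)
    (hS.map_of_exact (HomologicalComplex.eval A (ComplexShape.up ℤ) n)).mono_f

/-- degreewise splittings when the terms of the subcomplex are injective -/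
noncomputable def splittingOfInjective (S : ShortComplex (CochainComplex A ℤ)) (hS : S.ShortExact)
    (hI : ∀ n, Injective (S.X₁.X n)) (n : ℤ) :
    (S.map (HomologicalComplex.eval A (ComplexShape.up ℤ) n)).Splitting :=
  haveI : Injective (S.map (HomologicalComplex.eval A (ComplexShape.up ℤ) n)).X₁ := hI n
  haveI : Mono (S.map (HomologicalComplex.eval A (ComplexShape.up ℤ) n)).f :=
    (hS.map_of_exact (HomologicalComplex.eval A (ComplexShape.up ℤ) n)).mono_f
  ShortComplex.Splitting.ofExactOfRetraction _
    (hS.map_of_exact (HomologicalComplex.eval A (ComplexShape.up ℤ) n)).exact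
    (Injective.factorThru (𝟙 _) (S.map (HomologicalComplex.eval A (ComplexShape.up ℤ) n)).f)
    (Injective.comp_factorThru _ _)
    (hS.map_of_exact (HomologicalComplex.eval A (ComplexShape.up ℤ) n)).epi_g

lemma isKInjective_X₁_of_section (S : ShortComplex (CochainComplex A ℤ)) (hS : S.ShortExact)
    (s : ∀ n, S.X₃.X n ⟶ S.X₂.X n) (hs : ∀ n, s n ≫ S.g.f n = 𝟙 _)
    [S.X₂.IsKInjective] [S.X₃.IsKInjective] : S.X₁.IsKInjective :=
  isKInjective_X₁ S (splittingOfSection S hS s hs)

lemma isKInjective_X₃_of_injective (S : ShortComplex (CochainComplex A ℤ)) (hS : S.ShortExact)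
    (hI : ∀ n, Injective (S.X₁.X n))
    [S.X₁.IsKInjective] [S.X₂.IsKInjective] : S.X₃.IsKInjective :=
  isKInjective_X₃ S (splittingOfInjective S hS hI)

end KInj

end Groth.Agent.Lib.Helper17.FilKInjB
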