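import Mathlib
import Groth.Prelude.Def_SpSeq
import Groth.Agent.Lib.Helper17.FilKInjA

/-!
# Filtered K-injective resolutions, step 1: resolving the system of quotients `K / F^p K`
-/

set_option autoImplicit false
set_option linter.unusedSectionVars false
set_option linter.style.haveILetI false

open CategoryTheory CategoryTheory.Limits

universe v u

namespace Groth.Agent.Lib.Helper17.FilKInjC

open Groth.Agent.Lib.Helper17.FilKInjA

/-- index preorder: `top` for the whole complex, `fin p` for the quotient by `F^p` -/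
inductive Idx : Type
  | top
  | fin (p : ℤ)

namespace Idx

/-- `a ≤ b` iff there is a canonical map from the `a`-th quotient to the `b`-th quotient -/
def le : Idx → Idx → Prop
  | top, _ => True
  | fin _, top => False
  | fin q, fin p => p ≤ q

instance : Preorder Idx where
  le := le
  le_refl a := by cases a <;> simp [le]
  le_trans a b c := by
    cases a <;> cases b <;> cases c <;> simp only [le, imp_self, implies_true, false_imp_iff]
    exact fun h1 h2 => h2.trans h1

lemma top_le (a : Idx) : top ≤ a := trivial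

lemma fin_le_fin {p q : ℤ} (h : p ≤ q) : fin q ≤ fin p := h

end Idx

variable {A : Type u} [Category.{v} A] [Abelian A]

section Q

variable (K : SpSeq.FilCx A)

lemma quotMap_refl (p : ℤ) : K.quotMap (le_refl p) = 𝟙 _ := by
  apply coequalizer.hom_ext
  simp [SpSeq.FilObj.quotMap]

@[reassoc (attr := simp)]
lemma π_quotMap {p q : ℤ} (h : p ≤ q) :
    cokernel.π (K.fil q).arrow ≫ K.quotMap h = cokernel.π (K.fil p).arrow := by
  simp [SpSeq.FilObj.quotMap]

lemma quotMap_comp {p q r : ℤ} (h₁ : p ≤ q) (h₂ : q ≤ r) :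
    K.quotMap h₂ ≫ K.quotMap h₁ = K.quotMap (h₁.trans h₂) := by
  apply coequalizer.hom_ext
  simp

/-- the system of quotients, on objects -/
noncomputable def Qobj : Idx → CochainComplex A ℤ
  | .top => K.obj
  | .fin p => K.quot p

/-- the system of quotients, on morphisms -/
noncomputable def Qmap : ∀ (a b : Idx), a ≤ b → (Qobj K a ⟶ Qobj K b)
  | .top, .top, _ => 𝟙 _
  | .top, .fin p, _ => cokernel.π (K.fil p).arrow
  | .fin _, .fin _, h => K.quotMap h
  | .fin _, .top, h => (show False from h).elim

/-- the system of quotients -/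
noncomputable def Qfun : Idx ⥤ CochainComplex A ℤ where
  obj := Qobj K
  map f := Qmap K _ _ (leOfHom f)
  map_id a := by
    cases a
    · rfl
    · exact quotMap_refl K _
  map_comp := by
    rintro (_ | q) (_ | p) (_ | r) f g
    · exact (Category.id_comp _).symm
    · exact (Category.id_comp _).symm
    · exact (leOfHom g).elim
    · exact (π_quotMap K (leOfHom g)).symm
    · exact (leOfHom f).elim
    · exact (leOfHom f).elim
    · exact (leOfHom g).elim
    · exact (quotMap_comp K (leOfHom g) (leOfHom f)).symm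

end Q

section toCx

variable {D : Type} [Category D]

/-- a functor to complexes as a complex of functors -/
@[simps]
def toCx (Q : D ⥤ CochainComplex A ℤ) : CochainComplex (D ⥤ A) ℤ where
  X n := Q ⋙ HomologicalComplex.eval A _ n
  d n m :=
    { app := fun a => (Q.obj a).d n m
      naturality := fun a b f => ((Q.map f).comm n m) }
  shape n m h := by
    ext a
    exact (Q.obj a).shape n m h
  d_comp_d' n m k _ _ := by
    ext a
    exact (Q.obj a).d_comp_d n m k

/-- evaluation of a morphism out of `toCx Q` -/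
@[simps]
def evHom {Q : D ⥤ CochainComplex A ℤ} {I : CochainComplex (D ⥤ A) ℤ} (φ : toCx Q ⟶ I) (a : D) :
    Q.obj a ⟶ I.asFunctor.obj a where
  f n := (φ.f n).app a
  comm' i j _ := NatTrans.congr_app (φ.comm i j) a

end toCx

section Data

variable [IsGrothendieckAbelian.{v} A]

lemma isKInjective_asFunctor_obj {D : Type} [Preorder D] (I : CochainComplex (D ⥤ A) ℤ)
    [I.IsKInjective] (a : D) : CochainComplex.IsKInjective (I.asFunctor.obj a) :=
  haveI := isKInjective_evCx a I
  CochainComplex.isKInjective_of_iso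
    (HomologicalComplex.Hom.isoOfComponents (fun _ => Iso.refl _)
      (fun _ _ _ => (Category.id_comp _).trans (Category.comp_id _).symm) :
      (evCx a).obj I ≅ I.asFunctor.obj a)

lemma quasiIso_evHom {D : Type} [Preorder D] {Q : D ⥤ CochainComplex A ℤ}
    {I : CochainComplex (D ⥤ A) ℤ} (φ : toCx Q ⟶ I) [QuasiIso φ] (a : D) :
    QuasiIso (evHom φ a) := by
  have h := quasiIso_evCx a φ
  let e₁ : (evCx a).obj (toCx Q) ≅ Q.obj a :=
    HomologicalComplex.Hom.isoOfComponents (fun _ => Iso.refl _)
      (fun _ _ _ => (Category.id_comp _).trans (Category.comp_id _).symm)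
  let e₂ : (evCx a).obj I ≅ I.asFunctor.obj a :=
    HomologicalComplex.Hom.isoOfComponents (fun _ => Iso.refl _)
      (fun _ _ _ => (Category.id_comp _).trans (Category.comp_id _).symm)
  have : evHom φ a = e₁.inv ≫ (evCx a).map φ ≫ e₂.hom := by
    ext n
    simp only [e₁, e₂, evHom_f, HomologicalComplex.comp_f,
      HomologicalComplex.Hom.isoOfComponents_inv_f, HomologicalComplex.Hom.isoOfComponents_hom_f,
      Iso.refl_inv, Iso.refl_hom, Functor.mapHomologicalComplex_map_f, evaluation_obj_map]
    exact ((Category.id_comp _).trans (Category.comp_id _)).symm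
  rw [this]
  infer_instance

/-- Step 1: K-injective resolutions of a filtered complex and all its quotients, compatibly. -/
theorem exists_data (K : SpSeq.FilCx A) :
    ∃ (J₀ : CochainComplex A ℤ) (j₀ : K.obj ⟶ J₀) (Ip : ℤ → CochainComplex A ℤ)
      (π : ∀ p, J₀ ⟶ Ip p) (q : ∀ p, K.quot p ⟶ Ip p),
      J₀.IsKInjective ∧ (∀ n, Injective (J₀.X n)) ∧ QuasiIso j₀ ∧
      (∀ p, (Ip p).IsKInjective) ∧ (∀ p n, Injective ((Ip p).X n)) ∧
      (∀ p, QuasiIso (q p)) ∧
      (∀ p, cokernel.π (K.fil p).arrow ≫ q p = j₀ ≫ π p) ∧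
      (∀ p n, ∃ s : (Ip p).X n ⟶ J₀.X n, s ≫ (π p).f n = 𝟙 _) ∧
      (∀ (p p' : ℤ) (_ : p ≤ p'), ∃ t : Ip p' ⟶ Ip p, π p' ≫ t = π p) := by
  obtain ⟨I, φ, hI, hφ, -, hinj⟩ := KInjRes.exists_kInjective_resolution (toCx (Qfun K))
  refine ⟨I.asFunctor.obj Idx.top, evHom φ Idx.top, fun p => I.asFunctor.obj (Idx.fin p),
    fun p => I.asFunctor.map (homOfLE (Idx.top_le _)), fun p => evHom φ (Idx.fin p),
    isKInjective_asFunctor_obj I _, fun n => ?_, quasiIso_evHom φ _,
    fun p => isKInjective_asFunctor_obj I _, fun p n => ?_, fun p => quasiIso_evHom φ _,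
    fun p => ?_, fun p n => ?_, fun p p' h => ?_⟩
  · haveI := hinj n
    exact injective_ev Idx.top (I.X n)
  · haveI := hinj n
    exact injective_ev (Idx.fin p) (I.X n)
  · ext n
    exact (φ.f n).naturality (homOfLE (Idx.top_le (Idx.fin p)))
  · haveI := hinj n
    exact exists_section (Idx.top_le (Idx.fin p)) (I.X n)
  · refine ⟨I.asFunctor.map (homOfLE (Idx.fin_le_fin h)), ?_⟩
    rw [← Functor.map_comp]
    rfl

end Data

end Groth.Agent.Lib.Helper17.FilKInjC
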