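import Mathlib
import Groth.Prelude.Def_SpSeq
import Groth.Agent.Lib.Helper17.FilKInjB
import Groth.Agent.Lib.Helper17.FilKInjC

/-!
# Filtered K-injective resolutions, step 2: assembling the filtered complex
-/

set_option autoImplicit false
set_option linter.unusedSectionVars false
set_option linter.style.haveILetI false

open CategoryTheory CategoryTheory.Limits

universe v u

namespace Groth.Agent.Lib.Helper17.FilKInjD

open Groth.Agent.Lib.Helper17.FilKInjB

section General

variable {B : Type u} [Category.{v} B] [Abelian B]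

/-- replacing the first map of a short exact sequence by the arrow of the subobject it defines -/
lemma shortExact_mk_arrow {X Y Z : B} (m : X ⟶ Y) [Mono m] (g : Y ⟶ Z) (w : m ≫ g = 0)
    (h : (ShortComplex.mk m g w).ShortExact) :
    (ShortComplex.mk (Subobject.mk m).arrow g
      (by rw [← Subobject.underlyingIso_hom_comp_eq_mk, Category.assoc, w, comp_zero])).ShortExact := by
  have w' : (Subobject.mk m).arrow ≫ g = 0 := by
    rw [← Subobject.underlyingIso_hom_comp_eq_mk, Category.assoc, w, comp_zero]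
  let e : ShortComplex.mk m g w ≅ ShortComplex.mk (Subobject.mk m).arrow g w' :=
    ShortComplex.isoMk (Subobject.underlyingIso m).symm (Iso.refl _) (Iso.refl _)
      (by simp) (by simp)
  exact ShortComplex.shortExact_of_iso e h

lemma shortExact_kernelSubobject {Y Z : B} (g : Y ⟶ Z) [Epi g] :
    (ShortComplex.mk (kernelSubobject g).arrow g (kernelSubobject_arrow_comp g)).ShortExact :=
  shortExact_mk_arrow (kernel.ι g) g (kernel.condition g)
    { exact := ShortComplex.exact_kernel g }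

lemma shortExact_cokernel {X Y : B} (m : X ⟶ Y) [Mono m] :
    (ShortComplex.mk m (cokernel.π m) (cokernel.condition m)).ShortExact :=
  { exact := ShortComplex.exact_cokernel m }

/-- the cokernel of the first map of a short exact sequence is the third term -/
noncomputable def cokerIso (S : ShortComplex B) (hS : S.ShortExact) : cokernel S.f ≅ S.X₃ :=
  haveI := hS.epi_g
  IsColimit.coconePointUniqueUpToIso (colimit.isColimit _) hS.exact.gIsCokernel

lemma le_pullback_of_factors {X Y : B} (f : X ⟶ Y) (S : Subobject X) (T : Subobject Y)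
    (h : T.Factors (S.arrow ≫ f)) : S ≤ (Subobject.pullback f).obj T := by
  have h' : ((Subobject.pullback f).obj T).Factors S.arrow :=
    (pullback_factors_iff f T S.arrow).2 h
  exact Subobject.le_of_comm (Subobject.factorThru _ _ h') (Subobject.factorThru_arrow _ _ h')

end General

variable {A : Type u} [Category.{v} A] [Abelian A]

/-- two-out-of-three for quasi-isomorphisms between short exact sequences: the first map -/
lemma quasiIso_τ₁ {S₁ S₂ : ShortComplex (CochainComplex A ℤ)} (φ : S₁ ⟶ S₂)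
    (hS₁ : S₁.ShortExact) (hS₂ : S₂.ShortExact) (h₂ : QuasiIso φ.τ₂) (h₃ : QuasiIso φ.τ₃) :
    QuasiIso φ.τ₁ := by
  open HomologicalComplex.HomologySequence ComposableArrows in
  rw [quasiIso_iff]
  intro j
  rw [quasiIsoAt_iff_isIso_homologyMap]
  have hij : (ComplexShape.up ℤ).Rel (j - 1) j := by simp
  refine Abelian.isIso_of_epi_of_isIso_of_isIso_of_mono
    (composableArrows₅_exact hS₁ _ _ hij).δ₀ (composableArrows₅_exact hS₂ _ _ hij).δ₀
    (δ₀Functor.map (mapComposableArrows₅ φ hS₁ hS₂ _ _ hij)) ?_ ?_ ?_ ?_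
  · change Epi (HomologicalComplex.homologyMap φ.τ₂ (j - 1))
    infer_instance
  · change IsIso (HomologicalComplex.homologyMap φ.τ₃ (j - 1))
    infer_instance
  · change IsIso (HomologicalComplex.homologyMap φ.τ₂ j)
    infer_instance
  · change Mono (HomologicalComplex.homologyMap φ.τ₃ j)
    infer_instance

/-- the data produced by step 1 -/
structure Data (K : SpSeq.FilCx A) where
  J₀ : CochainComplex A ℤ
  j₀ : K.obj ⟶ J₀
  Ip : ℤ → CochainComplex A ℤ
  π : ∀ p, J₀ ⟶ Ip p
  q : ∀ p, K.quot p ⟶ Ip p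
  kinj : J₀.IsKInjective
  inj : ∀ n, Injective (J₀.X n)
  qi : QuasiIso j₀
  kinjp : ∀ p, (Ip p).IsKInjective
  injp : ∀ p n, Injective ((Ip p).X n)
  qip : ∀ p, QuasiIso (q p)
  comm : ∀ p, cokernel.π (K.fil p).arrow ≫ q p = j₀ ≫ π p
  s : ∀ p n, (Ip p).X n ⟶ J₀.X n
  hs : ∀ p n, s p n ≫ (π p).f n = 𝟙 _
  anti : ∀ (p p' : ℤ), p ≤ p' → ∃ t : Ip p' ⟶ Ip p, π p' ≫ t = π p

lemma nonempty_data [IsGrothendieckAbelian.{v} A] (K : SpSeq.FilCx A) : Nonempty (Data K) := by
  obtain ⟨J₀, j₀, Ip, π, q, h1, h2, h3, h4, h5, h6, h7, h8, h9⟩ := FilKInjC.exists_data K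
  choose s hs using h8
  exact ⟨⟨J₀, j₀, Ip, π, q, h1, h2, h3, h4, h5, h6, h7, s, hs, h9⟩⟩

namespace Data

variable {K : SpSeq.FilCx A} (d : Data K)

attribute [instance] Data.kinj Data.inj Data.qi Data.kinjp Data.injp Data.qip

instance epi_π_f (p n : ℤ) : Epi ((d.π p).f n) := epi_of_epi_fac (d.hs p n)

instance epi_π (p : ℤ) : Epi (d.π p) := HomologicalComplex.epi_of_epi_f _ (fun n => d.epi_π_f p n)

/-- the filtered complex -/
noncomputable abbrev J : SpSeq.FilCx A where
  obj := d.J₀
  fil p := kernelSubobject (d.π p)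
  anti := fun p p' h => by
    obtain ⟨t, ht⟩ := d.anti p p' h
    change kernelSubobject (d.π p') ≤ kernelSubobject (d.π p)
    rw [← ht]
    exact kernelSubobject_comp_le _ _

/-- the short exact sequence `0 → F^p J → J → I_p → 0` -/
noncomputable abbrev S (p : ℤ) : ShortComplex (CochainComplex A ℤ) :=
  ShortComplex.mk (d.J.fil p).arrow (d.π p) (kernelSubobject_arrow_comp (d.π p))

lemma shortExact_S (p : ℤ) : (d.S p).ShortExact := shortExact_kernelSubobject (d.π p)

instance isKInjective_J_obj : CochainComplex.IsKInjective d.J.obj := d.kinj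

/-- the degreewise splitting of `S p` -/
noncomputable def σ (p n : ℤ) :
    ((d.S p).map (HomologicalComplex.eval A (ComplexShape.up ℤ) n)).Splitting :=
  splittingOfSection (d.S p) (d.shortExact_S p) (d.s p) (d.hs p) n

instance isKInjective_step (p : ℤ) : CochainComplex.IsKInjective (d.J.step p) :=
  haveI : CochainComplex.IsKInjective (d.S p).X₂ := d.kinj
  haveI : CochainComplex.IsKInjective (d.S p).X₃ := d.kinjp p
  isKInjective_X₁ (d.S p) (d.σ p)

lemma injective_step_X (p n : ℤ) : Injective ((d.J.step p).X n) :=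
  haveI : Injective (d.J.obj.X n) := d.inj n
  injective_of_retract ((d.J.fil p).arrow.f n) (d.σ p n).r (d.σ p n).f_r

instance isKInjective_quot (p : ℤ) : CochainComplex.IsKInjective (d.J.quot p) :=
  haveI : CochainComplex.IsKInjective (d.S p).X₃ := d.kinjp p
  CochainComplex.isKInjective_of_iso (cokerIso (d.S p) (d.shortExact_S p)).symm

lemma injective_XFil_step (n p : ℤ) : Injective ((d.J.XFil n).step p) :=
  Injective.of_iso (Subobject.underlyingIso ((d.J.fil p).arrow.f n)).symm (d.injective_step_X p n)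

lemma injective_XFil_quot (n p : ℤ) : Injective ((d.J.XFil n).quot p) := by
  have w : (d.J.fil p).arrow.f n ≫ (d.π p).f n = 0 := by
    rw [← HomologicalComplex.comp_f]
    change ((kernelSubobject (d.π p)).arrow ≫ d.π p).f n = 0
    rw [kernelSubobject_arrow_comp]
    rfl
  have hT := shortExact_mk_arrow ((d.J.fil p).arrow.f n) ((d.π p).f n) w
    ((d.shortExact_S p).map_of_exact (HomologicalComplex.eval A (ComplexShape.up ℤ) n))
  exact Injective.of_iso (cokerIso _ hT).symm (d.injp p n)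

lemma injective_XFil_coker (n p p' : ℤ) (h : p ≤ p') :
    Injective (cokernel ((d.J.XFil n).stepLE h)) := by
  haveI := d.injective_XFil_step n p
  haveI := d.injective_XFil_step n p'
  exact injective_cokernel_of_mono _

instance isKInjective_coker (p p' : ℤ) (h : p ≤ p') :
    CochainComplex.IsKInjective (cokernel (d.J.stepLE h)) :=
  isKInjective_X₃_of_injective
    (ShortComplex.mk (d.J.stepLE h) (cokernel.π _) (cokernel.condition _))
    (shortExact_cokernel _) (fun n => d.injective_step_X p' n)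

lemma fil_arrow_j₀_π (p : ℤ) : ((K.fil p).arrow ≫ d.j₀) ≫ d.π p = 0 := by
  rw [Category.assoc, ← d.comm p, cokernel.condition_assoc, zero_comp]

lemma factors (p : ℤ) : (d.J.fil p).Factors ((K.fil p).arrow ≫ d.j₀) :=
  kernelSubobject_factors (d.π p) _ (d.fil_arrow_j₀_π p)

/-- the morphism of filtered complexes -/
noncomputable def j : K ⟶ d.J := ⟨d.j₀, fun p => le_pullback_of_factors _ _ _ (d.factors p)⟩

/-- the induced maps on the steps of the filtration -/
noncomputable def jp (p : ℤ) : K.step p ⟶ d.J.step p := (d.J.fil p).factorThru _ (d.factors p)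

@[reassoc (attr := simp)]
lemma jp_arrow (p : ℤ) : d.jp p ≫ (d.J.fil p).arrow = (K.fil p).arrow ≫ d.j₀ :=
  Subobject.factorThru_arrow _ _ _

lemma quasiIso_jp (p : ℤ) : QuasiIso (d.jp p) := by
  let S₁ : ShortComplex (CochainComplex A ℤ) :=
    ShortComplex.mk (K.fil p).arrow (cokernel.π _) (cokernel.condition _)
  let φ : S₁ ⟶ d.S p :=
    { τ₁ := d.jp p, τ₂ := d.j₀, τ₃ := d.q p, comm₁₂ := d.jp_arrow p, comm₂₃ := (d.comm p).symm }
  exact quasiIso_τ₁ φ (shortExact_cokernel _) (d.shortExact_S p) d.qi (d.qip p)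

lemma jp_stepLE {p p' : ℤ} (h : p ≤ p') : d.jp p' ≫ d.J.stepLE h = K.stepLE h ≫ d.jp p := by
  rw [← cancel_mono (d.J.fil p).arrow, Category.assoc, Category.assoc, Subobject.ofLE_arrow,
    jp_arrow, jp_arrow, Subobject.ofLE_arrow_assoc]

/-- the induced maps on `F^p / F^{p'}` -/
noncomputable def jg {p p' : ℤ} (h : p ≤ p') :
    cokernel (K.stepLE h) ⟶ cokernel (d.J.stepLE h) :=
  cokernel.map _ _ (d.jp p') (d.jp p) (d.jp_stepLE h).symm

lemma π_jg {p p' : ℤ} (h : p ≤ p') :
    cokernel.π (K.stepLE h) ≫ d.jg h = d.jp p ≫ cokernel.π (d.J.stepLE h) :=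
  cokernel.π_desc _ _ _

lemma quasiIso_jg {p p' : ℤ} (h : p ≤ p') : QuasiIso (d.jg h) := by
  let S₁ : ShortComplex (CochainComplex A ℤ) :=
    ShortComplex.mk (K.stepLE h) (cokernel.π _) (cokernel.condition _)
  let S₂ : ShortComplex (CochainComplex A ℤ) :=
    ShortComplex.mk (d.J.stepLE h) (cokernel.π _) (cokernel.condition _)
  let φ : S₁ ⟶ S₂ :=
    { τ₁ := d.jp p', τ₂ := d.jp p, τ₃ := d.jg h, comm₁₂ := d.jp_stepLE h,
      comm₂₃ := (d.π_jg h).symm }
  exact HomologicalComplex.HomologySequence.quasiIso_τ₃ φ (shortExact_cokernel _)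
    (shortExact_cokernel _) (d.quasiIso_jp p') (d.quasiIso_jp p)

/-- the induced maps on the quotients -/
noncomputable def jq (p : ℤ) : K.quot p ⟶ d.J.quot p :=
  cokernel.map _ _ (d.jp p) d.j₀ (d.jp_arrow p).symm

lemma π_jq (p : ℤ) :
    cokernel.π (K.fil p).arrow ≫ d.jq p = d.j₀ ≫ cokernel.π (d.J.fil p).arrow :=
  cokernel.π_desc _ _ _

lemma quasiIso_jq (p : ℤ) : QuasiIso (d.jq p) := by
  let S₁ : ShortComplex (CochainComplex A ℤ) :=
    ShortComplex.mk (K.fil p).arrow (cokernel.π _) (cokernel.condition _)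
  let S₂ : ShortComplex (CochainComplex A ℤ) :=
    ShortComplex.mk (d.J.fil p).arrow (cokernel.π _) (cokernel.condition _)
  let φ : S₁ ⟶ S₂ :=
    { τ₁ := d.jp p, τ₂ := d.j₀, τ₃ := d.jq p, comm₁₂ := d.jp_arrow p,
      comm₂₃ := (d.π_jq p).symm }
  exact HomologicalComplex.HomologySequence.quasiIso_τ₃ φ (shortExact_cokernel _)
    (shortExact_cokernel _) (d.quasiIso_jp p) d.qi

end Data

open Data in
/-- Filtered K-injective resolutions in a Grothendieck abelian category. -/
theorem exists_filtered_resolution [IsGrothendieckAbelian.{v} A] (K : SpSeq.FilCx A) :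
    ∃ (J : SpSeq.FilCx A) (j : K ⟶ J),
      (∀ n p : ℤ, Injective (J.obj.X n) ∧ Injective ((J.XFil n).step p) ∧
        Injective ((J.XFil n).quot p) ∧
        ∀ (p' : ℤ) (h : p ≤ p'), Injective (cokernel ((J.XFil n).stepLE h))) ∧
      (CochainComplex.IsKInjective J.obj ∧ ∀ p : ℤ, CochainComplex.IsKInjective (J.step p) ∧
        CochainComplex.IsKInjective (J.quot p) ∧
        ∀ (p' : ℤ) (h : p ≤ p'), CochainComplex.IsKInjective (cokernel (J.stepLE h))) ∧
      QuasiIso j.hom ∧
      (∀ p : ℤ, ∃ jp : K.step p ⟶ J.step p,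
        jp ≫ (J.fil p).arrow = (K.fil p).arrow ≫ j.hom ∧ QuasiIso jp ∧
        (∀ (p' : ℤ) (h : p ≤ p'), ∃ (jp' : K.step p' ⟶ J.step p')
          (jg : cokernel (K.stepLE h) ⟶ cokernel (J.stepLE h)),
          jp' ≫ (J.fil p').arrow = (K.fil p').arrow ≫ j.hom ∧
          jp' ≫ J.stepLE h = K.stepLE h ≫ jp ∧
          cokernel.π (K.stepLE h) ≫ jg = jp ≫ cokernel.π (J.stepLE h) ∧ QuasiIso jg)) ∧
      (∀ p : ℤ, ∃ jq : K.quot p ⟶ J.quot p,
        cokernel.π (K.fil p).arrow ≫ jq = j.hom ≫ cokernel.π (J.fil p).arrow ∧ QuasiIso jq) := by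
  obtain ⟨d⟩ := nonempty_data K
  refine ⟨d.J, d.j, ?_, ?_, ?_, ?_, ?_⟩
  · intro n p
    exact ⟨d.inj n, d.injective_XFil_step n p, d.injective_XFil_quot n p,
      fun p' h => d.injective_XFil_coker n p p' h⟩
  · exact ⟨d.kinj, fun p => ⟨d.isKInjective_step p, d.isKInjective_quot p,
      fun p' h => d.isKInjective_coker p p' h⟩⟩
  · exact d.qi
  · intro p
    exact ⟨d.jp p, d.jp_arrow p, d.quasiIso_jp p, fun p' h =>
      ⟨d.jp p', d.jg h, d.jp_arrow p', d.jp_stepLE h, d.π_jg h, d.quasiIso_jg h⟩⟩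
  · intro p
    exact ⟨d.jq p, d.π_jq p, d.quasiIso_jq p⟩

end Groth.Agent.Lib.Helper17.FilKInjD
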