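import Mathlib.RingTheory.Flat.FaithfullyFlat.Basic
import Mathlib.RingTheory.Flat.Stability
import Mathlib.LinearAlgebra.TensorProduct.Tower

/-! Algebraic lemmas about flatness used by several statements. -/

namespace Groth.Agent.Lib.Helper17

open scoped TensorProduct

universe u

/-- If `B → B'` is faithfully flat and `B'` is flat over `A`, then `B` is flat over `A`. -/
theorem flat_of_flat_of_faithfullyFlat (A B B' : Type u) [CommRing A] [CommRing B] [CommRing B']
    [Algebra A B] [Algebra B B'] [Algebra A B'] [IsScalarTower A B B']
    [Module.FaithfullyFlat B B'] [Module.Flat A B'] : Module.Flat A B := by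
  rw [Module.Flat.iff_lTensor_preserves_injective_linearMap]
  intro N N' _ _ _ _ f hf
  have hbc : Function.Injective (LinearMap.baseChange B f) := by
    rw [← Module.FaithfullyFlat.lTensor_injective_iff_injective B B']
    have h := Module.Flat.lTensor_preserves_injective_linearMap (M := B') f hf
    let e1 := TensorProduct.AlgebraTensorModule.cancelBaseChange A B B B' N
    let e2 := TensorProduct.AlgebraTensorModule.cancelBaseChange A B B B' N'
    have comm : e2.toLinearMap ∘ₗ (LinearMap.lTensor B' (LinearMap.baseChange B f)) =
        (TensorProduct.AlgebraTensorModule.lTensor B B' f) ∘ₗ e1.toLinearMap := by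
      ext b' n
      simp [e1, e2]
    have h2 : Function.Injective (e2 ∘
        (LinearMap.lTensor B' (LinearMap.baseChange B f))) := by
      have : (e2 ∘ (LinearMap.lTensor B' (LinearMap.baseChange B f))) =
          (LinearMap.lTensor B' f) ∘ e1 := by
        ext x
        exact congrArg (fun g => g x) comm
      rw [this]
      exact h.comp e1.injective
    exact Function.Injective.of_comp h2
  exact hbc

/-- Retract trick: given `A → B → C → B'` with `C` flat over `A` and `B'` flat over `B`,
the ring `B'` is flat over `A` (it is a retract of `C ⊗[B] B'`). -/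
theorem flat_of_retract_tensor (A B C B' : Type u) [CommRing A] [CommRing B] [CommRing C]
    [CommRing B'] [Algebra A B] [Algebra B C] [Algebra A C] [IsScalarTower A B C]
    [Algebra C B'] [Algebra B B'] [IsScalarTower B C B'] [Algebra A B'] [IsScalarTower A B B']
    [Module.Flat A C] [Module.Flat B B'] : Module.Flat A B' := by
  have h1 : Module.Flat C (C ⊗[B] B') := inferInstance
  have h2 : Module.Flat A (C ⊗[B] B') := Module.Flat.trans A C (C ⊗[B] B')
  have hACB' : IsScalarTower A C B' := by
    refine IsScalarTower.of_algebraMap_eq fun a => ?_
    rw [IsScalarTower.algebraMap_apply A B B', IsScalarTower.algebraMap_apply B C B',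
      ← IsScalarTower.algebraMap_apply A B C]
  let i : B' →ₗ[A] C ⊗[B] B' :=
    ((TensorProduct.mk B C B' 1).restrictScalars A)
  let r : C ⊗[B] B' →ₗ[A] B' :=
    (TensorProduct.lift ((Algebra.lsmul B B B').toLinearMap ∘ₗ
      (Algebra.linearMap C B').restrictScalars B)).restrictScalars A
  refine Module.Flat.of_retract i r ?_
  ext b'
  simp [i, r]

end Groth.Agent.Lib.Helper17
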