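import Mathlib
import Groth.Prelude.Def_ModSite
import Groth.Agent.Lib.Helper17.FlatSES
import Groth.Agent.Lib.Helper17.CyclesSES

open CategoryTheory CategoryTheory.Limits Opposite

universe u

noncomputable section

namespace Groth.Agent.Lib.Helper17.FlatCx

open Groth.Agent.Lib.Helper17.Tensor Groth.Agent.Lib.Helper17.ProjFormula
  Groth.Agent.Lib.Helper17.FlatCalc Groth.Agent.Lib.Helper17.CyclesSES
  Groth.Agent.Lib.Helper17.FlatSES

variable {C : Type u} [SmallCategory C] {J : GrothendieckTopology C} {O : Sheaf J CommRingCat.{u}}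

theorem isFlat_of_isZero (F : ModSite.Mod O) (h : IsZero F) : ModSite.IsFlat F := by
  apply isFlat_of_preservesMonomorphisms
  constructor
  intro X Y f _
  have hz : IsZero (((ModSite.tensorBi O).flip.obj F).obj X) :=
    Functor.map_isZero ((ModSite.tensorBi O).obj X) h
  exact ⟨fun a b _ => hz.eq_of_tgt a b⟩

theorem isFlat_cycles_of_boundedBelow (M : ChainComplex (ModSite.Mod O) ℤ)
    (hb : ∃ i₀ : ℤ, ∀ i, i < i₀ → IsZero (M.X i)) (hM : ∀ i, ModSite.IsFlat (M.X i))
    (hac : M.Acyclic) (i : ℤ) : ModSite.IsFlat (M.cycles i) := by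
  obtain ⟨i₀, hi₀⟩ := hb
  have hz : ∀ i, i < i₀ → ModSite.IsFlat (M.cycles i) := by
    intro i hi
    apply isFlat_of_isZero
    rw [IsZero.iff_id_eq_zero, ← cancel_mono (M.iCycles i)]
    exact (hi₀ i hi).eq_of_tgt _ _
  have key : ∀ n : ℕ, ModSite.IsFlat (M.cycles (i₀ - 1 + n)) := by
    intro n
    induction n with
    | zero => exact hz _ (by simp)
    | succ n ih =>
      have hrel : (ComplexShape.down ℤ).Rel (i₀ - 1 + (n + 1 : ℕ)) (i₀ - 1 + n) := by
        simp only [ComplexShape.down_Rel]; push_cast; ring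
      have hS : (cyclesSC M (i₀ - 1 + (n + 1 : ℕ)) (i₀ - 1 + n)).ShortExact :=
        cyclesSC_shortExact M hrel (hac _)
      have h2 : ModSite.IsFlat (cyclesSC M (i₀ - 1 + (n + 1 : ℕ)) (i₀ - 1 + n)).X₂ := hM _
      have h3 : ModSite.IsFlat (cyclesSC M (i₀ - 1 + (n + 1 : ℕ)) (i₀ - 1 + n)).X₃ := ih
      exact isFlat_left (cyclesSC M (i₀ - 1 + (n + 1 : ℕ)) (i₀ - 1 + n)) hS h2 h3
  by_cases h : i < i₀
  · exact hz i h
  · obtain ⟨n, hn⟩ := Int.eq_ofNat_of_zero_le (show 0 ≤ i - (i₀ - 1) by omega)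
    have : i = i₀ - 1 + n := by omega
    rw [this]
    exact key n

theorem acyclic_tensor (M : ChainComplex (ModSite.Mod O) ℤ) (F : ModSite.Mod O)
    [((ModSite.tensorBi O).flip.obj F).PreservesZeroMorphisms]
    (hb : ∃ i₀ : ℤ, ∀ i, i < i₀ → IsZero (M.X i)) (hM : ∀ i, ModSite.IsFlat (M.X i))
    (hac : M.Acyclic) :
    ((((ModSite.tensorBi O).flip.obj F).mapHomologicalComplex (ComplexShape.down ℤ)).obj
      M).Acyclic := by
  intro j
  have hfl := isFlat_cycles_of_boundedBelow M hb hM hac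
  have h1 : (ComplexShape.down ℤ).Rel (j + 1) j := by simp
  have h2 : (ComplexShape.down ℤ).Rel j (j - 1) := by simp
  have h3 : (ComplexShape.down ℤ).Rel (j - 1) (j - 1 - 1) := by simp
  have e1 := tensor_shortExact_of_isFlat _ (cyclesSC_shortExact M h2 (hac _)) (hfl _) F
  have e2 := tensor_shortExact_of_isFlat _ (cyclesSC_shortExact M h3 (hac _)) (hfl _) F
  have := epi_toCycles M h1 (hac j)
  exact exactAt_map M ((ModSite.tensorBi O).flip.obj F) h1 h2 inferInstance e2.mono_f e1.exact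

end Groth.Agent.Lib.Helper17.FlatCx
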