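import Groth.Agent.Lib.Helper17.FlatBridge
import Groth.Agent.Lib.Helper17.FreeSum
import Groth.Agent.Lib.Helper17.FlatColim
import Groth.Agent.Lib.Helper17.ShriekPF3
import Groth.Agent.Lib.Helper28.KFlatSite4

set_option autoImplicit false
universe u

open CategoryTheory CategoryTheory.Limits AlgebraicGeometry

namespace Groth.Agent.Lib.Helper17.FlatQuot

variable {X : Scheme.{u}}

/-- `j_! O_V` on the site is `j_! O_V` on the scheme. -/
noncomputable def freeOnIso (V : X.Opens) :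
    ModSite.freeOn X.sheaf V ≅ CxOX.extZeroUnit V.ι :=
  Groth.Agent.Lib.Helper17.ShriekPF.extSiteIso V (SheafOfModules.unit _)

theorem main (F : X.Modules) :
    ∃ (ι : Type u) (U : ι → X.Opens) (p : (∐ fun i => CxOX.extZeroUnit (U i).ι) ⟶ F),
      Epi p ∧ FlatMod.IsFlat (∐ fun i => CxOX.extZeroUnit (U i).ι) := by
  obtain ⟨G, π, ⟨ι, U', ⟨e⟩⟩, hπ⟩ := Groth.Agent.Lib.Helper17.FreeSum.exists_epi_PF X.sheaf F
  let U : ι → X.Opens := U'
  let a : (∐ fun i => ModSite.freeOn X.sheaf (U i)) ≅ (∐ fun i => CxOX.extZeroUnit (U i).ι) :=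
    Sigma.mapIso (fun i => freeOnIso (U i))
  refine ⟨ι, U, a.inv ≫ e.inv ≫ π, ?_, ?_⟩
  · exact epi_comp' (IsIso.epi_of_iso a.inv) (epi_comp' (IsIso.epi_of_iso e.inv) hπ)
  · rw [Groth.Agent.Lib.Helper17.FlatBridge.isFlat_iff]
    exact Groth.Agent.Lib.Helper28.KFlatSite.isFlat_of_iso_sigma_freeOn U a.symm

end Groth.Agent.Lib.Helper17.FlatQuot
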