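import Mathlib
import Groth.Agent.Lib.Helper17.CoprodExact

/-!
# Functorially killing maps from a family of acyclic complexes
-/

universe v u

open CategoryTheory Limits CochainComplex HomComplex ZeroObject

namespace Groth.Agent.Lib.Helper17.FunAcyc

variable {A : Type u} [Category.{v} A] [Abelian A]

lemma quasiIso_inr_of_acyclic {K L : CochainComplex A ℤ} (φ : K ⟶ L) (hK : K.Acyclic) :
    QuasiIso (mappingCone.inr φ) := by
  letI := HasDerivedCategory.standard A
  rw [← DerivedCategory.isIso_Q_map_iff_quasiIso]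
  have hT := DerivedCategory.mappingCone_triangle_distinguished φ
  have h0 : IsZero (DerivedCategory.Q.obj K) := by
    have hq : QuasiIso (0 : K ⟶ 0) := by
      rw [quasiIso_iff]
      intro n
      rw [quasiIsoAt_iff_exactAt _ _ (hK n)]
      exact HomologicalComplex.acyclic_of_isZero (K := (0 : CochainComplex A ℤ)) (isZero_zero _) n
    have : IsIso (DerivedCategory.Q.map (0 : K ⟶ 0)) := by
      rw [DerivedCategory.isIso_Q_map_iff_quasiIso]
      exact hq
    exact IsZero.of_iso (DerivedCategory.Q.map_isZero (isZero_zero _)) (asIso (DerivedCategory.Q.map (0 : K ⟶ 0)))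
  exact (Pretriangulated.Triangle.isZero₁_iff_isIso₂ _ hT).1 h0

variable [IsGrothendieckAbelian.{v} A] {ι : Type v} (K : ι → CochainComplex A ℤ)

/-- the index type -/
abbrev Idx (M : CochainComplex A ℤ) : Type v := Σ i : ι, (K i ⟶ M)

/-- the big coproduct -/
noncomputable def P (M : CochainComplex A ℤ) : CochainComplex A ℤ :=
  ∐ (fun x : Idx K M => K x.1)

/-- the inclusions -/
noncomputable def Pι (M : CochainComplex A ℤ) (i : ι) (w : K i ⟶ M) : K i ⟶ P K M :=
  Sigma.ι (fun x : Idx K M => K x.1) ⟨i, w⟩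

/-- the canonical map -/
noncomputable def φ (M : CochainComplex A ℤ) : P K M ⟶ M := Sigma.desc (fun x => x.2)

@[reassoc (attr := simp)]
lemma Pι_φ (M : CochainComplex A ℤ) (i : ι) (w : K i ⟶ M) : Pι K M i w ≫ φ K M = w :=
  Sigma.ι_desc (f := fun x : Idx K M => K x.1) (fun x => x.2) ⟨i, w⟩

lemma P_hom_ext {M : CochainComplex A ℤ} {Z : CochainComplex A ℤ} (a b : P K M ⟶ Z)
    (h : ∀ i w, Pι K M i w ≫ a = Pι K M i w ≫ b) : a = b := by
  apply Sigma.hom_ext
  rintro ⟨i, w⟩
  exact h i w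

/-- functoriality -/
noncomputable def PMap {M M' : CochainComplex A ℤ} (f : M ⟶ M') : P K M ⟶ P K M' :=
  Sigma.desc (fun x => Pι K M' x.1 (x.2 ≫ f))

@[reassoc (attr := simp)]
lemma Pι_PMap {M M' : CochainComplex A ℤ} (f : M ⟶ M') (i : ι) (w : K i ⟶ M) :
    Pι K M i w ≫ PMap K f = Pι K M' i (w ≫ f) :=
  Sigma.ι_desc (f := fun x : Idx K M => K x.1) (fun x => Pι K M' x.1 (x.2 ≫ f)) ⟨i, w⟩

@[simp]
lemma PMap_id (M : CochainComplex A ℤ) : PMap K (𝟙 M) = 𝟙 _ := by
  apply P_hom_ext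
  intro i w
  simp

@[simp]
lemma PMap_comp {M M' M'' : CochainComplex A ℤ} (f : M ⟶ M') (g : M' ⟶ M'') :
    PMap K (f ≫ g) = PMap K f ≫ PMap K g := by
  apply P_hom_ext
  intro i w
  simp

@[reassoc (attr := simp)]
lemma φ_naturality {M M' : CochainComplex A ℤ} (f : M ⟶ M') :
    φ K M ≫ f = PMap K f ≫ φ K M' := by
  apply P_hom_ext
  intro i w
  simp

lemma acyclic_P (hK : ∀ i, (K i).Acyclic) (M : CochainComplex A ℤ) : (P K M).Acyclic :=
  CoprodExact.acyclic_sigma _ (fun x => hK x.1)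

lemma mappingCone_map_congr {K₁ L₁ K₂ L₂ : CochainComplex A ℤ} (φ₁ : K₁ ⟶ L₁) (φ₂ : K₂ ⟶ L₂)
    {a a' : K₁ ⟶ K₂} {b b' : L₁ ⟶ L₂} (ha : a = a') (hb : b = b')
    (comm : φ₁ ≫ b = a ≫ φ₂) :
    mappingCone.map φ₁ φ₂ a b comm = mappingCone.map φ₁ φ₂ a' b' (by rw [← ha, ← hb, comm]) := by
  subst ha hb
  rfl

/-- the functor `N` -/
@[simps]
noncomputable def N : CochainComplex A ℤ ⥤ CochainComplex A ℤ where
  obj M := mappingCone (φ K M)
  map {M M'} f := mappingCone.map (φ K M) (φ K M') (PMap K f) f (φ_naturality K f)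
  map_id M := by
    rw [mappingCone_map_congr _ _ (PMap_id K M) rfl, mappingCone.map_id]
  map_comp {M M' M''} f g := by
    rw [mappingCone_map_congr _ _ (PMap_comp K f g) rfl, mappingCone.map_comp]

/-- the natural transformation -/
noncomputable def j : 𝟭 (CochainComplex A ℤ) ⟶ N K where
  app M := mappingCone.inr (φ K M)
  naturality M M' f := by
    ext n
    change f.f n ≫ (mappingCone.inr (φ K M')).f n = (mappingCone.inr (φ K M)).f n ≫
      (mappingCone.map (φ K M) (φ K M') (PMap K f) f (φ_naturality K f)).f n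
    rw [mappingCone.map, mappingCone.inr_f_desc_f]
    rfl

theorem main (hK : ∀ i, (K i).Acyclic) (M : CochainComplex A ℤ) :
    (∀ n : ℤ, Mono (((j K).app M).f n)) ∧ QuasiIso ((j K).app M) ∧
      ∀ (i : ι) (w : K i ⟶ M), Nonempty (Homotopy (w ≫ (j K).app M) 0) := by
  refine ⟨fun n => ?_, ?_, fun i w => ?_⟩
  · have h : Mono ((mappingCone.inr (φ K M)).f n ≫
        (mappingCone.snd (φ K M)).v n n (add_zero n)) := by
      rw [mappingCone.inr_f_snd_v]
      infer_instance
    exact @mono_of_mono _ _ _ _ _ ((mappingCone.inr (φ K M)).f n)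
      ((mappingCone.snd (φ K M)).v n n (add_zero n)) h
  · exact quasiIso_inr_of_acyclic _ (acyclic_P K hK M)
  · have h1 : w ≫ (j K).app M = Pι K M i w ≫ (φ K M ≫ mappingCone.inr (φ K M)) := by
      rw [← Category.assoc, Pι_φ]
      rfl
    rw [h1]
    have h0 : Homotopy (φ K M ≫ mappingCone.inr (φ K M)) 0 :=
      HomologicalComplex.homotopyCofiber.inrCompHomotopy (φ K M) (fun j => ⟨j - 1, by simp⟩)
    exact ⟨(h0.compLeft (Pι K M i w)).trans (Homotopy.ofEq comp_zero)⟩

end Groth.Agent.Lib.Helper17.FunAcyc
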