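import Mathlib
import Groth.Agent.Lib.Helper18.FunctorialInjective
import Groth.Agent.Lib.Helper17.PUnb

/-!
# Functorial injective replacements of complexes

Given an endofunctor `J` with a natural monomorphism `𝟭 ⟶ J`, we construct an endofunctor
`N` of cochain complexes with a natural termwise mono quasi-isomorphism `𝟭 ⟶ N`, such that
each `M.X n ⟶ (N.obj M).X n` factors through a monomorphism from `J` of something.
-/

universe v u

open CategoryTheory Limits

namespace Groth.Agent.Lib.Helper17.FunRes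

variable {A : Type u} [Category.{v} A] [Abelian A] (J : A ⥤ A) (ι : 𝟭 A ⟶ J)

/-- the contractible complex `E(M)^n = J(M^n) ⊞ J(M^{n+1})` -/
noncomputable def EObj (M : CochainComplex A ℤ) : CochainComplex A ℤ :=
  CochainComplex.of (fun k => J.obj (M.X k) ⊞ J.obj (M.X (k + 1)))
    (fun k => biprod.snd ≫ biprod.inl) (fun k => by simp)

lemma EObj_d (M : CochainComplex A ℤ) (k : ℤ) :
    (EObj J M).d k (k + 1) = biprod.snd ≫ biprod.inl := by
  dsimp [EObj]
  rw [CochainComplex.of_d]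

/-- functoriality of `E` -/
noncomputable def EMapHom {M M' : CochainComplex A ℤ} (f : M ⟶ M') : EObj J M ⟶ EObj J M' :=
  CochainComplex.ofHom (fun k => biprod.map (J.map (f.f k)) (J.map (f.f (k + 1))))
    (fun k => by
      rw [EObj_d, EObj_d]
      change biprod.map (J.map (f.f k)) (J.map (f.f (k + 1))) ≫ biprod.snd ≫ biprod.inl =
        (biprod.snd ≫ biprod.inl) ≫ biprod.map (J.map (f.f (k + 1))) (J.map (f.f (k + 1 + 1)))
      simp)

@[simp]
lemma EMapHom_f {M M' : CochainComplex A ℤ} (f : M ⟶ M') (k : ℤ) :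
    (EMapHom J f).f k = biprod.map (J.map (f.f k)) (J.map (f.f (k + 1))) := rfl

/-- the functor `E` -/
@[simps]
noncomputable def E : CochainComplex A ℤ ⥤ CochainComplex A ℤ where
  obj := EObj J
  map f := EMapHom J f
  map_id M := by
    ext k
    change biprod.map (J.map ((𝟙 M : M ⟶ M).f k)) (J.map ((𝟙 M : M ⟶ M).f (k + 1))) =
      𝟙 (J.obj (M.X k) ⊞ J.obj (M.X (k + 1)))
    apply biprod.hom_ext <;> simp
  map_comp {M₁ M₂ M₃} f g := by
    ext k
    change biprod.map (J.map ((f ≫ g).f k)) (J.map ((f ≫ g).f (k + 1))) =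
      biprod.map (J.map (f.f k)) (J.map (f.f (k + 1))) ≫
        biprod.map (J.map (g.f k)) (J.map (g.f (k + 1)))
    apply biprod.hom_ext <;> simp

variable {J}

/-- the embedding `M ⟶ E(M)` -/
noncomputable def iApp (M : CochainComplex A ℤ) : M ⟶ EObj J M :=
  CochainComplex.ofHom
    (fun k => biprod.lift (ι.app (M.X k)) (M.d k (k + 1) ≫ ι.app (M.X (k + 1))))
    (fun k => by
      rw [EObj_d]
      change biprod.lift (ι.app (M.X k)) (M.d k (k + 1) ≫ ι.app (M.X (k + 1))) ≫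
          biprod.snd ≫ biprod.inl = M.d k (k + 1) ≫
          biprod.lift (ι.app (M.X (k + 1))) (M.d (k + 1) (k + 1 + 1) ≫ ι.app (M.X (k + 1 + 1)))
      apply biprod.hom_ext <;> simp)

@[simp]
lemma iApp_f (M : CochainComplex A ℤ) (k : ℤ) :
    (iApp ι M).f k = biprod.lift (ι.app (M.X k)) (M.d k (k + 1) ≫ ι.app (M.X (k + 1))) := rfl

/-- the natural transformation `𝟭 ⟶ E` -/
@[simps]
noncomputable def i : 𝟭 (CochainComplex A ℤ) ⟶ E J where
  app M := iApp ι M
  naturality M M' f := by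
    ext k
    change f.f k ≫ biprod.lift (ι.app (M'.X k)) (M'.d k (k + 1) ≫ ι.app (M'.X (k + 1))) =
      biprod.lift (ι.app (M.X k)) (M.d k (k + 1) ≫ ι.app (M.X (k + 1))) ≫
        biprod.map (J.map (f.f k)) (J.map (f.f (k + 1)))
    have h1 := ι.naturality (f.f k)
    have h2 := ι.naturality (f.f (k + 1))
    dsimp at h1 h2
    apply biprod.hom_ext
    · simp [h1]
    · simp [h2]

instance mono_iApp_f [∀ X, Mono (ι.app X)] (M : CochainComplex A ℤ) (k : ℤ) :
    Mono ((iApp ι M).f k) :=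
  mono_of_mono_fac (show (iApp ι M).f k ≫ biprod.fst = ι.app (M.X k) from
    biprod.lift_fst _ _)

section Cone

open CochainComplex HomComplex


lemma rot_map_fst {K L L' : CochainComplex A ℤ} (φ : K ⟶ L) (ψ : L ⟶ L')
    (b : mappingCone φ ⟶ L') (comm : mappingCone.inr φ ≫ b = 𝟙 L ≫ ψ) (n : ℤ) :
    ((mappingCone.rotateHomotopyEquiv φ).hom ≫
      mappingCone.map (mappingCone.inr φ) ψ (𝟙 L) b comm).f n ≫
      (mappingCone.fst ψ).1.v n (n + 1) rfl =
    (K.shiftFunctorObjXIso 1 n (n + 1) rfl).hom ≫ φ.f (n + 1) := by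
  rw [HomologicalComplex.comp_f]
  change ((mappingCone.lift (mappingCone.inr φ) _ _ _).f n ≫
    (mappingCone.desc (mappingCone.inr φ) _ _ _).f n) ≫ _ = _
  rw [mappingCone.lift_desc_f _ _ _ _ _ _ _ _ (n+1) rfl]
  simp only [Cocycle.coe_neg, Cocycle.leftShift_coe, Cocycle.ofHom_coe, Cochain.neg_v,
    (Cochain.ofHom φ).leftShift_v 1 1 (zero_add 1) n (n + 1) rfl (n + 1) (by lia),
    (mappingCone.inl φ).leftShift_v 1 0 (neg_add_cancel 1) n n (add_zero n) (n + 1) (by lia),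
    Preadditive.add_comp, Preadditive.neg_comp, Category.assoc, Cochain.comp_v _ _ (zero_add (-1)) (n+1) (n+1) n (by lia) (by lia),
    Cochain.ofHom_v, HomologicalComplex.id_f, Category.id_comp, mappingCone.inl_v_fst_v, Category.comp_id,
    HomologicalComplex.comp_f, mappingCone.inr_f_fst_v, comp_zero, neg_zero, add_zero]
  have h1 : (1 * 1 + 1 * (1 - 1) / 2 : ℤ) = 1 := by norm_num
  rw [h1, Int.negOnePow_one, Units.neg_smul, one_smul, neg_neg]

lemma rot_map_snd {K L L' : CochainComplex A ℤ} (φ : K ⟶ L) (ψ : L ⟶ L')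
    (b : mappingCone φ ⟶ L') (comm : mappingCone.inr φ ≫ b = 𝟙 L ≫ ψ) (n : ℤ) :
    ((mappingCone.rotateHomotopyEquiv φ).hom ≫
      mappingCone.map (mappingCone.inr φ) ψ (𝟙 L) b comm).f n ≫
      (mappingCone.snd ψ).v n n (add_zero n) =
    -((K.shiftFunctorObjXIso 1 n (n + 1) rfl).hom ≫
      (mappingCone.inl φ).v (n + 1) n (by lia) ≫ b.f n) := by
  rw [HomologicalComplex.comp_f]
  change ((mappingCone.lift (mappingCone.inr φ) _ _ _).f n ≫
    (mappingCone.desc (mappingCone.inr φ) _ _ _).f n) ≫ _ = _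
  rw [mappingCone.lift_desc_f _ _ _ _ _ _ _ _ (n+1) rfl]
  simp only [Cocycle.coe_neg, Cocycle.leftShift_coe, Cocycle.ofHom_coe, Cochain.neg_v,
    (Cochain.ofHom φ).leftShift_v 1 1 (zero_add 1) n (n + 1) rfl (n + 1) (by lia),
    (mappingCone.inl φ).leftShift_v 1 0 (neg_add_cancel 1) n n (add_zero n) (n + 1) (by lia),
    Preadditive.add_comp, Preadditive.neg_comp, Category.assoc, Cochain.comp_v _ _ (zero_add (-1)) (n+1) (n+1) n (by lia) (by lia),
    Cochain.ofHom_v, HomologicalComplex.id_f, Category.id_comp, mappingCone.inl_v_snd_v, Category.comp_id,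
    HomologicalComplex.comp_f, mappingCone.inr_f_snd_v, comp_zero, neg_zero, zero_add]
  have h1 : (1 * 0 + 1 * (1 - 1) / 2 : ℤ) = 0 := by norm_num
  rw [h1, Int.negOnePow_zero, one_smul, Category.assoc]



lemma map_f_fst_v {K₁ L₁ K₂ L₂ : CochainComplex A ℤ} (φ₁ : K₁ ⟶ L₁) (φ₂ : K₂ ⟶ L₂)
    (a : K₁ ⟶ K₂) (b : L₁ ⟶ L₂) (comm : φ₁ ≫ b = a ≫ φ₂) (n m : ℤ) (h : n + 1 = m) :
    (mappingCone.map φ₁ φ₂ a b comm).f n ≫ (mappingCone.fst φ₂).1.v n m h =
      (mappingCone.fst φ₁).1.v n m h ≫ a.f m := by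
  subst h
  simp [mappingCone.ext_from_iff _ (n + 1) n rfl, mappingCone.map]

lemma map_f_snd_v {K₁ L₁ K₂ L₂ : CochainComplex A ℤ} (φ₁ : K₁ ⟶ L₁) (φ₂ : K₂ ⟶ L₂)
    (a : K₁ ⟶ K₂) (b : L₁ ⟶ L₂) (comm : φ₁ ≫ b = a ≫ φ₂) (n : ℤ) :
    (mappingCone.map φ₁ φ₂ a b comm).f n ≫ (mappingCone.snd φ₂).v n n (add_zero n) =
      (mappingCone.snd φ₁).v n n (add_zero n) ≫ b.f n := by
  simp [mappingCone.ext_from_iff _ (n + 1) n rfl, mappingCone.map]


variable (E : CochainComplex A ℤ ⥤ CochainComplex A ℤ) (i : 𝟭 (CochainComplex A ℤ) ⟶ E)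

/-- the cokernel complex -/
noncomputable def CObj (M : CochainComplex A ℤ) : CochainComplex A ℤ := cokernel (i.app M)

/-- the projection -/
noncomputable def q (M : CochainComplex A ℤ) : E.obj M ⟶ CObj E i M := cokernel.π (i.app M)

@[reassoc (attr := simp)]
lemma i_q (M : CochainComplex A ℤ) : i.app M ≫ q E i M = 0 := cokernel.condition _

instance (M : CochainComplex A ℤ) : Epi (q E i M) :=
  inferInstanceAs (Epi (cokernel.π (i.app M)))

/-- functoriality of the cokernel -/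
noncomputable def CMap {M M' : CochainComplex A ℤ} (f : M ⟶ M') : CObj E i M ⟶ CObj E i M' :=
  cokernel.map _ _ f (E.map f) (i.naturality f).symm

@[reassoc (attr := simp)]
lemma q_CMap {M M' : CochainComplex A ℤ} (f : M ⟶ M') :
    q E i M ≫ CMap E i f = E.map f ≫ q E i M' :=
  cokernel.π_desc _ _ _

@[simp]
lemma CMap_id (M : CochainComplex A ℤ) : CMap E i (𝟙 M) = 𝟙 _ := by
  rw [← cancel_epi (q E i M)]
  simp

@[simp]
lemma CMap_comp {M M' M'' : CochainComplex A ℤ} (f : M ⟶ M') (g : M' ⟶ M'') :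
    CMap E i (f ≫ g) = CMap E i f ≫ CMap E i g := by
  rw [← cancel_epi (q E i M)]
  simp

/-- the short complex `M ⟶ E M ⟶ C M` -/
noncomputable abbrev SC (M : CochainComplex A ℤ) : ShortComplex (CochainComplex A ℤ) :=
  ShortComplex.mk (i.app M) (q E i M) (i_q E i M)

lemma SC_shortExact [∀ M, Mono (i.app M)] (M : CochainComplex A ℤ) : (SC E i M).ShortExact where
  exact := ShortComplex.exact_cokernel _
  mono_f := by dsimp [SC]; infer_instance
  epi_g := by dsimp [SC]; infer_instance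

lemma mappingCone_map_congr {K₁ L₁ K₂ L₂ : CochainComplex A ℤ} (φ₁ : K₁ ⟶ L₁) (φ₂ : K₂ ⟶ L₂)
    {a a' : K₁ ⟶ K₂} {b b' : L₁ ⟶ L₂} (ha : a = a') (hb : b = b')
    (comm : φ₁ ≫ b = a ≫ φ₂) :
    mappingCone.map φ₁ φ₂ a b comm = mappingCone.map φ₁ φ₂ a' b' (by rw [← ha, ← hb, comm]) := by
  subst ha hb
  rfl

/-- the functor `M ↦ cone (E M ⟶ C M)` -/
@[simps]
noncomputable def N₀ : CochainComplex A ℤ ⥤ CochainComplex A ℤ where
  obj M := mappingCone (q E i M)
  map {M M'} f := mappingCone.map (q E i M) (q E i M') (E.map f) (CMap E i f) (q_CMap E i f)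
  map_id M := by
    rw [mappingCone_map_congr _ _ (E.map_id M) (CMap_id E i M), mappingCone.map_id]
  map_comp {M M' M''} f g := by
    rw [mappingCone_map_congr _ _ (E.map_comp f g) (CMap_comp E i f g),
      mappingCone.map_comp]

/-- the quasi-isomorphism `M⟦1⟧ ⟶ cone (E M ⟶ C M)` -/
noncomputable def g (M : CochainComplex A ℤ) : M⟦(1 : ℤ)⟧ ⟶ mappingCone (q E i M) :=
  (mappingCone.rotateHomotopyEquiv (i.app M)).hom ≫
    mappingCone.map (mappingCone.inr (i.app M)) (q E i M) (𝟙 _)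
      (mappingCone.descShortComplex (SC E i M)) (by
        rw [Category.id_comp]
        exact mappingCone.inr_descShortComplex (SC E i M))

lemma g_fst (M : CochainComplex A ℤ) (n : ℤ) :
    (g E i M).f n ≫ (mappingCone.fst (q E i M)).1.v n (n + 1) rfl =
      (M.shiftFunctorObjXIso 1 n (n + 1) rfl).hom ≫ (i.app M).f (n + 1) :=
  rot_map_fst _ _ _ _ n

lemma g_snd (M : CochainComplex A ℤ) (n : ℤ) :
    (g E i M).f n ≫ (mappingCone.snd (q E i M)).v n n (add_zero n) = 0 := by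
  rw [g, rot_map_snd]
  have := mappingCone.inl_v_descShortComplex_f (SC E i M) (n + 1) n (by lia)
  dsimp only at this
  rw [this, comp_zero, neg_zero]

lemma quasiIso_g [∀ M, Mono (i.app M)] (M : CochainComplex A ℤ) : QuasiIso (g E i M) := by
  haveI := mappingCone.quasiIso_descShortComplex (SC_shortExact E i M)
  haveI : QuasiIso (mappingCone.descShortComplex (SC E i M)) := this
  haveI := PUnb.quasiIso_mappingCone_map (mappingCone.inr (i.app M)) (q E i M) (𝟙 _)
    (mappingCone.descShortComplex (SC E i M)) (by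
        rw [Category.id_comp]
        exact mappingCone.inr_descShortComplex (SC E i M))
  dsimp only [g]
  infer_instance

lemma g_naturality {M M' : CochainComplex A ℤ} (f : M ⟶ M') :
    g E i M ≫ (N₀ E i).map f = f⟦(1 : ℤ)⟧' ≫ g E i M' := by
  ext n
  rw [N₀_map]
  change (g E i M ≫ mappingCone.map (q E i M) (q E i M') (E.map f) (CMap E i f)
    (q_CMap E i f)).f n = (f⟦(1 : ℤ)⟧' ≫ g E i M').f n
  rw [mappingCone.ext_to_iff _ n (n + 1) rfl]
  constructor
  · rw [HomologicalComplex.comp_f, HomologicalComplex.comp_f, Category.assoc, Category.assoc,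
      g_fst, map_f_fst_v, reassoc_of% g_fst]
    have := congr_fun (congr_arg HomologicalComplex.Hom.f (i.naturality f)) (n + 1)
    dsimp at this
    simp only [shiftFunctorObjXIso, HomologicalComplex.XIsoOfEq_rfl, Iso.refl_hom]
    erw [Category.id_comp, Category.id_comp]
    rw [← this]
    rfl
  · rw [HomologicalComplex.comp_f, HomologicalComplex.comp_f, Category.assoc, Category.assoc,
      g_snd, map_f_snd_v, reassoc_of% g_snd, zero_comp, comp_zero]

lemma g_f_eq (M : CochainComplex A ℤ) (n : ℤ) :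
    (g E i M).f n = ((M.shiftFunctorObjXIso 1 n (n + 1) rfl).hom ≫ (i.app M).f (n + 1)) ≫
      (mappingCone.inl (q E i M)).v (n + 1) n (by lia) := by
  rw [mappingCone.ext_to_iff _ n (n + 1) rfl]
  constructor
  · rw [g_fst, Category.assoc, mappingCone.inl_v_fst_v, Category.comp_id]
  · rw [g_snd, Category.assoc, mappingCone.inl_v_snd_v, comp_zero]

/-- `g` as a natural transformation -/
noncomputable def gNat : CategoryTheory.shiftFunctor (CochainComplex A ℤ) (1 : ℤ) ⟶ N₀ E i where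
  app M := g E i M
  naturality _ _ f := (g_naturality E i f).symm

/-- the functor `N` -/
noncomputable def N : CochainComplex A ℤ ⥤ CochainComplex A ℤ :=
  CategoryTheory.shiftFunctor (CochainComplex A ℤ) (-1 : ℤ) ⋙ N₀ E i

/-- the natural transformation `𝟭 ⟶ N` -/
noncomputable def j : 𝟭 (CochainComplex A ℤ) ⟶ N E i :=
  (shiftFunctorCompIsoId (CochainComplex A ℤ) (-1 : ℤ) 1 (by norm_num)).inv ≫
    Functor.whiskerLeft (CategoryTheory.shiftFunctor (CochainComplex A ℤ) (-1 : ℤ)) (gNat E i)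

lemma j_app (M : CochainComplex A ℤ) :
    (j E i).app M = (shiftFunctorCompIsoId (CochainComplex A ℤ) (-1 : ℤ) 1 (by norm_num)).inv.app M ≫
      g E i (M⟦(-1 : ℤ)⟧) := rfl

lemma mono_g_f [∀ M n, Mono ((i.app M).f n)] (M : CochainComplex A ℤ) (n : ℤ) :
    Mono ((g E i M).f n) := by
  have h := g_fst E i M n
  haveI : Mono ((M.shiftFunctorObjXIso 1 n (n + 1) rfl).hom ≫ (i.app M).f (n + 1)) :=
    mono_comp _ _
  exact mono_of_mono_fac h

lemma mono_app_of_f [∀ M n, Mono ((i.app M).f n)] (M : CochainComplex A ℤ) : Mono (i.app M) :=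
  HomologicalComplex.mono_of_mono_f _ (fun n => inferInstance)

theorem main [hi : ∀ M n, Mono ((i.app M).f n)] (M : CochainComplex A ℤ) :
    (∀ n : ℤ, Mono (((j E i).app M).f n)) ∧ QuasiIso ((j E i).app M) ∧
      ∀ n : ℤ, ∃ (a : M.X n ⟶ (E.obj (M⟦(-1 : ℤ)⟧)).X (n + 1))
        (b : (E.obj (M⟦(-1 : ℤ)⟧)).X (n + 1) ⟶ ((N E i).obj M).X n),
          Mono b ∧ a ≫ b = ((j E i).app M).f n := by
  haveI : ∀ M, Mono (i.app M) := fun M => mono_app_of_f E i M
  refine ⟨fun n => ?_, ?_, fun n => ?_⟩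
  · rw [j_app, HomologicalComplex.comp_f]
    have h1 := mono_g_f E i (M⟦(-1 : ℤ)⟧) n
    have h2 : IsIso (((shiftFunctorCompIsoId (CochainComplex A ℤ) (-1 : ℤ) 1
        (by norm_num)).inv.app M).f n) :=
      (inferInstance : IsIso ((HomologicalComplex.eval _ _ n).map
        ((shiftFunctorCompIsoId (CochainComplex A ℤ) (-1 : ℤ) 1 (by norm_num)).inv.app M)))
    exact @mono_comp _ _ _ _ _ _ (@IsIso.mono_of_iso _ _ _ _ _ h2) _ h1
  · rw [j_app]
    have h1 := quasiIso_g E i (M⟦(-1 : ℤ)⟧)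
    have h2 : QuasiIso ((shiftFunctorCompIsoId (CochainComplex A ℤ) (-1 : ℤ) 1
        (by norm_num)).inv.app M) := inferInstance
    exact @quasiIso_comp _ _ _ _ _ _ _ _ _ _ _ _ _ h2 h1
  · refine ⟨((shiftFunctorCompIsoId (CochainComplex A ℤ) (-1 : ℤ) 1 (by norm_num)).inv.app M).f n ≫
      ((M⟦(-1 : ℤ)⟧).shiftFunctorObjXIso 1 n (n + 1) rfl).hom ≫ (i.app (M⟦(-1 : ℤ)⟧)).f (n + 1),
      (mappingCone.inl (q E i (M⟦(-1 : ℤ)⟧))).v (n + 1) n (by lia), ?_, ?_⟩
    · exact mono_of_mono_fac (mappingCone.inl_v_fst_v (q E i (M⟦(-1 : ℤ)⟧)) (n + 1) n (by lia))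
    · rw [j_app, HomologicalComplex.comp_f, g_f_eq]
      simp only [Category.assoc]
      rfl

end Cone

section Final

variable (J) (ι : 𝟭 A ⟶ J) (hJ : ∀ X, Injective (J.obj X)) [hι : ∀ X, Mono (ι.app X)]

include hJ hι in
theorem exists_functorial_resolution :
    ∃ (N : CochainComplex A ℤ ⥤ CochainComplex A ℤ) (j : 𝟭 _ ⟶ N),
      ∀ M : CochainComplex A ℤ, (∀ n : ℤ, Mono ((j.app M).f n)) ∧ QuasiIso (j.app M) ∧
        ∀ n : ℤ, ∃ (I : A) (_ : Injective I) (a : M.X n ⟶ I) (b : I ⟶ (N.obj M).X n),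
          Mono b ∧ a ≫ b = (j.app M).f n := by
  haveI : ∀ M n, Mono (((i ι).app M).f n) := fun M n => mono_iApp_f ι M n
  refine ⟨N (E J) (i ι), j (E J) (i ι), fun M => ?_⟩
  obtain ⟨h1, h2, h3⟩ := main (E J) (i ι) M
  refine ⟨h1, h2, fun n => ?_⟩
  obtain ⟨a, b, hb, hab⟩ := h3 n
  refine ⟨_, ?_, a, b, hb, hab⟩
  haveI := hJ
  change Injective (J.obj _ ⊞ J.obj _)
  infer_instance

end Final

end Groth.Agent.Lib.Helper17.FunRes
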