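import Mathlib

/-!
# A Galois subfield of degree `p` in a division algebra of dimension `p²` with `vu - uv = 1`
-/

set_option linter.style.haveILetI false
set_option linter.unusedSectionVars false

namespace Groth.Agent.Lib.Helper17.GalSubfield

open Polynomial

universe u v

theorem core (K : Type u) [Field K] (p : ℕ) [Fact p.Prime] [CharP K p]
    (A : Type v) [DivisionRing A] [Algebra K A] [FiniteDimensional K A]
    (hA : Module.finrank K A = p ^ 2) (v u : A) (hvu : v * u - u * v = 1) :
    ∃ (F : Type u) (_ : Field F) (_ : Algebra K F), IsGalois K F ∧ Module.finrank K F = p ∧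
      Nonempty (F →ₐ[K] A) := by
  have hp : p.Prime := Fact.out
  obtain ⟨θ, hθ⟩ : ∃ θ, θ = u * v := ⟨_, rfl⟩
  have hv0 : v ≠ 0 := by
    rintro rfl
    simp at hvu
  have hrel : v * θ = (θ + 1) * v := by
    have h1 : v * u = u * v + 1 := by rw [← hvu]; abel
    rw [hθ, ← mul_assoc, h1]
  have hpow : ∀ n : ℕ, v * θ ^ n = (θ + 1) ^ n * v := by
    intro n
    induction n with
    | zero => simp
    | succ n ih => rw [pow_succ, ← mul_assoc, ih, mul_assoc, hrel, ← mul_assoc, ← pow_succ]
  have hpoly : ∀ q : K[X], v * aeval θ q = aeval (θ + 1) q * v := by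
    intro q
    induction q using Polynomial.induction_on' with
    | add a b ha hb => rw [map_add, map_add, mul_add, add_mul, ha, hb]
    | monomial n c =>
      rw [aeval_monomial, aeval_monomial, ← mul_assoc, ← Algebra.commutes c v, mul_assoc, hpow,
        mul_assoc]
  have hint : IsIntegral K θ := Algebra.IsIntegral.isIntegral θ
  obtain ⟨m, hm⟩ : ∃ m, m = minpoly K θ := ⟨_, rfl⟩
  have hirr : Irreducible m := hm ▸ minpoly.irreducible hint
  have hm0 : m ≠ 0 := hirr.ne_zero
  haveI : Fact (Irreducible m) := ⟨hirr⟩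
  have hmθ : aeval θ m = 0 := hm ▸ minpoly.aeval K θ
  have hmθ1 : aeval (θ + 1) m = 0 := by
    have := hpoly m
    rw [hmθ, mul_zero] at this
    rcases mul_eq_zero.mp this.symm with h | h
    · exact h
    · exact absurd h hv0
  let φ : AdjoinRoot m →ₐ[K] A := Ideal.Quotient.liftₐ (Ideal.span {m}) (aeval θ) (by
    intro a ha
    obtain ⟨c, rfl⟩ := Ideal.mem_span_singleton.mp ha
    rw [map_mul, hmθ, zero_mul])
  have hφmk : ∀ q : K[X], φ (AdjoinRoot.mk m q) = aeval θ q := fun q => rfl
  have hφroot : φ (AdjoinRoot.root m) = θ := by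
    rw [← AdjoinRoot.mk_X, hφmk, aeval_X]
  have hφinj : Function.Injective φ := φ.toRingHom.injective
  haveI : Module.Finite K (AdjoinRoot m) := (AdjoinRoot.powerBasis hm0).finite
  have hroot1 : m.eval₂ (Algebra.ofId K (AdjoinRoot m)) (AdjoinRoot.root m + 1) = 0 := by
    apply hφinj
    rw [map_zero]
    have : m.eval₂ (Algebra.ofId K (AdjoinRoot m)) (AdjoinRoot.root m + 1) =
        aeval (AdjoinRoot.root m + 1) m := rfl
    rw [this, ← aeval_algHom_apply, map_add, map_one, hφroot, hmθ1]
  let σ₀ : AdjoinRoot m →ₐ[K] AdjoinRoot m :=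
    AdjoinRoot.liftAlgHom m (Algebra.ofId K (AdjoinRoot m)) (AdjoinRoot.root m + 1) hroot1
  let σ : AdjoinRoot m ≃ₐ[K] AdjoinRoot m := AlgEquiv.ofBijective σ₀ (AlgHom.bijective σ₀)
  have hσroot : σ (AdjoinRoot.root m) = AdjoinRoot.root m + 1 :=
    AdjoinRoot.liftAlgHom_root m _ _ hroot1
  have hσpow : ∀ k : ℕ, (σ ^ k) (AdjoinRoot.root m) = AdjoinRoot.root m + k := by
    intro k
    induction k with
    | zero => simp
    | succ k ih =>
      rw [pow_succ', AlgEquiv.mul_apply, ih, map_add, hσroot, map_natCast]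
      push_cast
      ring
  haveI : CharP (AdjoinRoot m) p :=
    charP_of_injective_algebraMap (algebraMap K (AdjoinRoot m)).injective p
  have hcard1 : p ≤ Nat.card (AdjoinRoot m ≃ₐ[K] AdjoinRoot m) := by
    have hinj : Function.Injective (fun k : Fin p => σ ^ (k : ℕ)) := by
      intro k l hkl
      have h1 : (σ ^ (k : ℕ)) (AdjoinRoot.root m) = (σ ^ (l : ℕ)) (AdjoinRoot.root m) := by
        have : σ ^ (k : ℕ) = σ ^ (l : ℕ) := hkl
        rw [this]
      rw [hσpow, hσpow, add_right_inj, CharP.natCast_eq_natCast (AdjoinRoot m) p] at h1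
      exact Fin.ext (Nat.ModEq.eq_of_lt_of_lt h1 k.2 l.2)
    have := Nat.card_le_card_of_injective _ hinj
    rwa [Nat.card_fin] at this
  have hcard2 : Nat.card (AdjoinRoot m ≃ₐ[K] AdjoinRoot m) ≤ Module.finrank K (AdjoinRoot m) := by
    rw [Nat.card_eq_fintype_card]
    exact AlgEquiv.card_le
  -- the degree divides `p ^ 2`
  have hdvd : Module.finrank K (AdjoinRoot m) ∣ p ^ 2 := by
    letI : Module (AdjoinRoot m) A := Module.compHom A φ.toRingHom
    haveI : IsScalarTower K (AdjoinRoot m) A := ⟨fun k f a => by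
      show φ (k • f) * a = k • (φ f * a)
      rw [map_smul, smul_mul_assoc]⟩
    rw [← hA, ← Module.finrank_mul_finrank K (AdjoinRoot m) A]
    exact dvd_mul_right _ _
  obtain ⟨j, hj, hd⟩ := (Nat.dvd_prime_pow hp).mp hdvd
  have hfin : Module.finrank K (AdjoinRoot m) = p := by
    have hp2 := hp.two_le
    interval_cases j
    · rw [pow_zero] at hd
      omega
    · rw [hd, pow_one]
    · exfalso
      have hsurj : Function.Surjective φ.toLinearMap :=
        (LinearMap.injective_iff_surjective_of_finrank_eq_finrank (hd.trans hA.symm)).mp hφinj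
      obtain ⟨a, ha⟩ := hsurj u
      obtain ⟨b, hb⟩ := hsurj v
      have : v * u - u * v = 0 := by
        rw [← ha, ← hb]
        show φ b * φ a - φ a * φ b = 0
        rw [← map_mul, ← map_mul, mul_comm, sub_self]
      rw [this] at hvu
      exact zero_ne_one hvu
  refine ⟨AdjoinRoot m, inferInstance, inferInstance, ?_, hfin, ⟨φ⟩⟩
  exact IsGalois.of_card_aut_eq_finrank K (AdjoinRoot m) (le_antisymm (hfin ▸ hcard2) (hfin ▸ hcard1))

theorem main (K : Type u) [Field K] (p : ℕ) [Fact p.Prime] [CharP K p]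
    (A : Type v) [DivisionRing A] [Algebra K A] [FiniteDimensional K A]
    (hA : Module.finrank K A = p ^ 2) (v u : A) (hvu : v * u - u * v = 1) :
    ∃ (L : Type v) (_ : Field L) (_ : Algebra K L), IsGalois K L ∧ Module.finrank K L = p ∧
      Nonempty (L →ₐ[K] A) := by
  obtain ⟨F, _, _, hgal, hfin, ⟨φ⟩⟩ := core K p A hA v u hvu
  have hφinj : Function.Injective φ := φ.toRingHom.injective
  let e : ↥(Set.range φ) ≃ F := (Equiv.ofInjective φ hφinj).symm
  letI : Field ↥(Set.range φ) := e.field
  letI : Algebra K ↥(Set.range φ) := e.algebra K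
  let ε : ↥(Set.range φ) ≃ₐ[K] F := e.algEquiv K
  refine ⟨↥(Set.range φ), inferInstance, inferInstance, ?_, ?_, ⟨φ.comp ε.toAlgHom⟩⟩
  · exact IsGalois.of_algEquiv ε.symm
  · rw [← hfin]
    exact ε.toLinearEquiv.finrank_eq

end Groth.Agent.Lib.Helper17.GalSubfield
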