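import Mathlib
import Groth.Prelude.Def_CxOX
import Groth.Prelude.Def_DCoh2
import Groth.Agent.Lib.Helper17.Baer3

open CategoryTheory CategoryTheory.Limits TopologicalSpace Opposite AlgebraicGeometry

universe u

namespace Groth.Agent.Lib.Helper17.GammaZInj

open Groth.Agent.Lib.Helper29.QCoh Groth.Agent.Lib.Helper17.NoethObj
  Groth.Agent.Lib.Helper17.BaerMod

variable {U X : Scheme.{u}} (j : U ⟶ X) [IsOpenImmersion j]

/-- a morphism which becomes an isomorphism on `U` is surjective on stalks at points of `U` -/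
theorem stalkMap_surjective_of_isIso_restrict {K K' : X.Modules} (f : K ⟶ K')
    (hf : IsIso ((Scheme.Modules.restrictFunctor j).map f)) (u : U) :
    Function.Surjective (stalkMap f (j.base u)) := by
  intro t
  obtain ⟨V, hxV, σ, rfl⟩ := K'.presheaf.exists_germ_eq t
  let V' : U.Opens := j ⁻¹ᵁ V
  have hle : j ''ᵁ V' ≤ V := j.image_preimage_le V
  have hxV' : j.base u ∈ j ''ᵁ V' := ⟨u, hxV, rfl⟩
  have hb : Function.Bijective (((Scheme.Modules.restrictFunctor j).map f).app V') :=
    (ZClosLib.isIso_iff_bijective_app _).1 hf V'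
  obtain ⟨τ, hτ⟩ := hb.2 (res K' hle σ)
  refine ⟨K.presheaf.germ (j ''ᵁ V') (j.base u) hxV' τ, ?_⟩
  rw [stalkMap_germ]
  have : f.app (j ''ᵁ V') τ = res K' hle σ := hτ
  rw [this, germ_res]

/-- the counit of `j_! ⊣ j^*` -/
noncomputable abbrev eps (G : X.Modules) :
    (CxOX.extZero j).obj ((Scheme.Modules.restrictFunctor j).obj G) ⟶ G :=
  (CxOX.extZeroAdj j).counit.app G

/-- `G_Z = coker (j_! j^* G ⟶ G)` -/
noncomputable abbrev quotZ (G : X.Modules) : X.Modules := cokernel (eps j G)

noncomputable abbrev piZ (G : X.Modules) : G ⟶ quotZ j G := cokernel.π (eps j G)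

noncomputable def mapZ {A B : X.Modules} (m : A ⟶ B) : quotZ j A ⟶ quotZ j B :=
  cokernel.map (eps j A) (eps j B)
    ((CxOX.extZero j).map ((Scheme.Modules.restrictFunctor j).map m)) m
    ((CxOX.extZeroAdj j).counit_naturality m).symm

lemma piZ_mapZ {A B : X.Modules} (m : A ⟶ B) : piZ j A ≫ mapZ j m = m ≫ piZ j B := by
  unfold mapZ
  simp

lemma exact_piZ (G : X.Modules) :
    (ShortComplex.mk (eps j G) (piZ j G) (cokernel.condition _)).Exact :=
  ShortComplex.exact_of_g_is_cokernel _ (cokernelIsCokernel _)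

theorem mono_mapZ {A B : X.Modules} (m : A ⟶ B) [Mono m] : Mono (mapZ j m) := by
  rw [mono_iff_stalkMap_injective]
  intro x
  by_cases hx : x ∈ Set.range j.base
  · obtain ⟨u, rfl⟩ := hx
    -- the stalk of `A_Z` at points of `U` vanishes
    have hs : Function.Surjective (stalkMap (eps j A) (j.base u)) :=
      stalkMap_surjective_of_isIso_restrict j _ (isIso_restrict_counit j A) u
    have hπ : Function.Surjective (stalkMap (piZ j A) (j.base u)) :=
      (epi_iff_stalkMap_surjective (piZ j A)).1 inferInstance _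
    have hsub : ∀ t : (quotZ j A).presheaf.stalk (j.base u), t = 0 := by
      intro t
      obtain ⟨a, rfl⟩ := hπ t
      obtain ⟨b, rfl⟩ := hs a
      rw [← stalkMap_comp_apply, cokernel.condition]
      rw [show stalkMap (0 : _ ⟶ quotZ j A) (j.base u) = 0 from (stalkFunctor X _).map_zero _ _]
      rfl
    intro s t _
    rw [hsub s, hsub t]
  · -- outside `U`, `A_x ≅ (A_Z)_x`
    have hsub := subsingleton_stalk_extZero j ((Scheme.Modules.restrictFunctor j).obj A) x hx
    have hπs : Function.Surjective (stalkMap (piZ j A) x) :=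
      (epi_iff_stalkMap_surjective (piZ j A)).1 inferInstance _
    have hex := (exact_iff_stalk_function_exact _).1 (exact_piZ j A) x
    have hπi : Function.Injective (stalkMap (piZ j A) x) := by
      rw [injective_iff_map_eq_zero]
      intro a ha
      obtain ⟨b, rfl⟩ := (hex a).1 ha
      rw [Subsingleton.elim b 0, map_zero]
    have hm : Function.Injective (stalkMap m x) := (mono_iff_stalkMap_injective m).1 inferInstance x
    intro s t hst
    obtain ⟨a, rfl⟩ := hπs s
    obtain ⟨b, rfl⟩ := hπs t
    rw [← stalkMap_comp_apply, ← stalkMap_comp_apply, piZ_mapZ, stalkMap_comp_apply,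
      stalkMap_comp_apply] at hst
    have hπB : Function.Injective (stalkMap (piZ j B) x) := by
      have hsubB := subsingleton_stalk_extZero j ((Scheme.Modules.restrictFunctor j).obj B) x hx
      have hexB := (exact_iff_stalk_function_exact _).1 (exact_piZ j B) x
      rw [injective_iff_map_eq_zero]
      intro a ha
      obtain ⟨b, rfl⟩ := (hexB a).1 ha
      rw [Subsingleton.elim b 0, map_zero]
    rw [hm (hπB hst)]

lemma restrict_eq_zero_of_comp_unit {G I : X.Modules} (h : G ⟶ I)
    (hh : h ≫ (Scheme.Modules.restrictAdjunction j).unit.app I = 0) :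
    (Scheme.Modules.restrictFunctor j).map h = 0 := by
  apply ((Scheme.Modules.restrictAdjunction j).homEquiv _ _).injective
  rw [Adjunction.homEquiv_unit, Adjunction.homEquiv_unit, Functor.map_zero, comp_zero]
  have := (Scheme.Modules.restrictAdjunction j).unit_naturality h
  rw [this, hh]

lemma comp_unit_eq_zero {G I : X.Modules} (h : G ⟶ I)
    (hh : (Scheme.Modules.restrictFunctor j).map h = 0) :
    h ≫ (Scheme.Modules.restrictAdjunction j).unit.app I = 0 := by
  have := (Scheme.Modules.restrictAdjunction j).unit_naturality h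
  rw [← this, hh, Functor.map_zero, comp_zero]

lemma eps_comp_eq_zero {G I : X.Modules} (h : G ⟶ I)
    (hh : (Scheme.Modules.restrictFunctor j).map h = 0) : eps j G ≫ h = 0 := by
  have := (CxOX.extZeroAdj j).counit_naturality h
  rw [← this, hh, Functor.map_zero, zero_comp]

lemma restrict_eq_zero_of_eps {G I : X.Modules} (h : G ⟶ I) (hh : eps j G ≫ h = 0) :
    (Scheme.Modules.restrictFunctor j).map h = 0 := by
  haveI := isIso_restrict_counit j G
  rw [← cancel_epi ((Scheme.Modules.restrictFunctor j).map (eps j G)), ← Functor.map_comp, hh,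
    Functor.map_zero, comp_zero]

/-- `Γ_Z` preserves injective modules -/
theorem injective_gammaZ (I : X.Modules) [Injective I] : Injective ((DCoh.gammaZ j).obj I) := by
  show Injective (kernel ((Scheme.Modules.restrictAdjunction j).unit.app I))
  constructor
  intro A B g m _
  let κ : kernel ((Scheme.Modules.restrictAdjunction j).unit.app I) ⟶ I :=
    kernel.ι ((Scheme.Modules.restrictAdjunction j).unit.app I)
  have hκ : κ ≫ (Scheme.Modules.restrictAdjunction j).unit.app I = 0 := kernel.condition _
  have h0 : eps j A ≫ (g ≫ κ) = 0 := by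
    apply eps_comp_eq_zero
    apply restrict_eq_zero_of_comp_unit
    rw [Category.assoc, hκ, comp_zero]
  let g1 : quotZ j A ⟶ I := cokernel.desc (eps j A) (g ≫ κ) h0
  have hg1 : piZ j A ≫ g1 = g ≫ κ := cokernel.π_desc _ _ _
  haveI := mono_mapZ j m
  let h1 : quotZ j B ⟶ I := Injective.factorThru g1 (mapZ j m)
  have hh1 : mapZ j m ≫ h1 = g1 := Injective.comp_factorThru _ _
  have h2 : (piZ j B ≫ h1) ≫ (Scheme.Modules.restrictAdjunction j).unit.app I = 0 := by
    apply comp_unit_eq_zero
    apply restrict_eq_zero_of_eps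
    rw [← Category.assoc, cokernel.condition, zero_comp]
  refine ⟨kernel.lift _ (piZ j B ≫ h1) h2, ?_⟩
  rw [← cancel_mono κ, Category.assoc, kernel.lift_ι, ← Category.assoc, ← piZ_mapZ,
    Category.assoc, hh1, hg1]

end Groth.Agent.Lib.Helper17.GammaZInj
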