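import Mathlib.RingTheory.Smooth.Locus
import Mathlib.RingTheory.Smooth.Field
import Mathlib.RingTheory.Localization.AsSubring
import Mathlib.RingTheory.FinitePresentation

/-!
# Generic smoothness for function fields (helper17)

If `K` is a field, formally smooth over a Noetherian ring `R`, and `K` is the fraction field
of a finite type `R`-subalgebra `A₀`, then `K` is the fraction field of a smooth finite type
`R`-subalgebra.
-/

set_option autoImplicit false
universe u v

namespace Groth.Agent.Lib.Helper17.GenericSmooth

open Algebra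

theorem exists_smooth_subalgebra (R : Type u) [CommRing R] [IsNoetherianRing R]
    (K : Type v) [Field K] [Algebra R K]
    [Algebra.FormallySmooth R K] (A₀ : Subalgebra R K) [Algebra.FiniteType R A₀]
    [IsFractionRing A₀ K] :
    ∃ A : Subalgebra R K, Algebra.FiniteType R A ∧ Algebra.Smooth R A ∧ IsFractionRing A K := by
  have hfp : Algebra.FinitePresentation R A₀ := Algebra.FinitePresentation.of_finiteType.mp inferInstance
  have hbot : (⊥ : Ideal A₀).IsPrime := Ideal.isPrime_bot
  have hfr : IsFractionRing A₀ (Localization.AtPrime (⊥ : Ideal A₀)) := by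
    simpa [Ideal.primeCompl_bot] using Localization.isLocalization (M := (⊥ : Ideal A₀).primeCompl)
  let e₀ : K ≃ₐ[A₀] Localization.AtPrime (⊥ : Ideal A₀) :=
    IsLocalization.algEquiv (nonZeroDivisors A₀) K (Localization.AtPrime (⊥ : Ideal A₀))
  have hsm : Algebra.IsSmoothAt R (⊥ : Ideal A₀) :=
    Algebra.FormallySmooth.of_equiv (e₀.restrictScalars R)
  obtain ⟨f, hf, hsmf⟩ := Algebra.IsSmoothAt.exists_notMem_smooth R (⊥ : Ideal A₀)
  have hf0 : f ≠ 0 := fun h => hf (by rw [h]; exact Ideal.zero_mem _)
  have hS : Submonoid.powers f ≤ nonZeroDivisors A₀ :=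
    powers_le_nonZeroDivisors_of_noZeroDivisors hf0
  let g : Localization.Away f →ₐ[A₀] K :=
    Localization.mapToFractionRing K (Submonoid.powers f) (Localization.Away f) hS
  have hginj : Function.Injective g := by
    intro a b h
    refine (IsLocalization.lift_injective_iff _).2 (fun a b => ?_) h
    exact ⟨fun h => congr_arg _ (IsLocalization.injective _ hS h),
      fun h => congr_arg _ (IsFractionRing.injective A₀ K h)⟩
  let gR : Localization.Away f →ₐ[R] K := g.restrictScalars R
  have hgRinj : Function.Injective gR := hginj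
  let e : Localization.Away f ≃ₐ[R] gR.range := AlgEquiv.ofInjective gR hgRinj
  have hsmA : Algebra.Smooth R gR.range := Algebra.Smooth.of_equiv e
  refine ⟨gR.range, ?_, hsmA, ?_⟩
  · have := hsmA.finitePresentation
    exact Algebra.FiniteType.of_finitePresentation
  · refine IsFractionRing.of_field gR.range K fun z => ?_
    obtain ⟨x, y, _, hxy⟩ := IsFractionRing.div_surjective A₀ z
    have hx : algebraMap A₀ K x ∈ gR.range := ⟨algebraMap A₀ _ x, g.commutes x⟩
    have hy : algebraMap A₀ K y ∈ gR.range := ⟨algebraMap A₀ _ y, g.commutes y⟩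
    exact ⟨⟨_, hx⟩, ⟨_, hy⟩, hxy.symm⟩

/-- A finite set of field generators: `K` is the fraction field of the `R`-subalgebra they
generate, provided the prime-field-like hypothesis that the subring closure lies in the
adjoin. -/
theorem isFractionRing_adjoin_of_closure_eq_top (R : Type u) [CommRing R]
    (K : Type v) [Field K] [Algebra R K] (s : Set K)
    (hs : Subfield.closure s = ⊤) :
    IsFractionRing (Algebra.adjoin R s) K := by
  refine IsFractionRing.of_field (Algebra.adjoin R s) K fun z => ?_
  have hz : z ∈ Subfield.closure s := by rw [hs]; trivial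
  rw [Subfield.mem_closure_iff] at hz
  obtain ⟨y, hy, w, hw, rfl⟩ := hz
  have hle : Subring.closure s ≤ (Algebra.adjoin R s).toSubring :=
    Subring.closure_le.2 Algebra.subset_adjoin
  exact ⟨⟨y, hle hy⟩, ⟨w, hle hw⟩, rfl⟩

end Groth.Agent.Lib.Helper17.GenericSmooth
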