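import Mathlib

/-!
# Gluing modules along a (possibly non-covering) family of principal opens
-/

set_option autoImplicit false
set_option linter.unusedSectionVars false
universe u

namespace Groth.Agent.Lib.Helper17.GlueLoc

section ker
variable {R : Type u} [CommRing R] {M M' T : Type u} [AddCommGroup M] [Module R M]
  [AddCommGroup M'] [Module R M'] [AddCommGroup T] [Module R T]

theorem exists_pow_smul_eq_zero (f : R) (g : M →ₗ[R] M') [IsLocalizedModule (Submonoid.powers f) g]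
    (x : M) (hx : g x = 0) : ∃ n : ℕ, f ^ n • x = 0 := by
  obtain ⟨⟨c, n, rfl⟩, hc⟩ := (IsLocalizedModule.eq_zero_iff (Submonoid.powers f) g).1 hx
  exact ⟨n, hc⟩

theorem smul_pow_injective (f : R) (g : M →ₗ[R] M') [IsLocalizedModule (Submonoid.powers f) g]
    (n : ℕ) (z : M') (hz : f ^ n • z = 0) : z = 0 := by
  have hu := IsLocalizedModule.map_units g (⟨f ^ n, n, rfl⟩ : Submonoid.powers f)
  have hinj := ((Module.End.isUnit_iff _).1 hu).1
  apply hinj
  rw [map_zero]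
  exact hz

/-- Kernel of the induced map between localizations. -/
theorem exists_pow_smul_eq_zero_of_comp (f h c : R) (hc : c = h * f)
    (g : M →ₗ[R] M') [IsLocalizedModule (Submonoid.powers f) g]
    (t : M →ₗ[R] T) [IsLocalizedModule (Submonoid.powers c) t]
    (w : M' →ₗ[R] T) (hw : w ∘ₗ g = t) (z : M') (hz : w z = 0) : ∃ n : ℕ, h ^ n • z = 0 := by
  obtain ⟨⟨x, ⟨s, a, rfl⟩⟩, hx⟩ := IsLocalizedModule.surj (Submonoid.powers f) g z
  change f ^ a • z = g x at hx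
  have h1 : t x = 0 := by
    rw [← hw, LinearMap.comp_apply, ← hx, map_smul, hz, smul_zero]
  obtain ⟨b, hb⟩ := exists_pow_smul_eq_zero c t x h1
  refine ⟨b, ?_⟩
  apply smul_pow_injective f g (b + a)
  have h2 : g (c ^ b • x) = 0 := by rw [hb, map_zero]
  rw [map_smul, ← hx, hc, mul_pow] at h2
  rw [pow_add, mul_smul, ← h2, mul_smul]
  rw [smul_comm (f ^ a) (h ^ b) z, smul_comm (f ^ b) (h ^ b)]

end ker

section main
variable {R : Type u} [CommRing R] {ι : Type u} [Finite ι] (f : ι → R)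
    (Mi : ι → Type u) [∀ i, AddCommGroup (Mi i)] [∀ i, Module R (Mi i)]
    (hMi : ∀ i, IsUnit (algebraMap R (Module.End R (Mi i)) (f i)))
    (Mij : ι → ι → Type u) [∀ i j, AddCommGroup (Mij i j)] [∀ i j, Module R (Mij i j)]
    (g : ∀ i j, Mi i →ₗ[R] Mij i j) [∀ i j, IsLocalizedModule (Submonoid.powers (f j)) (g i j)]
    (ψ : ∀ i j, Mij i j ≃ₗ[R] Mij j i)
    (T : ι → ι → ι → Type u) [∀ i j k, AddCommGroup (T i j k)] [∀ i j k, Module R (T i j k)]
    (t : ∀ i j k, Mi i →ₗ[R] T i j k) [∀ i j k, IsLocalizedModule (Submonoid.powers (f j * f k)) (t i j k)]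
    (u : ∀ i j k, Mij i j →ₗ[R] T i j k) (hu : ∀ i j k, u i j k ∘ₗ g i j = t i j k)
    (v : ∀ i j k, Mij i k →ₗ[R] T i j k) (hv : ∀ i j k, v i j k ∘ₗ g i k = t i j k)
    (Ψ₁ : ∀ i j k, T i j k →ₗ[R] T j i k) (hΨ₁ : ∀ i j k, Ψ₁ i j k ∘ₗ u i j k = u j i k ∘ₗ (ψ i j).toLinearMap)
    (Ψ₂ : ∀ i j k, T j i k →ₗ[R] T k i j) (hΨ₂ : ∀ i j k, Ψ₂ i j k ∘ₗ v j i k = v k i j ∘ₗ (ψ j k).toLinearMap)
    (Ψ₃ : ∀ i j k, T i j k →ₗ[R] T k i j) (hΨ₃ : ∀ i j k, Ψ₃ i j k ∘ₗ v i j k = u k i j ∘ₗ (ψ i k).toLinearMap)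
    (hcoc : ∀ i j k, Ψ₂ i j k ∘ₗ Ψ₁ i j k = Ψ₃ i j k)

include f hMi in
/-- `g i i` is injective. -/
theorem g_self_injective (i : ι) : Function.Injective (g i i) := by
  rw [injective_iff_map_eq_zero]
  intro x hx
  obtain ⟨n, hn⟩ := exists_pow_smul_eq_zero (f i) (g i i) x hx
  have hinj := ((Module.End.isUnit_iff _).1 ((hMi i).pow n)).1
  apply hinj
  rw [map_zero, ← map_pow]
  exact hn

include f hu hv hΨ₁ hΨ₂ hΨ₃ hcoc in
/-- The cocycle condition forces `ψ i i = id`. -/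
theorem psi_self (i : ι) (z : Mij i i) : ψ i i z = z := by
  -- u = v on (i,i,i)
  have huv : ∀ z : Mij i i, u i i i z = v i i i z := by
    intro z
    obtain ⟨⟨x, ⟨s, a, rfl⟩⟩, hx⟩ := IsLocalizedModule.surj (Submonoid.powers (f i)) (g i i) z
    change f i ^ a • z = g i i x at hx
    have h1 : f i ^ a • (u i i i z - v i i i z) = 0 := by
      rw [smul_sub, ← map_smul, ← map_smul, hx, ← LinearMap.comp_apply, ← LinearMap.comp_apply,
        hu, hv, sub_self]
    have h2 : (f i * f i) ^ a • (u i i i z - v i i i z) = 0 := by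
      rw [mul_pow, mul_smul, h1, smul_zero]
    exact sub_eq_zero.1 (smul_pow_injective (f i * f i) (t i i i) a _ h2)
  -- u injective
  have hinj : ∀ z : Mij i i, u i i i z = 0 → z = 0 := by
    intro z hz
    obtain ⟨n, hn⟩ := exists_pow_smul_eq_zero_of_comp (f i) (f i) (f i * f i) rfl (g i i)
      (t i i i) (u i i i) (hu i i i) z hz
    exact smul_pow_injective (f i) (g i i) n z hn
  have h1 : ∀ z, Ψ₁ i i i (u i i i z) = u i i i (ψ i i z) := fun z =>
    LinearMap.congr_fun (hΨ₁ i i i) z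
  have h2 : ∀ z, Ψ₂ i i i (u i i i z) = u i i i (ψ i i z) := fun z => by
    rw [huv z, huv (ψ i i z)]
    exact LinearMap.congr_fun (hΨ₂ i i i) z
  have h3 : ∀ z, Ψ₃ i i i (u i i i z) = u i i i (ψ i i z) := fun z => by
    rw [huv z]
    exact LinearMap.congr_fun (hΨ₃ i i i) z
  have h4 : u i i i (ψ i i (ψ i i z)) = u i i i (ψ i i z) := by
    calc u i i i (ψ i i (ψ i i z)) = Ψ₂ i i i (u i i i (ψ i i z)) := (h2 _).symm
      _ = Ψ₂ i i i (Ψ₁ i i i (u i i i z)) := by rw [h1 z]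
      _ = Ψ₃ i i i (u i i i z) := LinearMap.congr_fun (hcoc i i i) _
      _ = u i i i (ψ i i z) := h3 z
  have h5 : ψ i i (ψ i i z) = ψ i i z := by
    have := hinj (ψ i i (ψ i i z) - ψ i i z) (by rw [map_sub, h4, sub_self])
    exact sub_eq_zero.1 this
  exact (ψ i i).injective h5

include f hMi hu hv hΨ₁ hΨ₂ hΨ₃ hcoc in
theorem isLocalizedModule_proj (M : Submodule R (∀ i, Mi i))
    (hM : ∀ m : ∀ i, Mi i, m ∈ M ↔ ∀ i j, g i j (m i) = ψ j i (g j i (m j))) (i : ι) :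
    IsLocalizedModule (Submonoid.powers (f i))
      ((LinearMap.proj i).comp M.subtype : ↥M →ₗ[R] Mi i) := by
  classical
  have : Fintype ι := Fintype.ofFinite ι
  refine ⟨?_, ?_, ?_⟩
  · -- map_units
    rintro ⟨_, n, rfl⟩
    rw [map_pow]
    exact (hMi i).pow n
  · -- surj
    intro y
    have h1 : ∀ j, ∃ (x : Mi j) (n : ℕ), f i ^ n • ψ i j (g i j y) = g j i x := by
      intro j
      obtain ⟨⟨x, ⟨s, n, rfl⟩⟩, hx⟩ :=
        IsLocalizedModule.surj (Submonoid.powers (f i)) (g j i) (ψ i j (g i j y))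
      exact ⟨x, n, hx⟩
    choose x₀ n₀ hx₀ using h1
    let N := Finset.univ.sup n₀
    let m₂ : ∀ j, Mi j := fun j => f i ^ (N - n₀ j) • x₀ j
    have hm₂ : ∀ j, g j i (m₂ j) = f i ^ N • ψ i j (g i j y) := by
      intro j
      simp only [m₂, map_smul, ← hx₀ j, smul_smul, ← pow_add]
      rw [Nat.sub_add_cancel (Finset.le_sup (Finset.mem_univ j))]
    have h2 : ∀ j k, v k i j (ψ j k (g j k (m₂ j))) = v k i j (g k j (m₂ k)) := by
      intro j k
      have hR : v k i j (g k j (m₂ k)) = f i ^ N • Ψ₃ i j k (t i j k y) := by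
        rw [← LinearMap.comp_apply, hv, ← hu, LinearMap.comp_apply, hm₂, map_smul]
        congr 1
        rw [← hv i j k, LinearMap.comp_apply]
        exact (LinearMap.congr_fun (hΨ₃ i j k) (g i k y)).symm
      have hL : v k i j (ψ j k (g j k (m₂ j))) = f i ^ N • Ψ₃ i j k (t i j k y) := by
        have e1 : v k i j (ψ j k (g j k (m₂ j))) = Ψ₂ i j k (v j i k (g j k (m₂ j))) :=
          (LinearMap.congr_fun (hΨ₂ i j k) _).symm
        rw [e1, ← LinearMap.comp_apply (v j i k), hv, ← hu, LinearMap.comp_apply, hm₂, map_smul,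
          map_smul]
        congr 1
        have e2 : u j i k (ψ i j (g i j y)) = Ψ₁ i j k (u i j k (g i j y)) :=
          (LinearMap.congr_fun (hΨ₁ i j k) _).symm
        rw [e2, ← LinearMap.comp_apply (u i j k), hu]
        exact LinearMap.congr_fun (hcoc i j k) _
      rw [hL, hR]
    have h3 : ∀ j k, ∃ n : ℕ, f i ^ n • (ψ j k (g j k (m₂ j)) - g k j (m₂ k)) = 0 := by
      intro j k
      apply exists_pow_smul_eq_zero_of_comp (f j) (f i) (f i * f j) rfl (g k j) (t k i j)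
        (v k i j) (hv k i j)
      rw [map_sub, h2, sub_self]
    choose n₁ hn₁ using h3
    let N' := Finset.univ.sup (fun jk : ι × ι => n₁ jk.1 jk.2)
    let m : ∀ j, Mi j := fun j => f i ^ N' • m₂ j
    have hmM : m ∈ M := by
      rw [hM]
      intro k j
      have hle : n₁ j k ≤ N' :=
        Finset.le_sup (f := fun jk : ι × ι => n₁ jk.1 jk.2) (Finset.mem_univ (j, k))
      simp only [m, map_smul]
      have h4 : f i ^ N' • (ψ j k (g j k (m₂ j)) - g k j (m₂ k)) = 0 := by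
        rw [← Nat.sub_add_cancel hle, pow_add, mul_smul, hn₁ j k, smul_zero]
      rw [smul_sub, sub_eq_zero] at h4
      exact h4.symm
    refine ⟨(⟨m, hmM⟩, ⟨f i ^ (N' + N), N' + N, rfl⟩), ?_⟩
    change f i ^ (N' + N) • y = m i
    have h5 : m₂ i = f i ^ N • y := by
      apply g_self_injective f Mi hMi Mij g i
      rw [hm₂ i, psi_self f Mi Mij g ψ T t u hu v hv Ψ₁ hΨ₁ Ψ₂ hΨ₂ Ψ₃ hΨ₃ hcoc i, map_smul]
    simp only [m, h5, smul_smul, ← pow_add]
  · -- exists_of_eq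
    intro m₁ m₂ h
    have hd : (m₁ - m₂ : ↥M).1 ∈ M := (m₁ - m₂).2
    have hdi : (m₁ - m₂ : ↥M).1 i = 0 := by
      change m₁.1 i - m₂.1 i = 0
      exact sub_eq_zero.2 h
    have h1 : ∀ j, ∃ n : ℕ, f i ^ n • (m₁ - m₂ : ↥M).1 j = 0 := by
      intro j
      apply exists_pow_smul_eq_zero (f i) (g j i)
      rw [((hM _).1 hd) j i, hdi, map_zero, map_zero]
    choose n hn using h1
    refine ⟨⟨f i ^ Finset.univ.sup n, _, rfl⟩, ?_⟩
    change f i ^ Finset.univ.sup n • m₁ = f i ^ Finset.univ.sup n • m₂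
    have hz : f i ^ Finset.univ.sup n • (m₁ - m₂) = 0 := by
      apply Subtype.ext
      funext j
      change f i ^ Finset.univ.sup n • (m₁ - m₂ : ↥M).1 j = 0
      rw [← Nat.sub_add_cancel (Finset.le_sup (f := n) (Finset.mem_univ j)), pow_add, mul_smul,
        hn j, smul_zero]
    rw [smul_sub, sub_eq_zero] at hz
    exact hz

end main

end Groth.Agent.Lib.Helper17.GlueLoc
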