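import Groth.Agent.Lib.Helper17.OpenEquiv
import Groth.Agent.Lib.Helper28.DCohRes4

/-!
# Glueing objects of the derived category along two opens
-/

set_option autoImplicit false
universe u

open CategoryTheory Limits Opposite AlgebraicGeometry TopologicalSpace CochainComplex

attribute [local instance] HasDerivedCategory.standard

namespace Groth.Agent.Lib.Helper17.GlueTwo

open Pretriangulated

section Tri

variable {C : Type*} [Category C] [Preadditive C] [HasZeroObject C] [HasShift C ℤ]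
  [∀ n : ℤ, (CategoryTheory.shiftFunctor C n).Additive] [Pretriangulated C]

/-- in a distinguished triangle `F ⟶ P ⟶ R` with `P = A ⊕ Q` and `Q ⟶ R` an isomorphism, the map
`F ⟶ A` is an isomorphism. -/
lemma isIso_of_split {F P R A Q : C} (f : F ⟶ P) (g : P ⟶ R) (h : R ⟶ F⟦(1 : ℤ)⟧)
    (hT : Triangle.mk f g h ∈ distTriang C) (i : Q ⟶ P) (π : P ⟶ A) (s : A ⟶ P) (r : P ⟶ Q)
    (h1 : s ≫ π = 𝟙 A) (h2 : i ≫ π = 0) (h3 : π ≫ s + r ≫ i = 𝟙 P) (hig : IsIso (i ≫ g)) :
    IsIso (f ≫ π) := by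
  haveI := hig
  have hσ1 : inv (i ≫ g) ≫ i ≫ g = 𝟙 R := IsIso.inv_hom_id _
  have hσ2 : i ≫ g ≫ inv (i ≫ g) = 𝟙 Q := by
    rw [← Category.assoc]; exact IsIso.hom_inv_id _
  have hfg : f ≫ g = 0 := comp_distTriang_mor_zero₁₂ _ hT
  -- `g` is a split epimorphism
  haveI : Epi g := by
    have : (inv (i ≫ g) ≫ i) ≫ g = 𝟙 R := by rw [Category.assoc]; exact hσ1
    exact (IsSplitEpi.mk' ⟨inv (i ≫ g) ≫ i, this⟩).epi
  have hh : h = 0 := (Triangle.mk f g h).mor₃_eq_zero_of_epi₂ hT ‹_›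
  haveI : Mono f := (Triangle.mk f g h).mono₁ hT hh
  -- the inverse
  have hx : (s - s ≫ g ≫ inv (i ≫ g) ≫ i) ≫ g = 0 := by
    rw [Preadditive.sub_comp, Category.assoc, Category.assoc, Category.assoc, hσ1, Category.comp_id,
      sub_self]
  obtain ⟨y, hy⟩ : ∃ y : A ⟶ F, s - s ≫ g ≫ inv (i ≫ g) ≫ i = y ≫ f :=
    (Triangle.mk f g h).coyoneda_exact₂ hT _ hx
  refine ⟨y, ?_, ?_⟩
  · rw [← cancel_mono f, Category.assoc, Category.assoc, ← hy, Category.id_comp]
    have e1 : π ≫ s = 𝟙 P - r ≫ i := by rw [← h3]; abel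
    have e2 : f ≫ π ≫ s = f - f ≫ r ≫ i := by
      rw [e1, Preadditive.comp_sub, Category.comp_id]
    have e3 : f ≫ π ≫ s ≫ g ≫ inv (i ≫ g) ≫ i = - (f ≫ r ≫ i) := by
      have : f ≫ π ≫ s ≫ g ≫ inv (i ≫ g) ≫ i = (f ≫ π ≫ s) ≫ g ≫ inv (i ≫ g) ≫ i := by
        simp only [Category.assoc]
      rw [this, e2, Preadditive.sub_comp, reassoc_of% hfg, zero_comp, zero_sub, Category.assoc,
        Category.assoc, reassoc_of% hσ2]
    rw [Preadditive.comp_sub, Preadditive.comp_sub, e2, e3]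
    abel
  · rw [← Category.assoc, ← hy, Preadditive.sub_comp, h1, Category.assoc, Category.assoc,
      Category.assoc, h2, comp_zero, comp_zero, comp_zero, sub_zero]

end Tri


open Groth.Agent.Lib.Helper17.OpenAdj Groth.Agent.Lib.Helper17.LpullAdj
open Groth.Agent.Lib.Helper28.DCohRes

section Range

variable {P P' Y : Scheme.{u}}

lemma isIso_restrictD_congr {j j' : P ⟶ Y} (h : j = j') [IsOpenImmersion j] [IsOpenImmersion j']
    {M N : DCoh.D Y} (φ : M ⟶ N) (hφ : IsIso ((DCoh.restrictD j).map φ)) :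
    IsIso ((DCoh.restrictD j').map φ) := by
  subst h
  exact hφ

lemma isIso_restrictD_comp (a : P' ⟶ P) (j : P ⟶ Y) [IsOpenImmersion a] [IsOpenImmersion j]
    {M N : DCoh.D Y} (φ : M ⟶ N) (hφ : IsIso ((DCoh.restrictD j).map φ)) :
    IsIso ((DCoh.restrictD (a ≫ j)).map φ) := by
  rw [NatIso.isIso_map_iff (resDComp a j) φ]
  haveI := hφ
  show IsIso ((DCoh.restrictD a).map ((DCoh.restrictD j).map φ))
  infer_instance

lemma isOpenImmersion_lift (j : P ⟶ Y) (j' : P' ⟶ Y) [IsOpenImmersion j] [IsOpenImmersion j']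
    (h : Set.range j'.base ⊆ Set.range j.base) :
    IsOpenImmersion (IsOpenImmersion.lift j j' h) := by
  haveI : IsOpenImmersion (IsOpenImmersion.lift j j' h ≫ j) := by
    rw [IsOpenImmersion.lift_fac]
    infer_instance
  exact IsOpenImmersion.of_comp _ j

/-- being an isomorphism after restriction passes to smaller opens. -/
lemma isIso_restrictD_of_range_subset (j : P ⟶ Y) (j' : P' ⟶ Y) [IsOpenImmersion j]
    [IsOpenImmersion j'] (h : Set.range j'.base ⊆ Set.range j.base) {M N : DCoh.D Y} (φ : M ⟶ N)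
    (hφ : IsIso ((DCoh.restrictD j).map φ)) : IsIso ((DCoh.restrictD j').map φ) := by
  haveI := isOpenImmersion_lift j j' h
  have h1 := isIso_restrictD_comp (IsOpenImmersion.lift j j' h) j φ hφ
  exact isIso_restrictD_congr (IsOpenImmersion.lift_fac j j' h) φ h1

/-- `Rj'_* F` is of the form `Rj_*(-)` when the range of `j'` is contained in that of `j`. -/
lemma exists_Rpush_iso_of_range_subset (j : P ⟶ Y) (j' : P' ⟶ Y) [IsOpenImmersion j]
    [IsOpenImmersion j'] (h : Set.range j'.base ⊆ Set.range j.base) (F : DCoh.D P') :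
    ∃ Q : DCoh.D P, Nonempty ((DCoh.Rpush j').obj F ≅ (DCoh.Rpush j).obj Q) := by
  obtain ⟨e1⟩ := nonempty_Rpush_comp_iso (IsOpenImmersion.lift j j' h) j
  obtain ⟨e2⟩ := nonempty_Rpush_congr (IsOpenImmersion.lift_fac j j' h)
  exact ⟨(DCoh.Rpush (IsOpenImmersion.lift j j' h)).obj F, ⟨(e2.app F).symm ≪≫ (e1.app F).symm⟩⟩

end Range

section Glue

/-- a map into `Rj_* C` adjoint to an isomorphism `j^* M ≅ C` becomes an isomorphism on `j`. -/
lemma exists_map_isIso_restrict {W X : Scheme.{u}} (j : W ⟶ X) [IsOpenImmersion j]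
    (M : DCoh.D X) (C : DCoh.D W) (e : (DCoh.restrictD j).obj M ≅ C) :
    ∃ α : M ⟶ (DCoh.Rpush j).obj C, IsIso ((DCoh.restrictD j).map α) := by
  let adj := openAdj j
  refine ⟨adj.homEquiv M C e.hom, ?_⟩
  haveI := isIso_counit j adj
  have h : (DCoh.restrictD j).map (adj.homEquiv M C e.hom) ≫ adj.counit.app C = e.hom := by
    have := (adj.homEquiv M C).symm_apply_apply e.hom
    rw [Adjunction.homEquiv_counit] at this
    exact this
  haveI : IsIso ((DCoh.restrictD j).map (adj.homEquiv M C e.hom) ≫ adj.counit.app C) := by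
    rw [h]; infer_instance
  exact IsIso.of_isIso_comp_right _ (adj.counit.app C)

/-- `(Rj_* A)|_W ≅ A|_W` for `W ⊆ U`. -/
lemma nonempty_restrict_Rpush_iso {W U X : Scheme.{u}} (k : W ⟶ U) (j : U ⟶ X) (jW : W ⟶ X)
    [IsOpenImmersion k] [IsOpenImmersion j] [IsOpenImmersion jW] (h : k ≫ j = jW)
    (A : DCoh.D U) :
    Nonempty ((DCoh.restrictD jW).obj ((DCoh.Rpush j).obj A) ≅ (DCoh.restrictD k).obj A) := by
  subst h
  exact ⟨(resDComp k j).app _ ≪≫ (DCoh.restrictD k).mapIso ((RpushRestrictIso j).app A)⟩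

variable {X : Scheme.{u}} (U : X.Opens) {P W : Scheme.{u}}

/-- the restriction to `U` of `Rf_* Q`, for `f` an open immersion, comes from `U ∩ f(P)`. -/
lemma exists_restrict_Rpush_iso (f : P ⟶ X) (k : W ⟶ (U : Scheme.{u}))
    [IsOpenImmersion f] [IsOpenImmersion k]
    (hW : (U : Set X) ∩ Set.range f.base ⊆ Set.range (k ≫ U.ι).base) (Q : DCoh.D P) :
    ∃ Q' : DCoh.D W,
      Nonempty ((DCoh.restrictD U.ι).obj ((DCoh.Rpush f).obj Q) ≅ (DCoh.Rpush k).obj Q') := by
  obtain ⟨θ⟩ := Groth.Agent.Lib.Helper17.RpushRes.nonempty_iso f U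
  have hr : Set.range (f ∣_ U).base ⊆ Set.range k.base := by
    rintro y ⟨z, rfl⟩
    have h1 : U.ι.base ((f ∣_ U).base z) ∈ (U : Set X) ∩ Set.range f.base := by
      refine ⟨((f ∣_ U).base z).2, ?_⟩
      have := congrArg (fun φ => φ.base z) (morphismRestrict_ι f U)
      simp only [Scheme.Hom.comp_base, TopCat.hom_comp, ContinuousMap.comp_apply] at this
      exact ⟨_, this.symm⟩
    obtain ⟨w, hw⟩ := hW h1
    refine ⟨w, ?_⟩
    apply U.ι.isOpenEmbedding.injective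
    simpa using hw
  obtain ⟨Q', ⟨e⟩⟩ := exists_Rpush_iso_of_range_subset k (f ∣_ U) hr
    ((DCoh.restrictD (f ⁻¹ᵁ U).ι).obj Q)
  exact ⟨Q', ⟨θ.app Q ≪≫ e⟩⟩

/-- a map `Rj₂_* B ⟶ Rj_{W*} C` which is an isomorphism on `W = U ∩ U₂` is an isomorphism on `U`. -/
lemma isIso_restrictD_map_of_inter {U2 : Scheme.{u}} (j2 : U2 ⟶ X) (jW : W ⟶ X)
    (k : W ⟶ (U : Scheme.{u})) [IsOpenImmersion j2] [IsOpenImmersion jW] [IsOpenImmersion k]
    (hk : k ≫ U.ι = jW) (hW : (U : Set X) ∩ Set.range j2.base ⊆ Set.range jW.base)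
    (B : DCoh.D U2) (C : DCoh.D W) (β : (DCoh.Rpush j2).obj B ⟶ (DCoh.Rpush jW).obj C)
    (hβ : IsIso ((DCoh.restrictD jW).map β)) : IsIso ((DCoh.restrictD U.ι).map β) := by
  subst hk
  obtain ⟨Q1, ⟨e1⟩⟩ := exists_restrict_Rpush_iso U j2 k hW B
  obtain ⟨Q2, ⟨e2⟩⟩ := exists_restrict_Rpush_iso U (k ≫ U.ι) k Set.inter_subset_right C
  let adj := openAdj k
  refine isIso_of_isIso_restrict k adj ((DCoh.restrictD U.ι).map β)
    (isIso_unit_of_iso k adj e1) (isIso_unit_of_iso k adj e2) ?_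
  have := (NatIso.isIso_map_iff (resDComp k U.ι) β).1 hβ
  exact this

/-- **glueing two objects of the derived categories of two opens covering `X`.** -/
theorem glue_two (U V : X.Opens) (hUV : U ⊔ V = ⊤)
    (A : DCoh.D (U : Scheme.{u})) (B : DCoh.D (V : Scheme.{u}))
    (c : (DCoh.restrictD (X.homOfLE (inf_le_left : U ⊓ V ≤ U))).obj A ≅
      (DCoh.restrictD (X.homOfLE (inf_le_right : U ⊓ V ≤ V))).obj B) :
    ∃ F : DCoh.D X, Nonempty ((DCoh.restrictD U.ι).obj F ≅ A) ∧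
      Nonempty ((DCoh.restrictD V.ι).obj F ≅ B) := by
  let kU := X.homOfLE (inf_le_left : U ⊓ V ≤ U)
  let kV := X.homOfLE (inf_le_right : U ⊓ V ≤ V)
  have hkU : kU ≫ U.ι = (U ⊓ V).ι := X.homOfLE_ι _
  have hkV : kV ≫ V.ι = (U ⊓ V).ι := X.homOfLE_ι _
  let C := (DCoh.restrictD kU).obj A
  let PA := (DCoh.Rpush U.ι).obj A
  let PB := (DCoh.Rpush V.ι).obj B
  let PC := (DCoh.Rpush (U ⊓ V).ι).obj C
  obtain ⟨εA⟩ := nonempty_restrict_Rpush_iso kU U.ι (U ⊓ V).ι hkU A
  obtain ⟨εB⟩ := nonempty_restrict_Rpush_iso kV V.ι (U ⊓ V).ι hkV B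
  obtain ⟨α, hα⟩ := exists_map_isIso_restrict (U ⊓ V).ι PA C εA
  obtain ⟨β, hβ⟩ := exists_map_isIso_restrict (U ⊓ V).ι PB C (εB ≪≫ c.symm)
  -- `β` is an isomorphism on `U`, `α` is an isomorphism on `V`
  have hβU : IsIso ((DCoh.restrictD U.ι).map β) := by
    refine isIso_restrictD_map_of_inter U V.ι (U ⊓ V).ι kU hkU ?_ B C β hβ
    rw [Scheme.Opens.range_ι, Scheme.Opens.range_ι]
    rfl
  have hαV : IsIso ((DCoh.restrictD V.ι).map α) := by
    refine isIso_restrictD_map_of_inter V U.ι (U ⊓ V).ι kV hkV ?_ A C α hα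
    rw [Scheme.Opens.range_ι, Scheme.Opens.range_ι]
    intro x hx
    exact ⟨hx.2, hx.1⟩
  obtain ⟨F, f, h, hT⟩ := distinguished_cocone_triangle₁ (biprod.desc α β)
  refine ⟨F, ?_, ?_⟩
  · let G := DCoh.restrictD U.ι
    have hT' := G.map_distinguished _ hT
    haveI : IsIso (G.map biprod.inr ≫ G.map (biprod.desc α β)) := by
      rw [← G.map_comp, biprod.inr_desc]
      exact hβU
    have := isIso_of_split (G.map f) (G.map (biprod.desc α β)) _ hT'
      (G.map biprod.inr) (G.map biprod.fst) (G.map biprod.inl) (G.map biprod.snd)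
      (by rw [← G.map_comp, biprod.inl_fst, CategoryTheory.Functor.map_id])
      (by rw [← G.map_comp, biprod.inr_fst, G.map_zero])
      (by rw [← G.map_comp, ← G.map_comp, ← G.map_add, biprod.total,
        CategoryTheory.Functor.map_id])
      inferInstance
    exact ⟨asIso (G.map f ≫ G.map biprod.fst) ≪≫ (RpushRestrictIso U.ι).app A⟩
  · let G := DCoh.restrictD V.ι
    have hT' := G.map_distinguished _ hT
    haveI : IsIso (G.map biprod.inl ≫ G.map (biprod.desc α β)) := by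
      rw [← G.map_comp, biprod.inl_desc]
      exact hαV
    have := isIso_of_split (G.map f) (G.map (biprod.desc α β)) _ hT'
      (G.map biprod.inl) (G.map biprod.snd) (G.map biprod.inr) (G.map biprod.fst)
      (by rw [← G.map_comp, biprod.inr_snd, CategoryTheory.Functor.map_id])
      (by rw [← G.map_comp, biprod.inl_snd, G.map_zero])
      (by rw [← G.map_comp, ← G.map_comp, ← G.map_add, add_comm, biprod.total,
        CategoryTheory.Functor.map_id])
      inferInstance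
    exact ⟨asIso (G.map f ≫ G.map biprod.snd) ≪≫ (RpushRestrictIso V.ι).app B⟩

end Glue


end Groth.Agent.Lib.Helper17.GlueTwo
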