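import Mathlib

/-!
# Morphisms from a single complex into a (shifted) K-injective complex, and hypercohomology presheaves

`cls`/`clsD`: the morphism `S_0 M ⟶ L⟦q⟧` in the homotopy / derived category attached to a
cocycle `f : M ⟶ L.X q`; every morphism is of this form, and it vanishes iff `f` is a coboundary.
-/

set_option autoImplicit false
universe w v u v' u'

open CategoryTheory Limits CochainComplex HomComplex

namespace Groth.Agent.Lib.Helper17.HDU1

variable {A : Type u} [Category.{v} A] [Abelian A]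

section cls

variable {M : A} (L : CochainComplex A ℤ) (q : ℤ)

/-- The homotopy class of the map `S_0 M ⟶ L⟦q⟧` attached to a cocycle `f : M ⟶ L.X q`. -/
noncomputable def cls (f : M ⟶ L.X q) (hf : f ≫ L.d q (q + 1) = 0) :
    (HomotopyCategory.quotient A (ComplexShape.up ℤ)).obj ((CochainComplex.singleFunctor A 0).obj M) ⟶
      (HomotopyCategory.quotient A (ComplexShape.up ℤ)).obj (L⟦q⟧) :=
  CohomologyClass.toHom (CohomologyClass.mk (Cocycle.fromSingleMk f (zero_add q) (q + 1) rfl hf))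

lemma cls_add (f g : M ⟶ L.X q) (hf : f ≫ L.d q (q + 1) = 0) (hg : g ≫ L.d q (q + 1) = 0) :
    cls L q (f + g) (by simp [hf, hg]) = cls L q f hf + cls L q g hg := by
  unfold cls
  rw [Cocycle.fromSingleMk_add _ _ _ _ _ hf hg, CohomologyClass.mk_add, map_add]

lemma cls_surjective
    (φ : (HomotopyCategory.quotient A (ComplexShape.up ℤ)).obj
        ((CochainComplex.singleFunctor A 0).obj M) ⟶
      (HomotopyCategory.quotient A (ComplexShape.up ℤ)).obj (L⟦q⟧)) :
    ∃ (f : M ⟶ L.X q) (hf : f ≫ L.d q (q + 1) = 0), cls L q f hf = φ := by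
  obtain ⟨x, rfl⟩ := (CohomologyClass.toHom_bijective _ _ _).2 φ
  obtain ⟨z, rfl⟩ := x.mk_surjective
  obtain ⟨f, hf, rfl⟩ := Cocycle.fromSingleMk_surjective z q (zero_add q) (q + 1) rfl
  exact ⟨f, hf, rfl⟩

lemma cls_eq_zero_iff (f : M ⟶ L.X q) (hf : f ≫ L.d q (q + 1) = 0) :
    cls L q f hf = 0 ↔ ∃ g : M ⟶ L.X (q - 1), g ≫ L.d (q - 1) q = f := by
  unfold cls
  rw [CohomologyClass.toHom_mk_eq_zero_iff,
    Cocycle.fromSingleMk_mem_coboundaries_iff f (zero_add q) (q + 1) rfl hf (q - 1) (by simp)]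

lemma cls_precomp {M' : A} (g : M' ⟶ M) (f : M ⟶ L.X q) (hf : f ≫ L.d q (q + 1) = 0) :
    (HomotopyCategory.quotient A (ComplexShape.up ℤ)).map ((CochainComplex.singleFunctor A 0).map g) ≫
      cls L q f hf = cls L q (g ≫ f) (by simp [hf]) := by
  unfold cls
  rw [CohomologyClass.toHom_mk, CohomologyClass.toHom_mk, ← Functor.map_comp,
    Cocycle.fromSingleMk_precomp g f (zero_add q) (q + 1) rfl hf,
    Cocycle.equivHomShift_symm_precomp]

end cls

section clsD

open DerivedCategory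

lemma iso_comp_eq_zero_iff {D : Type*} [Category D] [Preadditive D] {X Y Z W : D}
    (a : X ≅ Y) (x : Y ⟶ Z) (b : Z ≅ W) : a.hom ≫ x ≫ b.hom = 0 ↔ x = 0 := by
  constructor
  · intro h
    have : a.inv ≫ (a.hom ≫ x ≫ b.hom) ≫ b.inv = 0 := by rw [h]; simp
    simpa using this
  · rintro rfl
    simp

variable [HasDerivedCategory.{w} A] {M : A} (L : CochainComplex A ℤ) (q : ℤ)

/-- source iso -/
noncomputable def e₁ (M : A) : (DerivedCategory.singleFunctor A 0).obj M ≅
    Qh.obj ((HomotopyCategory.quotient A (ComplexShape.up ℤ)).obj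
      ((CochainComplex.singleFunctor A 0).obj M)) :=
  (singleFunctorIsoCompQ A 0).app M ≪≫ ((quotientCompQhIso A).app _).symm

/-- target iso -/
noncomputable def e₂ : Qh.obj ((HomotopyCategory.quotient A (ComplexShape.up ℤ)).obj (L⟦q⟧)) ≅
    (Q.obj L)⟦q⟧ :=
  (quotientCompQhIso A).app (L⟦q⟧) ≪≫ (Q.commShiftIso q).app L

lemma e₁_naturality {M' : A} (g : M' ⟶ M) :
    (DerivedCategory.singleFunctor A 0).map g ≫ (e₁ M).hom =
      (e₁ M').hom ≫ Qh.map ((HomotopyCategory.quotient A (ComplexShape.up ℤ)).map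
        ((CochainComplex.singleFunctor A 0).map g)) := by
  unfold e₁
  have h1 := (singleFunctorIsoCompQ A 0).hom.naturality g
  have h2 := (quotientCompQhIso A).inv.naturality ((CochainComplex.singleFunctor A 0).map g)
  dsimp at h1 h2 ⊢
  rw [reassoc_of% h1, h2, Category.assoc]

/-- The morphism `S_0 M ⟶ (Q L)⟦q⟧` in the derived category attached to a cocycle. -/
noncomputable def clsD (f : M ⟶ L.X q) (hf : f ≫ L.d q (q + 1) = 0) :
    (DerivedCategory.singleFunctor A 0).obj M ⟶ (Q.obj L)⟦q⟧ :=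
  (e₁ M).hom ≫ Qh.map (cls L q f hf) ≫ (e₂ L q).hom

lemma clsD_add (f g : M ⟶ L.X q) (hf : f ≫ L.d q (q + 1) = 0) (hg : g ≫ L.d q (q + 1) = 0) :
    clsD L q (f + g) (by simp [hf, hg]) = clsD L q f hf + clsD L q g hg := by
  unfold clsD
  rw [cls_add L q f g hf hg, Functor.map_add]
  simp only [Preadditive.add_comp, Preadditive.comp_add]

lemma clsD_eq_zero_iff [L.IsKInjective] (f : M ⟶ L.X q) (hf : f ≫ L.d q (q + 1) = 0) :
    clsD L q f hf = 0 ↔ ∃ g : M ⟶ L.X (q - 1), g ≫ L.d (q - 1) q = f := by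
  rw [← cls_eq_zero_iff L q f hf]
  unfold clsD
  rw [iso_comp_eq_zero_iff]
  constructor
  · intro h1
    exact (CochainComplex.IsKInjective.Qh_map_bijective _ (L⟦q⟧)).1 (by rw [h1, Functor.map_zero])
  · intro h
    rw [h, Functor.map_zero]

lemma clsD_surjective [L.IsKInjective]
    (φ : (DerivedCategory.singleFunctor A 0).obj M ⟶ (Q.obj L)⟦q⟧) :
    ∃ (f : M ⟶ L.X q) (hf : f ≫ L.d q (q + 1) = 0), clsD L q f hf = φ := by
  obtain ⟨ψ, hψ⟩ := (CochainComplex.IsKInjective.Qh_map_bijective _ (L⟦q⟧)).2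
    ((e₁ M).inv ≫ φ ≫ (e₂ L q).inv)
  obtain ⟨f, hf, rfl⟩ := cls_surjective L q ψ
  refine ⟨f, hf, ?_⟩
  unfold clsD
  rw [hψ]
  simp

lemma clsD_precomp {M' : A} (g : M' ⟶ M) (f : M ⟶ L.X q) (hf : f ≫ L.d q (q + 1) = 0) :
    (DerivedCategory.singleFunctor A 0).map g ≫ clsD L q f hf =
      clsD L q (g ≫ f) (by simp [hf]) := by
  unfold clsD
  rw [← cls_precomp L q g f hf, Functor.map_comp, reassoc_of% (e₁_naturality g), Category.assoc]

end clsD

end Groth.Agent.Lib.Helper17.HDU1
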