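import Groth.Agent.Lib.Helper17.HDU1

/-!
# The hypercohomology presheaf of a K-injective complex is the homology presheaf of its
complex of "Hom presheaves".
-/

set_option autoImplicit false
universe v u v' u'

open CategoryTheory Limits CochainComplex HomComplex

namespace Groth.Agent.Lib.Helper17.HDU2

open Groth.Agent.Lib.Helper17.HDU1

lemma exact_iff_evaluation {T V : Type*} [Category T] [Category V] [Abelian V]
    (S : ShortComplex (T ⥤ V)) :
    S.Exact ↔ ∀ t, (S.map ((evaluation T V).obj t)).Exact := by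
  constructor
  · intro h t
    exact h.map _
  · intro h
    rw [ShortComplex.exact_iff_isZero_homology, Functor.isZero_iff]
    intro t
    exact IsZero.of_iso ((ShortComplex.exact_iff_isZero_homology _).1 (h t))
      (S.mapHomologyIso ((evaluation T V).obj t)).symm

variable {A : Type u} [Category.{v} A] [Abelian A]
variable {C : Type u'} [Category.{v'} C] (G : C ⥤ A)

/-- `F ↦ (U ↦ Hom(G U, F))`. -/
noncomputable abbrev homFunctor : A ⥤ (Cᵒᵖ ⥤ AddCommGrpCat.{v}) :=
  preadditiveYoneda ⋙ (Functor.whiskeringLeft _ _ _).obj G.op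

instance : (homFunctor G).PreservesZeroMorphisms where
  map_zero X Y := by
    ext U x
    simp

variable (L : CochainComplex A ℤ)

/-- the complex of presheaves `U ↦ Hom(G U, L^•)`. -/
noncomputable abbrev homCx : CochainComplex (Cᵒᵖ ⥤ AddCommGrpCat.{v}) ℤ :=
  ((homFunctor G).mapHomologicalComplex (ComplexShape.up ℤ)).obj L

lemma homCx_d_apply (i j : ℤ) (U : Cᵒᵖ) (x : G.obj U.unop ⟶ L.X i) :
    ((homCx G L).d i j).app U x = x ≫ L.d i j := rfl

variable [HasDerivedCategory.{v} A] (q : ℤ)

/-- the hypercohomology presheaf `U ↦ Hom_D(S_0 (G U), (Q L)⟦q⟧)`. -/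
noncomputable abbrev hyperPresheaf : Cᵒᵖ ⥤ AddCommGrpCat.{v} :=
  (G ⋙ DerivedCategory.singleFunctor A 0).op ⋙
    preadditiveYoneda.obj ((DerivedCategory.Q.obj L)⟦q⟧)

/-- an element of the presheaf `homCx.X n` over `U` as a morphism. -/
abbrev asHom {n : ℤ} {U : Cᵒᵖ} (x : ((homCx G L).X n).obj U) : G.obj U.unop ⟶ L.X n := x

lemma iCycles_d_apply (U : Cᵒᵖ) (x : ((homCx G L).cycles q).obj U) :
    asHom G L (((homCx G L).iCycles q).app U x) ≫ L.d q (q + 1) = 0 := by
  have h := (homCx G L).iCycles_d q (q + 1)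
  have h2 := NatTrans.congr_app h U
  have h3 := ConcreteCategory.congr_hom h2 x
  exact h3

lemma clsD_congr {M : A} {f f' : M ⟶ L.X q} (h : f = f') (hf : f ≫ L.d q (q + 1) = 0)
    (hf' : f' ≫ L.d q (q + 1) = 0) : clsD L q f hf = clsD L q f' hf' := by
  subst h
  rfl

/-- the map from cycles to the hypercohomology presheaf, over `U`. -/
noncomputable def τFun (U : Cᵒᵖ) : ((homCx G L).cycles q).obj U →+
    ((DerivedCategory.singleFunctor A 0).obj (G.obj U.unop) ⟶ (DerivedCategory.Q.obj L)⟦q⟧) :=
  AddMonoidHom.mk'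
    (fun x => clsD L q (asHom G L (((homCx G L).iCycles q).app U x)) (iCycles_d_apply G L q U x))
    (fun x y => by
      rw [← clsD_add]
      exact clsD_congr L q (map_add _ x y) _ _)

lemma τFun_apply (U : Cᵒᵖ) (x : ((homCx G L).cycles q).obj U) :
    τFun G L q U x =
      clsD L q (asHom G L (((homCx G L).iCycles q).app U x)) (iCycles_d_apply G L q U x) := rfl

/-- the map from cycles to the hypercohomology presheaf. -/
noncomputable def τ : (homCx G L).cycles q ⟶ hyperPresheaf G L q where
  app U := AddCommGrpCat.ofHom (τFun G L q U)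
  naturality U V g := by
    ext x
    change τFun G L q V (((homCx G L).cycles q).map g x) =
      (G ⋙ DerivedCategory.singleFunctor A 0).map g.unop ≫ τFun G L q U x
    rw [τFun_apply, τFun_apply, Functor.comp_map, clsD_precomp]
    refine clsD_congr L q ?_ _ _
    have h := ((homCx G L).iCycles q).naturality g
    exact ConcreteCategory.congr_hom h x

lemma τ_app_apply (U : Cᵒᵖ) (x : ((homCx G L).cycles q).obj U) :
    (τ G L q).app U x = τFun G L q U x := rfl

variable [L.IsKInjective]

lemma toCycles_τ : (homCx G L).toCycles (q - 1) q ≫ τ G L q = 0 := by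
  ext U x
  change τFun G L q U (((homCx G L).toCycles (q - 1) q).app U x) = 0
  rw [τFun_apply, clsD_eq_zero_iff]
  refine ⟨asHom G L x, ?_⟩
  have h := (homCx G L).toCycles_i (q - 1) q
  exact (ConcreteCategory.congr_hom (NatTrans.congr_app h U) x).symm

lemma iCycles_app_injective (U : Cᵒᵖ) :
    Function.Injective (((homCx G L).iCycles q).app U) := by
  have : Mono (((homCx G L).iCycles q).app U) := inferInstance
  exact (AddCommGrpCat.mono_iff_injective _).1 this

lemma exists_cycle (U : Cᵒᵖ) (f : G.obj U.unop ⟶ L.X q) (hf : f ≫ L.d q (q + 1) = 0) :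
    ∃ y : ((homCx G L).cycles q).obj U, asHom G L (((homCx G L).iCycles q).app U y) = f := by
  have hex : (ShortComplex.mk ((homCx G L).iCycles q) ((homCx G L).d q (q + 1))
      ((homCx G L).iCycles_d q (q + 1))).Exact :=
    ShortComplex.exact_of_f_is_kernel _ ((homCx G L).cyclesIsKernel q (q + 1) (by simp))
  have h1 := (exact_iff_evaluation _).1 hex U
  rw [ShortComplex.ab_exact_iff] at h1
  exact h1 f hf

lemma exact_T : (ShortComplex.mk _ _ (toCycles_τ G L q)).Exact := by
  rw [exact_iff_evaluation]
  intro U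
  rw [ShortComplex.ab_exact_iff]
  intro y hy
  have hy' : τFun G L q U y = 0 := hy
  rw [τFun_apply, clsD_eq_zero_iff] at hy'
  obtain ⟨g, hg⟩ := hy'
  refine ⟨g, ?_⟩
  apply iCycles_app_injective G L q U
  have h := (homCx G L).toCycles_i (q - 1) q
  have h2 := ConcreteCategory.congr_hom (NatTrans.congr_app h U) g
  exact h2.trans hg

instance epi_τ : Epi (τ G L q) := by
  have : ∀ U, Epi ((τ G L q).app U) := by
    intro U
    rw [AddCommGrpCat.epi_iff_surjective]
    intro r
    obtain ⟨f, hf, hr⟩ := clsD_surjective L q (M := G.obj U.unop) r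
    obtain ⟨y, hy⟩ := exists_cycle G L q U f hf
    refine ⟨y, ?_⟩
    rw [τ_app_apply, τFun_apply, ← hr]
    exact clsD_congr L q hy _ _
  exact NatTrans.epi_of_epi_app _

/-- **Main lemma**: the hypercohomology presheaf of a K-injective complex is the homology presheaf
of the complex of Hom presheaves. -/
noncomputable def hyperPresheafIso : hyperPresheaf G L q ≅ (homCx G L).homology q :=
  IsColimit.coconePointUniqueUpToIso (exact_T G L q).gIsCokernel
    ((homCx G L).homologyIsCokernel (q - 1) q (by simp))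

end Groth.Agent.Lib.Helper17.HDU2
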