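import Groth.Agent.Lib.Helper17.HDU3

/-!
# K-injective complexes of sheaves that are exact in negative degrees

For `M` K-injective and acyclic in negative degrees, the homology presheaves of `M` vanish in
negative degrees and the `0`-th homology presheaf is a sheaf.
-/

set_option autoImplicit false
universe v u

open CategoryTheory Limits CochainComplex Opposite

namespace Groth.Agent.Lib.Helper17.HDU4

open Groth.Agent.Lib.Helper17.HDU3

section retract

variable {A : Type u} [Category.{v} A] [Abelian A]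

attribute [local instance] HasDerivedCategory.standard in
/-- A quasi-isomorphism out of a K-injective complex has a retraction up to homotopy. -/
lemma exists_retraction {M N : CochainComplex A ℤ} [M.IsKInjective] (π : M ⟶ N) [QuasiIso π] :
    ∃ r : N ⟶ M, Nonempty (Homotopy (π ≫ r) (𝟙 M)) := by
  have hb := CochainComplex.IsKInjective.Qh_map_bijective
    ((HomotopyCategory.quotient _ _).obj N) M
  have hiso : IsIso (DerivedCategory.Qh.map ((HomotopyCategory.quotient _ _).map π)) :=
    Localization.inverts DerivedCategory.Qh (HomotopyCategory.quasiIso A (ComplexShape.up ℤ)) _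
      ((HomotopyCategory.quotient_map_mem_quasiIso_iff π).2
        ((HomologicalComplex.mem_quasiIso_iff π).2 inferInstance))
  obtain ⟨r', hr'⟩ := hb.2 (inv (DerivedCategory.Qh.map ((HomotopyCategory.quotient _ _).map π)))
  obtain ⟨r, rfl⟩ := (HomotopyCategory.quotient _ _).map_surjective r'
  refine ⟨r, ?_⟩
  have hb' := CochainComplex.IsKInjective.Qh_map_bijective
    ((HomotopyCategory.quotient _ _).obj M) M
  have h1 : (HomotopyCategory.quotient _ _).map (π ≫ r) =
      (HomotopyCategory.quotient _ _).map (𝟙 M) := by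
    apply hb'.1
    rw [Functor.map_comp, Functor.map_comp, hr']
    simp
  exact ⟨HomotopyCategory.homotopyOfEq _ _ h1⟩

end retract

section site

variable {C : Type u} [SmallCategory C] (J : GrothendieckTopology C)

/-- `M ↦ ` the `i`-th homology presheaf of `M`. -/
noncomputable abbrev Φ (i : ℤ) :
    CochainComplex (Sheaf J AddCommGrpCat.{u}) ℤ ⥤ (Cᵒᵖ ⥤ AddCommGrpCat.{u}) :=
  (sheafToPresheaf J AddCommGrpCat.{u}).mapHomologicalComplex _ ⋙
    HomologicalComplex.homologyFunctor _ _ i

lemma Φ_map_eq_of_homotopy {M N : CochainComplex (Sheaf J AddCommGrpCat.{u}) ℤ} {f g : M ⟶ N}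
    (h : Homotopy f g) (i : ℤ) : (Φ J i).map f = (Φ J i).map g :=
  ((sheafToPresheaf J AddCommGrpCat.{u}).mapHomotopy h).homologyMap_eq i

lemma Φ_retract {M N : CochainComplex (Sheaf J AddCommGrpCat.{u}) ℤ} [M.IsKInjective]
    (π : M ⟶ N) [QuasiIso π] (i : ℤ) :
    ∃ ρ : (Φ J i).obj N ⟶ (Φ J i).obj M, (Φ J i).map π ≫ ρ = 𝟙 _ := by
  obtain ⟨r, ⟨h⟩⟩ := exists_retraction π
  refine ⟨(Φ J i).map r, ?_⟩
  rw [← Functor.map_comp, Φ_map_eq_of_homotopy J h i, CategoryTheory.Functor.map_id]

/-- homology presheaves of a K-injective complex acyclic in negative degrees vanish in negative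
degrees. -/
theorem isZero_homology_secCx (M : CochainComplex (Sheaf J AddCommGrpCat.{u}) ℤ) [M.IsKInjective]
    [M.IsGE 0] (i : ℤ) (hi : i < 0) : IsZero ((secCx J M).homology i) := by
  obtain ⟨ρ, hρ⟩ := Φ_retract J (M.πTruncGE 0) i
  have hz : IsZero ((Φ J i).obj (M.truncGE 0)) := by
    have h0 : IsZero ((secCx J (M.truncGE 0)).X i) :=
      (secCx J (M.truncGE 0)).isZero_of_isStrictlyGE 0 i hi
    exact (HomologicalComplex.exactAt_iff_isZero_homology _ _).1
      ((HomologicalComplex.exactAt_iff _ _).2 (ShortComplex.exact_of_isZero_X₂ _ h0))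
  rw [IsZero.iff_id_eq_zero]
  change 𝟙 ((Φ J i).obj M) = 0
  rw [← hρ, hz.eq_of_src ρ 0, comp_zero]

lemma isSheaf_of_retract {P F : Cᵒᵖ ⥤ AddCommGrpCat.{u}} (hF : Presheaf.IsSheaf J F)
    (i : P ⟶ F) (p : F ⟶ P) (h : i ≫ p = 𝟙 P) : Presheaf.IsSheaf J P := by
  have := isIso_toSheafify J hF
  have hiso : IsIso (toSheafify J P) := by
    refine ⟨sheafifyMap J i ≫ inv (toSheafify J F) ≫ p, ?_, ?_⟩
    · rw [← Category.assoc, ← toSheafify_naturality, Category.assoc, IsIso.hom_inv_id_assoc, h]
    · rw [Category.assoc, Category.assoc, toSheafify_naturality J p, IsIso.inv_hom_id_assoc,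
        ← sheafifyMap_comp, h, sheafifyMap_id]
  exact (Presheaf.isSheaf_of_iso_iff (asIso (toSheafify J P))).2 ((presheafToSheaf J AddCommGrpCat.{u}).obj P).property

/-- the `0`-th homology presheaf of a K-injective complex acyclic in negative degrees is a
sheaf. -/
theorem isSheaf_homology_secCx (M : CochainComplex (Sheaf J AddCommGrpCat.{u}) ℤ) [M.IsKInjective]
    [M.IsGE 0] : Presheaf.IsSheaf J ((secCx J M).homology 0) := by
  obtain ⟨ρ, hρ⟩ := Φ_retract J (M.πTruncGE 0) 0
  refine isSheaf_of_retract J ?_ ((Φ J 0).map (M.πTruncGE 0)) ρ hρ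
  have h0 : IsZero ((secCx J (M.truncGE 0)).X (-1)) :=
    (secCx J (M.truncGE 0)).isZero_of_isStrictlyGE 0 (-1) (by simp)
  have : IsIso ((secCx J (M.truncGE 0)).homologyπ 0) :=
    (secCx J (M.truncGE 0)).isIso_homologyπ (-1) 0 (by simp) (h0.eq_of_src _ _)
  let e1 : (secCx J (M.truncGE 0)).cycles 0 ≅ (secCx J (M.truncGE 0)).homology 0 :=
    asIso ((secCx J (M.truncGE 0)).homologyπ 0)
  let e2 : (secCx J (M.truncGE 0)).cycles 0 ≅
      (sheafToPresheaf J AddCommGrpCat.{u}).obj ((M.truncGE 0).cycles 0) :=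
    IsLimit.conePointUniqueUpToIso ((secCx J (M.truncGE 0)).cyclesIsKernel 0 1 (by simp))
      (KernelFork.mapIsLimit _ ((M.truncGE 0).cyclesIsKernel 0 1 (by simp))
        (sheafToPresheaf J AddCommGrpCat.{u}))
  exact (Presheaf.isSheaf_of_iso_iff (e2.symm ≪≫ e1)).1 ((M.truncGE 0).cycles 0).property

end site

end Groth.Agent.Lib.Helper17.HDU4
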