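import Groth.Agent.Lib.Helper17.HDU4
import Groth.Agent.Lib.Helper5.KInjAdj
import Groth.Prelude.Def_CohTop

/-!
# Hypercohomology on topological spaces along a continuous map
-/

set_option autoImplicit false
universe u

open CategoryTheory Limits CochainComplex Opposite TopologicalSpace

namespace Groth.Agent.Lib.Helper17.HDU5

open Groth.Agent.Lib.Helper17.HDU3 Groth.Agent.Lib.Helper17.HDU4

variable {X Y : TopCat.{u}} (f : X ⟶ Y)

instance pull_preservesFiniteLimits : PreservesFiniteLimits (CohTop.pull f) := by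
  unfold CohTop.pull TopCat.Sheaf.pullback
  exact CategoryTheory.Functor.SmallCategories.instPreservesFiniteLimitsSheafSheafPullbackOfRepresentablyFlat
    (TopologicalSpace.Opens.map f) AddCommGrpCat.{u} _ _

instance pull_additive : (CohTop.pull f).Additive :=
  haveI : (TopCat.Sheaf.pushforward AddCommGrpCat.{u} f).Additive :=
    inferInstanceAs (CohTop.push f).Additive
  (TopCat.Sheaf.pullbackPushforwardAdjunction AddCommGrpCat.{u} f).left_adjoint_additive

instance pull_preservesFiniteColimits : PreservesFiniteColimits (CohTop.pull f) := by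
  have : PreservesColimitsOfSize.{0, 0} (CohTop.pull f) :=
    (TopCat.Sheaf.pullbackPushforwardAdjunction AddCommGrpCat.{u} f).leftAdjoint_preservesColimits
  exact PreservesColimitsOfSize.preservesFiniteColimits _

/-- `f_*` preserves K-injective complexes. -/
lemma isKInjective_push (I : CochainComplex (CohTop.Ab X) ℤ) [I.IsKInjective] :
    CochainComplex.IsKInjective
      (((CohTop.push f).mapHomologicalComplex (ComplexShape.up ℤ)).obj I) :=
  Groth.Agent.Lib.Helper5.KInjAdj.isKInjective_map (L := CohTop.pull f) (R := CohTop.push f)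
    (TopCat.Sheaf.pullbackPushforwardAdjunction AddCommGrpCat.{u} f) I

/-- whiskering with `(Opens.map f).op`. -/
noncomputable abbrev W : ((Opens X)ᵒᵖ ⥤ AddCommGrpCat.{u}) ⥤ ((Opens Y)ᵒᵖ ⥤ AddCommGrpCat.{u}) :=
  (Functor.whiskeringLeft _ _ _).obj (Opens.map f).op

/-- the homology presheaves of `f_* I`. -/
noncomputable def pushHomologyIso (I : CochainComplex (CohTop.Ab X) ℤ) (i : ℤ) :
    (secCx (Opens.grothendieckTopology Y)
      (((CohTop.push f).mapHomologicalComplex (ComplexShape.up ℤ)).obj I)).homology i ≅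
    (Opens.map f).op ⋙ (secCx (Opens.grothendieckTopology X) I).homology i :=
  mapHCHomologyIso (W f) (secCx (Opens.grothendieckTopology X) I) i

lemma hom_ext_of_basis (B : Set (Opens Y)) (hB : Opens.IsBasis B)
    (P : (Opens Y)ᵒᵖ ⥤ AddCommGrpCat.{u}) (hP : ∀ V ∈ B, IsZero (P.obj (op V)))
    (F : TopCat.Sheaf AddCommGrpCat.{u} Y) (φ ψ : P ⟶ F.obj) : φ = ψ := by
  ext ⟨U⟩ s
  let ι := {W : Opens Y // W ∈ B ∧ W ≤ U}
  refine F.eq_of_locally_eq' (fun W : ι => W.1) U (fun W => homOfLE W.2.2) ?_ _ _ ?_
  · intro x hx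
    obtain ⟨W, hW, hxW, hWU⟩ := Opens.isBasis_iff_nbhd.1 hB hx
    exact Opens.mem_iSup.2 ⟨⟨W, hW, hWU⟩, hxW⟩
  · intro W
    have h1 := ConcreteCategory.congr_hom (φ.naturality (homOfLE W.2.2).op) s
    have h2 := ConcreteCategory.congr_hom (ψ.naturality (homOfLE W.2.2).op) s
    simp only [ConcreteCategory.comp_apply] at h1 h2
    have h0 : P.map (homOfLE W.2.2).op s = 0 := by
      have := AddCommGrpCat.subsingleton_of_isZero (hP W.1 W.2.1)
      exact Subsingleton.elim _ _
    rw [h0, map_zero] at h1 h2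
    exact h1.symm.trans h2

/-- a presheaf vanishing on a basis has zero sheafification. -/
lemma isZero_sheafify_of_basis (B : Set (Opens Y)) (hB : Opens.IsBasis B)
    (P : (Opens Y)ᵒᵖ ⥤ AddCommGrpCat.{u}) (hP : ∀ V ∈ B, IsZero (P.obj (op V))) :
    IsZero ((presheafToSheaf (Opens.grothendieckTopology Y) AddCommGrpCat.{u}).obj P) := by
  rw [IsZero.iff_id_eq_zero]
  apply ((sheafificationAdjunction _ _).homEquiv P _).injective
  exact hom_ext_of_basis B hB P hP _ _ _

/-- Vanishing of negative hypercohomology over preimages of a basis propagates to all opens, and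
`V ↦ H^0(f⁻¹V, K)` is then a sheaf. -/
theorem negative_vanishing [HasDerivedCategory.{u} (CohTop.Ab X)] (B : Set (Opens Y))
    (hB : Opens.IsBasis B) (K : DerivedCategory (CohTop.Ab X))
    (h : ∀ V ∈ B, ∀ i : ℤ, i < 0 → Subsingleton (CohCx.HDU K i ((Opens.map f).obj V))) :
    (∀ (V : Opens Y) (i : ℤ), i < 0 → Subsingleton (CohCx.HDU K i ((Opens.map f).obj V))) ∧
    Presheaf.IsSheaf (Opens.grothendieckTopology Y)
      ((Opens.map f).op ⋙ CohCx.HDUPresheaf K 0) := by
  obtain ⟨I, hI, ⟨e⟩⟩ := exists_kInjective_iso _ K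
  have := hI
  have hM : CochainComplex.IsKInjective
      (((CohTop.push f).mapHomologicalComplex (ComplexShape.up ℤ)).obj I) := isKInjective_push f I
  let ψ : ∀ i : ℤ, (Opens.map f).op ⋙ CohCx.HDUPresheaf K i ≅
      (secCx (Opens.grothendieckTopology Y)
        (((CohTop.push f).mapHomologicalComplex (ComplexShape.up ℤ)).obj I)).homology i := fun i =>
    Functor.isoWhiskerLeft (Opens.map f).op (hduPresheafMapIso _ e i ≪≫ hduIso _ I i) ≪≫
      (pushHomologyIso f I i).symm
  have key : ∀ (V : Opens Y) (i : ℤ),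
      Subsingleton (CohCx.HDU K i ((Opens.map f).obj V)) ↔
        IsZero (((secCx (Opens.grothendieckTopology Y)
          (((CohTop.push f).mapHomologicalComplex (ComplexShape.up ℤ)).obj I)).homology i).obj
            (op V)) := by
    intro V i
    have e' := (ψ i).app (op V)
    constructor
    · intro hs
      exact IsZero.of_iso (AddCommGrpCat.isZero_of_subsingleton
        (AddCommGrpCat.of (CohCx.HDU K i ((Opens.map f).obj V)))) e'.symm
    · intro hz
      exact AddCommGrpCat.subsingleton_of_isZero (IsZero.of_iso hz e')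
  have hGE : CochainComplex.IsGE
      (((CohTop.push f).mapHomologicalComplex (ComplexShape.up ℤ)).obj I) 0 := by
    rw [CochainComplex.isGE_iff]
    intro i hi
    rw [HomologicalComplex.exactAt_iff_isZero_homology]
    refine IsZero.of_iso ?_ (sheafifyHomologyIso _ _ i).symm
    exact isZero_sheafify_of_basis B hB _ (fun V hV => (key V i).1 (h V hV i hi))
  refine ⟨fun V i hi => (key V i).2
    ((Functor.isZero_iff _).1 (isZero_homology_secCx _ _ i hi) (op V)), ?_⟩
  exact (Presheaf.isSheaf_of_iso_iff (ψ 0)).2 (isSheaf_homology_secCx _ _)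

end Groth.Agent.Lib.Helper17.HDU5
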