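import Groth.Agent.Lib.Helper17.HDU5

/-!
# Cohomology sheaves of `Rf_*` on bounded below complexes
-/

set_option autoImplicit false
universe u

open CategoryTheory Limits CochainComplex Opposite TopologicalSpace

namespace Groth.Agent.Lib.Helper17.HDU6

open Groth.Agent.Lib.Helper17.HDU3 Groth.Agent.Lib.Helper17.HDU4 Groth.Agent.Lib.Helper17.HDU5

section general

variable {A B : Type*} [Category A] [Category B] [Abelian A] [Abelian B]
  [HasDerivedCategory A] [HasDerivedCategory B] (F : A ⥤ B) [F.Additive] [EnoughInjectives A]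

/-- `H^p(RF(K))` is computed by an injective resolution. -/
lemma exists_injective_model (K : CochainComplex.Plus A) :
    ∃ (I : CochainComplex A ℤ) (i : K.obj ⟶ I), I.IsKInjective ∧ QuasiIso i ∧
      ∀ p : ℤ, Nonempty ((DerivedCategory.Plus.homologyFunctor B p).obj
        (F.rightDerivedFunctorPlus.obj
          (DerivedCategory.Plus.Qh.obj ((HomotopyCategory.Plus.quotient A).obj K))) ≅
        ((F.mapHomologicalComplex (ComplexShape.up ℤ)).obj I).homology p) := by
  obtain ⟨n, hn⟩ := K.property
  obtain ⟨L, -, i, hi⟩ := CochainComplex.Plus.exists_quasiIso_injective K n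
  refine ⟨((InjectiveObject.ι A).mapHomologicalComplex (.up ℤ)).obj L.obj, i.hom, inferInstance,
    hi, fun p => ?_⟩
  have hi' : HomotopyCategory.Plus.quasiIso A ((HomotopyCategory.Plus.quotient A).map i) := by
    rw [HomotopyCategory.Plus.quasiIso_iff]
    exact (HomotopyCategory.quotient_map_mem_quasiIso_iff i.hom).2 hi
  have hiso : IsIso (DerivedCategory.Plus.Qh.map ((HomotopyCategory.Plus.quotient A).map i)) :=
    Localization.inverts DerivedCategory.Plus.Qh (HomotopyCategory.Plus.quasiIso A) _ hi'
  let e1 := asIso (DerivedCategory.Plus.Qh.map ((HomotopyCategory.Plus.quotient A).map i))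
  let e2 := (asIso (F.rightDerivedFunctorPlusUnit.app ((HomotopyCategory.Plus.quotient A).obj
    ((InjectiveObject.ι A).mapCochainComplexPlus.obj L)))).symm
  let e3 : (DerivedCategory.Plus.homologyFunctor B p).obj (DerivedCategory.Plus.Qh.obj
      (F.mapHomotopyCategoryPlus.obj ((HomotopyCategory.Plus.quotient A).obj
        ((InjectiveObject.ι A).mapCochainComplexPlus.obj L)))) ≅
      ((F.mapHomologicalComplex (ComplexShape.up ℤ)).obj
        (((InjectiveObject.ι A).mapHomologicalComplex (.up ℤ)).obj L.obj)).homology p :=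
    (DerivedCategory.homologyFunctorFactorsh B p).app _ ≪≫
      (HomotopyCategory.homologyFunctorFactors B (.up ℤ) p).app _
  exact ⟨(DerivedCategory.Plus.homologyFunctor B p).mapIso
    (F.rightDerivedFunctorPlus.mapIso e1 ≪≫ e2) ≪≫ e3⟩

end general

section top

variable {X Y : TopCat.{u}} (f : X ⟶ Y)
  [HasDerivedCategory.{u} (CohTop.Ab X)] [HasDerivedCategory.{u} (CohTop.Ab Y)]

theorem nonempty_homology_Rpush_iso (K : CochainComplex.Plus (CohTop.Ab X)) (p : ℤ) :
    Nonempty ((DerivedCategory.Plus.homologyFunctor (CohTop.Ab Y) p).obj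
        ((CohTop.push f).rightDerivedFunctorPlus.obj
          (DerivedCategory.Plus.Qh.obj ((HomotopyCategory.Plus.quotient (CohTop.Ab X)).obj K))) ≅
      (presheafToSheaf (Opens.grothendieckTopology Y) AddCommGrpCat.{u}).obj
        ((Opens.map f).op ⋙ CohCx.HDUPresheaf (DerivedCategory.Q.obj K.obj) p)) := by
  obtain ⟨I, i, hI, hi, h⟩ := exists_injective_model (CohTop.push f) K
  obtain ⟨e⟩ := h p
  have := hI
  have := hi
  let eK : DerivedCategory.Q.obj K.obj ≅ DerivedCategory.Q.obj I :=
    asIso (DerivedCategory.Q.map i)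
  exact ⟨e ≪≫ (sheafifyHomologyIso _ _ p).symm ≪≫
    (presheafToSheaf (Opens.grothendieckTopology Y) AddCommGrpCat.{u}).mapIso
      (pushHomologyIso f I p ≪≫
        Functor.isoWhiskerLeft (Opens.map f).op
          (hduPresheafMapIso _ eK p ≪≫ hduIso _ I p).symm)⟩

end top

end Groth.Agent.Lib.Helper17.HDU6
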