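import Mathlib
import Groth.Agent.Lib.Lead.SD.MulSec
import Groth.Agent.Lib.Lead.SD.TorsionFree
import Groth.Agent.Lib.Lead.SD.LowVanish
import Groth.Agent.Lib.Helper20.HopfLemma
import Groth.Agent.S0002

/-!
# `h⁰(E₁) + h⁰(E₂) ≤ h⁰(E₁ ⊗ E₂) + 1` for vector bundles on a complete variety (Hopf's lemma)
-/

set_option autoImplicit false
set_option maxHeartbeats 4000000
set_option synthInstance.maxHeartbeats 400000
set_option backward.isDefEq.respectTransparency.types false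

universe u

open CategoryTheory Limits AlgebraicGeometry TopologicalSpace Opposite TensorProduct

namespace Groth.Agent.Lib.Helper17.HopfTensor

open Groth.Agent.Lib.Helper29.QCoh Groth.Agent.Lib.Lead.SD

/-- pure tensors of nonzero elements of free modules over a domain are nonzero -/
theorem tmul_ne_zero_of_basis {A : Type*} [CommRing A] [IsDomain A] {M N : Type*}
    [AddCommGroup M] [Module A M] [AddCommGroup N] [Module A N] {ι κ : Type*}
    (b : Module.Basis ι A M) (c : Module.Basis κ A N) (m : M) (n : N) (hm : m ≠ 0) (hn : n ≠ 0) :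
    m ⊗ₜ[A] n ≠ 0 := by
  intro h
  obtain ⟨i, hi⟩ : ∃ i, b.repr m i ≠ 0 := by
    by_contra hcon
    push Not at hcon
    exact hm (b.repr.map_eq_zero_iff.1 (Finsupp.ext hcon))
  obtain ⟨j, hj⟩ : ∃ j, c.repr n j ≠ 0 := by
    by_contra hcon
    push Not at hcon
    exact hn (c.repr.map_eq_zero_iff.1 (Finsupp.ext hcon))
  have h1 := Module.Basis.tensorProduct_repr_tmul_apply b c m n i j
  rw [h, map_zero, Finsupp.zero_apply, smul_eq_mul] at h1
  exact mul_ne_zero hj hi h1.symm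

variable {X : Scheme.{u}}

/-- on an integral scheme, the tensor of nonzero global sections of finite locally free modules is
nonzero -/
theorem tmulSec_ne_zero [IsIntegral X] {G L : X.Modules} (hG : FlatMod.IsFinLocFree G)
    (hL : FlatMod.IsFinLocFree L) (g : Γ(G, ⊤)) (l : Γ(L, ⊤)) (hg : g ≠ 0) (hl : l ≠ 0) :
    tmulSec G L g l ≠ 0 := by
  haveI := isQuasicoherent_of_isFinLocFree hG
  haveI := isQuasicoherent_of_isFinLocFree hL
  obtain ⟨x⟩ : Nonempty X := inferInstance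
  obtain ⟨U₁, n₁, hx₁, hf₁⟩ := (isFinLocFree_iff_isFreeAlong G).1 hG x
  obtain ⟨U₂, n₂, hx₂, hf₂⟩ := (isFinLocFree_iff_isFreeAlong L).1 hL x
  obtain ⟨V, hV, hxV, hVU⟩ :=
    exists_isAffineOpen_mem_and_subset (x := x) (U := U₁ ⊓ U₂) ⟨hx₁, hx₂⟩
  obtain ⟨e₁⟩ := nonempty_linearEquiv_of_isFreeAlong_fromSpec G hV n₁
    (hf₁.of_range_subset _ (by
      rw [hV.range_fromSpec, Scheme.Opens.range_ι]
      exact fun y hy => (hVU hy).1))
  obtain ⟨e₂⟩ := nonempty_linearEquiv_of_isFreeAlong_fromSpec L hV n₂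
    (hf₂.of_range_subset _ (by
      rw [hV.range_fromSpec, Scheme.Opens.range_ι]
      exact fun y hy => (hVU hy).2))
  have hVne : (V : Set X).Nonempty := ⟨x, hxV⟩
  haveI : Nonempty V := ⟨⟨x, hxV⟩⟩
  intro h
  have hg' : res G (le_top : V ≤ ⊤) g ≠ 0 := fun h0 =>
    hg (eq_zero_of_res_eq_zero_of_isFinLocFree hG le_top hVne g h0)
  have hl' : res L (le_top : V ≤ ⊤) l ≠ 0 := fun h0 =>
    hl (eq_zero_of_res_eq_zero_of_isFinLocFree hL le_top hVne l h0)
  have h1 : tmulSec G L (res G (le_top : V ≤ ⊤) g) (res L (le_top : V ≤ ⊤) l) = 0 := by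
    rw [← res_tmulSec, h, map_zero]
  have h2 : (res G (le_top : V ≤ ⊤) g) ⊗ₜ[Γ(X, V)] (res L (le_top : V ≤ ⊤) l) = 0 := by
    apply (tensorSectionsEquiv G L hV).injective
    rw [tensorSectionsEquiv_tmul, h1, map_zero]
  exact tmul_ne_zero_of_basis (Module.Basis.ofRepr e₁) (Module.Basis.ofRepr e₂) _ _ hg' hl' h2

section Main

variable (k : Type u) [Field k] [X.Over (Spec (CommRingCat.of k))]

/-- the `k`-bilinear multiplication `H⁰(E₁) × H⁰(E₂) → H⁰(E₁ ⊗ E₂)` -/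
noncomputable def mulBil (E₁ E₂ : X.Modules) :
    Coh.HH X E₁ 0 →ₗ[k] Coh.HH X E₂ 0 →ₗ[k] Coh.HH X (CohB1.tensorMod E₁ E₂) 0 :=
  LinearMap.mk₂ k (fun a b => mulFun (𝟙 (CohB1.tensorMod E₁ E₂)) (hh0 E₂ b) a)
    (fun a a' b => mulFun_add_right _ _ a a')
    (fun c a b => mulFun_smul_right _ (Coh.toGlobal (X ↘ Spec (CommRingCat.of k)) c) _ a)
    (fun a b b' => by
      rw [map_add]
      exact mulFun_add_left _ _ _ a)
    (fun c a b => by
      have h1 : hh0 E₂ (c • b) = (show Γ(X, ⊤) from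
          Coh.toGlobal (X ↘ Spec (CommRingCat.of k)) c) • hh0 E₂ b :=
        hh0_smul E₂ (Coh.toGlobal (X ↘ Spec (CommRingCat.of k)) c) b
      rw [h1]
      exact mulFun_smul_left _ (Coh.toGlobal (X ↘ Spec (CommRingCat.of k)) c) _ a)

theorem mulBil_apply (E₁ E₂ : X.Modules) (a : Coh.HH X E₁ 0) (b : Coh.HH X E₂ 0) :
    mulBil k E₁ E₂ a b = mulFun (𝟙 (CohB1.tensorMod E₁ E₂)) (hh0 E₂ b) a := rfl

theorem main [IsAlgClosed k] [IsIntegral X] [IsProper (X ↘ (Spec (CommRingCat.of k)))]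
    (E₁ E₂ : X.Modules) (h₁ : FlatMod.IsFinLocFree E₁) (h₂ : FlatMod.IsFinLocFree E₂)
    [Nontrivial (Coh.HH X E₁ 0)] [Nontrivial (Coh.HH X E₂ 0)] :
    Module.finrank k (Coh.HH X E₁ 0) + Module.finrank k (Coh.HH X E₂ 0) ≤
      Module.finrank k (Coh.HH X (CohB1.tensorMod E₁ E₂) 0) + 1 := by
  have hc₁ := isCoh_of_isFinLocFree h₁
  have hc₂ := isCoh_of_isFinLocFree h₂
  haveI := hc₁.1
  haveI := hc₁.2
  haveI := hc₂.1
  haveI := hc₂.2
  have hc₃ : Coh.IsCoh (CohB1.tensorMod E₁ E₂) := ⟨inferInstance, inferInstance⟩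
  haveI : Module.Finite k (Coh.HH X E₁ 0) := Groth.Agent.S0002.result k X E₁ hc₁ 0
  haveI : Module.Finite k (Coh.HH X E₂ 0) := Groth.Agent.S0002.result k X E₂ hc₂ 0
  haveI : Module.Finite k (Coh.HH X (CohB1.tensorMod E₁ E₂) 0) :=
    Groth.Agent.S0002.result k X _ hc₃ 0
  refine Groth.Agent.Lib.Helper20.HopfLemma.finrank_add_finrank_le k (mulBil k E₁ E₂) ?_
  intro a b ha hb h
  rw [mulBil_apply, mulFun_eq_zero_iff] at h
  have ha' : hh0 E₁ a ≠ 0 := fun h0 => ha ((hh0 E₁).map_eq_zero_iff.1 h0)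
  have hb' : hh0 E₂ b ≠ 0 := fun h0 => hb ((hh0 E₂).map_eq_zero_iff.1 h0)
  exact tmulSec_ne_zero h₁ h₂ _ _ ha' hb' h

end Main

end Groth.Agent.Lib.Helper17.HopfTensor
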