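import Mathlib

/-!
# Homology commutes with exact colimits of complexes
-/

set_option autoImplicit false
set_option linter.style.haveILetI false
set_option linter.unusedSectionVars false

open CategoryTheory CategoryTheory.Limits HomologicalComplex

namespace Groth.Agent.Lib.Helper17.HomologyColim

universe u v w w' w''

variable {C : Type u} [Category.{v} C] [Abelian C] {J : Type w'} [Category.{w''} J]
  [HasColimitsOfShape J C]
  [HasExactColimitsOfShape J C] {ι : Type w} {c : ComplexShape ι}
  (K : J ⥤ HomologicalComplex C c)

/-- the differential as a natural transformation of `J`-diagrams -/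
noncomputable def dNat (i j : ι) : K ⋙ eval C c i ⟶ K ⋙ eval C c j where
  app n := (K.obj n).d i j
  naturality m n f := by
    dsimp
    exact ((K.map f).comm i j)

/-- the short complex of `J`-diagrams in degree `i` -/
noncomputable def shat (i : ι) : ShortComplex (J ⥤ C) :=
  ShortComplex.mk (dNat K (c.prev i) i) (dNat K i (c.next i)) (by
    ext n
    exact (K.obj n).d_comp_d _ _ _)

/-- the inclusion of the `n`-th term into the colimit, as a natural transformation -/
noncomputable def τ (n : J) : (evaluation J C).obj n ⟶ (colim : (J ⥤ C) ⥤ C) where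
  app F := colimit.ι F n
  naturality F G α := by
    dsimp
    rw [ι_colimMap]

/-- the homology diagram -/
noncomputable def D (i : ι) : J ⥤ C := (shat K i).homology

lemma θ_comm (i j : ι) :
    (preservesColimitIso (eval C c i) K).hom ≫ colimMap (dNat K i j) =
      (colimit K).d i j ≫ (preservesColimitIso (eval C c j) K).hom := by
  rw [← Iso.eq_inv_comp]
  apply colimit.hom_ext
  intro n
  rw [ι_colimMap, ι_preservesColimitIso_inv_assoc]
  change (K.obj n).d i j ≫ _ = (colimit.ι K n).f i ≫ _
  rw [(colimit.ι K n).comm_assoc]
  congr 1
  exact (ι_preservesColimitIso_hom (eval C c j) K n).symm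

/-- the comparison of short complexes -/
noncomputable def θ (i : ι) :
    (colimit K).sc i ≅ (shat K i).map (colim : (J ⥤ C) ⥤ C) :=
  ShortComplex.isoMk (preservesColimitIso (eval C c (c.prev i)) K)
    (preservesColimitIso (eval C c i) K) (preservesColimitIso (eval C c (c.next i)) K)
    (θ_comm K (c.prev i) i) (θ_comm K i (c.next i))

lemma map_ι_θ (i : ι) (n : J) :
    (shortComplexFunctor C c i).map (colimit.ι K n) ≫ (θ K i).hom =
      (shat K i).mapNatTrans (τ n) := by
  ext
  · exact ι_preservesColimitIso_hom (eval C c (c.prev i)) K n
  · exact ι_preservesColimitIso_hom (eval C c i) K n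
  · exact ι_preservesColimitIso_hom (eval C c (c.next i)) K n

lemma map_map_eq (i : ι) {m n : J} (f : m ⟶ n) :
    (shortComplexFunctor C c i).map (K.map f) =
      (shat K i).mapNatTrans ((evaluation J C).map f) := by
  ext <;> rfl

lemma homologyMap_K_map (i : ι) {m n : J} (f : m ⟶ n) :
    homologyMap (K.map f) i =
      ((shat K i).mapHomologyIso ((evaluation J C).obj m)).hom ≫ (D K i).map f ≫
        ((shat K i).mapHomologyIso ((evaluation J C).obj n)).inv := by
  have := (shat K i).homologyMap_mapNatTrans ((evaluation J C).map f)
  rw [← map_map_eq] at this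
  exact this

lemma homologyMap_ι_θ (i : ι) (n : J) :
    homologyMap (colimit.ι K n) i ≫ ShortComplex.homologyMap (θ K i).hom =
      ((shat K i).mapHomologyIso ((evaluation J C).obj n)).hom ≫ colimit.ι (D K i) n ≫
        ((shat K i).mapHomologyIso (colim : (J ⥤ C) ⥤ C)).inv := by
  have := (shat K i).homologyMap_mapNatTrans (τ n)
  rw [← map_ι_θ] at this
  exact (ShortComplex.homologyMap_comp _ _).symm.trans this

/-- the homology diagram is the diagram of homologies. -/
noncomputable def DIso (i : ι) : K ⋙ homologyFunctor C c i ≅ D K i :=
  NatIso.ofComponents (fun n => (shat K i).mapHomologyIso ((evaluation J C).obj n)) (by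
    intro m n f
    dsimp
    have h := homologyMap_K_map K i f
    change homologyMap (K.map f) i ≫ _ = _
    exact (Iso.eq_comp_inv _).1 (h.trans (Category.assoc _ _ _).symm))

/-- the homology of the colimit is the colimit of the homologies. -/
noncomputable def homologyColimitIso (i : ι) : (colimit K).homology i ≅ colimit (D K i) :=
  ShortComplex.homologyMapIso (θ K i) ≪≫ (shat K i).mapHomologyIso (colim : (J ⥤ C) ⥤ C)

lemma ι_homologyColimitIso (i : ι) (n : J) :
    homologyMap (colimit.ι K n) i ≫ (homologyColimitIso K i).hom =
      (DIso K i).hom.app n ≫ colimit.ι (D K i) n := by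
  have h := homologyMap_ι_θ K i n
  change homologyMap (colimit.ι K n) i ≫ ShortComplex.homologyMap (θ K i).hom ≫
    ((shat K i).mapHomologyIso (colim : (J ⥤ C) ⥤ C)).hom = _
  exact (Category.assoc _ _ _).symm.trans
    ((Iso.eq_comp_inv _).1 (h.trans (Category.assoc _ _ _).symm))

/-- **homology commutes with exact colimits.** -/
noncomputable def isColimitMapCocone (i : ι) :
    IsColimit ((homologyFunctor C c i).mapCocone (colimit.cocone K)) := by
  have h1 : IsColimit ((Cocone.precompose (DIso K i).hom).obj (colimit.cocone (D K i))) :=
    (IsColimit.precomposeHomEquiv (DIso K i) _).symm (colimit.isColimit (D K i))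
  refine IsColimit.ofIsoColimit h1 (Cocone.ext (homologyColimitIso K i).symm ?_)
  intro n
  dsimp
  rw [Iso.comp_inv_eq]
  exact (ι_homologyColimitIso K i n).symm

instance preservesColimit_homologyFunctor (i : ι) :
    PreservesColimit K (homologyFunctor C c i) :=
  preservesColimit_of_preserves_colimit_cocone (colimit.isColimit K) (isColimitMapCocone K i)

instance preservesColimitsOfShape_homologyFunctor (i : ι) :
    PreservesColimitsOfShape J (homologyFunctor C c i) where
  preservesColimit {K} := preservesColimit_homologyFunctor K i

end Groth.Agent.Lib.Helper17.HomologyColim
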