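/-
helper17: injective amplitude — maps out of single complexes into objects of the derived category,
K-injective targets, and the truncation argument.
-/
import Mathlib
import Groth.Agent.Lib.Helper17.IRes

universe w v u

open CategoryTheory CategoryTheory.Limits

namespace Groth.Agent.Lib.Helper17.InjAmp

variable {C : Type u} [Category.{v} C] [Abelian C]

section Derived

variable [HasDerivedCategory.{w} C]

/-- vanishing of maps `F[0] ⟶ X⟦i⟧` gives vanishing of maps `Z[-i] ⟶ X` -/
lemma eq_zero_of_shift (X : DerivedCategory C) (i : ℤ)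
    (h : ∀ (F : C) (φ : (DerivedCategory.singleFunctor C 0).obj F ⟶
      (shiftFunctor (DerivedCategory C) i).obj X), φ = 0)
    (Z : C) (ψ : (DerivedCategory.singleFunctor C i).obj Z ⟶ X) : ψ = 0 := by
  have h1 := h Z (((DerivedCategory.singleFunctors C).shiftIso i 0 i (add_zero i)).inv.app Z ≫
    (shiftFunctor (DerivedCategory C) i).map ψ)
  have h2 : (shiftFunctor (DerivedCategory C) i).map ψ = 0 := by
    rw [← cancel_epi (((DerivedCategory.singleFunctors C).shiftIso i 0 i (add_zero i)).inv.app Z),
      h1, comp_zero]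
  exact (shiftFunctor (DerivedCategory C) i).map_injective (by rw [h2, Functor.map_zero])

/-- vanishing of maps `Z[-i] ⟶ X` gives vanishing of maps `F[0] ⟶ X⟦i⟧` -/
lemma eq_zero_of_unshift (X : DerivedCategory C) (i : ℤ)
    (h : ∀ (Z : C) (ψ : (DerivedCategory.singleFunctor C i).obj Z ⟶ X), ψ = 0)
    (F : C) (φ : (DerivedCategory.singleFunctor C 0).obj F ⟶
      (shiftFunctor (DerivedCategory C) i).obj X) : φ = 0 := by
  obtain ⟨ψ, hψ⟩ := (shiftFunctor (DerivedCategory C) i).map_surjective
    (((DerivedCategory.singleFunctors C).shiftIso i 0 i (add_zero i)).hom.app F ≫ φ)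
  rw [h F ψ, Functor.map_zero] at hψ
  rw [← cancel_epi (((DerivedCategory.singleFunctors C).shiftIso i 0 i (add_zero i)).hom.app F),
    ← hψ, comp_zero]

/-- morphisms in `D(C)` into a K-injective complex are represented by chain maps -/
lemma exists_Q_map_eq (K I : CochainComplex C ℤ) [I.IsKInjective]
    (g : DerivedCategory.Q.obj K ⟶ DerivedCategory.Q.obj I) :
    ∃ c : K ⟶ I, DerivedCategory.Q.map c = g := by
  let iso := DerivedCategory.quotientCompQhIso C
  obtain ⟨φ, hφ⟩ := (CochainComplex.IsKInjective.Qh_map_bijective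
    ((HomotopyCategory.quotient C (ComplexShape.up ℤ)).obj K) I).2
      (iso.hom.app K ≫ g ≫ iso.inv.app I)
  obtain ⟨c, rfl⟩ := (HomotopyCategory.quotient C (ComplexShape.up ℤ)).map_surjective φ
  refine ⟨c, ?_⟩
  have nat := iso.hom.naturality c
  dsimp at nat hφ
  rw [hφ] at nat
  simp only [Category.assoc, Iso.inv_hom_id_app, Category.comp_id] at nat
  exact ((cancel_epi (iso.hom.app K)).1 nat).symm

/-- chain maps into a K-injective complex that vanish in `D(C)` are null-homotopic -/
lemma homotopy_of_Q_map_eq_zero (K I : CochainComplex C ℤ) [I.IsKInjective]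
    (c : K ⟶ I) (hc : DerivedCategory.Q.map c = 0) : Nonempty (Homotopy c 0) := by
  let iso := DerivedCategory.quotientCompQhIso C
  rw [← HomotopyCategory.quotient_map_eq_zero_iff]
  apply (CochainComplex.IsKInjective.Qh_map_bijective
    ((HomotopyCategory.quotient C (ComplexShape.up ℤ)).obj K) I).1
  have nat := iso.hom.naturality c
  dsimp at nat
  rw [hc, comp_zero] at nat
  rw [Functor.map_zero]
  exact (cancel_mono (iso.hom.app I)).1 (by rw [nat, zero_comp])

end Derived

/-- the chain map from the cycles in degree `i`, placed in degree `i` -/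
noncomputable def cyclesToComplex (K : CochainComplex C ℤ) (i : ℤ) :
    (HomologicalComplex.single C (ComplexShape.up ℤ) i).obj (K.cycles i) ⟶ K :=
  HomologicalComplex.mkHomFromSingle (K.iCycles i) (fun k _ => K.iCycles_d i k)

lemma cyclesToComplex_f (K : CochainComplex C ℤ) (i : ℤ) :
    (cyclesToComplex K i).f i =
      (HomologicalComplex.singleObjXSelf (ComplexShape.up ℤ) i (K.cycles i)).hom ≫ K.iCycles i :=
  HomologicalComplex.mkHomFromSingle_f _ _

/-- if the cycle map becomes zero on homology, the complex is exact there -/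
lemma exactAt_of_homologyMap_cyclesToComplex (K : CochainComplex C ℤ) (i : ℤ)
    (h : HomologicalComplex.homologyMap (cyclesToComplex K i) i = 0) : K.ExactAt i := by
  rw [HomologicalComplex.exactAt_iff_isZero_homology]
  let S := (HomologicalComplex.single C (ComplexShape.up ℤ) i).obj (K.cycles i)
  have nat := HomologicalComplex.homologyπ_naturality (cyclesToComplex K i) i
  haveI : IsIso (S.iCycles i) :=
    S.isIso_iCycles i (i + 1) (by simp) (by simp [S])
  have hcyc : HomologicalComplex.cyclesMap (cyclesToComplex K i) i =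
      S.iCycles i ≫ (HomologicalComplex.singleObjXSelf (ComplexShape.up ℤ) i (K.cycles i)).hom := by
    rw [← cancel_mono (K.iCycles i), HomologicalComplex.cyclesMap_i, cyclesToComplex_f,
      Category.assoc]
  haveI : IsIso (HomologicalComplex.cyclesMap (cyclesToComplex K i) i) := by
    rw [hcyc]; infer_instance
  have hπ : K.homologyπ i = 0 := by
    rw [← cancel_epi (HomologicalComplex.cyclesMap (cyclesToComplex K i) i), ← nat, h,
      comp_zero, comp_zero]
  exact IsZero.of_epi_eq_zero _ hπ

/-- a null-homotopy of the cycle map gives a section of the differential over the cycles -/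
lemma exists_section_of_homotopy (K : CochainComplex C ℤ) (i : ℤ)
    (h : Homotopy (cyclesToComplex K i) 0) :
    ∃ s : K.cycles i ⟶ K.X (i - 1), s ≫ K.d (i - 1) i = K.iCycles i := by
  have hc := h.comm i
  rw [cyclesToComplex_f, HomologicalComplex.zero_f, add_zero,
    prevD_eq h.hom (show (ComplexShape.up ℤ).Rel (i - 1) i by simp),
    dNext_eq h.hom (show (ComplexShape.up ℤ).Rel i (i + 1) by simp)] at hc
  have hd : ((HomologicalComplex.single C (ComplexShape.up ℤ) i).obj (K.cycles i)).d i (i + 1) = 0 := by
    simp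
  rw [hd, zero_comp, zero_add] at hc
  refine ⟨(HomologicalComplex.singleObjXSelf (ComplexShape.up ℤ) i (K.cycles i)).inv ≫
    h.hom i (i - 1), ?_⟩
  rw [Category.assoc, ← hc, Iso.inv_hom_id_assoc]

section Split

variable (K : CochainComplex C ℤ) (i : ℤ)
  (s : K.cycles i ⟶ K.X (i - 1)) (hs : s ≫ K.d (i - 1) i = K.iCycles i)

include hs in
lemma section_toCycles : s ≫ K.toCycles (i - 1) i = 𝟙 _ := by
  rw [← cancel_mono (K.iCycles i), Category.assoc, K.toCycles_i, hs, Category.id_comp]

include hs in
lemma exactAt_of_section : K.ExactAt i := by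
  rw [HomologicalComplex.exactAt_iff_isZero_homology]
  haveI : Epi (K.toCycles (i - 1) i) := by
    haveI : IsSplitEpi (K.toCycles (i - 1) i) := ⟨⟨s, section_toCycles K i s hs⟩⟩
    infer_instance
  have hπ : K.homologyπ i = 0 := by
    rw [← cancel_epi (K.toCycles (i - 1) i), K.toCycles_comp_homologyπ, comp_zero]
  exact IsZero.of_epi_eq_zero _ hπ

include hs in
lemma injective_cycles_of_section [Injective (K.X (i - 1))] : Injective (K.cycles (i - 1)) := by
  have hd : (𝟙 (K.X (i - 1)) - K.toCycles (i - 1) i ≫ s) ≫ K.d (i - 1) i = 0 := by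
    rw [Preadditive.sub_comp, Category.id_comp, Category.assoc, hs, K.toCycles_i, sub_self]
  let r : K.X (i - 1) ⟶ K.cycles (i - 1) :=
    K.liftCycles (𝟙 (K.X (i - 1)) - K.toCycles (i - 1) i ≫ s) i (by simp) hd
  have h0 : K.iCycles (i - 1) ≫ K.toCycles (i - 1) i = 0 := by
    rw [← cancel_mono (K.iCycles i), Category.assoc, K.toCycles_i, K.iCycles_d, zero_comp]
  have hr : K.iCycles (i - 1) ≫ r = 𝟙 _ := by
    rw [← cancel_mono (K.iCycles (i - 1)), Category.assoc, K.liftCycles_i, Preadditive.comp_sub,
      Category.comp_id, reassoc_of% h0, zero_comp, sub_zero, Category.id_comp]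
  exact Retract.injective { i := K.iCycles (i - 1), r := r, retract := hr }

end Split

/-- **Injective amplitude criterion**: `Ext^i(F, X) = 0` for `i ∉ [a, b]` and all `F` iff `X` is
represented by a complex of injectives concentrated in `[a, b]`. -/
theorem injAmp_iff [HasDerivedCategory.{w} C] [EnoughInjectives C]
    (X : DerivedCategory C) (a b : ℤ) (hab : a ≤ b) :
    (∀ (F : C) (i : ℤ), (i < a ∨ b < i) →
        ∀ φ : (DerivedCategory.singleFunctor C 0).obj F ⟶ (shiftFunctor (DerivedCategory C) i).obj X, φ = 0) ↔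
      ∃ I : CochainComplex C ℤ, (∀ i, Injective (I.X i)) ∧ (∀ i, (i < a ∨ b < i) → IsZero (I.X i)) ∧
        Nonempty (DerivedCategory.Q.obj I ≅ X) := by
  classical
  constructor
  · intro hvan
    -- vanishing of maps from singles in degree i
    have hv : ∀ i : ℤ, (i < a ∨ b < i) → ∀ (Z : C)
        (ψ : (DerivedCategory.singleFunctor C i).obj Z ⟶ X), ψ = 0 := fun i hi Z ψ =>
      eq_zero_of_shift X i (fun F φ => hvan F i hi φ) Z ψ
    -- a representative
    let K : CochainComplex C ℤ := DerivedCategory.Q.objPreimage X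
    let e : DerivedCategory.Q.obj K ≅ X := DerivedCategory.Q.objObjPreimageIso X
    -- chain maps from singles into a complex representing X vanish in D
    have hQ : ∀ (M : CochainComplex C ℤ) (eM : DerivedCategory.Q.obj M ≅ X) (i : ℤ),
        (i < a ∨ b < i) → ∀ (Z : C)
        (c : (HomologicalComplex.single C (ComplexShape.up ℤ) i).obj Z ⟶ M),
        DerivedCategory.Q.map c = 0 := by
      intro M eM i hi Z c
      have h2 : DerivedCategory.Q.map c ≫ eM.hom = 0 :=
        hv i hi Z (DerivedCategory.Q.map c ≫ eM.hom)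
      have h4 := congrArg (fun t => t ≫ eM.inv) h2
      simp only [Category.assoc, Iso.hom_inv_id, Category.comp_id, zero_comp] at h4
      exact h4
    -- K is cohomologically ≥ a
    haveI hKa : K.IsGE a := by
      rw [CochainComplex.isGE_iff]
      intro i hi
      apply exactAt_of_homologyMap_cyclesToComplex
      have h0 := hQ K e i (Or.inl hi) _ (cyclesToComplex K i)
      have nat := DerivedCategory.homologyFunctorFactors_hom_naturality (n := i)
        (cyclesToComplex K i)
      rw [h0, Functor.map_zero, zero_comp] at nat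
      exact ((Iso.app (DerivedCategory.homologyFunctorFactors C i) _).cancel_iso_hom_left _ _).1
        (nat.symm.trans comp_zero.symm)
    -- injective resolution of the truncation
    let P : C → Prop := fun Y => Injective Y
    have hP0 : ∃ Z : C, IsZero Z ∧ P Z := by
      obtain ⟨Z, hZ⟩ := HasZeroObject.zero (C := C)
      exact ⟨Z, hZ, ⟨fun g f _ => ⟨0, hZ.eq_of_tgt _ _⟩⟩⟩
    have hl : Groth.Agent.Lib.Helper17.IRes.Hull P :=
      Groth.Agent.Lib.Helper17.IRes.Hull.ofExists (fun Y =>
        ⟨Injective.under Y, Injective.ι Y, inferInstance, inferInstance⟩)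
    obtain ⟨I, α, hI, hIP, -, hα⟩ :=
      Groth.Agent.Lib.Helper17.IRes.exists_coresolution hP0 hl a (K.truncGE a)
    haveI := hα
    haveI : ∀ n, Injective (I.X n) := hIP
    haveI hKI : I.IsKInjective := CochainComplex.isKInjective_of_injective I a
    let eI : DerivedCategory.Q.obj I ≅ X :=
      (asIso (DerivedCategory.Q.map α)).symm ≪≫
        (asIso (DerivedCategory.Q.map (K.πTruncGE a))).symm ≪≫ e
    -- sections above b
    have hsec : ∀ i : ℤ, b < i → ∃ s : I.cycles i ⟶ I.X (i - 1),
        s ≫ I.d (i - 1) i = I.iCycles i := by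
      intro i hi
      have h0 := hQ I eI i (Or.inr hi) _ (cyclesToComplex I i)
      obtain ⟨h⟩ := homotopy_of_Q_map_eq_zero _ I _ h0
      exact exists_section_of_homotopy I i h
    haveI hIb : I.IsLE b := by
      rw [CochainComplex.isLE_iff]
      intro i hi
      obtain ⟨s, hs⟩ := hsec i hi
      exact exactAt_of_section I i s hs
    have hcyc : Injective (I.cycles b) := by
      obtain ⟨s, hs⟩ := hsec (b + 1) (by lia)
      have := injective_cycles_of_section I (b + 1) s hs
      rwa [show b + 1 - 1 = b by lia] at this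
    refine ⟨I.truncLE b, ?_, ?_, ⟨asIso (DerivedCategory.Q.map (I.ιTruncLE b)) ≪≫ eI⟩⟩
    · intro n
      rcases lt_trichotomy n b with hn | rfl | hn
      · exact Injective.of_iso (I.truncLEXIso b n hn).symm inferInstance
      · exact Injective.of_iso (I.truncLEXIsoCycles n).symm hcyc
      · have hz : IsZero ((I.truncLE b).X n) := CochainComplex.isZero_of_isStrictlyLE _ b n hn
        exact ⟨fun g f _ => ⟨0, hz.eq_of_tgt _ _⟩⟩
    · intro n hn
      rcases hn with hn | hn
      · exact IsZero.of_iso (CochainComplex.isZero_of_isStrictlyGE I a n hn)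
          (I.truncLEXIso b n (by lia))
      · exact CochainComplex.isZero_of_isStrictlyLE _ b n hn
  · rintro ⟨I, hinj, hzero, ⟨eI⟩⟩ F i hi φ
    haveI : ∀ n, Injective (I.X n) := hinj
    haveI : I.IsStrictlyGE a := by
      rw [CochainComplex.isStrictlyGE_iff]
      intro n hn
      exact hzero n (Or.inl hn)
    haveI hKI : I.IsKInjective := CochainComplex.isKInjective_of_injective I a
    apply eq_zero_of_unshift X i
    intro Z ψ
    obtain ⟨c, hc⟩ := exists_Q_map_eq
      ((HomologicalComplex.single C (ComplexShape.up ℤ) i).obj Z) I (ψ ≫ eI.inv)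
    have hc0 : c = 0 := by
      apply HomologicalComplex.from_single_hom_ext
      exact (hzero i hi).eq_of_tgt _ _
    rw [hc0, Functor.map_zero] at hc
    have h7 := congrArg (fun t => t ≫ eI.hom) hc.symm
    simp only [Category.assoc, Iso.inv_hom_id, Category.comp_id, zero_comp] at h7
    exact h7

end Groth.Agent.Lib.Helper17.InjAmp
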