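import Mathlib
import Groth.Prelude.Def_Coh
import Groth.Prelude.Def_DCoh4
import Groth.Agent.Lib.Helper17.InjExt
import Groth.Agent.Lib.Helper5.FinLocFreeExt

/-!
# Injectivity of a quasi-coherent module via vanishing of `ℰxt¹(coherent, -)` (statement form)
-/

set_option autoImplicit false

universe u

open CategoryTheory CategoryTheory.Limits AlgebraicGeometry

namespace Groth.Agent.Lib.Helper17.InjExtMain

theorem main {X : Scheme.{u}} [IsLocallyNoetherian X]
    [HasInjectiveResolutions X.Modules] (F : X.Modules) (hF : Coh.IsQCoh F) :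
    Injective F ↔ ∀ (G : X.Modules) [DCoh.HasSheafHom G] [(DCoh.sheafHom G).Additive],
      Coh.IsCoh G → IsZero (((DCoh.sheafHom G).rightDerived 1).obj F) := by
  constructor
  · intro hI G _ _ _
    exact Functor.isZero_rightDerived_obj_injective_succ _ 0 F
  · intro H
    haveI : F.IsQuasicoherent := hF
    haveI : HasInjectiveResolutions (ModSite.Mod X.sheaf) := ‹HasInjectiveResolutions X.Modules›
    apply Groth.Agent.Lib.Helper17.InjExt.injective_of_extSh_vanishing F
    intro G hG
    haveI : ModSite.HasSheafHom (O := X.sheaf) G := Groth.Agent.Lib.Helper17.IHom.hasSheafHom G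
    haveI : DCoh.HasSheafHom G := Groth.Agent.Lib.Helper17.Tensor.isLeftAdjoint_obj (O := X.sheaf) G
    haveI : ((DCoh.tensorBi (X := X)).obj G).Additive :=
      Groth.Agent.Lib.Helper17.ProjFormula.obj_additive (O := X.sheaf) G
    haveI : (DCoh.sheafHom G).Additive := (DCoh.sheafHomAdj G).right_adjoint_additive
    have h := H G hG
    have e2 := @Groth.Agent.Lib.Helper22.DimShift.rightDerivedIsoOfNatIso
      (ModSite.Mod X.sheaf) _ _ _ (ModSite.Mod X.sheaf) _ _
      (ModSite.sheafHom (O := X.sheaf) G) (DCoh.sheafHom G) _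
      ‹(DCoh.sheafHom G).Additive›
      (Groth.Agent.Lib.Helper5.FinLocFreeExt.sheafHomIsoDCoh X G) 1
    exact h.of_iso (e2.app F)

end Groth.Agent.Lib.Helper17.InjExtMain
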