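import Mathlib
import Groth.Prelude.Def_KZero
import Groth.Agent.Lib.Helper17.K0Der

/-!
# `K₀` of finite projective modules over a local ring is `ℤ`
-/

set_option linter.style.haveILetI false

universe u

open CategoryTheory Limits KZero

namespace Groth.Agent.Lib.Helper17.K0Local

open Groth.Agent.Lib.Helper17.K0Der (clSub_eq clSub_of_shortExact)

variable (R : Type u) [CommRing R] [IsLocalRing R]

/-- finite projective modules -/
abbrev FP : ObjectProperty (ModuleCat.{u} R) := fun M => Module.Finite R M ∧ Module.Projective R M

variable {R}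

lemma free_of_FP {M : ModuleCat.{u} R} (hM : FP R M) : Module.Free R M := by
  haveI := hM.1
  haveI := hM.2
  exact Module.free_of_flat_of_isLocalRing

lemma finrank_add (S : ShortComplex (ModuleCat.{u} R)) (hS : S.ShortExact)
    (h₁ : FP R S.X₁) (h₂ : FP R S.X₂) (h₃ : FP R S.X₃) :
    Module.finrank R S.X₂ = Module.finrank R S.X₁ + Module.finrank R S.X₃ := by
  haveI := h₁.1
  haveI := h₃.1
  haveI := h₃.2
  haveI := free_of_FP h₁
  haveI := free_of_FP h₃
  have hex : Function.Exact S.f.hom S.g.hom :=
    (ShortComplex.ShortExact.moduleCat_exact_iff_function_exact S).mp hS.exact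
  have hinj : Function.Injective S.f.hom := hS.moduleCat_injective_f
  have hsurj : Function.Surjective S.g.hom := hS.moduleCat_surjective_g
  obtain ⟨l, hl⟩ := Module.projective_lifting_property S.g.hom LinearMap.id hsurj
  let e := (hex.splitSurjectiveEquiv hinj ⟨l, hl⟩).1
  rw [LinearEquiv.finrank_eq e, Module.finrank_prod]

lemma clSub_of_subsingleton {M : ModuleCat.{u} R} (hM : FP R M) (h0 : Subsingleton M) :
    clSub (FP R) M = 0 := by
  have hZ : IsZero M := ModuleCat.isZero_of_subsingleton M
  have hS : (ShortComplex.mk (0 : M ⟶ M) (0 : M ⟶ M) zero_comp).ShortExact :=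
    { exact := ShortComplex.exact_of_isZero_X₂ _ hZ
      mono_f := ⟨fun _ _ _ => hZ.eq_of_tgt _ _⟩
      epi_g := ⟨fun _ _ _ => hZ.eq_of_src _ _⟩ }
  have := clSub_of_shortExact (FP R) _ hS hM hM hM
  dsimp at this
  exact (add_eq_left.mp this.symm)

lemma hR : FP R (ModuleCat.of R R) := ⟨inferInstance, inferInstance⟩

lemma clSub_eq_nsmul : ∀ (n : ℕ) (M : ModuleCat.{u} R) (hM : FP R M), Module.finrank R M = n →
    clSub (FP R) M = n • clSub (FP R) (ModuleCat.of R R)
  | 0, M, hM, hn => by
      haveI := hM.1
      haveI := free_of_FP hM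
      rw [zero_smul]
      apply clSub_of_subsingleton hM
      exact (Module.finrank_eq_zero_iff_of_free (R := R) (M := M)).mp hn |> fun h => h
  | n + 1, M, hM, hn => by
      haveI := hM.1
      haveI := hM.2
      haveI := free_of_FP hM
      let b := Module.Free.chooseBasis R M
      haveI : Nonempty (Module.Free.ChooseBasisIndex R M) := by
        by_contra hne
        rw [not_nonempty_iff] at hne
        have : Module.finrank R M = 0 := by
          rw [Module.finrank_eq_card_chooseBasisIndex]
          exact Fintype.card_eq_zero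
        omega
      let i₀ : Module.Free.ChooseBasisIndex R M := Classical.arbitrary _
      let g : M →ₗ[R] R := b.coord i₀
      have hg : Function.Surjective g := fun r => ⟨r • b i₀, by simp [g]⟩
      let K : ModuleCat.{u} R := ModuleCat.of R (LinearMap.ker g)
      let S : ShortComplex (ModuleCat.{u} R) :=
        ShortComplex.mk (ModuleCat.ofHom (LinearMap.ker g).subtype : K ⟶ M)
          (ModuleCat.ofHom g : M ⟶ ModuleCat.of R R) (by
            ext x
            exact x.2)
      have hS : S.ShortExact :=
        { exact := by
            rw [ShortComplex.ShortExact.moduleCat_exact_iff_function_exact]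
            exact LinearMap.exact_subtype_ker_map g
          mono_f := (ModuleCat.mono_iff_injective _).mpr (Submodule.subtype_injective _)
          epi_g := (ModuleCat.epi_iff_surjective _).mpr hg }
      -- the kernel is a retract of `M`
      obtain ⟨l, hl⟩ := Module.projective_lifting_property g LinearMap.id hg
      let r : M →ₗ[R] LinearMap.ker g :=
        LinearMap.codRestrict (LinearMap.ker g) (LinearMap.id - l ∘ₗ g) (fun x => by
          rw [LinearMap.mem_ker, LinearMap.sub_apply, map_sub, LinearMap.id_apply,
            LinearMap.comp_apply]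
          have := LinearMap.congr_fun hl (g x)
          simp only [LinearMap.comp_apply, LinearMap.id_apply] at this
          rw [this, sub_self])
      have hr : r ∘ₗ (LinearMap.ker g).subtype = LinearMap.id := by
        ext x
        have hx : g x.1 = 0 := x.2
        simp [r, hx]
      have hK : FP R K :=
        ⟨Module.Finite.of_surjective r (fun x => ⟨x.1, LinearMap.congr_fun hr x⟩),
          Module.Projective.of_split (LinearMap.ker g).subtype r hr⟩
      have hrank := finrank_add S hS hK hM hR
      have hRR : Module.finrank R (ModuleCat.of R R) = 1 := Module.finrank_self R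
      have hKn : Module.finrank R K = n := by
        change Module.finrank R M = Module.finrank R K + Module.finrank R (ModuleCat.of R R) at hrank
        omega
      have h1 := clSub_of_shortExact (FP R) S hS hK hM hR
      have h2 := clSub_eq_nsmul n K hK hKn
      change clSub (FP R) M = clSub (FP R) K + clSub (FP R) (ModuleCat.of R R) at h1
      rw [h1, h2, succ_nsmul]

variable (R)

/-- the rank homomorphism -/
noncomputable def rk : K0sub (FP R) →+ ℤ :=
  QuotientAddGroup.lift (relSub (FP R))
    (FreeAbelianGroup.lift (fun X : Subtype (FP R) => (Module.finrank R X.1 : ℤ)))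
    (by
      rw [relSub, AddSubgroup.closure_le]
      rintro x ⟨S, h₁, h₂, h₃, hS, rfl⟩
      rw [SetLike.mem_coe, AddMonoidHom.mem_ker, map_sub, map_sub,
        FreeAbelianGroup.lift_apply_of, FreeAbelianGroup.lift_apply_of,
        FreeAbelianGroup.lift_apply_of]
      dsimp only
      rw [finrank_add S hS h₁ h₂ h₃]
      push_cast
      ring)

variable {R}

lemma rk_clSub {M : ModuleCat.{u} R} (hM : FP R M) :
    rk R (clSub (FP R) M) = (Module.finrank R M : ℤ) := by
  rw [clSub_eq (FP R) hM]
  exact (QuotientAddGroup.lift_mk _ _ _).trans (FreeAbelianGroup.lift_apply_of _ _)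

variable (R)

theorem main : ∃ e : K0sub (FP R) ≃+ ℤ, e (clSub (FP R) (ModuleCat.of R R)) = 1 := by
  have h1 : rk R (clSub (FP R) (ModuleCat.of R R)) = 1 := by
    rw [rk_clSub hR]
    have : Module.finrank R (ModuleCat.of R R) = 1 := Module.finrank_self R
    rw [this]
    rfl
  have hgen : ∀ x : K0sub (FP R), ∃ k : ℤ, x = k • clSub (FP R) (ModuleCat.of R R) := by
    intro x
    induction x using QuotientAddGroup.induction_on with
    | H x =>
      induction x using FreeAbelianGroup.induction_on with
      | zero => exact ⟨0, by simp⟩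
      | of X =>
        refine ⟨(Module.finrank R X.1 : ℤ), ?_⟩
        have h2 : ((FreeAbelianGroup.of X : FreeAbelianGroup (Subtype (FP R))) : K0sub (FP R)) =
            clSub (FP R) X.1 := (clSub_eq (FP R) X.2).symm
        rw [h2, clSub_eq_nsmul _ X.1 X.2 rfl, natCast_zsmul]
      | neg X hX =>
        obtain ⟨k, hk⟩ := hX
        refine ⟨-k, ?_⟩
        rw [QuotientAddGroup.mk_neg, hk, neg_smul]
      | add x y hx hy =>
        obtain ⟨k, hk⟩ := hx
        obtain ⟨l, hl⟩ := hy
        refine ⟨k + l, ?_⟩
        rw [QuotientAddGroup.mk_add, hk, hl, add_smul]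
  refine ⟨AddEquiv.ofBijective (rk R) ⟨?_, ?_⟩, h1⟩
  · rw [injective_iff_map_eq_zero]
    intro x hx
    obtain ⟨k, rfl⟩ := hgen x
    rw [map_zsmul, h1, smul_eq_mul, mul_one] at hx
    rw [hx, zero_smul]
  · intro k
    exact ⟨k • clSub (FP R) (ModuleCat.of R R), by rw [map_zsmul, h1, smul_eq_mul, mul_one]⟩

end Groth.Agent.Lib.Helper17.K0Local
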