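import Mathlib
import Groth.Prelude.Def_KZero
import Groth.Agent.Lib.Helper13.PCPerfect
import Groth.Agent.Lib.Helper17.K0Der

/-!
# K₀ of a liftable class `P` versus K₀ of `P`-perfect complexes
-/

set_option autoImplicit false
set_option linter.style.haveILetI false
set_option linter.unusedSectionVars false

universe w v u

open CategoryTheory Limits KZero ZeroObject Pretriangulated DerivedCategory

namespace Groth.Agent.Lib.Helper17.K0Perf

open Groth.Agent.Lib.Helper13 Groth.Agent.Lib.Helper13.PC Groth.Agent.Lib.Helper17.K0Der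

variable {C : Type u} [Category.{v} C] [Abelian C]
  (P : ObjectProperty C) [P.IsClosedUnderIsomorphisms] [P.ContainsZero]

omit [P.IsClosedUnderIsomorphisms] [P.ContainsZero] in
lemma clSub_biprod {X Y : C} (hX : P X) (hY : P Y) (hXY : P (X ⊞ Y)) :
    clSub P (X ⊞ Y) = clSub P X + clSub P Y :=
  clSub_of_shortExact P (ShortComplex.mk (biprod.inl : X ⟶ X ⊞ Y) biprod.snd (by simp))
    (ShortComplex.Splitting.ofHasBinaryBiproduct X Y).shortExact hX hXY hY

/-- the `i`-th term of the Euler characteristic of a complex -/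
noncomputable def chiTerm (E : CochainComplex C ℤ) (i : ℤ) : K0sub P :=
  ((i.negOnePow : ℤˣ) : ℤ) • clSub P (E.X i)

/-- the Euler characteristic of a complex -/
noncomputable def chi (E : CochainComplex C ℤ) : K0sub P := ∑ᶠ i : ℤ, chiTerm P E i

lemma chiTerm_eq_zero {E : CochainComplex C ℤ} {i : ℤ} (h : IsZero (E.X i)) :
    chiTerm P E i = 0 := by
  rw [chiTerm, clSub_of_isZero P h, smul_zero]

lemma support_chiTerm (E : CochainComplex C ℤ) (a b : ℤ)
    (hv : ∀ i : ℤ, i < a ∨ b < i → IsZero (E.X i)) :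
    Function.support (chiTerm P E) ⊆ Set.Icc a b := by
  intro i hi
  by_contra hi'
  rw [Set.mem_Icc, not_and_or, not_le, not_le] at hi'
  exact hi (chiTerm_eq_zero P (hv i hi'))

lemma support_chiTerm_finite (E : CochainComplex C ℤ) (a b : ℤ)
    (hv : ∀ i : ℤ, i < a ∨ b < i → IsZero (E.X i)) :
    (Function.support (chiTerm P E)).Finite :=
  (Set.finite_Icc a b).subset (support_chiTerm P E a b hv)

lemma chi_eq_sum (E : CochainComplex C ℤ) (a b : ℤ)
    (hv : ∀ i : ℤ, i < a ∨ b < i → IsZero (E.X i)) :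
    chi P E = ∑ i ∈ Finset.Icc a b, chiTerm P E i := by
  rw [chi]
  apply finsum_eq_sum_of_support_subset
  intro i hi
  have := support_chiTerm P E a b hv hi
  simpa using this

/-- strictly perfect complexes -/
def SP (E : CochainComplex C ℤ) : Prop :=
  (∃ a b : ℤ, ∀ i : ℤ, i < a ∨ b < i → IsZero (E.X i)) ∧ ∀ i : ℤ, P (E.X i)

variable (hsum : ∀ X Y : C, P X → P Y → P (X ⨯ Y))

omit [P.ContainsZero] in
include hsum in
lemma SP_mappingCone {E F : CochainComplex C ℤ} (f : E ⟶ F) (hE : SP P E) (hF : SP P F) :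
    SP P (CochainComplex.mappingCone f) := by
  obtain ⟨⟨a, b, hv⟩, hP⟩ := hE
  obtain ⟨⟨a', b', hv'⟩, hP'⟩ := hF
  refine ⟨⟨min (a - 1) a', max b b', fun i hi => ?_⟩, fun i => ?_⟩
  · refine IsZero.of_iso ?_ (HomologicalComplex.homotopyCofiber.XIsoBiprod f i (i + 1) rfl)
    have h1 : IsZero (E.X (i + 1)) := hv _ (by
      rcases hi with hi | hi
      · exact Or.inl (by have := min_le_left (a - 1) a'; lia)
      · exact Or.inr (by have := le_max_left b b'; lia))
    have h2 : IsZero (F.X i) := hv' _ (by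
      rcases hi with hi | hi
      · exact Or.inl (by have := min_le_right (a - 1) a'; lia)
      · exact Or.inr (by have := le_max_right b b'; lia))
    rw [IsZero.iff_id_eq_zero]
    apply biprod.hom_ext
    · exact h1.eq_of_tgt _ _
    · exact h2.eq_of_tgt _ _
  · exact prop_mappingCone_X P hsum f i (i + 1) rfl (hP _) (hP' _)

include hsum in
lemma chi_mappingCone {E F : CochainComplex C ℤ} (f : E ⟶ F) (hE : SP P E) (hF : SP P F) :
    chi P (CochainComplex.mappingCone f) = chi P F - chi P E := by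
  obtain ⟨⟨a, b, hv⟩, hP⟩ := hE
  obtain ⟨⟨a', b', hv'⟩, hP'⟩ := hF
  have e : ∀ i, chiTerm P (CochainComplex.mappingCone f) i =
      chiTerm P F i - chiTerm P E (i + 1) := by
    intro i
    have hb := prop_biprod P hsum (hP (i + 1)) (hP' i)
    have e : (CochainComplex.mappingCone f).X i ≅ E.X (i + 1) ⊞ F.X i :=
      HomologicalComplex.homotopyCofiber.XIsoBiprod f i (i + 1) rfl
    rw [chiTerm, chiTerm, chiTerm,
      clSub_of_iso P e (prop_mappingCone_X P hsum f i (i + 1) rfl (hP _) (hP' _)),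
      clSub_biprod P (hP (i + 1)) (hP' i) hb, Int.negOnePow_succ, Units.val_neg, neg_smul,
      smul_add]
    abel
  have hs1 := support_chiTerm_finite P F a' b' hv'
  have hs2 : (Function.support (fun i => chiTerm P E (i + 1))).Finite := by
    have : (fun i => chiTerm P E (i + 1)) = chiTerm P E ∘ (Equiv.addRight (1 : ℤ)) := rfl
    rw [this]
    exact (support_chiTerm_finite P E a b hv).preimage (Equiv.injective _).injOn
  have hsum' : ∑ᶠ i, chiTerm P E (i + 1) = ∑ᶠ i, chiTerm P E i :=
    finsum_comp_equiv (Equiv.addRight (1 : ℤ)) (f := chiTerm P E)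
  rw [chi, funext e, finsum_sub_distrib hs1 hs2, hsum']
  rfl

variable (hst : ∀ (E F : C) (u : E ⟶ F), Epi u → P E → P F → P (kernel u))

include hst in
lemma chi_of_acyclic (E : CochainComplex C ℤ) (hE : SP P E) (hac : ∀ i : ℤ, E.ExactAt i) :
    chi P E = 0 := by
  obtain ⟨⟨a, b, hv⟩, hP⟩ := hE
  have hZ : ∀ i : ℤ, P (E.cycles i) := by
    intro i
    exact prop_cycles_of_hst P hst E (i - 1) (max b i)
      (fun j hj => hv j (Or.inr (by have := le_max_left b i; lia))) (fun j _ => hP j)
      (fun j _ => hac j) i (by lia)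
  let z : ℤ → K0sub P := fun i => ((i.negOnePow : ℤˣ) : ℤ) • clSub P (E.cycles i)
  have hz : (Function.support z).Finite := by
    refine (Set.finite_Icc a b).subset ?_
    intro i hi
    by_contra hi'
    rw [Set.mem_Icc, not_and_or, not_le, not_le] at hi'
    apply hi
    have h0 : IsZero (E.cycles i) := IsZero.of_mono (E.iCycles i) (hv i hi')
    change ((i.negOnePow : ℤˣ) : ℤ) • clSub P (E.cycles i) = 0
    rw [clSub_of_isZero P h0, smul_zero]
  have hz' : (Function.support (fun i => z (i + 1))).Finite := by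
    have : (fun i => z (i + 1)) = z ∘ (Equiv.addRight (1 : ℤ)) := rfl
    rw [this]
    exact hz.preimage (Equiv.injective _).injOn
  have e : ∀ i, chiTerm P E i = z i - z (i + 1) := by
    intro i
    have hS : (cyclesSC E i (i + 1)).ShortExact :=
      { exact := cyclesSC_exact E i (i + 1) rfl
        mono_f := inferInstanceAs (Mono (E.iCycles i))
        epi_g := epi_toCycles_of_exactAt E i (i + 1) rfl (hac _) }
    have := clSub_of_shortExact P _ hS (hZ i) (hP i) (hZ (i + 1))
    change clSub P (E.X i) = clSub P (E.cycles i) + clSub P (E.cycles (i + 1)) at this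
    simp only [chiTerm, z, this, Int.negOnePow_succ, Units.val_neg, neg_smul, smul_add]
    abel
  have hsum' : ∑ᶠ i, z (i + 1) = ∑ᶠ i, z i :=
    finsum_comp_equiv (Equiv.addRight (1 : ℤ)) (f := z)
  rw [chi, funext e, finsum_sub_distrib hz hz', hsum', sub_self]

section Derived

variable [HasDerivedCategory.{w} C]
variable (hlift : ∀ (E F : C) (u : E ⟶ F), Epi u → P F → IsSplitEpi u)

omit [P.IsClosedUnderIsomorphisms] [P.ContainsZero] in
lemma exactAt_of_isZero_Q (E : CochainComplex C ℤ) (h : IsZero (Q.obj E)) (i : ℤ) :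
    E.ExactAt i := by
  rw [HomologicalComplex.exactAt_iff_isZero_homology]
  exact ((homologyFunctor C i).map_isZero h).of_iso ((homologyFunctorFactors C i).app E).symm

omit [P.IsClosedUnderIsomorphisms] [P.ContainsZero] in
include hlift in
lemma SP.isKProjective {E : CochainComplex C ℤ} (hE : SP P E) : E.IsKProjective := by
  obtain ⟨⟨a, b, hv⟩, hP⟩ := hE
  exact isKProjective_of_hlift P hlift E b (fun i hi => hv i (Or.inr hi)) hP

include hsum hst hlift

/-- the Euler characteristic of a strictly perfect complex only depends on its class in `D(C)` -/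
lemma chi_eq_of_iso {E F : CochainComplex C ℤ} (hE : SP P E) (hF : SP P F)
    (e : Q.obj E ≅ Q.obj F) : chi P E = chi P F := by
  have : E.IsKProjective := hE.isKProjective P hlift
  obtain ⟨g, hg⟩ := PC.exists_Q_map_eq e.hom
  have hiso : IsIso (Q.map g) := by rw [hg]; infer_instance
  have hT := mappingCone_triangle_distinguished g
  have hz : IsZero (Q.obj (CochainComplex.mappingCone g)) :=
    Triangle.isZero₃_of_isIso₁ _ hT hiso
  have := chi_of_acyclic P hst _ (SP_mappingCone P hsum g hE hF) (exactAt_of_isZero_Q _ hz)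
  rw [chi_mappingCone P hsum g hE hF, sub_eq_zero] at this
  exact this.symm

lemma chi_of_distinguished (T : Triangle (DerivedCategory C)) (hT : T ∈ distTriang _)
    {E₁ E₂ E₃ : CochainComplex C ℤ} (h₁ : SP P E₁) (h₂ : SP P E₂) (h₃ : SP P E₃)
    (e₁ : Q.obj E₁ ≅ T.obj₁) (e₂ : Q.obj E₂ ≅ T.obj₂) (e₃ : Q.obj E₃ ≅ T.obj₃) :
    chi P E₂ = chi P E₁ + chi P E₃ := by
  have : E₁.IsKProjective := h₁.isKProjective P hlift
  obtain ⟨f, hf⟩ := PC.exists_Q_map_eq (e₁.hom ≫ T.mor₁ ≫ e₂.inv)
  have hT' := mappingCone_triangle_distinguished f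
  have i := isoTriangleOfIso₁₂ _ T hT' hT e₁ e₂ (by
    change Q.map f ≫ e₂.hom = e₁.hom ≫ T.mor₁
    rw [hf]
    simp)
  have e : Q.obj (CochainComplex.mappingCone f) ≅ Q.obj E₃ :=
    Triangle.π₃.mapIso i ≪≫ e₃.symm
  have := chi_eq_of_iso P hsum hst hlift (SP_mappingCone P hsum f h₁ h₂) h₃ e
  rw [chi_mappingCone P hsum f h₁ h₂] at this
  rw [← this]
  abel

omit hsum hst hlift in
lemma exists_SP_of_isPerf {K : DerivedCategory C} (hK : IsPerf P K) :
    ∃ E : CochainComplex C ℤ, SP P E ∧ Nonempty (Q.obj E ≅ K) := by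
  obtain ⟨E, a, b, hv, hP, he⟩ := hK
  exact ⟨E, ⟨⟨a, b, hv⟩, hP⟩, he⟩

omit hsum hst hlift in
lemma SP.isPerf {E : CochainComplex C ℤ} (hE : SP P E) : IsPerf P (Q.obj E) := by
  obtain ⟨⟨a, b, hv⟩, hP⟩ := hE
  exact ⟨E, a, b, hv, hP, ⟨Iso.refl _⟩⟩

open Classical in
/-- the Euler characteristic of a perfect object -/
noncomputable def chiD (K : DerivedCategory C) : K0sub P :=
  if h : IsPerf P K then chi P (exists_SP_of_isPerf P h).choose else 0

lemma chiD_eq {K : DerivedCategory C} {E : CochainComplex C ℤ} (hE : SP P E)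
    (e : Q.obj E ≅ K) : chiD P K = chi P E := by
  have hK : IsPerf P K := (hE.isPerf P).of_iso e
  rw [chiD, dif_pos hK]
  obtain ⟨h1, ⟨e'⟩⟩ := (exists_SP_of_isPerf P hK).choose_spec
  exact chi_eq_of_iso P hsum hst hlift h1 hE (e' ≪≫ e.symm)

lemma chiD_of_distinguished (T : Triangle (DerivedCategory C)) (hT : T ∈ distTriang _)
    (h₁ : IsPerf P T.obj₁) (h₂ : IsPerf P T.obj₂) (h₃ : IsPerf P T.obj₃) :
    chiD P T.obj₂ = chiD P T.obj₁ + chiD P T.obj₃ := by
  obtain ⟨E₁, hE₁, ⟨e₁⟩⟩ := exists_SP_of_isPerf P h₁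
  obtain ⟨E₂, hE₂, ⟨e₂⟩⟩ := exists_SP_of_isPerf P h₂
  obtain ⟨E₃, hE₃, ⟨e₃⟩⟩ := exists_SP_of_isPerf P h₃
  rw [chiD_eq P hsum hst hlift hE₁ e₁, chiD_eq P hsum hst hlift hE₂ e₂,
    chiD_eq P hsum hst hlift hE₃ e₃]
  exact chi_of_distinguished P hsum hst hlift T hT hE₁ hE₂ hE₃ e₁ e₂ e₃

/-- the Euler characteristic map -/
noncomputable def ψ : K0tr (IsPerf (C := C) P) →+ K0sub P :=
  QuotientAddGroup.lift (relTr (IsPerf (C := C) P))
    (FreeAbelianGroup.lift (fun K : Subtype (IsPerf (C := C) P) => chiD P K.1))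
    (by
      rw [relTr, AddSubgroup.closure_le]
      rintro x ⟨T, h₁, h₂, h₃, hT, rfl⟩
      rw [SetLike.mem_coe, AddMonoidHom.mem_ker, map_sub, map_sub,
        FreeAbelianGroup.lift_apply_of, FreeAbelianGroup.lift_apply_of,
        FreeAbelianGroup.lift_apply_of]
      dsimp
      rw [chiD_of_distinguished P hsum hst hlift T hT h₁ h₂ h₃]
      abel)

lemma ψ_clTr {K : DerivedCategory C} (hK : IsPerf P K) :
    ψ P hsum hst hlift (clTr (IsPerf (C := C) P) K) = chiD P K := by
  rw [clTr_eq (IsPerf (C := C) P) hK]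
  exact (QuotientAddGroup.lift_mk _ _ _).trans (FreeAbelianGroup.lift_apply_of _ _)

omit hsum hst hlift in
/-- the map `K₀(P) → K₀(Perf)` -/
noncomputable def φ : K0sub P →+ K0tr (IsPerf (C := C) P) :=
  QuotientAddGroup.lift (relSub P)
    (FreeAbelianGroup.lift (fun X : Subtype P =>
      clTr (IsPerf (C := C) P) ((singleFunctor C 0).obj X.1)))
    (by
      rw [relSub, AddSubgroup.closure_le]
      rintro x ⟨S, h₁, h₂, h₃, hS, rfl⟩
      rw [SetLike.mem_coe, AddMonoidHom.mem_ker, map_sub, map_sub,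
        FreeAbelianGroup.lift_apply_of, FreeAbelianGroup.lift_apply_of,
        FreeAbelianGroup.lift_apply_of]
      have : clTr (IsPerf (C := C) P) ((singleFunctor C 0).obj S.X₂) =
          clTr (IsPerf (C := C) P) ((singleFunctor C 0).obj S.X₁) +
            clTr (IsPerf (C := C) P) ((singleFunctor C 0).obj S.X₃) :=
        clTr_of_distinguished (IsPerf (C := C) P) _ hS.singleTriangle_distinguished
          (isPerf_single 0 h₁) (isPerf_single 0 h₂) (isPerf_single 0 h₃)
      dsimp only
      rw [this]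
      abel)

omit hsum hst hlift in
lemma φ_clSub {X : C} (hX : P X) :
    φ P (clSub P X) = clTr (IsPerf (C := C) P) ((singleFunctor C 0).obj X) := by
  rw [clSub_eq P hX]
  exact (QuotientAddGroup.lift_mk _ _ _).trans (FreeAbelianGroup.lift_apply_of _ _)

omit hsum hst hlift in
lemma SP_single {X : C} (hX : P X) (n : ℤ) :
    SP P ((HomologicalComplex.single C (ComplexShape.up ℤ) n).obj X) := by
  refine ⟨⟨n, n, fun i hi => HomologicalComplex.isZero_single_obj_X _ n X i (by lia)⟩, fun i => ?_⟩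
  by_cases h : i = n
  · subst h
    exact (P.prop_iff_of_iso (HomologicalComplex.singleObjXSelf _ i X)).2 hX
  · exact P.prop_of_isZero (HomologicalComplex.isZero_single_obj_X _ n X i h)

omit hsum hst hlift in
lemma chi_single {X : C} (hX : P X) (n : ℤ) :
    chi P ((HomologicalComplex.single C (ComplexShape.up ℤ) n).obj X) =
      ((n.negOnePow : ℤˣ) : ℤ) • clSub P X := by
  rw [chi, finsum_eq_single _ n]
  · rw [chiTerm, clSub_of_iso P (HomologicalComplex.singleObjXSelf (ComplexShape.up ℤ) n X)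
      ((SP_single P hX n).2 n)]
  · intro i hi
    exact chiTerm_eq_zero P (HomologicalComplex.isZero_single_obj_X _ n X i hi)

lemma chiD_single {X : C} (hX : P X) :
    chiD P ((singleFunctor C 0).obj X) = clSub P X := by
  rw [chiD_eq P hsum hst hlift (SP_single P hX 0) (singleIsoQ 0 X).symm, chi_single P hX 0]
  simp

lemma ψ_φ (x : K0sub P) : ψ P hsum hst hlift (φ P x) = x := by
  induction x using QuotientAddGroup.induction_on with
  | H x =>
    induction x using FreeAbelianGroup.induction_on with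
    | zero => simp
    | of X =>
      have h1 : ((FreeAbelianGroup.of X : FreeAbelianGroup (Subtype P)) : K0sub P) =
          clSub P X.1 := (clSub_eq P X.2).symm
      rw [h1, φ_clSub P X.2, ψ_clTr P hsum hst hlift (isPerf_single 0 X.2),
        chiD_single P hsum hst hlift X.2]
    | neg X h =>
      rw [QuotientAddGroup.mk_neg, map_neg, map_neg, h]
    | add x y hx hy =>
      rw [QuotientAddGroup.mk_add, map_add, map_add, hx, hy]

omit hsum hst hlift in
lemma isPerf_zero : IsPerf P (0 : DerivedCategory C) := isPerf_of_isZero (isZero_zero _)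

omit hsum hst hlift in
lemma clTr_single' {A : C} (hA : P A) (n : ℤ) :
    clTr (IsPerf (C := C) P) ((singleFunctor C n).obj A) =
      ((n.negOnePow : ℤˣ) : ℤ) • clTr (IsPerf (C := C) P) ((singleFunctor C 0).obj A) := by
  have R : ∀ m : ℤ, clTr (IsPerf (C := C) P) ((singleFunctor C m).obj A) =
      - clTr (IsPerf (C := C) P) ((singleFunctor C (m + 1)).obj A) := by
    intro m
    let e : ((singleFunctor C (m + 1)).obj A)⟦(1 : ℤ)⟧ ≅ (singleFunctor C m).obj A :=
      ((singleFunctors C).shiftIso 1 m (m + 1) (by ring)).app A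
    rw [← clTr_of_iso (IsPerf (C := C) P) (isPerf_zero P) e
      ((isPerf_single m hA).of_iso e.symm) (isPerf_single m hA),
      clTr_shift (IsPerf (C := C) P) (isPerf_zero P) (isPerf_single (m + 1) hA)
        ((isPerf_single m hA).of_iso e.symm)]
  induction n using Int.induction_on with
  | zero => simp
  | succ n ih =>
    have := R n
    rw [ih] at this
    rw [Int.negOnePow_succ, Units.val_neg, neg_smul, this, neg_neg]
  | pred n ih =>
    have := R (-(n : ℤ) - 1)
    rw [sub_add_cancel, ih] at this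
    rw [this, Int.negOnePow_sub, Int.negOnePow_one]
    simp

omit hsum hst hlift in
lemma clTr_isZero' {K : DerivedCategory C} (hK : IsZero K) : clTr (IsPerf (C := C) P) K = 0 := by
  rw [clTr_of_iso (IsPerf (C := C) P) (isPerf_zero P) (hK.iso (isZero_zero _))
    (isPerf_of_isZero hK) (isPerf_zero P), clTr_zero (IsPerf (C := C) P) (isPerf_zero P)]

omit hsum hst hlift in
/-- the class of a strictly perfect complex is the image of its Euler characteristic -/
lemma clTr_Q_eq (a : ℤ) (n : ℕ) : ∀ (E : CochainComplex C ℤ),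
    (∀ i : ℤ, i < a ∨ a - 1 + n < i → IsZero (E.X i)) → (∀ i : ℤ, P (E.X i)) →
    clTr (IsPerf (C := C) P) (Q.obj E) = φ P (chi P E) := by
  induction n with
  | zero =>
    intro E hv hP
    have hz : ∀ i : ℤ, IsZero (E.X i) := fun i => hv i (by simp; lia)
    have hE0 : IsZero E := by
      rw [IsZero.iff_id_eq_zero]
      ext i
      exact (hz i).eq_of_src _ _
    have : chi P E = 0 := by
      rw [chi]
      exact finsum_eq_zero_of_forall_eq_zero (fun i => chiTerm_eq_zero P (hz i))
    rw [clTr_isZero' P ((Q (C := C)).map_isZero hE0), this, map_zero]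
  | succ n ih =>
    intro E hv hP
    obtain ⟨b, hbn⟩ : ∃ b : ℤ, b = a + n := ⟨_, rfl⟩
    have hvb : ∀ i : ℤ, b < i → IsZero (E.X i) := fun i hi => hv i (Or.inr (by push_cast; lia))
    obtain ⟨F', hF'b, hiso, T, hT, ⟨e₁⟩, ⟨e₂⟩, ⟨e₃⟩⟩ := exists_top_quotient E b (hvb _ (by lia))
    have hvF : ∀ i : ℤ, i < a ∨ a - 1 + n < i → IsZero (F'.X i) := by
      intro i hi
      by_cases h : i = b
      · subst h; exact hF'b
      · obtain ⟨e⟩ := hiso i h
        refine (hv i ?_).of_iso e.symm
        rcases hi with hi | hi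
        · exact Or.inl hi
        · exact Or.inr (by push_cast; lia)
    have hPF : ∀ i : ℤ, P (F'.X i) := by
      intro i
      by_cases h : i = b
      · subst h; exact P.prop_of_isZero hF'b
      · obtain ⟨e⟩ := hiso i h
        exact P.prop_of_iso e (hP i)
    have hSPE : SP P E := ⟨⟨a, a - 1 + (n + 1 : ℕ), hv⟩, hP⟩
    have hSPF : SP P F' := ⟨⟨a, a - 1 + n, hvF⟩, hPF⟩
    have h1 : IsPerf P T.obj₁ := (isPerf_single b (hP b)).of_iso (singleIsoQ b _ ≪≫ e₁.symm)
    have h2 : IsPerf P T.obj₂ := (hSPE.isPerf P).of_iso e₂.symm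
    have h3 : IsPerf P T.obj₃ := (hSPF.isPerf P).of_iso e₃.symm
    have key := clTr_of_distinguished (IsPerf (C := C) P) T hT h1 h2 h3
    rw [clTr_of_iso (IsPerf (C := C) P) (isPerf_zero P) e₂ h2 (hSPE.isPerf P),
      clTr_of_iso (IsPerf (C := C) P) (isPerf_zero P) e₃ h3 (hSPF.isPerf P),
      clTr_of_iso (IsPerf (C := C) P) (isPerf_zero P) (e₁ ≪≫ (singleIsoQ b _).symm) h1
        (isPerf_single b (hP b)), ih F' hvF hPF, clTr_single' P (hP b) b,
        ← φ_clSub P (hP b), ← map_zsmul, ← map_add] at key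
    rw [key]
    congr 1
    symm
    change chi P E = chiTerm P E b + chi P F'
    have e : ∀ i, chiTerm P E i =
        (Pi.single b (chiTerm P E b) : ℤ → K0sub P) i + chiTerm P F' i := by
      intro i
      by_cases h : i = b
      · subst h
        rw [Pi.single_eq_same, chiTerm_eq_zero P hF'b, add_zero]
      · obtain ⟨e⟩ := hiso i h
        rw [Pi.single_eq_of_ne h, zero_add, chiTerm, chiTerm, clSub_of_iso P e (hP i)]
    have hs1 : (Function.support (Pi.single b (chiTerm P E b) : ℤ → K0sub P)).Finite :=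
      (Set.finite_singleton b).subset Pi.support_single_subset
    conv_lhs => rw [chi, funext e]
    rw [finsum_add_distrib hs1 (support_chiTerm_finite P F' _ _ hvF),
      finsum_eq_single _ b (fun i hi => Pi.single_eq_of_ne hi _), Pi.single_eq_same]
    rfl

omit hsum hst hlift in
lemma clTr_Q_eq' {E : CochainComplex C ℤ} (hE : SP P E) :
    clTr (IsPerf (C := C) P) (Q.obj E) = φ P (chi P E) := by
  obtain ⟨⟨a, b, hv⟩, hP⟩ := hE
  by_cases hab : a - 1 ≤ b
  · refine clTr_Q_eq P a (b - (a - 1)).toNat E (fun i hi => hv i ?_) hP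
    rw [Int.toNat_of_nonneg (by lia)] at hi
    rcases hi with hi | hi
    · exact Or.inl hi
    · exact Or.inr (by lia)
  · refine clTr_Q_eq P a 0 E (fun i hi => hv i ?_) hP
    by_cases h : i < a
    · exact Or.inl h
    · exact Or.inr (by lia)

lemma φ_ψ (y : K0tr (IsPerf (C := C) P)) : φ P (ψ P hsum hst hlift y) = y := by
  induction y using QuotientAddGroup.induction_on with
  | H y =>
    induction y using FreeAbelianGroup.induction_on with
    | zero => simp
    | of K =>
      have h1 : ((FreeAbelianGroup.of K : FreeAbelianGroup (Subtype (IsPerf (C := C) P))) :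
          K0tr (IsPerf (C := C) P)) = clTr (IsPerf (C := C) P) K.1 :=
        (clTr_eq (IsPerf (C := C) P) K.2).symm
      obtain ⟨E, hE, ⟨e⟩⟩ := exists_SP_of_isPerf P K.2
      rw [h1, ψ_clTr P hsum hst hlift K.2, chiD_eq P hsum hst hlift hE e, ← clTr_Q_eq' P hE]
      exact clTr_of_iso (IsPerf (C := C) P) (isPerf_zero P) e (hE.isPerf P) K.2
    | neg X h =>
      rw [QuotientAddGroup.mk_neg, map_neg, map_neg, h]
    | add x y hx hy =>
      rw [QuotientAddGroup.mk_add, map_add, map_add, hx, hy]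

/-- the equivalence -/
noncomputable def φEquiv : K0sub P ≃+ K0tr (IsPerf (C := C) P) :=
  { φ P with
    invFun := ψ P hsum hst hlift
    left_inv := ψ_φ P hsum hst hlift
    right_inv := φ_ψ P hsum hst hlift }

theorem main : ∃ e : K0sub P ≃+ K0tr (IsPerf (C := C) P),
    (∀ X : C, P X → e (clSub P X) = clTr (IsPerf (C := C) P) ((singleFunctor C 0).obj X)) ∧
    ∀ (E : CochainComplex C ℤ) (a b : ℤ), (∀ i : ℤ, i < a ∨ b < i → IsZero (E.X i)) →
      (∀ i : ℤ, P (E.X i)) →
      e.symm (clTr (IsPerf (C := C) P) (Q.obj E)) =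
        ∑ i ∈ Finset.Icc a b, ((i.negOnePow : ℤˣ) : ℤ) • clSub P (E.X i) := by
  refine ⟨φEquiv P hsum hst hlift, fun X hX => φ_clSub P hX, fun E a b hv hP => ?_⟩
  have hE : SP P E := ⟨⟨a, b, hv⟩, hP⟩
  change ψ P hsum hst hlift _ = _
  rw [ψ_clTr P hsum hst hlift (hE.isPerf P), chiD_eq P hsum hst hlift hE (Iso.refl _),
    chi_eq_sum P E a b hv]
  rfl

end Derived

end Groth.Agent.Lib.Helper17.K0Perf
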