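import Mathlib
import Groth.Prelude.Def_KZero
import Groth.Prelude.Def_SGA6
import Groth.Agent.Lib.Helper17.K0Der

/-!
# The resolution theorem for `K₀` (SGA 6 style)

`P₀ ≤ P₁` classes of objects in an abelian category, `P₀` closed under extensions, both closed
under kernels of epimorphisms, every object of `P₁` a quotient of an object of `P₀`, and every
object of `P₁` of finite uniform `P₀`-resolution dimension (`R n A`).  Then
`K₀(P₀) → K₀(P₁)` is bijective.
-/

universe v u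

open CategoryTheory Limits KZero

namespace Groth.Agent.Lib.Helper17.K0Resol

open Groth.Agent.Lib.Helper17.K0Der (clSub_eq clSub_of_shortExact)

variable {C : Type u} [Category.{v} C] [Abelian C]

section SES

lemma kernel_shortExact {L A : C} (π : L ⟶ A) [Epi π] :
    (ShortComplex.mk (kernel.ι π) π (kernel.condition π)).ShortExact :=
  { exact := ShortComplex.exact_kernel π
    mono_f := by dsimp; infer_instance
    epi_g := by dsimp; infer_instance }

/-- for a short exact `0 → X → Y → Z → 0` and an epi `π : L ↠ Y`: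
`0 → ker π → ker (π ≫ g) → X → 0`. -/
lemma exists_kerSES {X Y Z L : C} {f : X ⟶ Y} {g : Y ⟶ Z} {w : f ≫ g = 0}
    (hS : (ShortComplex.mk f g w).ShortExact) (π : L ⟶ Y) [Epi π] :
    ∃ (a : kernel π ⟶ kernel (π ≫ g)) (b : kernel (π ≫ g) ⟶ X) (wab : a ≫ b = 0),
      (ShortComplex.mk a b wab).ShortExact := by
  haveI : Mono f := hS.mono_f
  have hb : (kernel.ι (π ≫ g) ≫ π) ≫ (ShortComplex.mk f g w).g = 0 := by
    simp
  let b : kernel (π ≫ g) ⟶ X := hS.exact.lift (kernel.ι (π ≫ g) ≫ π) hb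
  have hbf : b ≫ f = kernel.ι (π ≫ g) ≫ π := hS.exact.lift_f _ hb
  let a : kernel π ⟶ kernel (π ≫ g) := kernel.lift (π ≫ g) (kernel.ι π) (by simp)
  have haι : a ≫ kernel.ι (π ≫ g) = kernel.ι π := kernel.lift_ι _ _ _
  have wab : a ≫ b = 0 := by
    rw [← cancel_mono f, Category.assoc, hbf, ← Category.assoc, haι, kernel.condition, zero_comp]
  refine ⟨a, b, wab, ?_⟩
  refine { exact := ?_, mono_f := ?_, epi_g := ?_ }
  · rw [ShortComplex.exact_iff_exact_up_to_refinements]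
    intro T y hy
    dsimp at y hy
    have hy' : (y ≫ kernel.ι (π ≫ g)) ≫ π = 0 := by
      rw [Category.assoc, ← hbf, ← Category.assoc, hy, zero_comp]
    refine ⟨T, 𝟙 T, inferInstance, kernel.lift π (y ≫ kernel.ι (π ≫ g)) hy', ?_⟩
    dsimp
    rw [Category.id_comp, ← cancel_mono (kernel.ι (π ≫ g)), Category.assoc, haι, kernel.lift_ι]
  · dsimp
    exact mono_of_mono_fac haι
  · dsimp
    rw [epi_iff_surjective_up_to_refinements]
    intro T x
    obtain ⟨T', p, hp, l, hl⟩ := surjective_up_to_refinements_of_epi π (x ≫ f)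
    have hl' : l ≫ π ≫ g = 0 := by
      rw [← Category.assoc, ← hl, Category.assoc, Category.assoc, w, comp_zero, comp_zero]
    refine ⟨T', p, hp, kernel.lift (π ≫ g) l hl', ?_⟩
    rw [← cancel_mono f, Category.assoc, Category.assoc, hbf, ← Category.assoc (kernel.lift _ _ _),
      kernel.lift_ι, hl]

/-- for a short exact `0 → X → Y → Z → 0` and `ε : Y ⟶ A` whose restriction `π` to `X` is epi:
`0 → ker π → ker ε → Z → 0`. -/
lemma exists_subSES {X Y Z A : C} {f : X ⟶ Y} {g : Y ⟶ Z} {w : f ≫ g = 0}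
    (hS : (ShortComplex.mk f g w).ShortExact) (ε : Y ⟶ A) (π : X ⟶ A) (hπ : f ≫ ε = π) [Epi π] :
    ∃ (a : kernel π ⟶ kernel ε) (b : kernel ε ⟶ Z) (wab : a ≫ b = 0),
      (ShortComplex.mk a b wab).ShortExact := by
  haveI : Mono f := hS.mono_f
  haveI : Epi g := hS.epi_g
  let a : kernel π ⟶ kernel ε := kernel.lift ε (kernel.ι π ≫ f) (by
    rw [Category.assoc, hπ, kernel.condition])
  have haι : a ≫ kernel.ι ε = kernel.ι π ≫ f := kernel.lift_ι _ _ _
  let b : kernel ε ⟶ Z := kernel.ι ε ≫ g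
  have wab : a ≫ b = 0 := by
    change a ≫ kernel.ι ε ≫ g = 0
    rw [← Category.assoc, haι, Category.assoc, w, comp_zero]
  refine ⟨a, b, wab, ?_⟩
  refine { exact := ?_, mono_f := ?_, epi_g := ?_ }
  · rw [ShortComplex.exact_iff_exact_up_to_refinements]
    intro T y hy
    dsimp at y hy
    have hy' : (y ≫ kernel.ι ε) ≫ (ShortComplex.mk f g w).g = 0 := by
      dsimp
      rw [Category.assoc]
      exact hy
    let z : T ⟶ X := hS.exact.lift (y ≫ kernel.ι ε) hy'
    have hz : z ≫ f = y ≫ kernel.ι ε := hS.exact.lift_f _ hy'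
    have hz' : z ≫ π = 0 := by
      rw [← hπ, ← Category.assoc, hz, Category.assoc, kernel.condition, comp_zero]
    refine ⟨T, 𝟙 T, inferInstance, kernel.lift π z hz', ?_⟩
    dsimp
    rw [Category.id_comp, ← cancel_mono (kernel.ι ε), Category.assoc, haι,
      ← Category.assoc, kernel.lift_ι, hz]
  · dsimp
    haveI : Mono (kernel.ι π ≫ f) := mono_comp _ _
    exact mono_of_mono_fac haι
  · dsimp
    rw [epi_iff_surjective_up_to_refinements]
    intro T x
    obtain ⟨T', p, hp, y, hy⟩ := surjective_up_to_refinements_of_epi g x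
    obtain ⟨T'', p', hp', z, hz⟩ := surjective_up_to_refinements_of_epi π (y ≫ ε)
    have h0 : (p' ≫ y - z ≫ f) ≫ ε = 0 := by
      rw [Preadditive.sub_comp, Category.assoc, Category.assoc, hπ, hz, sub_self]
    refine ⟨T'', p' ≫ p, epi_comp _ _, kernel.lift ε (p' ≫ y - z ≫ f) h0, ?_⟩
    change _ = kernel.lift ε (p' ≫ y - z ≫ f) h0 ≫ kernel.ι ε ≫ g
    rw [← Category.assoc (kernel.lift _ _ _), kernel.lift_ι, Preadditive.sub_comp, Category.assoc,
      Category.assoc, Category.assoc, w, comp_zero, sub_zero, ← hy]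

lemma biprod_shortExact₁ (L L' : C) :
    (ShortComplex.mk (biprod.inl : L ⟶ L ⊞ L') biprod.snd (by simp)).ShortExact :=
  (ShortComplex.Splitting.ofHasBinaryBiproduct L L').shortExact

lemma biprod_shortExact₂ (L L' : C) :
    (ShortComplex.mk (biprod.inr : L' ⟶ L ⊞ L') biprod.fst (by simp)).ShortExact := by
  let s : (ShortComplex.mk (biprod.inr : L' ⟶ L ⊞ L') biprod.fst (by simp)).Splitting :=
    { r := biprod.snd
      s := biprod.inl
      f_r := by simp
      s_g := by simp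
      id := by
        dsimp
        rw [add_comm]
        exact biprod.total }
  exact s.shortExact

end SES

section Main

variable (P₀ P₁ : ObjectProperty C)

/-- uniform `P₀`-resolution dimension `≤ n` -/
def R : ℕ → C → Prop
  | 0, A => P₀ A
  | n + 1, A => P₁ A ∧ ∀ (L : C) (π : L ⟶ A), P₀ L → Epi π → R n (kernel π)

/-- the hypotheses -/
structure Hyp : Prop where
  iso₀ : P₀.IsClosedUnderIsomorphisms
  iso₁ : P₁.IsClosedUnderIsomorphisms
  le : ∀ X, P₀ X → P₁ X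
  ext₀ : ∀ S : ShortComplex C, S.ShortExact → P₀ S.X₁ → P₀ S.X₃ → P₀ S.X₂
  ker₀ : ∀ S : ShortComplex C, S.ShortExact → P₀ S.X₂ → P₀ S.X₃ → P₀ S.X₁
  ker₁ : ∀ S : ShortComplex C, S.ShortExact → P₁ S.X₂ → P₁ S.X₃ → P₁ S.X₁
  cov : ∀ A, P₁ A → ∃ (L : C) (π : L ⟶ A), P₀ L ∧ Epi π

variable {P₀ P₁} (h : Hyp P₀ P₁)

section Incl

include h

lemma R_P₁ : ∀ {n : ℕ} {A : C}, R P₀ P₁ n A → P₁ A
  | 0, A, hA => h.le A hA
  | _ + 1, _, hA => hA.1

lemma P₀_kernel {L A : C} (π : L ⟶ A) [Epi π] (hL : P₀ L) (hA : P₀ A) : P₀ (kernel π) :=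
  h.ker₀ _ (kernel_shortExact π) hL hA

lemma P₁_kernel {L A : C} (π : L ⟶ A) [Epi π] (hL : P₁ L) (hA : P₁ A) : P₁ (kernel π) :=
  h.ker₁ _ (kernel_shortExact π) hL hA

lemma R_succ : ∀ {n : ℕ} {A : C}, R P₀ P₁ n A → R P₀ P₁ (n + 1) A
  | 0, A, hA => ⟨h.le A hA, fun L π hL hπ => by
      haveI := hπ
      exact P₀_kernel h π hL hA⟩
  | n + 1, A, hA => ⟨hA.1, fun L π hL hπ => R_succ (hA.2 L π hL hπ)⟩

lemma R_mono {n m : ℕ} (hnm : n ≤ m) {A : C} (hA : R P₀ P₁ n A) : R P₀ P₁ m A := by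
  induction hnm with
  | refl => exact hA
  | step _ ih => exact R_succ h ih

lemma R_of_P₀ {A : C} (hA : P₀ A) (n : ℕ) : R P₀ P₁ n A :=
  R_mono h (Nat.zero_le n) hA

lemma R_iso : ∀ {n : ℕ} {A B : C} (_ : A ≅ B), R P₀ P₁ n A → R P₀ P₁ n B
  | 0, A, B, e, hA => by
      haveI := h.iso₀
      exact P₀.prop_of_iso e hA
  | n + 1, A, B, e, hA => ⟨by
      haveI := h.iso₁
      exact P₁.prop_of_iso e hA.1, fun L π hL hπ => by
      haveI := hπ
      have : Epi (π ≫ e.inv) := epi_comp _ _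
      exact R_iso (kernelCompMono π e.inv) (hA.2 L (π ≫ e.inv) hL this)⟩

lemma R_kernel {n : ℕ} {A L : C} (hA : R P₀ P₁ (n + 1) A) (π : L ⟶ A) [Epi π] (hL : P₀ L) :
    R P₀ P₁ n (kernel π) :=
  hA.2 L π hL inferInstance

end Incl

/-- a chosen cover -/
structure Cov (A : C) where
  L : C
  π : L ⟶ A
  epi : Epi π

open Classical in
/-- chosen covers of objects of `P₁` by objects of `P₀` (junk outside `P₁`) -/
noncomputable def cov (A : C) : Cov A :=
  if hA : P₁ A then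
    ⟨(h.cov A hA).choose, (h.cov A hA).choose_spec.choose, (h.cov A hA).choose_spec.choose_spec.2⟩
  else ⟨A, 𝟙 A, inferInstance⟩

lemma cov_mem {A : C} (hA : P₁ A) : P₀ (cov h A).L := by
  unfold cov
  rw [dif_pos hA]
  exact (h.cov A hA).choose_spec.choose_spec.1

instance (A : C) : Epi (cov h A).π := (cov h A).epi

/-- the Euler characteristic computed with chosen covers, `n` steps -/
noncomputable def χ : ℕ → C → K0sub P₀
  | 0, A => clSub P₀ A
  | n + 1, A => clSub P₀ (cov h A).L - χ n (kernel (cov h A).π)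

lemma χ_zero (A : C) : χ h 0 A = clSub P₀ A := rfl

lemma χ_succ_def (n : ℕ) (A : C) :
    χ h (n + 1) A = clSub P₀ (cov h A).L - χ h n (kernel (cov h A).π) := rfl

lemma χ_succ : ∀ {n : ℕ} {A : C}, R P₀ P₁ n A → χ h (n + 1) A = χ h n A
  | 0, A, hA => by
      have hL := cov_mem h (h.le A hA)
      have hK : P₀ (kernel (cov h A).π) := P₀_kernel h _ hL hA
      have := clSub_of_shortExact P₀ _ (kernel_shortExact (cov h A).π) hK hL hA
      dsimp at this
      rw [χ_succ_def, χ_zero, χ_zero, this]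
      abel
  | n + 1, A, hA => by
      have hK : R P₀ P₁ n (kernel (cov h A).π) := R_kernel h hA _ (cov_mem h hA.1)
      rw [χ_succ_def h (n + 1), χ_succ hK, ← χ_succ_def]

lemma χ_eq_of_le {n m : ℕ} (hnm : n ≤ m) {A : C} (hA : R P₀ P₁ n A) : χ h m A = χ h n A := by
  induction hnm with
  | refl => rfl
  | step hle ih => rw [χ_succ h (R_mono h hle hA), ih]

lemma χ_of_P₀ {A : C} (hA : P₀ A) (n : ℕ) : χ h n A = clSub P₀ A := by
  rw [χ_eq_of_le h (Nat.zero_le n) (show R P₀ P₁ 0 A from hA), χ_zero]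

/-- additivity of `χ n` on short exact sequences in `R n` -/
def Add (n : ℕ) : Prop :=
  ∀ S : ShortComplex C, S.ShortExact → R P₀ P₁ n S.X₁ → R P₀ P₁ n S.X₂ → R P₀ P₁ n S.X₃ →
    χ h n S.X₂ = χ h n S.X₁ + χ h n S.X₃

lemma add_zero' : Add h 0 := fun S hS h₁ h₂ h₃ =>
  clSub_of_shortExact P₀ S hS h₁ h₂ h₃

include h in
lemma P₀_biprod {L L' : C} (hL : P₀ L) (hL' : P₀ L') : P₀ (L ⊞ L') :=
  h.ext₀ _ (biprod_shortExact₁ L L') hL hL'

/-- independence of the cover -/
lemma χ_succ_eq {n : ℕ} (hAdd : Add h n) {A L : C} (hA : R P₀ P₁ (n + 1) A) (π : L ⟶ A) [Epi π]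
    (hL : P₀ L) : χ h (n + 1) A = clSub P₀ L - χ h n (kernel π) := by
  have hL' : P₀ (cov h A).L := cov_mem h hA.1
  set L' := (cov h A).L with hL'def
  set π' : L' ⟶ A := (cov h A).π with hπ'def
  let ε : L ⊞ L' ⟶ A := biprod.desc π π'
  have hε₁ : biprod.inl ≫ ε = π := biprod.inl_desc _ _
  have hε₂ : biprod.inr ≫ ε = π' := biprod.inr_desc _ _
  haveI : Epi ε := epi_of_epi_fac hε₁
  have hE : P₀ (L ⊞ L') := P₀_biprod h hL hL'
  have hKE : R P₀ P₁ n (kernel ε) := R_kernel h hA ε hE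
  obtain ⟨a₁, b₁, w₁, hS₁⟩ := exists_subSES (biprod_shortExact₁ L L') ε π hε₁
  obtain ⟨a₂, b₂, w₂, hS₂⟩ := exists_subSES (biprod_shortExact₂ L L') ε π' hε₂
  have e₁ := hAdd _ hS₁ (R_kernel h hA π hL) hKE (R_of_P₀ h hL' n)
  have e₂ := hAdd _ hS₂ (R_kernel h hA π' hL') hKE (R_of_P₀ h hL n)
  dsimp at e₁ e₂
  rw [χ_of_P₀ h hL'] at e₁
  rw [χ_of_P₀ h hL] at e₂
  rw [χ_succ_def, sub_eq_sub_iff_add_eq_add]
  change clSub P₀ L' + χ h n (kernel π) = clSub P₀ L + χ h n (kernel π')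
  rw [add_comm, ← e₁, e₂, add_comm]

lemma χ_B {n : ℕ} (hAdd : Add h n) (S : ShortComplex C) (hS : S.ShortExact)
    (h₁ : R P₀ P₁ n S.X₁) (h₂ : R P₀ P₁ n S.X₂) (h₃ : R P₀ P₁ (n + 1) S.X₃) :
    χ h (n + 1) S.X₃ = χ h n S.X₂ - χ h n S.X₁ := by
  haveI : Epi S.g := hS.epi_g
  have hL : P₀ (cov h S.X₂).L := cov_mem h (R_P₁ h h₂)
  set L := (cov h S.X₂).L
  set π : L ⟶ S.X₂ := (cov h S.X₂).π
  haveI : Epi (π ≫ S.g) := epi_comp _ _
  have hS' : (ShortComplex.mk S.f S.g S.zero).ShortExact := hS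
  obtain ⟨a, b, wab, hab⟩ := exists_kerSES hS' π
  have hKY : R P₀ P₁ n (kernel π) := R_kernel h (R_succ h h₂) π hL
  have hKZ : R P₀ P₁ n (kernel (π ≫ S.g)) := R_kernel h h₃ (π ≫ S.g) hL
  have e₁ := hAdd _ hab hKY hKZ h₁
  dsimp at e₁
  have e₂ := χ_succ_eq h hAdd h₃ (π ≫ S.g) hL
  have e₃ : χ h (n + 1) S.X₂ = clSub P₀ L - χ h n (kernel π) := χ_succ_def h n S.X₂
  rw [χ_succ h h₂] at e₃
  rw [e₂, e₃, e₁]
  abel

lemma add_succ {n : ℕ} (hAdd : Add h n) : Add h (n + 1) := by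
  intro S hS h₁ h₂ h₃
  haveI : Epi S.g := hS.epi_g
  have hL : P₀ (cov h S.X₂).L := cov_mem h h₂.1
  set L := (cov h S.X₂).L
  set π : L ⟶ S.X₂ := (cov h S.X₂).π
  haveI : Epi (π ≫ S.g) := epi_comp _ _
  have hS' : (ShortComplex.mk S.f S.g S.zero).ShortExact := hS
  obtain ⟨a, b, wab, hab⟩ := exists_kerSES hS' π
  have hK : R P₀ P₁ n (kernel π) := R_kernel h h₂ π hL
  have hK'' : R P₀ P₁ n (kernel (π ≫ S.g)) := R_kernel h h₃ (π ≫ S.g) hL
  have e₁ := χ_B h hAdd _ hab hK hK'' h₁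
  dsimp at e₁
  have e₂ := χ_succ_eq h hAdd h₃ (π ≫ S.g) hL
  have e₃ : χ h (n + 1) S.X₂ = clSub P₀ L - χ h n (kernel π) := χ_succ_def h n S.X₂
  rw [e₁, e₂, e₃]
  abel

lemma add_all : ∀ n, Add h n
  | 0 => add_zero' h
  | n + 1 => add_succ h (add_all n)

section Psi

variable (hfin : ∀ A, P₁ A → ∃ n, R P₀ P₁ n A)

/-- a chosen dimension bound -/
noncomputable def dim (X : Subtype P₁) : ℕ := (hfin X.1 X.2).choose

lemma dim_spec (X : Subtype P₁) : R P₀ P₁ (dim hfin X) X.1 := (hfin X.1 X.2).choose_spec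

lemma χ_dim {A : C} (hA : P₁ A) {n : ℕ} (hn : R P₀ P₁ n A) :
    χ h (dim hfin ⟨A, hA⟩) A = χ h n A := by
  have h1 := χ_eq_of_le h (le_max_left (dim hfin ⟨A, hA⟩) n) (dim_spec hfin ⟨A, hA⟩)
  have h2 := χ_eq_of_le h (le_max_right (dim hfin ⟨A, hA⟩) n) hn
  exact h1.symm.trans h2

/-- the inverse map -/
noncomputable def ψ : K0sub P₁ →+ K0sub P₀ :=
  QuotientAddGroup.lift (relSub P₁)
    (FreeAbelianGroup.lift (fun X : Subtype P₁ => χ h (dim hfin X) X.1))
    (by
      rw [relSub, AddSubgroup.closure_le]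
      rintro x ⟨S, h₁, h₂, h₃, hS, rfl⟩
      rw [SetLike.mem_coe, AddMonoidHom.mem_ker, map_sub, map_sub,
        FreeAbelianGroup.lift_apply_of, FreeAbelianGroup.lift_apply_of,
        FreeAbelianGroup.lift_apply_of]
      dsimp only
      obtain ⟨n₁, hn₁⟩ := hfin _ h₁
      obtain ⟨n₂, hn₂⟩ := hfin _ h₂
      obtain ⟨n₃, hn₃⟩ := hfin _ h₃
      let N := max n₁ (max n₂ n₃)
      have r₁ : R P₀ P₁ N S.X₁ := R_mono h (le_max_left _ _) hn₁
      have r₂ : R P₀ P₁ N S.X₂ :=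
        R_mono h ((le_max_left _ _).trans (le_max_right _ _)) hn₂
      have r₃ : R P₀ P₁ N S.X₃ :=
        R_mono h ((le_max_right _ _).trans (le_max_right _ _)) hn₃
      rw [χ_dim h hfin h₁ r₁, χ_dim h hfin h₂ r₂, χ_dim h hfin h₃ r₃,
        add_all h N S hS r₁ r₂ r₃]
      abel)

lemma ψ_clSub {A : C} (hA : P₁ A) {n : ℕ} (hn : R P₀ P₁ n A) :
    ψ h hfin (clSub P₁ A) = χ h n A := by
  rw [clSub_eq P₁ hA, ← χ_dim h hfin hA hn]
  exact (QuotientAddGroup.lift_mk _ _ _).trans (FreeAbelianGroup.lift_apply_of _ _)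

lemma mapSub_clSub {A : C} (hA : P₀ A) :
    SGA6.mapSub (𝟭 C) P₀ P₁ h.le (clSub P₀ A) = clSub P₁ A := by
  rw [clSub_eq P₀ hA, clSub_eq P₁ (h.le A hA)]
  rfl

lemma mapSub_χ : ∀ {n : ℕ} {A : C}, R P₀ P₁ n A →
    SGA6.mapSub (𝟭 C) P₀ P₁ h.le (χ h n A) = clSub P₁ A
  | 0, A, hA => mapSub_clSub h hA
  | n + 1, A, hA => by
      have hL := cov_mem h hA.1
      have hK := R_kernel h hA (cov h A).π hL
      rw [χ_succ_def, map_sub, mapSub_χ hK, mapSub_clSub h hL]
      have := clSub_of_shortExact P₁ _ (kernel_shortExact (cov h A).π) (R_P₁ h hK)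
        (h.le _ hL) hA.1
      dsimp at this
      rw [this]
      abel

include hfin in
theorem bijective : Function.Bijective (SGA6.mapSub (𝟭 C) P₀ P₁ h.le) := by
  constructor
  · refine Function.LeftInverse.injective (g := ψ h hfin) ?_
    intro x
    induction x using QuotientAddGroup.induction_on with
    | H x =>
      induction x using FreeAbelianGroup.induction_on with
      | zero => simp
      | of X =>
        have h1 : ((FreeAbelianGroup.of X : FreeAbelianGroup (Subtype P₀)) : K0sub P₀) =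
            clSub P₀ X.1 := (clSub_eq P₀ X.2).symm
        rw [h1, mapSub_clSub h X.2, ψ_clSub h hfin (h.le _ X.2) (show R P₀ P₁ 0 X.1 from X.2),
          χ_zero]
      | neg X hX =>
        rw [QuotientAddGroup.mk_neg, map_neg, map_neg, hX]
      | add x y hx hy =>
        rw [QuotientAddGroup.mk_add, map_add, map_add, hx, hy]
  · intro y
    rw [← AddMonoidHom.mem_range]
    induction y using QuotientAddGroup.induction_on with
    | H y =>
      induction y using FreeAbelianGroup.induction_on with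
      | zero => exact zero_mem _
      | of X =>
        have h1 : ((FreeAbelianGroup.of X : FreeAbelianGroup (Subtype P₁)) : K0sub P₁) =
            clSub P₁ X.1 := (clSub_eq P₁ X.2).symm
        rw [h1]
        exact ⟨χ h (dim hfin X) X.1, mapSub_χ h (dim_spec hfin X)⟩
      | neg X hX =>
        rw [QuotientAddGroup.mk_neg]
        exact neg_mem hX
      | add x y hx hy =>
        rw [QuotientAddGroup.mk_add]
        exact add_mem hx hy

end Psi

end Main

end Groth.Agent.Lib.Helper17.K0Resol
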