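import Mathlib
import Groth.Agent.Lib.Helper17.K0Resol

/-!
# From resolutions by chain complexes to the uniform resolution dimension `R`
-/

set_option linter.style.haveILetI false

universe v u

open CategoryTheory Limits KZero

namespace Groth.Agent.Lib.Helper17.K0Resol

variable {C : Type u} [Category.{v} C] [Abelian C]

/-- an infinite resolution of `B` by objects of `P₀`, presented by its syzygies -/
structure ResSeq (P₀ : ObjectProperty C) (B : C) where
  K : ℕ → C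
  L : ℕ → C
  π : ∀ n, L n ⟶ K n
  ι : ∀ n, K (n + 1) ⟶ L n
  w : ∀ n, ι n ≫ π n = 0
  hL : ∀ n, P₀ (L n)
  epi : ∀ n, Epi (π n)
  isLimit : ∀ n, Nonempty (IsLimit (KernelFork.ofι (ι n) (w n)))
  iso0 : K 0 ≅ B

namespace ResSeq

variable {P₀ : ObjectProperty C} {B : C} (s : ResSeq P₀ B)

instance (n : ℕ) : Epi (s.π n) := s.epi n

instance (n : ℕ) : Mono (s.ι n) := mono_of_isLimit_fork (s.isLimit n).some

/-- the chain complex of a resolution sequence -/
noncomputable def cx : ChainComplex C ℕ :=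
  ChainComplex.of s.L (fun n => s.π (n + 1) ≫ s.ι n) (fun n => by
    rw [Category.assoc, ← Category.assoc (s.ι (n + 1)), s.w, zero_comp, comp_zero])

lemma cx_d (n : ℕ) : s.cx.d (n + 1) n = s.π (n + 1) ≫ s.ι n :=
  ChainComplex.of_d s.L (fun n => s.π (n + 1) ≫ s.ι n) n

lemma exactAt (i : ℕ) : s.cx.ExactAt (i + 1) := by
  rw [HomologicalComplex.exactAt_iff' _ (i + 1 + 1) (i + 1) i (by simp) (by simp)]
  let S₀ : ShortComplex C := ShortComplex.mk (s.ι (i + 1)) (s.π (i + 1)) (s.w (i + 1))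
  have hS₀ : S₀.Exact := ShortComplex.exact_of_f_is_kernel _ (s.isLimit (i + 1)).some
  let Sm : ShortComplex C := ShortComplex.mk (s.π (i + 1 + 1) ≫ s.ι (i + 1)) (s.π (i + 1))
    (by rw [Category.assoc, s.w, comp_zero])
  let φ₂ : Sm ⟶ S₀ :=
    { τ₁ := s.π (i + 1 + 1)
      τ₂ := 𝟙 _
      τ₃ := 𝟙 _
      comm₁₂ := by simp [Sm, S₀]
      comm₂₃ := by simp [Sm, S₀] }
  have : Epi φ₂.τ₁ := by dsimp [φ₂]; infer_instance
  have : IsIso φ₂.τ₂ := by dsimp [φ₂]; infer_instance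
  have : Mono φ₂.τ₃ := by dsimp [φ₂]; infer_instance
  have hSm : Sm.Exact := (ShortComplex.exact_iff_of_epi_of_isIso_of_mono φ₂).2 hS₀
  let φ₁ : Sm ⟶ s.cx.sc' (i + 1 + 1) (i + 1) i :=
    { τ₁ := 𝟙 _
      τ₂ := 𝟙 _
      τ₃ := s.ι i
      comm₁₂ := by
        change 𝟙 (s.L (i + 1 + 1)) ≫ s.cx.d (i + 1 + 1) (i + 1) =
          (s.π (i + 1 + 1) ≫ s.ι (i + 1)) ≫ 𝟙 (s.L (i + 1))
        rw [Category.id_comp, Category.comp_id]
        exact s.cx_d (i + 1)
      comm₂₃ := by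
        change 𝟙 (s.L (i + 1)) ≫ s.cx.d (i + 1) i = s.π (i + 1) ≫ s.ι i
        rw [Category.id_comp]
        exact s.cx_d i }
  have : Epi φ₁.τ₁ := by change Epi (𝟙 (s.L (i + 1 + 1))); infer_instance
  have : IsIso φ₁.τ₂ := by change IsIso (𝟙 (s.L (i + 1))); infer_instance
  have : Mono φ₁.τ₃ := by change Mono (s.ι i); infer_instance
  exact (ShortComplex.exact_iff_of_epi_of_isIso_of_mono φ₁).1 hSm

lemma homology_zero : Nonempty (s.cx.homology 0 ≅ B) := by
  have h1 : IsColimit (CokernelCofork.ofπ (s.π 0) (s.w 0)) :=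
    Abelian.epiIsCokernelOfKernel _ (s.isLimit 0).some
  have h2 := isCokernelEpiComp h1 (s.π 1) (s.cx_d 0)
  have h3 := s.cx.opcyclesIsCokernel 1 0 (by simp)
  exact ⟨s.cx.isoHomologyι₀ ≪≫ (h3.coconePointUniqueUpToIso h2) ≪≫ s.iso0⟩

lemma cycles_iso (n : ℕ) : Nonempty (s.cx.cycles (n + 1) ≅ s.K (n + 2)) := by
  have h1 := (s.isLimit (n + 1)).some
  have h2 := isKernelCompMono h1 (s.ι n) (s.cx_d n)
  have h3 := s.cx.cyclesIsKernel (n + 1) n (by simp)
  exact ⟨h3.conePointUniqueUpToIso h2⟩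

/-- prepend a step -/
noncomputable def prepend {L₀ : C} (π₀ : L₀ ⟶ B) [Epi π₀] (hL₀ : P₀ L₀)
    (s : ResSeq P₀ (kernel π₀)) : ResSeq P₀ B where
  K := fun n => match n with | 0 => B | n + 1 => s.K n
  L := fun n => match n with | 0 => L₀ | n + 1 => s.L n
  π := fun n => match n with | 0 => π₀ | n + 1 => s.π n
  ι := fun n => match n with | 0 => s.iso0.hom ≫ kernel.ι π₀ | n + 1 => s.ι n
  w := fun n => match n with | 0 => by simp | n + 1 => s.w n
  hL := fun n => match n with | 0 => hL₀ | n + 1 => s.hL n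
  epi := fun n => match n with | 0 => inferInstance | n + 1 => s.epi n
  isLimit := fun n => match n with
    | 0 => ⟨IsKernel.isoKernel π₀ (s.iso0.hom ≫ kernel.ι π₀) (kernelIsKernel π₀) s.iso0 rfl⟩
    | n + 1 => s.isLimit n
  iso0 := Iso.refl B

end ResSeq

variable {P₀ P₁ : ObjectProperty C} (h : Hyp P₀ P₁)

/-- iterated syzygies with chosen covers -/
noncomputable def Kseq (B : C) (hB : P₁ B) : ℕ → {X : C // P₁ X}
  | 0 => ⟨B, hB⟩
  | n + 1 => ⟨kernel (cov h (Kseq B hB n).1).π,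
      P₁_kernel h _ (h.le _ (cov_mem h (Kseq B hB n).2)) (Kseq B hB n).2⟩

/-- the resolution sequence given by chosen covers -/
noncomputable def ofCov (B : C) (hB : P₁ B) : ResSeq P₀ B where
  K n := (Kseq h B hB n).1
  L n := (cov h (Kseq h B hB n).1).L
  π n := (cov h (Kseq h B hB n).1).π
  ι n := kernel.ι (cov h (Kseq h B hB n).1).π
  w n := kernel.condition _
  hL n := cov_mem h (Kseq h B hB n).2
  epi n := inferInstance
  isLimit n := ⟨kernelIsKernel _⟩
  iso0 := Iso.refl _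

include h in
lemma R_of_resSeq : ∀ (k : ℕ) (B : C), P₁ B → (∀ s : ResSeq P₀ B, P₀ (s.K k)) → R P₀ P₁ k B
  | 0, B, hB, H => by
      haveI := h.iso₀
      exact P₀.prop_of_iso (ofCov h B hB).iso0 (H _)
  | k + 1, B, hB, H => ⟨hB, fun L π hL hπ => by
      haveI := hπ
      refine R_of_resSeq k (kernel π) (P₁_kernel h π (h.le _ hL) hB) (fun s' => ?_)
      exact H (ResSeq.prepend π hL s')⟩

include h in
theorem hfin_of_h3 (h3 : ∀ A : C, P₁ A → ∃ d : ℕ, ∀ L : ChainComplex C ℕ, (∀ i, P₀ (L.X i)) →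
      (∀ i, 1 ≤ i → L.ExactAt i) → Nonempty (L.homology 0 ≅ A) → P₀ (L.cycles (d + 1))) :
    ∀ A, P₁ A → ∃ n, R P₀ P₁ n A := by
  intro A hA
  obtain ⟨d, hd⟩ := h3 A hA
  refine ⟨d + 2, R_of_resSeq h (d + 2) A hA (fun s => ?_)⟩
  have hc := hd s.cx s.hL (fun i hi => by
    obtain ⟨j, rfl⟩ := Nat.exists_eq_succ_of_ne_zero (by omega : i ≠ 0)
    exact s.exactAt j) s.homology_zero
  obtain ⟨e⟩ := s.cycles_iso d
  haveI := h.iso₀
  exact P₀.prop_of_iso e hc

end Groth.Agent.Lib.Helper17.K0Resol
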