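import Groth.Agent.Lib.Helper17.HDU3
import Groth.Agent.Lib.Helper17.DProd
import Groth.Agent.Lib.Helper5.Milnor

set_option autoImplicit false
universe w v u

open CategoryTheory Limits CochainComplex HomComplex Opposite

namespace Groth.Agent.Lib.Helper17.RL1

open Groth.Agent.Lib.Helper17.HDU1
open Groth.Agent.Lib.Helper20.FreeSheaf

section post

variable {A : Type u} [Category.{v} A] [Abelian A]
variable {M : A} (L : CochainComplex A ℤ) (q : ℤ)

lemma cls_postcomp {L' : CochainComplex A ℤ} (ψ : L ⟶ L') (f : M ⟶ L.X q)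
    (hf : f ≫ L.d q (q + 1) = 0) :
    cls L q f hf ≫ (HomotopyCategory.quotient A (ComplexShape.up ℤ)).map (ψ⟦q⟧') =
      cls L' q (f ≫ ψ.f q) (by rw [Category.assoc, ψ.comm, reassoc_of% hf, zero_comp]) := by
  unfold cls
  rw [CohomologyClass.toHom_mk, CohomologyClass.toHom_mk, ← Functor.map_comp,
    Cocycle.fromSingleMk_postcomp f (zero_add q) (q + 1) rfl hf ψ,
    Cocycle.equivHomShift_symm_postcomp]

variable [HasDerivedCategory.{w} A]

open DerivedCategory in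
lemma e₂_naturality {L' : CochainComplex A ℤ} (ψ : L ⟶ L') :
    Qh.map ((HomotopyCategory.quotient A (ComplexShape.up ℤ)).map (ψ⟦q⟧')) ≫ (e₂ L' q).hom =
      (e₂ L q).hom ≫ (Q.map ψ)⟦q⟧' := by
  unfold e₂
  have h1 := (quotientCompQhIso A).hom.naturality (ψ⟦q⟧')
  have h2 := (Q.commShiftIso q).hom.naturality ψ
  simp only [Functor.comp_map] at h1 h2
  simp only [Iso.trans_hom, Iso.app_hom, Category.assoc]
  rw [reassoc_of% h1, h2]

open DerivedCategory in
lemma clsD_postcomp {L' : CochainComplex A ℤ} (ψ : L ⟶ L') (f : M ⟶ L.X q)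
    (hf : f ≫ L.d q (q + 1) = 0) :
    clsD L q f hf ≫ (Q.map ψ)⟦q⟧' =
      clsD L' q (f ≫ ψ.f q) (by rw [Category.assoc, ψ.comm, reassoc_of% hf, zero_comp]) := by
  unfold clsD
  rw [← cls_postcomp L q ψ f hf, Functor.map_comp]
  simp only [Category.assoc]
  rw [e₂_naturality]

end post

section loc

variable {C : Type u} [SmallCategory C] (J : GrothendieckTopology C)

lemma Zmap_comp {U V W : C} (g : V ⟶ U) (g' : W ⟶ V) :
    Zmap J (g' ≫ g) = Zmap J g' ≫ Zmap J g := by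
  unfold Zmap
  rw [← Functor.map_comp, ← Functor.map_comp]

/-- local lifting along an epimorphism of abelian sheaves. -/
lemma exists_local_lift {F F' : Sheaf J AddCommGrpCat.{u}} (π : F ⟶ F') [Epi π] {U : C}
    (σ : ZU J U ⟶ F') :
    ∃ S ∈ J U, ∀ ⦃Y : C⦄ (g : Y ⟶ U), S g → ∃ τ : ZU J Y ⟶ F, τ ≫ π = Zmap J g ≫ σ := by
  have h1 : Sheaf.IsLocallySurjective π := (Sheaf.isLocallySurjective_iff_epi' _ π).2 inferInstance
  refine ⟨Presheaf.imageSieve π.hom (a J U F' σ), Presheaf.imageSieve_mem J π.hom _, ?_⟩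
  intro Y g hg
  obtain ⟨t, ht⟩ := hg
  refine ⟨(a J Y F).symm t, ?_⟩
  rw [a_symm_nat]
  apply (a J Y F').injective
  rw [Equiv.apply_symm_apply, a_nat_left]
  exact ht

/-- local lifting for an exact sequence of abelian sheaves. -/
lemma exists_local_lift_of_exact (S : ShortComplex (Sheaf J AddCommGrpCat.{u})) (hS : S.Exact)
    {U : C} (τ : ZU J U ⟶ S.X₂) (hτ : τ ≫ S.g = 0) :
    ∃ T ∈ J U, ∀ ⦃Y : C⦄ (g : Y ⟶ U), T g → ∃ ρ : ZU J Y ⟶ S.X₁, ρ ≫ S.f = Zmap J g ≫ τ := by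
  have : Epi S.toCycles := (S.exact_iff_epi_toCycles).1 hS
  obtain ⟨T, hT, h⟩ := exists_local_lift J S.toCycles (S.liftCycles τ hτ)
  refine ⟨T, hT, fun Y g hg => ?_⟩
  obtain ⟨ρ, hρ⟩ := h g hg
  refine ⟨ρ, ?_⟩
  have := congrArg (fun x => x ≫ S.iCycles) hρ
  simpa using this

/-- a section vanishing on a covering sieve vanishes. -/
lemma eq_zero_of_cover {F : Sheaf J AddCommGrpCat.{u}} {U : C} (σ : ZU J U ⟶ F) (S : Sieve U)
    (hS : S ∈ J U) (h : ∀ ⦃Y : C⦄ (g : Y ⟶ U), S g → Zmap J g ≫ σ = 0) : σ = 0 := by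
  have hsep : Presieve.IsSheaf J (F.obj ⋙ forget AddCommGrpCat.{u}) := by
    rw [← isSheaf_iff_isSheaf_of_type, ← Presheaf.isSheaf_iff_isSheaf_forget]
    exact F.property
  apply (a J U F).injective
  rw [a_zero]
  refine (hsep S hS).isSeparatedFor.ext (fun V g hg => ?_)
  change (F.obj.map g.op).hom (a J U F σ) = (F.obj.map g.op).hom 0
  rw [map_zero]
  have := a_nat_left J g σ
  rw [h g hg, a_zero] at this
  exact this.symm

lemma injective_app_of {F F' : Sheaf J AddCommGrpCat.{u}} (φ : F ⟶ F') (V : C)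
    (h : ∀ σ : ZU J V ⟶ F, σ ≫ φ = 0 → σ = 0) : Function.Injective (φ.hom.app (op V)) := by
  rw [← AddMonoidHom.coe_coe, injective_iff_map_eq_zero]
  intro s hs
  have h1 := h ((a J V F).symm s) (by
    rw [a_symm_nat]
    apply (a J V F').injective
    rw [Equiv.apply_symm_apply, a_zero]
    exact hs)
  have h2 := congrArg (a J V F) h1
  rwa [Equiv.apply_symm_apply, a_zero] at h2

lemma app_eq_zero_of {F F' : Sheaf J AddCommGrpCat.{u}} (φ : F ⟶ F') (V : C)
    (h : Function.Injective (φ.hom.app (op V))) (σ : ZU J V ⟶ F) (hσ : σ ≫ φ = 0) : σ = 0 := by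
  apply (a J V F).injective
  rw [a_zero]
  apply h
  rw [← a_nat, hσ, a_zero, map_zero]

end loc

section hcls

variable {A : Type u} [Category.{v} A] [Abelian A]
variable (I : CochainComplex A ℤ) (m : ℤ)

/-- homology class of a cocycle `f : M ⟶ I.X m`. -/
noncomputable def hcls {M : A} (f : M ⟶ I.X m) (hf : f ≫ I.d m (m + 1) = 0) : M ⟶ I.homology m :=
  I.liftCycles f (m + 1) (by simp) hf ≫ I.homologyπ m

lemma hcls_map {I' : CochainComplex A ℤ} (ψ : I ⟶ I') {M : A} (f : M ⟶ I.X m)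
    (hf : f ≫ I.d m (m + 1) = 0) :
    hcls I m f hf ≫ HomologicalComplex.homologyMap ψ m =
      hcls I' m (f ≫ ψ.f m) (by rw [Category.assoc, ψ.comm, reassoc_of% hf, zero_comp]) := by
  unfold hcls
  rw [Category.assoc, HomologicalComplex.homologyπ_naturality,
    HomologicalComplex.liftCycles_comp_cyclesMap_assoc]

lemma hcls_precomp {M M' : A} (g : M' ⟶ M) (f : M ⟶ I.X m) (hf : f ≫ I.d m (m + 1) = 0) :
    g ≫ hcls I m f hf = hcls I m (g ≫ f) (by rw [Category.assoc, hf, comp_zero]) := by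
  unfold hcls
  rw [← Category.assoc, HomologicalComplex.comp_liftCycles]

lemma hcls_eq_zero_of_boundary {M : A} (f : M ⟶ I.X m) (hf : f ≫ I.d m (m + 1) = 0)
    (w : M ⟶ I.X (m - 1)) (hw : w ≫ I.d (m - 1) m = f) : hcls I m f hf = 0 := by
  unfold hcls
  have h1 : I.liftCycles f (m + 1) (by simp) hf = w ≫ I.toCycles (m - 1) m := by
    rw [← cancel_mono (I.iCycles m)]
    simp [hw]
  rw [h1, Category.assoc, I.toCycles_comp_homologyπ, comp_zero]

lemma exact_toCycles_homologyπ :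
    (ShortComplex.mk (I.toCycles (m - 1) m) (I.homologyπ m)
      (I.toCycles_comp_homologyπ (m - 1) m)).Exact :=
  ShortComplex.exact_of_g_is_cokernel _ (I.homologyIsCokernel (m - 1) m (by simp))

end hcls

section sheaf

variable {C : Type u} [SmallCategory C] (J : GrothendieckTopology C)
variable (I : CochainComplex (Sheaf J AddCommGrpCat.{u}) ℤ) (m : ℤ)

lemma exists_local_hcls {U : C} (σ : ZU J U ⟶ I.homology m) :
    ∃ S ∈ J U, ∀ ⦃Y : C⦄ (g : Y ⟶ U), S g →
      ∃ (f : ZU J Y ⟶ I.X m) (hf : f ≫ I.d m (m + 1) = 0), Zmap J g ≫ σ = hcls I m f hf := by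
  obtain ⟨S, hS, h⟩ := exists_local_lift J (I.homologyπ m) σ
  refine ⟨S, hS, fun Y g hg => ?_⟩
  obtain ⟨τ, hτ⟩ := h g hg
  refine ⟨τ ≫ I.iCycles m, by simp, ?_⟩
  rw [← hτ]
  unfold hcls
  congr 1
  rw [← cancel_mono (I.iCycles m)]
  simp

lemma exists_local_boundary {U : C} (f : ZU J U ⟶ I.X m) (hf : f ≫ I.d m (m + 1) = 0)
    (h : hcls I m f hf = 0) :
    ∃ S ∈ J U, ∀ ⦃Y : C⦄ (g : Y ⟶ U), S g →
      ∃ w : ZU J Y ⟶ I.X (m - 1), w ≫ I.d (m - 1) m = Zmap J g ≫ f := by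
  obtain ⟨S, hS, h'⟩ := exists_local_lift_of_exact J _ (exact_toCycles_homologyπ I m)
    (I.liftCycles f (m + 1) (by simp) hf) h
  refine ⟨S, hS, fun Y g hg => ?_⟩
  obtain ⟨ρ, hρ⟩ := h' g hg
  refine ⟨ρ, ?_⟩
  have := congrArg (fun x => x ≫ I.iCycles m) hρ
  simpa using this

end sheaf

end Groth.Agent.Lib.Helper17.RL1
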