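import Mathlib
import Groth.Agent.Lib.Helper17.RL1

/-!
# Element-level cohomology classes in cochain complexes of abelian groups
-/

set_option autoImplicit false
universe u

open CategoryTheory Limits Opposite

namespace Groth.Agent.Lib.Helper17.LC1

variable (K : CochainComplex AddCommGrpCat.{u} ℤ) (m : ℤ)

lemma exact_iCycles_d :
    (ShortComplex.mk (K.iCycles m) (K.d m (m + 1)) (K.iCycles_d m (m + 1))).Exact :=
  ShortComplex.exact_of_f_is_kernel _ (K.cyclesIsKernel m (m + 1) (by simp))

lemma exists_cycle (x : K.X m) (hx : K.d m (m + 1) x = 0) : ∃ c : K.cycles m, K.iCycles m c = x :=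
  (ShortComplex.ab_exact_iff _).1 (exact_iCycles_d K m) x hx

lemma iCycles_injective : Function.Injective (K.iCycles m) :=
  (AddCommGrpCat.mono_iff_injective _).1 inferInstance

/-- the cycle attached to an element killed by the differential. -/
noncomputable def cyc (x : K.X m) (hx : K.d m (m + 1) x = 0) : K.cycles m :=
  (exists_cycle K m x hx).choose

@[simp]
lemma iCycles_cyc (x : K.X m) (hx : K.d m (m + 1) x = 0) : K.iCycles m (cyc K m x hx) = x :=
  (exists_cycle K m x hx).choose_spec

/-- the cohomology class of a cocycle. -/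
noncomputable def cls (x : K.X m) (hx : K.d m (m + 1) x = 0) : K.homology m :=
  K.homologyπ m (cyc K m x hx)

lemma d_iCycles (c : K.cycles m) : K.d m (m + 1) (K.iCycles m c) = 0 := by
  rw [← ConcreteCategory.comp_apply, K.iCycles_d]
  rfl

lemma cls_surjective (ξ : K.homology m) : ∃ (x : K.X m) (hx : K.d m (m + 1) x = 0), cls K m x hx = ξ := by
  obtain ⟨c, rfl⟩ := (AddCommGrpCat.epi_iff_surjective _).1 (inferInstance : Epi (K.homologyπ m)) ξ
  refine ⟨K.iCycles m c, d_iCycles K m c, ?_⟩
  unfold cls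
  congr 1
  apply iCycles_injective
  simp

lemma cls_add (x y : K.X m) (hx : K.d m (m + 1) x = 0) (hy : K.d m (m + 1) y = 0) :
    cls K m (x + y) (by rw [map_add, hx, hy, add_zero]) = cls K m x hx + cls K m y hy := by
  unfold cls
  have h : cyc K m (x + y) (by rw [map_add, hx, hy, add_zero]) = cyc K m x hx + cyc K m y hy := by
    apply iCycles_injective
    simp
  rw [h, map_add]

lemma cls_neg (x : K.X m) (hx : K.d m (m + 1) x = 0) :
    cls K m (-x) (by rw [map_neg, hx, neg_zero]) = - cls K m x hx := by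
  unfold cls
  have h : cyc K m (-x) (by rw [map_neg, hx, neg_zero]) = - cyc K m x hx := by
    apply iCycles_injective
    simp
  rw [h, map_neg]

lemma cls_sub (x y : K.X m) (hx : K.d m (m + 1) x = 0) (hy : K.d m (m + 1) y = 0) :
    cls K m (x - y) (by rw [map_sub, hx, hy, sub_zero]) = cls K m x hx - cls K m y hy := by
  unfold cls
  have h : cyc K m (x - y) (by rw [map_sub, hx, hy, sub_zero]) = cyc K m x hx - cyc K m y hy := by
    apply iCycles_injective
    simp
  rw [h, map_sub]

lemma cls_congr (x y : K.X m) (hx : K.d m (m + 1) x = 0) (h : x = y) :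
    cls K m x hx = cls K m y (h ▸ hx) := by
  subst h
  rfl

lemma d_d_apply (y : K.X (m - 1)) : K.d m (m + 1) (K.d (m - 1) m y) = 0 := by
  rw [← ConcreteCategory.comp_apply, K.d_comp_d]
  rfl

lemma cls_eq_zero_iff (x : K.X m) (hx : K.d m (m + 1) x = 0) :
    cls K m x hx = 0 ↔ ∃ y : K.X (m - 1), K.d (m - 1) m y = x := by
  constructor
  · intro h
    obtain ⟨y, hy⟩ := (ShortComplex.ab_exact_iff _).1
      (Groth.Agent.Lib.Helper17.RL1.exact_toCycles_homologyπ K m) (cyc K m x hx) h
    refine ⟨y, ?_⟩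
    have := congrArg (K.iCycles m) hy
    simp only [iCycles_cyc] at this
    rw [← this]
    change _ = (K.toCycles (m - 1) m ≫ K.iCycles m) y
    rw [K.toCycles_i]
  · rintro ⟨y, rfl⟩
    unfold cls
    have : cyc K m (K.d (m - 1) m y) hx = K.toCycles (m - 1) m y := by
      apply iCycles_injective
      rw [iCycles_cyc]
      change _ = (K.toCycles (m - 1) m ≫ K.iCycles m) y
      rw [K.toCycles_i]
    rw [this]
    change (K.toCycles (m - 1) m ≫ K.homologyπ m) y = 0
    rw [K.toCycles_comp_homologyπ]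
    rfl

lemma cls_eq_iff (x y : K.X m) (hx : K.d m (m + 1) x = 0) (hy : K.d m (m + 1) y = 0) :
    cls K m x hx = cls K m y hy ↔ ∃ z : K.X (m - 1), K.d (m - 1) m z = x - y := by
  rw [← sub_eq_zero, ← cls_sub, cls_eq_zero_iff]

lemma cls_eq_zero_iff' (r : ℤ) (hr : r + 1 = m) (x : K.X m) (hx : K.d m (m + 1) x = 0) :
    cls K m x hx = 0 ↔ ∃ y : K.X r, K.d r m y = x := by
  obtain rfl : r = m - 1 := by omega
  exact cls_eq_zero_iff K m x hx

lemma cls_eq_iff' (r : ℤ) (hr : r + 1 = m) (x y : K.X m) (hx : K.d m (m + 1) x = 0)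
    (hy : K.d m (m + 1) y = 0) :
    cls K m x hx = cls K m y hy ↔ ∃ z : K.X r, K.d r m z = x - y := by
  obtain rfl : r = m - 1 := by omega
  exact cls_eq_iff K m x y hx hy

variable {K}

lemma map_d_eq_zero {K' : CochainComplex AddCommGrpCat.{u} ℤ} (ψ : K ⟶ K') (x : K.X m)
    (hx : K.d m (m + 1) x = 0) : K'.d m (m + 1) (ψ.f m x) = 0 := by
  have := ConcreteCategory.congr_hom (ψ.comm m (m + 1)) x
  rw [ConcreteCategory.comp_apply, ConcreteCategory.comp_apply] at this
  rw [this, hx, map_zero]

lemma cls_map {K' : CochainComplex AddCommGrpCat.{u} ℤ} (ψ : K ⟶ K') (x : K.X m)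
    (hx : K.d m (m + 1) x = 0) :
    HomologicalComplex.homologyMap ψ m (cls K m x hx) =
      cls K' m (ψ.f m x) (map_d_eq_zero m ψ x hx) := by
  unfold cls
  have h1 := ConcreteCategory.congr_hom (HomologicalComplex.homologyπ_naturality ψ m) (cyc K m x hx)
  rw [ConcreteCategory.comp_apply, ConcreteCategory.comp_apply] at h1
  rw [h1]
  congr 1
  apply iCycles_injective
  rw [iCycles_cyc]
  have h2 := ConcreteCategory.congr_hom (HomologicalComplex.cyclesMap_i ψ m) (cyc K m x hx)
  rw [ConcreteCategory.comp_apply, ConcreteCategory.comp_apply] at h2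
  rw [h2, iCycles_cyc]

end Groth.Agent.Lib.Helper17.LC1
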