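import Mathlib
import Groth.Prelude
import Groth.Agent.Lib.Helper17.LC1

/-!
# Cohomology of a limit of complexes of abelian groups under lim¹ vanishing: algebraic core
-/

set_option autoImplicit false
universe u

open CategoryTheory Limits Opposite

namespace Groth.Agent.Lib.Helper17.LC2

open Groth.Agent.Lib.Helper17.LC1

section tower

/-- a compatible sequence through a given element at stage `n₀` if transition maps are
surjective from `n₀` on. -/
lemma tower_exists_seq : ∀ (n₀ : ℕ) (H : ℕ → Type u) [∀ n, AddCommGroup (H n)]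
    (T : ∀ n, H (n + 1) →+ H n) (_ : ∀ n, n₀ ≤ n → Function.Surjective (T n)) (ξ₀ : H n₀),
    ∃ Ξ : ∀ n, H n, Ξ n₀ = ξ₀ ∧ ∀ n, T n (Ξ (n + 1)) = Ξ n := by
  intro n₀
  induction n₀ with
  | zero =>
    intro H _ T hT ξ₀
    choose s hs using fun n => hT n (Nat.zero_le n)
    refine ⟨fun n => Nat.rec (motive := H) ξ₀ (fun k x => s k x) n, rfl, fun n => ?_⟩
    exact hs n _
  | succ n₀ ih =>
    intro H _ T hT ξ₀
    obtain ⟨Ξ', h0, h1⟩ := ih (fun n => H (n + 1)) (fun n => T (n + 1))
      (fun n hn => hT (n + 1) (by omega)) ξ₀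
    refine ⟨fun n => Nat.casesOn (motive := H) n (T 0 (Ξ' 0)) (fun k => Ξ' k), h0, fun n => ?_⟩
    cases n with
    | zero => rfl
    | succ k => exact h1 k

lemma tower_zero : ∀ (n₀ : ℕ) (H : ℕ → Type u) [∀ n, AddCommGroup (H n)]
    (T : ∀ n, H (n + 1) →+ H n) (_ : ∀ n, n₀ ≤ n → Function.Injective (T n)) (Ξ : ∀ n, H n)
    (_ : ∀ n, T n (Ξ (n + 1)) = Ξ n) (_ : Ξ n₀ = 0), ∀ n, Ξ n = 0 := by
  intro n₀
  induction n₀ with
  | zero =>
    intro H _ T hT Ξ hΞ h0 n
    induction n with
    | zero => exact h0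
    | succ k ih =>
      apply hT k (Nat.zero_le k)
      rw [hΞ, ih, map_zero]
  | succ n₀ ih =>
    intro H _ T hT Ξ hΞ h0 n
    have h1 := ih (fun n => H (n + 1)) (fun n => T (n + 1)) (fun n hn => hT (n + 1) (by omega))
      (fun n => Ξ (n + 1)) (fun n => hΞ (n + 1)) h0
    cases n with
    | zero => rw [← hΞ 0, h1 0, map_zero]
    | succ k => exact h1 k

end tower

section core

variable (A : ℕ → CochainComplex AddCommGrpCat.{u} ℤ) (t : ∀ n, A (n + 1) ⟶ A n)
  (L : CochainComplex AddCommGrpCat.{u} ℤ) (π : ∀ n, L ⟶ A n)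

lemma comm_apply {K K' : CochainComplex AddCommGrpCat.{u} ℤ} (ψ : K ⟶ K') (i j : ℤ) (x : K.X i) :
    ψ.f j (K.d i j x) = K'.d i j (ψ.f i x) := by
  have := ConcreteCategory.congr_hom (ψ.comm i j) x
  rw [ConcreteCategory.comp_apply, ConcreteCategory.comp_apply] at this
  exact this.symm

lemma d_d_apply' (K : CochainComplex AddCommGrpCat.{u} ℤ) (i j k : ℤ) (x : K.X i) :
    K.d j k (K.d i j x) = 0 := by
  rw [← ConcreteCategory.comp_apply, K.d_comp_d]
  rfl

theorem core (hπ : ∀ n, π (n + 1) ≫ t n = π n) (m q r : ℤ) (hq : q + 1 = m) (hr : r + 1 = q)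
    (n₀ : ℕ)
    (hsep : ∀ (j : ℤ) (x : L.X j), (∀ n, (π n).f j x = 0) → x = 0)
    (hglue : ∀ (j : ℤ) (x : ∀ n, (A n).X j), (∀ n, (t n).f j (x (n + 1)) = x n) →
      ∃ y : L.X j, ∀ n, (π n).f j y = x n)
    (ha_r : CohCx.LimOneIsZero (fun n => (A n).X r) (fun n => ((t n).f r).hom))
    (ha_q : CohCx.LimOneIsZero (fun n => (A n).X q) (fun n => ((t n).f q).hom))
    (hb : CohCx.LimOneIsZero (fun n => (A n).homology q)
      (fun n => (HomologicalComplex.homologyMap (t n) q).hom))
    (hc : ∀ n, n₀ ≤ n → Function.Bijective (HomologicalComplex.homologyMap (t n) m)) :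
    Function.Bijective (HomologicalComplex.homologyMap (π n₀) m) := by
  have TP : ∀ n j (x : L.X j), (t n).f j ((π (n + 1)).f j x) = (π n).f j x := by
    intro n j x
    rw [← hπ n]
    rfl
  constructor
  · rw [← AddMonoidHom.coe_coe, injective_iff_map_eq_zero]
    intro ξ hξ
    obtain ⟨z, hz, rfl⟩ := cls_surjective L m ξ
    change HomologicalComplex.homologyMap (π n₀) m (cls L m z hz) = 0 at hξ
    rw [cls_map] at hξ
    have hall : ∀ n, cls (A n) m ((π n).f m z) (map_d_eq_zero m (π n) z hz) = 0 :=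
      tower_zero n₀ (fun n => (A n).homology m)
        (fun n => (HomologicalComplex.homologyMap (t n) m).hom) (fun n hn => (hc n hn).1)
        (fun n => cls (A n) m ((π n).f m z) (map_d_eq_zero m (π n) z hz))
        (fun n => by
          change HomologicalComplex.homologyMap (t n) m (cls (A (n + 1)) m _ _) = _
          rw [cls_map]
          exact cls_congr _ _ _ _ _ (TP n m z)) hξ
    have h1 : ∀ n, ∃ y : (A n).X q, (A n).d q m y = (π n).f m z := fun n =>
      (cls_eq_zero_iff' (A n) m q hq _ _).1 (hall n)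
    choose y hy using h1
    subst hq
    have hcn : ∀ n, (A n).d q (q + 1) (y n - (t n).f q (y (n + 1))) = 0 := by
      intro n
      rw [map_sub, ← comm_apply, hy, hy, TP, sub_self]
    obtain ⟨η, hη⟩ := hb (fun n => cls (A n) q _ (hcn n))
    choose e he_cyc he using fun n => cls_surjective (A n) q (η n)
    have h2 : ∀ n, ∃ x : (A n).X r, (A n).d r q x =
        (y n - (t n).f q (y (n + 1))) - (e n - (t n).f q (e (n + 1))) := by
      intro n
      have hcyc2 : (A n).d q (q + 1) (e n - (t n).f q (e (n + 1))) = 0 := by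
        rw [map_sub, ← comm_apply, he_cyc, he_cyc, map_zero, sub_self]
      apply (cls_eq_iff' (A n) q r hr _ _ (hcn n) hcyc2).1
      rw [cls_sub (A n) q (e n) ((t n).f q (e (n + 1))) (he_cyc n)
        (map_d_eq_zero q (t n) _ (he_cyc (n + 1))), ← cls_map q (t n) (e (n + 1)) (he_cyc (n + 1)), he, he]
      exact (congrFun hη n).symm
    choose x hx using h2
    obtain ⟨v, hv⟩ := ha_r x
    have hv' : ∀ n, v n - (t n).f r (v (n + 1)) = x n := fun n => congrFun hv n
    have hcompat : ∀ n, (t n).f q (y (n + 1) - e (n + 1) - (A (n + 1)).d r q (v (n + 1))) =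
        y n - e n - (A n).d r q (v n) := by
      intro n
      have h3 := hx n
      rw [← hv' n, map_sub, ← comm_apply] at h3
      rw [map_sub, map_sub]
      rw [sub_eq_iff_eq_add] at h3
      have h4 : y n - e n - (A n).d r q (v n) - ((t n).f q (y (n + 1)) - (t n).f q (e (n + 1)) -
          (t n).f q ((A (n + 1)).d r q (v (n + 1)))) = 0 := by
        rw [h3]
        abel
      exact (sub_eq_zero.1 h4).symm
    obtain ⟨Y, hY⟩ := hglue q (fun n => y n - e n - (A n).d r q (v n)) hcompat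
    have hYz : L.d q (q + 1) Y = z := by
      rw [← sub_eq_zero]
      apply hsep
      intro n
      rw [map_sub, comm_apply, hY, map_sub, map_sub, hy, he_cyc, d_d_apply', sub_zero, sub_zero,
        sub_self]
    exact (cls_eq_zero_iff' L (q + 1) q rfl z hz).2 ⟨Y, hYz⟩
  · intro ξ₀
    obtain ⟨Ξ, hΞ0, hΞ⟩ := tower_exists_seq n₀ (fun n => (A n).homology m)
      (fun n => (HomologicalComplex.homologyMap (t n) m).hom) (fun n hn => (hc n hn).2) ξ₀
    choose z hz_cyc hz using fun n => cls_surjective (A n) m (Ξ n)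
    have h1 : ∀ n, ∃ y : (A n).X q, (A n).d q m y = z n - (t n).f m (z (n + 1)) := by
      intro n
      apply (cls_eq_iff' (A n) m q hq _ _ (hz_cyc n) (map_d_eq_zero m (t n) _ (hz_cyc (n + 1)))).1
      rw [← cls_map m (t n) (z (n + 1)) (hz_cyc (n + 1)), hz, hz]
      exact (hΞ n).symm
    choose y hy using h1
    obtain ⟨w, hw⟩ := ha_q y
    have hw' : ∀ n, w n - (t n).f q (w (n + 1)) = y n := fun n => congrFun hw n
    have hcompat : ∀ n, (t n).f m (z (n + 1) - (A (n + 1)).d q m (w (n + 1))) =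
        z n - (A n).d q m (w n) := by
      intro n
      have h3 := hy n
      rw [← hw' n, map_sub, ← comm_apply] at h3
      rw [map_sub]
      have h4 : z n - (A n).d q m (w n) - ((t n).f m (z (n + 1)) -
          (t n).f m ((A (n + 1)).d q m (w (n + 1)))) = 0 := by
        rw [sub_eq_iff_eq_add] at h3
        rw [h3]
        abel
      exact (sub_eq_zero.1 h4).symm
    obtain ⟨Z, hZ⟩ := hglue m (fun n => z n - (A n).d q m (w n)) hcompat
    have hZcyc : L.d m (m + 1) Z = 0 := by
      apply hsep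
      intro n
      rw [comm_apply, hZ, map_sub, hz_cyc, d_d_apply', sub_zero]
    refine ⟨cls L m Z hZcyc, ?_⟩
    rw [cls_map, ← hΞ0, ← hz n₀]
    apply (cls_eq_iff' (A n₀) m q hq _ _ _ (hz_cyc n₀)).2
    refine ⟨- w n₀, ?_⟩
    rw [hZ, map_neg]
    abel

end core

end Groth.Agent.Lib.Helper17.LC2
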