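import Groth.Agent.Lib.Helper17.RL5

/-!
# `E = R lim τ_{≥ -n} E` under bounded vanishing hypotheses (Stacks 21.23.6 pattern)
-/


set_option autoImplicit false
universe w' w v u

open CategoryTheory Limits Opposite Pretriangulated

namespace Groth.Agent.Lib.Helper17.RL6

section tri

variable {T : Type*} [Category T] [Preadditive T] [HasZeroObject T] [HasShift T ℤ]
  [∀ n : ℤ, (CategoryTheory.shiftFunctor T n).Additive] [Pretriangulated T]
  (K : ℕ → T) (t : ∀ n, K (n + 1) ⟶ K n) [HasProduct K]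

lemma exists_rlim : ∃ (L : T) (a : ∀ n, L ⟶ K n), CohCx.IsRlimVia K t L a := by
  obtain ⟨L, a', c, hT⟩ := distinguished_cocone_triangle₁
    (Pi.lift fun n => Pi.π K n - Pi.π K (n + 1) ≫ t n)
  refine ⟨L, fun n => a' ≫ Pi.π K n, c, ?_⟩
  have : Pi.lift (fun n => a' ≫ Pi.π K n) = a' := by
    apply Pi.hom_ext
    intro n
    simp
  rw [this]
  exact hT

variable {K t}

lemma exists_lift_to_rlim {L : T} {a : ∀ n, L ⟶ K n} (hL : CohCx.IsRlimVia K t L a) {E : T}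
    (b : ∀ n, E ⟶ K n) (hb : ∀ n, b (n + 1) ≫ t n = b n) : ∃ e : E ⟶ L, ∀ n, e ≫ a n = b n := by
  obtain ⟨c, hT⟩ := hL
  have h0 : Pi.lift b ≫ (Pi.lift fun n => Pi.π K n - Pi.π K (n + 1) ≫ t n) = 0 := by
    apply Pi.hom_ext
    intro n
    rw [Category.assoc, Pi.lift_π, Preadditive.comp_sub, Pi.lift_π, Pi.lift_π_assoc, hb, sub_self,
      zero_comp]
  obtain ⟨e, he⟩ := Triangle.coyoneda_exact₂ _ hT (Pi.lift b) h0
  refine ⟨e, fun n => ?_⟩
  have h1 : Pi.lift b = e ≫ Pi.lift a := he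
  have := congrArg (fun x => x ≫ Pi.π K n) h1
  simp only [Category.assoc, Pi.lift_π] at this
  exact this.symm

lemma isRlimVia_of_iso {L : T} {a : ∀ n, L ⟶ K n} (hL : CohCx.IsRlimVia K t L a) {E : T}
    (b : ∀ n, E ⟶ K n) (e : E ⟶ L) [IsIso e] (he : ∀ n, e ≫ a n = b n) :
    CohCx.IsRlimVia K t E b := by
  obtain ⟨c, hT⟩ := hL
  refine ⟨c ≫ (inv e)⟦(1 : ℤ)⟧', ?_⟩
  refine isomorphic_distinguished _ hT _ ?_
  have hE : IsIso e := inferInstance
  refine Triangle.isoMk _ _ (asIso e : E ≅ L) (Iso.refl _) (Iso.refl _) ?_ ?_ ?_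
  · change Pi.lift b ≫ 𝟙 _ = e ≫ Pi.lift a
    rw [Category.comp_id]
    apply Pi.hom_ext
    intro n
    rw [Category.assoc, Pi.lift_π, Pi.lift_π, he]
  · change (Pi.lift fun n => Pi.π K n - Pi.π K (n + 1) ≫ t n) ≫ 𝟙 _ =
      𝟙 _ ≫ (Pi.lift fun n => Pi.π K n - Pi.π K (n + 1) ≫ t n)
    rw [Category.comp_id, Category.id_comp]
  · change (c ≫ (inv e)⟦(1 : ℤ)⟧') ≫ e⟦(1 : ℤ)⟧' = 𝟙 _ ≫ c
    rw [Category.id_comp, Category.assoc, ← Functor.map_comp, IsIso.inv_hom_id,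
      CategoryTheory.Functor.map_id, Category.comp_id]

end tri


section sh

open Groth.Agent.Lib.Helper17.RL1 Groth.Agent.Lib.Helper17.RL2 Groth.Agent.Lib.Helper17.RL4
open Groth.Agent.Lib.Helper17.RL5
open Groth.Agent.Lib.Helper20.FreeSheaf

variable {C : Type u} [SmallCategory C] (J : GrothendieckTopology C)

/-- a morphism of abelian sheaves along which sections lift locally is an epimorphism. -/
lemma epi_of_local_lift {F F' : Sheaf J AddCommGrpCat.{u}} (φ : F ⟶ F')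
    (h : ∀ (U : C) (σ : ZU J U ⟶ F'), ∃ S ∈ J U, ∀ ⦃Y : C⦄ (g : Y ⟶ U), S g →
      ∃ ρ : ZU J Y ⟶ F, ρ ≫ φ = Zmap J g ≫ σ) : Epi φ := by
  rw [← Sheaf.isLocallySurjective_iff_epi' _ φ]
  constructor
  intro U s
  obtain ⟨S, hS, hS'⟩ := h U ((a J U F').symm s)
  refine J.superset_covering ?_ hS
  intro Y g hg
  obtain ⟨ρ, hρ⟩ := hS' g hg
  refine ⟨a J Y F ρ, ?_⟩
  have h1 := a_nat J Y ρ φ
  rw [hρ, a_nat_left, Equiv.apply_symm_apply] at h1
  exact h1.symm

theorem isIso_of_local_retraction {FE FL : Sheaf J AddCommGrpCat.{u}} (ε : FE ⟶ FL) [Mono ε]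
    (B : Set C)
    (hB : ∀ U : C, ∃ (ι : Type u) (Y : ι → C) (f : ∀ i, Y i ⟶ U),
      Sieve.ofArrows Y f ∈ J U ∧ ∀ i, Y i ∈ B)
    (h : ∀ V ∈ B, ∃ (Fn : Sheaf J AddCommGrpCat.{u}) (α : FL ⟶ Fn), IsIso (ε ≫ α) ∧
      Function.Injective (α.hom.app (op V))) : IsIso ε := by
  have : Epi ε := by
    apply epi_of_local_lift
    intro U σ
    obtain ⟨ι, Yf, f, hcov, hYB⟩ := hB U
    refine ⟨Sieve.ofArrows Yf f, hcov, ?_⟩
    intro W g hg
    obtain ⟨_, k, _, ⟨i⟩, rfl⟩ := hg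
    obtain ⟨Fn, α, hiso, hinj⟩ := h (Yf i) (hYB i)
    let σi : ZU J (Yf i) ⟶ FL := Zmap J (f i) ≫ σ
    let ρi : ZU J (Yf i) ⟶ FE := σi ≫ α ≫ inv (ε ≫ α)
    have h1 : ρi ≫ ε = σi := by
      rw [← sub_eq_zero]
      apply app_eq_zero_of J α (Yf i) hinj
      rw [Preadditive.sub_comp, sub_eq_zero]
      simp only [ρi, Category.assoc]
      rw [IsIso.inv_hom_id, Category.comp_id]
    refine ⟨Zmap J k ≫ ρi, ?_⟩
    rw [Category.assoc, h1, Zmap_comp, Category.assoc]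
  exact isIso_of_mono_of_epi ε

end sh


section main

open Groth.Agent.Lib.Helper17.RL1 Groth.Agent.Lib.Helper17.RL2 Groth.Agent.Lib.Helper17.RL4
open Groth.Agent.Lib.Helper17.RL5
open Groth.Agent.Lib.Helper20.FreeSheaf
open DerivedCategory DerivedCategory.TStructure

variable {A : Type (u + 1)} [Category.{u} A] [Abelian A] [HasDerivedCategory.{w} A]

lemma toTruncTower_comp (E : DerivedCategory A) (n : ℕ) :
    CohCx.toTruncTower E (n + 1) ≫ CohCx.truncTowerMap E n = CohCx.toTruncTower E n :=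
  t.π_natTransTruncGEOfLE_app _ _ _ E

/-- the comparison map `E ⟶ L` to a derived limit of the truncation tower, together with the
key isomorphism property on cohomology. -/
lemma exists_comparison (E : DerivedCategory A) [HasProduct (CohCx.truncTower E)] :
    ∃ (L : DerivedCategory A) (a : ∀ n, L ⟶ CohCx.truncTower E n)
      (_ : CohCx.IsRlimVia (CohCx.truncTower E) (CohCx.truncTowerMap E) L a) (e : E ⟶ L),
      (∀ n, e ≫ a n = CohCx.toTruncTower E n) ∧
      ∀ (m : ℤ) (n : ℕ), -m ≤ n →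
        IsIso ((homologyFunctor A m).map e ≫ (homologyFunctor A m).map (a n)) := by
  obtain ⟨L, a, hL⟩ := exists_rlim (CohCx.truncTower E) (CohCx.truncTowerMap E)
  obtain ⟨e, he⟩ := exists_lift_to_rlim hL (CohCx.toTruncTower E) (toTruncTower_comp E)
  refine ⟨L, a, hL, e, he, ?_⟩
  intro m n hn
  rw [← Functor.map_comp, he]
  exact isIso_homology_truncGEπ E (-(n : ℤ)) m (by omega)

end main

section site

open Groth.Agent.Lib.Helper17.RL1 Groth.Agent.Lib.Helper17.RL2 Groth.Agent.Lib.Helper17.RL4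
open Groth.Agent.Lib.Helper17.RL5
open Groth.Agent.Lib.Helper20.FreeSheaf
open DerivedCategory DerivedCategory.TStructure

variable {C : Type u} [SmallCategory C] {J : GrothendieckTopology C}
  [HasDerivedCategory.{u} (Sheaf J AddCommGrpCat.{u})]

theorem isRlimVia_truncTower_site (E : DerivedCategory (Sheaf J AddCommGrpCat.{u}))
    [HasProduct (CohCx.truncTower E)] (B : Set C)
    (hB : ∀ U : C, ∃ (ι : Type u) (Y : ι → C) (f : ∀ i, Y i ⟶ U),
      Sieve.ofArrows Y f ∈ J U ∧ ∀ i, Y i ∈ B)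
    (h : ∀ V ∈ B, ∃ p : ℤ → ℤ, ∀ T ∈ J V, ∃ (ι : Type u) (Y : ι → C) (f : ∀ i, Y i ⟶ V),
      (∀ i, T.arrows (f i)) ∧ Sieve.ofArrows Y f ∈ J V ∧
      ∀ (i : ι), VanishAbove.{u} E (ZU J (Y i)) p) :
    CohCx.IsRlimVia (CohCx.truncTower E) (CohCx.truncTowerMap E) E (CohCx.toTruncTower E) := by
  obtain ⟨L, a, hL, e, he, hτ⟩ := exists_comparison E
  suffices IsIso e from isRlimVia_of_iso hL _ e he
  rw [DerivedCategory.isIso_iff]
  intro m
  have hmono : Mono ((homologyFunctor _ m).map e) := by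
    have := hτ m (-m).toNat (by omega)
    exact mono_of_mono _ ((homologyFunctor _ m).map (a (-m).toNat))
  apply isIso_of_local_retraction J _ B hB
  intro V hV
  obtain ⟨p, hp⟩ := h V hV
  refine ⟨_, (homologyFunctor _ m).map (a (Nof p m)), hτ m _ (Nof_ge p m), ?_⟩
  apply injective_homology_of_local
  intro T hT
  obtain ⟨ι, Y, f, hfT, hcov, hv⟩ := hp T hT
  refine ⟨ι, Y, f, hfT, hcov, fun i => ?_⟩
  intro y hy
  exact injAt_truncTower.{u} E hL (ZU J (Y i)) p (hv i) m y hy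

end site

end Groth.Agent.Lib.Helper17.RL6
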