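import Mathlib
import Groth.Prelude
import Groth.Agent.Lib.Helper17.LC2
import Groth.Agent.Lib.Helper17.RL6

/-!
# A morphism of complexes of abelian sheaves that is a quasi-isomorphism in degree `m` on sections
over a covering class induces an isomorphism on `m`-th cohomology sheaves
-/

set_option autoImplicit false
universe u

open CategoryTheory Limits Opposite

namespace Groth.Agent.Lib.Helper17.LC3

open Groth.Agent.Lib.Helper17.LC1 Groth.Agent.Lib.Helper17.RL1 Groth.Agent.Lib.Helper17.RL6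
open Groth.Agent.Lib.Helper20 Groth.Agent.Lib.Helper20.FreeSheaf

variable {C : Type u} [SmallCategory C] (J : GrothendieckTopology C)

section hclsadd

variable {A : Type*} [Category A] [Abelian A] (I : CochainComplex A ℤ) (m : ℤ)

lemma hcls_add {M : A} (f g : M ⟶ I.X m) (hf : f ≫ I.d m (m + 1) = 0)
    (hg : g ≫ I.d m (m + 1) = 0) :
    hcls I m (f + g) (by rw [Preadditive.add_comp, hf, hg, add_zero]) =
      hcls I m f hf + hcls I m g hg := by
  unfold hcls
  have h : I.liftCycles (f + g) (m + 1) (by simp)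
      (by rw [Preadditive.add_comp, hf, hg, add_zero]) =
      I.liftCycles f (m + 1) (by simp) hf + I.liftCycles g (m + 1) (by simp) hg := by
    rw [← cancel_mono (I.iCycles m)]
    simp
  rw [h, Preadditive.add_comp]

lemma hcls_congr {M : A} (f g : M ⟶ I.X m) (hf : f ≫ I.d m (m + 1) = 0) (h : f = g) :
    hcls I m f hf = hcls I m g (h ▸ hf) := by
  subst h
  rfl

lemma hcls_eq_of_boundary {M : A} (x f' : M ⟶ I.X m) (hx : x ≫ I.d m (m + 1) = 0)
    (hf' : f' ≫ I.d m (m + 1) = 0) (w : M ⟶ I.X (m - 1)) (h1 : x = f' + w ≫ I.d (m - 1) m) :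
    hcls I m x hx = hcls I m f' hf' := by
  subst h1
  rw [hcls_add I m f' _ hf' (by rw [Category.assoc, I.d_comp_d, comp_zero]),
    hcls_eq_zero_of_boundary I m _ _ _ rfl, add_zero]

end hclsadd

section hclsaddsheaf

variable (I : CochainComplex (Sheaf J AddCommGrpCat.{u}) ℤ) (m : ℤ)

lemma hcls_eq_of_boundary_sheaf {M : Sheaf J AddCommGrpCat.{u}} (x f' : M ⟶ I.X m)
    (hx : x ≫ I.d m (m + 1) = 0)
    (hf' : f' ≫ I.d m (m + 1) = 0) (w : M ⟶ I.X (m - 1)) (h1 : x = f' + w ≫ I.d (m - 1) m) :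
    hcls I m x hx = hcls I m f' hf' :=
  hcls_eq_of_boundary I m x f' hx hf' w h1

end hclsaddsheaf

section sections

variable (K : CochainComplex (Sheaf J AddCommGrpCat.{u}) ℤ) (W : C)

lemma a_d (i j : ℤ) (f : ZU J W ⟶ K.X i) :
    FreeSheaf.a J W (K.X j) (f ≫ K.d i j) =
      ((CohCx.sectCx J W).obj K).d i j (FreeSheaf.a J W (K.X i) f) :=
  a_nat J W f (K.d i j)

lemma a_symm_d (i j : ℤ) (x : ((CohCx.sectCx J W).obj K).X i) :
    (FreeSheaf.a J W (K.X i)).symm x ≫ K.d i j =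
      (FreeSheaf.a J W (K.X j)).symm (((CohCx.sectCx J W).obj K).d i j x) :=
  a_symm_nat J W x (K.d i j)

lemma a_f {K' : CochainComplex (Sheaf J AddCommGrpCat.{u}) ℤ} (ψ : K ⟶ K') (i : ℤ)
    (f : ZU J W ⟶ K.X i) :
    FreeSheaf.a J W (K'.X i) (f ≫ ψ.f i) =
      ((CohCx.sectCx J W).map ψ).f i (FreeSheaf.a J W (K.X i) f) :=
  a_nat J W f (ψ.f i)

end sections

variable {K K' : CochainComplex (Sheaf J AddCommGrpCat.{u}) ℤ} (ψ : K ⟶ K') (m : ℤ)
  (B : Set C)
  (hB : ∀ U : C, ∃ (ι : Type u) (Y : ι → C) (f : ∀ i, Y i ⟶ U),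
      Sieve.ofArrows Y f ∈ J U ∧ ∀ i, Y i ∈ B)

include hB in
theorem mono_homologyMap_of_sections
    (h : ∀ W ∈ B, Function.Injective
      (HomologicalComplex.homologyMap ((CohCx.sectCx J W).map ψ) m)) :
    Mono (HomologicalComplex.homologyMap ψ m) := by
  have key : ∀ (V : C) (σ : ZU J V ⟶ K.homology m),
      σ ≫ HomologicalComplex.homologyMap ψ m = 0 → σ = 0 := by
    intro V σ hσ
    obtain ⟨S, hS, hS'⟩ := exists_local_hcls J K m σ
    apply eq_zero_of_cover J σ S hS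
    intro Y g hg
    obtain ⟨f, hf, hfσ⟩ := hS' g hg
    rw [hfσ]
    have h1 : hcls K' m (f ≫ ψ.f m)
        (by rw [Category.assoc, ψ.comm, reassoc_of% hf, zero_comp]) = 0 := by
      rw [← hcls_map K m ψ f hf, ← hfσ, Category.assoc, hσ, comp_zero]
    obtain ⟨S2, hS2, hS2'⟩ := exists_local_boundary J K' m _ _ h1
    apply eq_zero_of_cover J _ S2 hS2
    intro Y2 g2 hg2
    obtain ⟨w, hw⟩ := hS2' g2 hg2
    obtain ⟨ι, Yf, k, hcov, hYB⟩ := hB Y2
    apply eq_zero_of_cover J _ _ hcov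
    intro W g3 hg3
    obtain ⟨_, k', _, ⟨i⟩, rfl⟩ := hg3
    rw [Zmap_comp, Category.assoc]
    have h0 : Zmap J (k i) ≫ Zmap J g2 ≫ hcls K m f hf = 0 := by
      rw [hcls_precomp, hcls_precomp]
      -- the cocycle on `Yf i`
      set f' : ZU J (Yf i) ⟶ K.X m := Zmap J (k i) ≫ Zmap J g2 ≫ f with hf'
      have hf'0 : f' ≫ K.d m (m + 1) = 0 := by
        rw [hf', Category.assoc, Category.assoc, hf, comp_zero, comp_zero]
      have hx0 : ((CohCx.sectCx J (Yf i)).obj K).d m (m + 1) (FreeSheaf.a J (Yf i) _ f') = 0 := by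
        rw [← a_d, hf'0, a_zero]
        rfl
      -- its image is a coboundary
      have himg : ((CohCx.sectCx J (Yf i)).map ψ).f m (FreeSheaf.a J (Yf i) _ f') =
          ((CohCx.sectCx J (Yf i)).obj K').d (m - 1) m
            (FreeSheaf.a J (Yf i) _ (Zmap J (k i) ≫ w)) := by
        rw [← a_f, ← a_d, hf', Category.assoc, Category.assoc, Category.assoc, hw]
      have hcls0 : cls ((CohCx.sectCx J (Yf i)).obj K) m _ hx0 = 0 := by
        apply h (Yf i) (hYB i)
        rw [map_zero, cls_map]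
        exact (cls_eq_zero_iff _ m _ _).2 ⟨_, himg.symm⟩
      obtain ⟨y, hy⟩ := (cls_eq_zero_iff _ m _ _).1 hcls0
      apply hcls_eq_zero_of_boundary K m f' hf'0 ((FreeSheaf.a J (Yf i) _).symm y)
      rw [a_symm_d, hy, Equiv.symm_apply_apply]
    rw [h0, comp_zero]
  have hinj : ∀ V : C, Function.Injective
      ((HomologicalComplex.homologyMap ψ m).hom.app (op V)) := fun V =>
    injective_app_of J _ V (key V)
  have : Mono (HomologicalComplex.homologyMap ψ m).hom := by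
    have : ∀ V : Cᵒᵖ, Mono ((HomologicalComplex.homologyMap ψ m).hom.app V) := fun V =>
      (AddCommGrpCat.mono_iff_injective _).2 (hinj V.unop)
    exact NatTrans.mono_of_mono_app _
  exact Sheaf.Hom.mono_of_presheaf_mono _ _ _

include hB in
theorem epi_homologyMap_of_sections
    (h : ∀ W ∈ B, Function.Surjective
      (HomologicalComplex.homologyMap ((CohCx.sectCx J W).map ψ) m)) :
    Epi (HomologicalComplex.homologyMap ψ m) := by
  choose ι Yf k hcov hYB using hB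
  apply epi_of_local_lift
  intro U σ
  obtain ⟨S, hS, hS'⟩ := exists_local_hcls J K' m σ
  refine ⟨Sieve.bind S (fun Y _ _ => Sieve.ofArrows (Yf Y) (k Y)),
    J.bind_covering hS (fun Y _ _ => hcov Y), ?_⟩
  intro W0 g0 hg0
  obtain ⟨Y1, g', g, hg, hR, rfl⟩ := hg0
  obtain ⟨_, k', _, ⟨i⟩, rfl⟩ := hR
  obtain ⟨f, hf, hfσ⟩ := hS' g hg
  set f' : ZU J (Yf Y1 i) ⟶ K'.X m := Zmap J (k Y1 i) ≫ f with hf'
  have hf'0 : f' ≫ K'.d m (m + 1) = 0 := by
    rw [hf', Category.assoc, hf, comp_zero]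
  have hx'0 : ((CohCx.sectCx J (Yf Y1 i)).obj K').d m (m + 1) (FreeSheaf.a J (Yf Y1 i) _ f') = 0 := by
    rw [← a_d, hf'0, a_zero]
    rfl
  obtain ⟨ξ, hξ⟩ := h (Yf Y1 i) (hYB Y1 i) (cls _ m _ hx'0)
  obtain ⟨x, hx, rfl⟩ := cls_surjective _ m ξ
  rw [cls_map, cls_eq_iff] at hξ
  obtain ⟨y', hy'⟩ := hξ
  have hx0 : (FreeSheaf.a J (Yf Y1 i) (K.X m)).symm x ≫ K.d m (m + 1) = 0 := by
    rw [a_symm_d, hx]
    apply (FreeSheaf.a J (Yf Y1 i) _).injective
    rw [Equiv.apply_symm_apply, a_zero]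
    rfl
  have h1 : (FreeSheaf.a J (Yf Y1 i) (K.X m)).symm x ≫ ψ.f m =
      f' + (FreeSheaf.a J (Yf Y1 i) (K'.X (m - 1))).symm y' ≫ K'.d (m - 1) m := by
    apply (FreeSheaf.a J (Yf Y1 i) _).injective
    rw [a_f, a_add, a_d, Equiv.apply_symm_apply, Equiv.apply_symm_apply, hy']
    exact (add_sub_cancel _ _).symm
  refine ⟨Zmap J k' ≫ hcls K m _ hx0, ?_⟩
  rw [Category.assoc, hcls_map, hcls_eq_of_boundary_sheaf J K' m _ f' _ hf'0 _ h1,
    ← hcls_precomp K' m (Zmap J (k Y1 i)) f hf, ← hfσ, Zmap_comp, Zmap_comp,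
    Category.assoc, Category.assoc]

include hB in
theorem isIso_homologyMap_of_sections
    (h : ∀ W ∈ B, Function.Bijective
      (HomologicalComplex.homologyMap ((CohCx.sectCx J W).map ψ) m)) :
    IsIso (HomologicalComplex.homologyMap ψ m) := by
  have := mono_homologyMap_of_sections J ψ m B hB (fun W hW => (h W hW).1)
  have := epi_homologyMap_of_sections J ψ m B hB (fun W hW => (h W hW).2)
  exact isIso_of_mono_of_epi _

end Groth.Agent.Lib.Helper17.LC3
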