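import Groth.Agent.Lib.Helper17.RL10

/-!
# Cohomology sheaves of a derived limit (Stacks 21.23.8 pattern): helpers
-/

set_option autoImplicit false
universe w v u

open CategoryTheory Limits Opposite Pretriangulated

namespace Groth.Agent.Lib.Helper17.RL12

open Groth.Agent.Lib.Helper17.RL1 Groth.Agent.Lib.Helper17.RL2
open Groth.Agent.Lib.Helper20.FreeSheaf

section tower

variable {D : Type*} [Category D] {X : ℕ → D} (f : ∀ n, X (n + 1) ⟶ X n)
  [HasLimit (Functor.ofOpSequence f)]

/-- the cone attached to a compatible family. -/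
def towerCone {Z : D} (c : ∀ n, Z ⟶ X n) (hc : ∀ n, c (n + 1) ≫ f n = c n) :
    Cone (Functor.ofOpSequence f) where
  pt := Z
  π := NatTrans.ofOpSequence (F := (Functor.const _).obj Z) c (fun n => by
    simp only [Functor.const_obj_obj, Functor.const_obj_map, Category.id_comp,
      Functor.ofOpSequence_map_homOfLE_succ]
    exact (hc n).symm)

/-- lift to the limit of a tower. -/
noncomputable def towerLift {Z : D} (c : ∀ n, Z ⟶ X n) (hc : ∀ n, c (n + 1) ≫ f n = c n) :
    Z ⟶ limit (Functor.ofOpSequence f) :=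
  limit.lift _ (towerCone f c hc)

@[simp]
lemma towerLift_π {Z : D} (c : ∀ n, Z ⟶ X n) (hc : ∀ n, c (n + 1) ≫ f n = c n) (n : ℕ) :
    towerLift f c hc ≫ limit.π (Functor.ofOpSequence f) (op n) = c n := by
  exact limit.lift_π (towerCone f c hc) (op n)

lemma tower_hom_ext {Z : D} (u v : Z ⟶ limit (Functor.ofOpSequence f))
    (h : ∀ n, u ≫ limit.π _ (op n) = v ≫ limit.π _ (op n)) : u = v :=
  limit.hom_ext (fun j => h j.unop)

lemma tower_π_comp (n : ℕ) :
    limit.π (Functor.ofOpSequence f) (op (n + 1)) ≫ f n = limit.π _ (op n) := by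
  have := limit.w (Functor.ofOpSequence f) (homOfLE (Nat.le_add_right n 1)).op
  rwa [Functor.ofOpSequence_map_homOfLE_succ] at this

end tower

section limone

lemma limOne_transfer {A A' : ℕ → Type u} [∀ n, AddCommGroup (A n)] [∀ n, AddCommGroup (A' n)]
    (t : ∀ n, A (n + 1) →+ A n) (t' : ∀ n, A' (n + 1) →+ A' n) (e : ∀ n, A n →+ A' n)
    (he : ∀ n, Function.Bijective (e n)) (comm : ∀ n x, e n (t n x) = t' n (e (n + 1) x))
    (h : CohCx.LimOneIsZero A' t') : CohCx.LimOneIsZero A t := by
  intro b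
  obtain ⟨a', ha'⟩ := h (fun n => e n (b n))
  choose s hs using fun n => (he n).2
  refine ⟨fun n => s n (a' n), ?_⟩
  funext n
  apply (he n).1
  change e n (s n (a' n) - t n (s (n + 1) (a' (n + 1)))) = e n (b n)
  rw [map_sub, comm, hs, hs]
  exact congrFun ha' n

end limone

section shf

variable {C : Type u} [SmallCategory C] (J : GrothendieckTopology C)

/-- a presheaf map to a sheaf that is bijective on a covering class exhibits the sheaf as the
sheafification. -/
theorem nonempty_sheafify_iso_of_bijective_on_class (P : Cᵒᵖ ⥤ AddCommGrpCat.{u})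
    (G : Sheaf J AddCommGrpCat.{u}) (Ψ : P ⟶ G.obj) (B : Set C)
    (hB : ∀ U : C, ∃ (ι : Type u) (Y : ι → C) (f : ∀ i, Y i ⟶ U),
      Sieve.ofArrows Y f ∈ J U ∧ ∀ i, Y i ∈ B)
    (h : ∀ U ∈ B, Function.Bijective (Ψ.app (op U))) :
    Nonempty ((presheafToSheaf J AddCommGrpCat.{u}).obj P ≅ G) := by
  have hinj : Presheaf.IsLocallyInjective J Ψ := by
    constructor
    intro U x y hxy
    obtain ⟨ι, Y, f, hcov, hYB⟩ := hB U.unop
    refine J.superset_covering ?_ hcov
    intro W k hk
    obtain ⟨_, k', _, ⟨i⟩, rfl⟩ := hk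
    change P.map (k' ≫ f i).op x = P.map (k' ≫ f i).op y
    have h1 : P.map (f i).op x = P.map (f i).op y := by
      apply (h _ (hYB i)).1
      have hx := ConcreteCategory.congr_hom (Ψ.naturality (f i).op) x
      have hy := ConcreteCategory.congr_hom (Ψ.naturality (f i).op) y
      rw [ConcreteCategory.comp_apply, ConcreteCategory.comp_apply] at hx hy
      rw [hx, hy, hxy]
    rw [op_comp, Functor.map_comp, ConcreteCategory.comp_apply, ConcreteCategory.comp_apply, h1]
  have hsurj : Presheaf.IsLocallySurjective J Ψ := by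
    constructor
    intro U s
    obtain ⟨ι, Y, f, hcov, hYB⟩ := hB U
    refine J.superset_covering ?_ hcov
    intro W k hk
    obtain ⟨_, k', _, ⟨i⟩, rfl⟩ := hk
    obtain ⟨x, hx⟩ := (h _ (hYB i)).2 (G.obj.map (f i).op s)
    refine ⟨P.map k'.op x, ?_⟩
    have h1 := ConcreteCategory.congr_hom (Ψ.naturality k'.op) x
    rw [ConcreteCategory.comp_apply, ConcreteCategory.comp_apply] at h1
    rw [h1, hx, op_comp, Functor.map_comp, ConcreteCategory.comp_apply]
  have hW : J.W Ψ := J.W_of_isLocallyBijective Ψ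
  have hiso : IsIso ((presheafToSheaf J AddCommGrpCat.{u}).map Ψ) := (J.W_iff Ψ).1 hW
  exact ⟨asIso ((presheafToSheaf J AddCommGrpCat.{u}).map Ψ) ≪≫
    (asIso (sheafificationAdjunction J AddCommGrpCat.{u}).counit).app G⟩

end shf

end Groth.Agent.Lib.Helper17.RL12
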