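import Mathlib
import Groth.Prelude
import Groth.Agent.Lib.Helper17.LC3
import Groth.Agent.Lib.Helper17.RL12

/-!
# The `m`-th cohomology sheaf of a termwise limit of complexes of abelian sheaves (Stacks 21.23 pattern)
-/

set_option autoImplicit false
universe u

open CategoryTheory Limits Opposite

namespace Groth.Agent.Lib.Helper17.LC4

open Groth.Agent.Lib.Helper17.LC1 Groth.Agent.Lib.Helper17.LC2 Groth.Agent.Lib.Helper17.LC3
open Groth.Agent.Lib.Helper17.RL1
open Groth.Agent.Lib.Helper20 Groth.Agent.Lib.Helper20.FreeSheaf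

variable {C : Type u} [SmallCategory C] (J : GrothendieckTopology C)
  (F : ℕ → CochainComplex (Sheaf J AddCommGrpCat.{u}) ℤ) (t : ∀ n, F (n + 1) ⟶ F n)

lemma limX_hom_ext (j : ℤ) {Z : Sheaf J AddCommGrpCat.{u}}
    (u v : Z ⟶ (limit (CohCx.opSequence F t)).X j)
    (h : ∀ n, u ≫ (limit.π (CohCx.opSequence F t) (op n)).f j =
      v ≫ (limit.π (CohCx.opSequence F t) (op n)).f j) : u = v := by
  apply (isLimitOfPreserves (HomologicalComplex.eval _ _ j)
    (limit.isLimit (CohCx.opSequence F t))).hom_ext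
  intro k
  exact h k.unop

lemma limX_lift (j : ℤ) {Z : Sheaf J AddCommGrpCat.{u}} (c : ∀ n, Z ⟶ (F n).X j)
    (hc : ∀ n, c (n + 1) ≫ (t n).f j = c n) :
    ∃ u : Z ⟶ (limit (CohCx.opSequence F t)).X j,
      ∀ n, u ≫ (limit.π (CohCx.opSequence F t) (op n)).f j = c n := by
  let cone : Cone (CohCx.opSequence F t ⋙ HomologicalComplex.eval _ _ j) :=
    { pt := Z
      π := NatTrans.ofOpSequence (F := (Functor.const _).obj Z)
        (G := CohCx.opSequence F t ⋙ HomologicalComplex.eval _ _ j) c (fun n => by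
          simp only [Functor.const_obj_obj, Functor.const_obj_map, Category.id_comp,
            Functor.comp_map, Functor.ofOpSequence_map_homOfLE_succ]
          exact (hc n).symm) }
  refine ⟨(isLimitOfPreserves (HomologicalComplex.eval _ _ j)
    (limit.isLimit (CohCx.opSequence F t))).lift cone, fun n => ?_⟩
  exact (isLimitOfPreserves (HomologicalComplex.eval _ _ j)
    (limit.isLimit (CohCx.opSequence F t))).fac cone (op n)

lemma sect_hsep (W : C) (j : ℤ) (x : ((CohCx.sectCx J W).obj (limit (CohCx.opSequence F t))).X j)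
    (h : ∀ n, ((CohCx.sectCx J W).map (limit.π (CohCx.opSequence F t) (op n))).f j x = 0) :
    x = 0 := by
  have h1 : (FreeSheaf.a J W ((limit (CohCx.opSequence F t)).X j)).symm x = 0 := by
    apply limX_hom_ext J F t j
    intro n
    rw [zero_comp]
    apply (FreeSheaf.a J W _).injective
    rw [a_f, Equiv.apply_symm_apply, h n, a_zero]
    rfl
  have h2 := congrArg (FreeSheaf.a J W _) h1
  rw [Equiv.apply_symm_apply, a_zero] at h2
  exact h2

lemma sect_hglue (W : C) (j : ℤ) (x : ∀ n, ((CohCx.sectCx J W).obj (F n)).X j)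
    (hx : ∀ n, ((CohCx.sectCx J W).map (t n)).f j (x (n + 1)) = x n) :
    ∃ y : ((CohCx.sectCx J W).obj (limit (CohCx.opSequence F t))).X j,
      ∀ n, ((CohCx.sectCx J W).map (limit.π (CohCx.opSequence F t) (op n))).f j y = x n := by
  obtain ⟨u, hu⟩ := limX_lift J F t j (fun n => (FreeSheaf.a J W ((F n).X j)).symm (x n))
    (fun n => by
      apply (FreeSheaf.a J W _).injective
      rw [a_f, Equiv.apply_symm_apply, Equiv.apply_symm_apply, hx n])
  refine ⟨FreeSheaf.a J W _ u, fun n => ?_⟩
  rw [← a_f, hu n]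
  exact Equiv.apply_symm_apply _ _

theorem isIso_homologyMap_limit_π (m : ℤ) (B : Set C)
    (hB : ∀ U : C, ∃ (ι : Type u) (Y : ι → C) (f : ∀ i, Y i ⟶ U),
      Sieve.ofArrows Y f ∈ J U ∧ ∀ i, Y i ∈ B)
    (n₀ : ℕ)
    (ha : ∀ U ∈ B, ∀ j : ℤ, (j = m - 2 ∨ j = m - 1) →
      CohCx.LimOneIsZero (fun n => ((F n).X j).obj.obj (op U))
        (fun n => (((t n).f j).hom.app (op U)).hom))
    (hb : ∀ U ∈ B, CohCx.LimOneIsZero
      (fun n => ((CohCx.sectCx J U).obj (F n)).homology (m - 1))
      (fun n => (HomologicalComplex.homologyMap ((CohCx.sectCx J U).map (t n)) (m - 1)).hom))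
    (hc : ∀ U ∈ B, ∀ k : ℕ, IsIso (HomologicalComplex.homologyMap
      ((CohCx.sectCx J U).map (CohCx.transition F t n₀ k)) m)) :
    IsIso (HomologicalComplex.homologyMap (limit.π (CohCx.opSequence F t) (op n₀)) m) := by
  apply isIso_homologyMap_of_sections J _ m B hB
  intro W hW
  have hc' : ∀ n, n₀ ≤ n → Function.Bijective
      (HomologicalComplex.homologyMap ((CohCx.sectCx J W).map (t n)) m) := by
    intro n hn
    obtain ⟨k, rfl⟩ := Nat.exists_eq_add_of_le hn
    have h1 := hc W hW k
    have h2 := hc W hW (k + 1)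
    have h3 : (CohCx.sectCx J W).map (CohCx.transition F t n₀ (k + 1)) =
        (CohCx.sectCx J W).map (t (n₀ + k)) ≫
          (CohCx.sectCx J W).map (CohCx.transition F t n₀ k) := by
      rw [← Functor.map_comp]
      rfl
    rw [h3, HomologicalComplex.homologyMap_comp] at h2
    have : IsIso (HomologicalComplex.homologyMap ((CohCx.sectCx J W).map (t (n₀ + k))) m) :=
      IsIso.of_isIso_comp_right _
        (HomologicalComplex.homologyMap ((CohCx.sectCx J W).map (CohCx.transition F t n₀ k)) m)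
    exact ConcreteCategory.bijective_of_isIso _
  exact core (fun n => (CohCx.sectCx J W).obj (F n)) (fun n => (CohCx.sectCx J W).map (t n))
    ((CohCx.sectCx J W).obj (limit (CohCx.opSequence F t)))
    (fun n => (CohCx.sectCx J W).map (limit.π (CohCx.opSequence F t) (op n)))
    (fun n => by
      rw [← Functor.map_comp]
      congr 1
      exact Groth.Agent.Lib.Helper17.RL12.tower_π_comp t n)
    m (m - 1) (m - 2) (by omega) (by omega) n₀
    (sect_hsep J F t W) (sect_hglue J F t W)
    (ha W hW (m - 2) (Or.inl rfl)) (ha W hW (m - 1) (Or.inr rfl)) (hb W hW) hc'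

end Groth.Agent.Lib.Helper17.LC4
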