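import Groth.Agent.Lib.Helper17.DegLG
import Groth.Agent.Lib.Helper17.ExtTwist2
import Groth.Agent.Lib.Helper17.ExtCohGlobal
import Groth.Agent.Lib.Helper5.LocalGlobalExt
import Groth.Agent.Lib.Lead.SD.ExtHomLin
import Groth.Agent.Lib.Lead.Koszul.ClosedSub
import Groth.Agent.Lib.Lead.Koszul.SerreVanish
import Groth.Agent.Lib.Helper29.VA7

/-!
# `Ext^i(F, G(d)) ≃ₗ Γ(X, ℰxt^i(F, G(d)))` for `d ≫ 0` on a closed subscheme of `P^n_A`
-/

set_option autoImplicit false
set_option maxSynthPendingDepth 3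

universe u

open CategoryTheory CategoryTheory.Limits AlgebraicGeometry Opposite Abelian MonoidalCategory
  TopologicalSpace

namespace Groth.Agent.Lib.Helper17.LGExt

variable {X : Scheme.{u}}

section smul

open Groth.Agent.Lib.Lead.SD.TensorLin

/-- Sectionwise, `(r • -) ⊗ M` is multiplication by `r`. -/
lemma whiskerRight_smulModΓ_apply (M T : X.Modules) (r : Coh.Γtop X) (U : (Opens X)ᵒᵖ)
    (p : (DCoh.toP.obj T ⊗ DCoh.toP.obj M : CohB1.PMod X).obj U) :
    (ModuleCat.Hom.hom ((DCoh.toP.map (Formal.smulModΓ T r) ▷ DCoh.toP.obj M).app U)) p =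
      resP U r • p := by
  induction p using TensorProduct.induction_on with
  | zero =>
    exact (map_zero (ModuleCat.Hom.hom
      ((DCoh.toP.map (Formal.smulModΓ T r) ▷ DCoh.toP.obj M).app U))).trans (smul_zero _).symm
  | tmul t m =>
    change (resP U r • t) ⊗ₜ[((X.sheaf.obj ⋙ forget₂ CommRingCat RingCat.{u}).obj U : Type u)]
      m = _
    exact (TensorProduct.smul_tmul' (resP U r) t m).symm
  | add a b ha hb =>
    exact (map_add (ModuleCat.Hom.hom
      ((DCoh.toP.map (Formal.smulModΓ T r) ▷ DCoh.toP.obj M).app U)) a b).trans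
      ((congrArg₂ (· + ·) ha hb).trans (smul_add _ _ _).symm)

/-- Tensoring with `M` on the right sends multiplication by a global function to multiplication
by it. -/
theorem tensorBi_map_app_smulModΓ (M T : X.Modules) (r : Coh.Γtop X) :
    ((DCoh.tensorBi (X := X)).map (Formal.smulModΓ T r)).app M =
      Formal.smulModΓ (((DCoh.tensorBi (X := X)).obj T).obj M) r :=
  shP_map_eq_smulModΓ _ _ r (whiskerRight_smulModΓ_apply M T r)

/-- `- ⊗ M` on `X.Modules` -/
noncomputable abbrev TR (M : X.Modules) : X.Modules ⥤ X.Modules :=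
  (ModSite.tensorBi X.sheaf).flip.obj M

/-- `ℋom(M, -)` on `X.Modules` -/
noncomputable abbrev SH (M : X.Modules) [ModSite.HasSheafHom (O := X.sheaf) M] :
    X.Modules ⥤ X.Modules :=
  ModSite.sheafHom (O := X.sheaf) M

noncomputable abbrev SHadj (M : X.Modules) [ModSite.HasSheafHom (O := X.sheaf) M] :
    TR M ⊣ SH M :=
  ModSite.sheafHomAdj (O := X.sheaf) M

instance (M : X.Modules) [ModSite.HasSheafHom (O := X.sheaf) M] : (SH M).Additive :=
  ModSite.sheafHom_additive (X.sheaf) M

instance (M : X.Modules) [ModSite.HasSheafHom (O := X.sheaf) M] : PreservesFiniteLimits (SH M) :=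
  inferInstanceAs (PreservesFiniteLimits (ModSite.sheafHom (O := X.sheaf) M))

variable (A : Type u) [CommRing A] [X.Over (Spec (CommRingCat.of A))]

theorem flip_map_smul (M T : X.Modules) (a : A) :
    (TR M).map (a • 𝟙 T) = a • 𝟙 ((TR M).obj T) := by
  rw [KLin.smul_id, KLin.smul_id]
  exact tensorBi_map_app_smulModΓ M T _

/-- The sheaf Hom functor (right adjoint of `- ⊗ M`) is linear on scalar endomorphisms. -/
theorem sheafHom_map_smul (M N : X.Modules) [ModSite.HasSheafHom (O := X.sheaf) M] (a : A) :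
    (SH M).map (a • 𝟙 N) = a • 𝟙 ((SH M).obj N) := by
  apply ((SHadj M).homEquiv _ _).symm.injective
  rw [Adjunction.homEquiv_counit, Adjunction.homEquiv_counit, flip_map_smul,
    Linear.smul_comp, Category.id_comp]
  have h := (SHadj M).counit.naturality (a • 𝟙 N)
  simp only [Functor.comp_map, Functor.id_map] at h
  rw [h, Linear.comp_smul]
  exact congrArg (a • ·) (Category.comp_id _)

end smul

section eta

variable (A : Type u) [CommRing A] [X.Over (Spec (CommRingCat.of A))]
  (F : X.Modules) [ModSite.HasSheafHom (O := X.sheaf) F]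

open Groth.Agent.Lib.Helper5.LocalGlobalExt

/-- helper5's `homEquiv`, typed in `X.Modules` -/
noncomputable def hE (G : X.Modules) :
    (F ⟶ G) ≃+ (Coh.structureModule X ⟶ (SH F).obj G) :=
  homEquiv X.sheaf F G

lemma hE_nat {G G' : X.Modules} (φ : F ⟶ G) (g : G ⟶ G') :
    hE F G' (φ ≫ g) = hE F G φ ≫ (SH F).map g := by
  change (ModSite.sheafHomAdj (O := X.sheaf) F).homEquiv (ModSite.unit X.sheaf) G'
      ((Groth.Agent.Lib.Helper17.IHom.tensorUnitIso (O := X.sheaf) F).hom ≫ φ ≫ g) =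
    (ModSite.sheafHomAdj (O := X.sheaf) F).homEquiv (ModSite.unit X.sheaf) G
      ((Groth.Agent.Lib.Helper17.IHom.tensorUnitIso (O := X.sheaf) F).hom ≫ φ) ≫
      (ModSite.sheafHom (O := X.sheaf) F).map g
  rw [← Category.assoc, Adjunction.homEquiv_naturality_right]

/-- `Hom(F, G) ≃ₗ[A] Hom(O_X, ℋom(F, G))` -/
noncomputable def η (G : X.Modules) :
    (F ⟶ G) ≃ₗ[A] (Coh.structureModule X ⟶ (SH F).obj G) :=
  { hE F G with
    map_smul' := fun a φ => by
      have h1 : a • φ = φ ≫ (a • 𝟙 G) := by rw [Linear.comp_smul, Category.comp_id]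
      change hE F G (a • φ) = a • hE F G φ
      rw [h1, hE_nat, sheafHom_map_smul, Linear.comp_smul, Category.comp_id] }

lemma η_nat {G G' : X.Modules} (φ : F ⟶ G) (g : G ⟶ G') :
    η A F G' (φ ≫ g) = η A F G φ ≫ (SH F).map g :=
  hE_nat F φ g

end eta

section core

open Groth.Agent.Lib.Lead.SD

variable [HasExt.{u} X.Modules]

lemma ext_zero_of_HH (M : X.Modules) (p : ℕ) (h : Subsingleton (Coh.HH X M p))
    (x : Ext (Coh.structureModule X) M p) : x = 0 :=
  (cmpX_bijective M p).1 (Subsingleton.elim _ _)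

lemma hacyc (F : X.Modules) [ModSite.HasSheafHom (O := X.sheaf) F] (I : X.Modules)
    (hI : Injective I) (p : ℕ)
    (x : Ext (Coh.structureModule X) ((SH F).obj I) (p + 1)) :
    x = 0 := by
  haveI : Injective (C := ModSite.Mod X.sheaf) I := hI
  have h := Groth.Agent.Lib.Helper5.IHomAcyclic.isTotallyAcyclic_sheafHom X.sheaf F I
  exact ext_zero_of_HH _ _
    (Groth.Agent.Lib.Helper5.LocalGlobalExt.subsingleton_H_succ _ h p) x

variable (A : Type u) [CommRing A] [X.Over (Spec (CommRingCat.of A))]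

/-- `Hom(O_X, M) ≃ₗ[A] H^0(X, M)` -/
noncomputable def homUnitEquiv (M : X.Modules) :
    (Coh.structureModule X ⟶ M) ≃ₗ[A] Coh.HH X M 0 :=
  (Ext.linearEquiv₀ (R := A)).symm ≪≫ₗ LinearEquiv.ofBijective
    { toFun := cmpX M 0
      map_add' := cmpX_add M 0
      map_smul' := fun a x => by rw [cmpX_smul, RingHom.id_apply] }
    (cmpX_bijective M 0)

/-- **The degenerate local-to-global isomorphism.** -/
theorem nonempty_ext_linearEquiv (F G : X.Modules) [ModSite.HasSheafHom (O := X.sheaf) F]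
    [HasInjectiveResolutions (ModSite.Mod X.sheaf)] (m : ℕ)
    (h : ∀ q, q < m → ∀ p : ℕ,
      Subsingleton (Coh.HH X ((ModSite.extSh (O := X.sheaf) F q).obj G) (p + 1))) :
    Nonempty (Ext F G m ≃ₗ[A] Coh.HH X ((ModSite.extSh (O := X.sheaf) F m).obj G) 0) := by
  obtain ⟨e⟩ := DegLG.main (𝒞 := X.Modules) (R := A) (SH F) F (Coh.structureModule X)
    (η A F) (fun φ g => η_nat A F φ g) (fun I hI p x => hacyc F I hI p x) m G
    (fun q hq p x => ext_zero_of_HH _ _ (h q hq p) x)
  exact ⟨e ≪≫ₗ homUnitEquiv A _⟩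

end core

section geometric

open Groth.Agent.Lib.Lead.Koszul Groth.Agent.Lib.Lead.Pn Groth.Agent.Lib.Helper29.QCoh

variable (A : Type u) [CommRing A] [IsNoetherianRing A] (n : ℕ)
  (X : Scheme.{u}) [X.Over (Spec (CommRingCat.of A))] (ι : X ⟶ CohB1.ProjSpace n A)
  [IsClosedImmersion ι]
  (F G : X.Modules) (hF : Coh.IsCoh F) (hG : Coh.IsCoh G)
  [ModSite.HasSheafHom (O := X.sheaf) F] [HasInjectiveResolutions (ModSite.Mod X.sheaf)]

include hF hG in
lemma exists_vanishing [IsLocallyNoetherian X] (q : ℕ) : ∃ j₀ : ℤ, ∀ j : ℤ, j₀ ≤ j → ∀ p : ℕ,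
    Subsingleton (Coh.HH X ((ModSite.extSh (O := X.sheaf) F q).obj
      (CohB1.tensorMod G ((Scheme.Modules.pullback ι).obj (Twist.twistProjSpace n A j)))) (p + 1)) := by
  set E : X.Modules := (ModSite.extSh (O := X.sheaf) F q).obj G with hE
  have hEc : Coh.IsCoh E := Groth.Agent.Lib.Helper17.ExtCohGlobal.isCoh_extSh F G hF hG q
  haveI : E.IsQuasicoherent := hEc.1
  haveI : E.IsFiniteType := hEc.2
  obtain ⟨j₀, h⟩ := exists_vanishing_tw n A _
    (⟨isQuasicoherent_pushforward_of_isAffineHom ι E, isFiniteType_pushforward_of_isFinite ι E⟩ :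
      Coh.IsCoh ((Scheme.Modules.pushforward ι).obj E))
  refine ⟨j₀, fun j hj p => ?_⟩
  have hL : FlatMod.IsFinLocFree ((Scheme.Modules.pullback ι).obj (Twist.twistProjSpace n A j)) :=
    isFinLocFree_pullback ι (isFinLocFree_twist n A j)
  obtain ⟨e⟩ := Groth.Agent.Lib.Helper17.ExtTwist2.nonempty_extSh_twist_iso (O := X.sheaf) F
    ((Scheme.Modules.pullback ι).obj (Twist.twistProjSpace n A j))
    (Groth.Agent.Lib.Helper5.LocBasisScheme.hasLocBases_of_isFinLocFree _ hL) q G
  haveI : (Twist.twistProjSpace n A j).IsQuasicoherent := twist_isQuasicoherent n A j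
  have h1 : Subsingleton (Coh.HH X (CohB1.tensorMod E
      ((Scheme.Modules.pullback ι).obj (Twist.twistProjSpace n A j))) (p + 1)) :=
    (subsingleton_HH_iff_push ι (Twist.twistProjSpace n A j) (isFinLocFree_twist n A j) E
      (p + 1)).2 (h j hj (p + 1) (by omega))
  exact Groth.Agent.Lib.Lead.Pn.subsingleton_HH_of_iso e.symm (p + 1) h1

include hF hG in
/-- **Hartshorne III.6.9** for a closed subscheme of `P^n_A`, `A` Noetherian. -/
theorem main (hι : ι ≫ CohB1.ProjSpace.toSpec n A = X ↘ Spec (CommRingCat.of A))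
    [HasExt.{u} X.Modules] (i : ℕ) :
    ∃ d₀ : ℕ, ∀ d : ℕ, d₀ ≤ d →
      Nonempty (Abelian.Ext F (CohB1.tensorMod G
          ((Scheme.Modules.pullback ι).obj (Twist.twistProjSpace n A (d : ℤ)))) i ≃ₗ[A]
        Coh.HH X ((ModSite.extSh (O := X.sheaf) F i).obj
          (CohB1.tensorMod G ((Scheme.Modules.pullback ι).obj
            (Twist.twistProjSpace n A (d : ℤ))))) 0) := by
  haveI := Groth.Agent.Lib.Helper29.QCoh.isProper_toSpec n A
  haveI : LocallyOfFiniteType (X ↘ Spec (CommRingCat.of A)) := by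
    rw [← hι]; infer_instance
  haveI : IsLocallyNoetherian X :=
    LocallyOfFiniteType.isLocallyNoetherian (X ↘ Spec (CommRingCat.of A))
  choose j₀ hj₀ using exists_vanishing A n X ι F G hF hG
  refine ⟨((Finset.range i).sup fun q => (j₀ q).toNat), fun d hd => ?_⟩
  refine nonempty_ext_linearEquiv A F _ i (fun q hq p => hj₀ q d ?_ p)
  have h1 : (j₀ q).toNat ≤ d :=
    le_trans (Finset.le_sup (f := fun q => (j₀ q).toNat) (Finset.mem_range.mpr hq)) hd
  omega

end geometric

end Groth.Agent.Lib.Helper17.LGExt
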