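import Mathlib

namespace Groth.Agent.Lib.Helper17.LatIndex

open Finset

section general
variable {L : Type*} [AddCommGroup L]

/-- cardinality of a submodule quotient `K / (N ∩ K)` as a relative index -/
lemma card_quot_comap (K N : Submodule ℤ L) :
    Nat.card (K ⧸ N.comap K.subtype) = N.toAddSubgroup.relIndex K.toAddSubgroup := by
  rw [← Submodule.cardQuot_apply, Submodule.cardQuot]
  have h1 : (N.comap K.subtype).toAddSubgroup
      = N.toAddSubgroup.comap (K.subtype.toAddMonoidHom) := rfl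
  rw [h1, AddSubgroup.index_comap]
  congr 1
  ext x
  simp

variable (S : L →ₗ[ℤ] ℤ) (D A : L →ₗ[ℤ] L)

lemma key (hD : Function.Injective D) (hS : Function.Surjective S) (h : S ∘ₗ D ∘ₗ A = 0) :
    Nat.card (LinearMap.ker (S ∘ₗ D) ⧸ (LinearMap.range A).comap (LinearMap.ker (S ∘ₗ D)).subtype)
        * (LinearMap.range D).toAddSubgroup.index
      = (LinearMap.range (S ∘ₗ D)).toAddSubgroup.index
        * Nat.card (LinearMap.ker S ⧸ (LinearMap.range (D ∘ₗ A)).comap (LinearMap.ker S).subtype) := by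
  rw [card_quot_comap, card_quot_comap]
  set K0 := (LinearMap.ker S).toAddSubgroup with hK0
  set K1 := (LinearMap.ker (S ∘ₗ D)).toAddSubgroup with hK1
  set ID := (LinearMap.range D).toAddSubgroup with hID
  set IA := (LinearMap.range A).toAddSubgroup with hIA
  set IDA := (LinearMap.range (D ∘ₗ A)).toAddSubgroup with hIDA
  have e1 : IA.map D.toAddMonoidHom = IDA := by
    ext x
    simp only [AddSubgroup.mem_map, hIA, hIDA, Submodule.mem_toAddSubgroup, LinearMap.mem_range,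
      LinearMap.toAddMonoidHom_coe, LinearMap.comp_apply]
    constructor
    · rintro ⟨_, ⟨y, rfl⟩, rfl⟩; exact ⟨y, rfl⟩
    · rintro ⟨y, rfl⟩; exact ⟨_, ⟨y, rfl⟩, rfl⟩
  have e2 : K1.map D.toAddMonoidHom = K0 ⊓ ID := by
    ext x
    simp only [AddSubgroup.mem_map, hK1, hK0, hID, Submodule.mem_toAddSubgroup, LinearMap.mem_ker,
      LinearMap.toAddMonoidHom_coe, LinearMap.comp_apply, AddSubgroup.mem_inf, LinearMap.mem_range]
    constructor
    · rintro ⟨y, hy, rfl⟩; exact ⟨hy, y, rfl⟩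
    · rintro ⟨hx, y, rfl⟩; exact ⟨y, hx, rfl⟩
  have s1 : IA.relIndex K1 = IDA.relIndex (K0 ⊓ ID) := by
    rw [← e1, ← e2, AddSubgroup.relIndex_map_map_of_injective _ _ hD]
  have hle : IDA ≤ K0 ⊓ ID := by
    intro x hx
    simp only [hIDA, Submodule.mem_toAddSubgroup, LinearMap.mem_range] at hx
    obtain ⟨y, rfl⟩ := hx
    refine ⟨?_, ?_⟩
    · change S _ = 0
      exact LinearMap.congr_fun h y
    · exact ⟨A y, rfl⟩
  have s2 : IDA.relIndex (K0 ⊓ ID) * (K0 ⊓ ID).relIndex K0 = IDA.relIndex K0 :=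
    AddSubgroup.relIndex_mul_relIndex _ _ _ hle inf_le_left
  have s3 : (K0 ⊓ ID).relIndex K0 = ID.relIndex (ID ⊔ K0) := by
    rw [AddSubgroup.inf_relIndex_left, AddSubgroup.relIndex_sup_left]
  have s4 : ID.relIndex (ID ⊔ K0) * (ID ⊔ K0).index = ID.index :=
    AddSubgroup.relIndex_mul_index le_sup_left
  have s5 : (ID ⊔ K0).index = (LinearMap.range (S ∘ₗ D)).toAddSubgroup.index := by
    have : ID ⊔ K0 = (ID.map S.toAddMonoidHom).comap S.toAddMonoidHom := by
      rw [AddSubgroup.comap_map_eq]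
      congr 1
    rw [this, AddSubgroup.index_comap_of_surjective _ hS]
    congr 1
    ext x
    simp only [AddSubgroup.mem_map, hID, Submodule.mem_toAddSubgroup, LinearMap.mem_range,
      LinearMap.toAddMonoidHom_coe, LinearMap.comp_apply]
    constructor
    · rintro ⟨_, ⟨y, rfl⟩, rfl⟩; exact ⟨y, rfl⟩
    · rintro ⟨y, rfl⟩; exact ⟨_, ⟨y, rfl⟩, rfl⟩
  rw [s1, ← s4, s5, ← s2, s3]
  ring

end general

section concrete
variable {n : ℕ}

/-- the sum-of-coordinates functional -/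
abbrev S (n : ℕ) : (Fin n → ℤ) →ₗ[ℤ] ℤ := ∑ i : Fin n, (LinearMap.proj i : (Fin n → ℤ) →ₗ[ℤ] ℤ)

/-- the diagonal map -/
abbrev Dg (δ : Fin n → ℤ) : (Fin n → ℤ) →ₗ[ℤ] (Fin n → ℤ) := Matrix.mulVecLin (Matrix.diagonal δ)

lemma S_apply (v : Fin n → ℤ) : S n v = ∑ i, v i := by
  simp [S, LinearMap.sum_apply]

lemma Dg_apply (δ v : Fin n → ℤ) (i : Fin n) : Dg δ v i = δ i * v i := by
  simp [Dg, Matrix.mulVec_diagonal]

lemma S_surjective (hn : 0 < n) : Function.Surjective (S n) := by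
  intro z
  refine ⟨Pi.single ⟨0, hn⟩ z, ?_⟩
  rw [S_apply]
  simp

lemma Dg_injective (δ : Fin n → ℤ) (hδ : ∀ i, δ i ≠ 0) : Function.Injective (Dg δ) := by
  intro v w h
  funext i
  have := congr_fun h i
  rw [Dg_apply, Dg_apply] at this
  exact mul_left_cancel₀ (hδ i) this

lemma index_range_Dg (δ : Fin n → ℤ) (hδ : ∀ i, δ i ≠ 0) :
    (LinearMap.range (Dg δ)).toAddSubgroup.index = (∏ i, δ i).natAbs := by
  have hinj := Dg_injective δ hδ
  have h := Submodule.natAbs_det_equiv (LinearMap.range (Dg δ)) (LinearEquiv.ofInjective (Dg δ) hinj)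
  have h2 : (LinearMap.range (Dg δ)).subtype ∘ₗ
      AddMonoidHom.toIntLinearMap ((LinearEquiv.ofInjective (Dg δ) hinj : (Fin n → ℤ) →+ _)) = Dg δ := by
    ext v
    rfl
  rw [h2] at h
  rw [← Submodule.cardQuot, Submodule.cardQuot_apply, ← h]
  congr 1
  rw [Dg, ← Matrix.toLin'_apply', LinearMap.det_toLin', Matrix.det_diagonal]

lemma range_S_Dg (δ : Fin n → ℤ) :
    (LinearMap.range (S n ∘ₗ Dg δ)).toAddSubgroup = AddSubgroup.zmultiples (univ.gcd δ) := by
  ext z
  simp only [Submodule.mem_toAddSubgroup, LinearMap.mem_range, LinearMap.comp_apply,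
    AddSubgroup.mem_zmultiples_iff]
  constructor
  · rintro ⟨v, rfl⟩
    rw [S_apply]
    have : ∀ i, univ.gcd δ ∣ Dg δ v i := fun i => by
      rw [Dg_apply]; exact Dvd.dvd.mul_right (Finset.gcd_dvd (mem_univ i)) _
    obtain ⟨c, hc⟩ := Finset.dvd_sum (fun i _ => this i) (s := univ)
    exact ⟨c, by rw [hc]; simp [mul_comm]⟩
  · rintro ⟨k, rfl⟩
    obtain ⟨g, hg⟩ := Finset.gcd_eq_sum_mul univ δ
    refine ⟨fun i => k * g i, ?_⟩
    rw [S_apply, hg, smul_eq_mul, Finset.mul_sum]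
    refine Finset.sum_congr rfl fun i _ => ?_
    rw [Dg_apply]; ring

lemma index_range_S_Dg (δ : Fin n → ℤ) :
    ((LinearMap.range (S n ∘ₗ Dg δ)).toAddSubgroup.index : ℤ) = univ.gcd δ := by
  rw [range_S_Dg, Int.index_zmultiples, Int.natCast_natAbs, abs_eq_self]
  rw [← Finset.normalize_gcd]
  exact Int.nonneg_of_normalize_eq_self (by rw [normalize_idem])

end concrete

end Groth.Agent.Lib.Helper17.LatIndex
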