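import Mathlib
import Groth.Agent.Lib.Helper17.LatIndex

namespace Groth.Agent.Lib.Helper17.LatIndex

open Finset

section general2
variable {L : Type*} [AddCommGroup L]
variable (S : L →ₗ[ℤ] ℤ) (D A D' : L →ₗ[ℤ] L)

lemma key2 (hD : Function.Injective D) (h : S ∘ₗ D ∘ₗ A = 0) :
    Nat.card (LinearMap.ker S ⧸ (LinearMap.range (D ∘ₗ A)).comap (LinearMap.ker S).subtype)
        * (LinearMap.range D').toAddSubgroup.index
      = (LinearMap.range D').toAddSubgroup.relIndex (LinearMap.ker A).toAddSubgroup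
        * Nat.card (LinearMap.ker S ⧸
            (LinearMap.range (D ∘ₗ A ∘ₗ D')).comap (LinearMap.ker S).subtype) := by
  rw [card_quot_comap, card_quot_comap]
  set K0 := (LinearMap.ker S).toAddSubgroup with hK0
  set ID' := (LinearMap.range D').toAddSubgroup with hID'
  set KA := (LinearMap.ker A).toAddSubgroup with hKA
  set IDA := (LinearMap.range (D ∘ₗ A)).toAddSubgroup with hIDA
  set IDAD' := (LinearMap.range (D ∘ₗ A ∘ₗ D')).toAddSubgroup with hIDAD'
  have e1 : (⊤ : AddSubgroup L).map (D ∘ₗ A).toAddMonoidHom = IDA := by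
    ext x
    simp only [AddSubgroup.mem_map, hIDA, Submodule.mem_toAddSubgroup, LinearMap.mem_range,
      LinearMap.toAddMonoidHom_coe, AddSubgroup.mem_top, true_and]
  have e2 : ID'.map (D ∘ₗ A).toAddMonoidHom = IDAD' := by
    ext x
    simp only [AddSubgroup.mem_map, hID', hIDAD', Submodule.mem_toAddSubgroup, LinearMap.mem_range,
      LinearMap.toAddMonoidHom_coe, LinearMap.comp_apply]
    constructor
    · rintro ⟨_, ⟨y, rfl⟩, rfl⟩; exact ⟨y, rfl⟩
    · rintro ⟨y, rfl⟩; exact ⟨_, ⟨y, rfl⟩, rfl⟩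
  have hker : (D ∘ₗ A).toAddMonoidHom.ker = KA := by
    ext x
    simp only [AddMonoidHom.mem_ker, LinearMap.toAddMonoidHom_coe, LinearMap.comp_apply, hKA,
      Submodule.mem_toAddSubgroup, LinearMap.mem_ker]
    constructor
    · intro hx; exact hD (by rw [hx, map_zero])
    · intro hx; rw [hx, map_zero]
  have s1 : IDAD'.relIndex IDA = (ID' ⊔ KA).index := by
    rw [← e1, ← e2, AddSubgroup.relIndex_map_map, hker, top_sup_eq, AddSubgroup.relIndex_top_right]
  have hle1 : IDAD' ≤ IDA := by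
    rw [← e1, ← e2]; exact AddSubgroup.map_mono le_top
  have hle2 : IDA ≤ K0 := by
    intro x hx
    simp only [hIDA, Submodule.mem_toAddSubgroup, LinearMap.mem_range] at hx
    obtain ⟨y, rfl⟩ := hx
    change S _ = 0
    exact LinearMap.congr_fun h y
  have s2 : IDAD'.relIndex IDA * IDA.relIndex K0 = IDAD'.relIndex K0 :=
    AddSubgroup.relIndex_mul_relIndex _ _ _ hle1 hle2
  have s3 : ID'.relIndex (ID' ⊔ KA) * (ID' ⊔ KA).index = ID'.index :=
    AddSubgroup.relIndex_mul_index le_sup_left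
  have s4 : ID'.relIndex (ID' ⊔ KA) = ID'.relIndex KA := AddSubgroup.relIndex_sup_left _ _
  rw [← s2, s1, ← s3, s4]
  ring

/-- relative index in a cyclic torsion-free group -/
lemma relIndex_of_cyclic [Module.IsTorsionFree ℤ L] (H K : AddSubgroup L) (e : L) (he : e ≠ 0) (d : ℤ)
    (hK : ∀ v, v ∈ K ↔ ∃ k : ℤ, v = k • e)
    (hH : ∀ k : ℤ, k • e ∈ H ↔ d ∣ k) :
    H.relIndex K = d.natAbs := by
  let φ : ℤ →+ L := (LinearMap.toSpanSingleton ℤ L e).toAddMonoidHom
  have hφ : Function.Injective φ := by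
    intro a b hab
    have : (a - b) • e = 0 := by
      rw [sub_smul]; exact sub_eq_zero.mpr hab
    rcases smul_eq_zero.mp this with h | h
    · exact sub_eq_zero.mp h
    · exact absurd h he
  have e1 : K = (⊤ : AddSubgroup ℤ).map φ := by
    ext v
    rw [hK]
    simp only [AddSubgroup.mem_map, AddSubgroup.mem_top, true_and]
    constructor
    · rintro ⟨k, rfl⟩; exact ⟨k, rfl⟩
    · rintro ⟨k, rfl⟩; exact ⟨k, rfl⟩
  have e2 : H ⊓ K = (AddSubgroup.zmultiples d).map φ := by
    ext v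
    simp only [AddSubgroup.mem_inf, hK, AddSubgroup.mem_map, AddSubgroup.mem_zmultiples_iff]
    constructor
    · rintro ⟨hv, k, rfl⟩
      obtain ⟨c, rfl⟩ := (hH k).mp hv
      exact ⟨d * c, ⟨c, by simp [mul_comm]⟩, rfl⟩
    · rintro ⟨_, ⟨c, rfl⟩, rfl⟩
      refine ⟨?_, c • d, rfl⟩
      exact (hH _).mpr ⟨c, by simp [mul_comm]⟩
  rw [← AddSubgroup.inf_relIndex_right, e2, e1, AddSubgroup.relIndex_map_map_of_injective _ _ hφ,
    AddSubgroup.relIndex_top_right, Int.index_zmultiples]

end general2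

section concrete2
variable {n : ℕ}

lemma finrank_ker_of_rank (hn : 0 < n) (A : Matrix (Fin n) (Fin n) ℤ) (hA : A.rank = n - 1) :
    Module.finrank ℤ (LinearMap.ker (Matrix.mulVecLin A)) = 1 := by
  have h1 := Submodule.finrank_quotient_add_finrank (LinearMap.ker (Matrix.mulVecLin A))
  rw [(Matrix.mulVecLin A).quotKerEquivRange.finrank_eq] at h1
  have h2 : Module.finrank ℤ (LinearMap.range (Matrix.mulVecLin A)) = n - 1 := hA
  rw [h2, Module.finrank_pi, Fintype.card_fin] at h1
  omega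

/-- in a rank one submodule any two elements are dependent -/
lemma exists_dep {M : Type*} [AddCommGroup M] [Module ℤ M] (N : Submodule ℤ M)
    [Module.Finite ℤ N]
    (hN : Module.finrank ℤ N = 1) (v w : M) (hv : v ∈ N) (hw : w ∈ N) :
    ∃ a b : ℤ, (a ≠ 0 ∨ b ≠ 0) ∧ a • v + b • w = 0 := by
  by_contra hcon
  push Not at hcon
  have hli : LinearIndependent ℤ ![(⟨v, hv⟩ : N), ⟨w, hw⟩] := by
    rw [LinearIndependent.pair_iff]
    intro s t hst
    by_contra hne
    have h1 : s ≠ 0 ∨ t ≠ 0 := by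
      by_contra h2
      push Not at h2
      exact hne h2
    apply hcon s t h1
    have := congrArg Subtype.val hst
    simpa using this
  have := hli.fintype_card_le_finrank
  rw [hN] at this
  simp at this

lemma ker_eq_multiples (hn : 0 < n) (A : Matrix (Fin n) (Fin n) ℤ) (hA : A.rank = n - 1)
    (δ' e : Fin n → ℤ) (hδ' : ∀ i, δ' i ≠ 0) (he : ∀ i, δ' i = univ.gcd δ' * e i)
    (hge : univ.gcd e = 1)
    (hAδ : Matrix.mulVecLin A δ' = 0) (v : Fin n → ℤ) :
    v ∈ LinearMap.ker (Matrix.mulVecLin A) ↔ ∃ k : ℤ, v = k • e := by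
  have hd0 : univ.gcd δ' ≠ 0 := by
    intro h0
    have := he ⟨0, hn⟩
    rw [h0, zero_mul] at this
    exact hδ' _ this
  have hδe : δ' = univ.gcd δ' • e := by
    funext i; rw [he i]; rfl
  have hAe : Matrix.mulVecLin A e = 0 := by
    have : univ.gcd δ' • Matrix.mulVecLin A e = 0 := by
      rw [← map_smul, ← hδe, hAδ]
    rcases smul_eq_zero.mp this with h | h
    · exact absurd h hd0
    · exact h
  constructor
  · intro hv
    obtain ⟨a, b, hab, h⟩ := exists_dep _ (finrank_ker_of_rank hn A hA) v δ' hv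
      (LinearMap.mem_ker.mpr hAδ)
    have ha : a ≠ 0 := by
      rintro rfl
      rcases hab with h1 | h1
      · exact h1 rfl
      · rw [zero_smul, zero_add] at h
        have := congr_fun h ⟨0, hn⟩
        simp only [Pi.smul_apply, smul_eq_mul, Pi.zero_apply, mul_eq_zero] at this
        rcases this with h2 | h2
        · exact h1 h2
        · exact hδ' _ h2
    have hi : ∀ i, a * v i = -(b * univ.gcd δ') * e i := by
      intro i
      have := congr_fun h i
      simp only [Pi.add_apply, Pi.smul_apply, smul_eq_mul, Pi.zero_apply] at this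
      rw [he i] at this
      linarith
    have hdvd : a ∣ (b * univ.gcd δ') := by
      have h1 : a ∣ univ.gcd (fun i => -(b * univ.gcd δ') * e i) :=
        Finset.dvd_gcd fun i _ => ⟨v i, (hi i).symm⟩
      rw [Finset.gcd_mul_left, hge, mul_one] at h1
      exact (dvd_neg.mp ((dvd_normalize_iff).mp h1))
    obtain ⟨c, hc⟩ := hdvd
    refine ⟨-c, ?_⟩
    funext i
    have := hi i
    rw [hc] at this
    simp only [Pi.smul_apply, smul_eq_mul]
    have h3 : a * v i = a * (-c * e i) := by rw [this]; ring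
    exact mul_left_cancel₀ ha h3
  · rintro ⟨k, rfl⟩
    rw [LinearMap.mem_ker, map_smul, hAe, smul_zero]

lemma relIndex_range_ker (hn : 0 < n) (A : Matrix (Fin n) (Fin n) ℤ) (hA : A.rank = n - 1)
    (δ' : Fin n → ℤ) (hδ' : ∀ i, δ' i ≠ 0)
    (hAδ : Matrix.mulVecLin A δ' = 0) :
    (LinearMap.range (Dg δ')).toAddSubgroup.relIndex
      (LinearMap.ker (Matrix.mulVecLin A)).toAddSubgroup = (univ.gcd δ').natAbs := by
  obtain ⟨e, he, hge⟩ := Finset.extract_gcd δ' (s := univ) ⟨⟨0, hn⟩, mem_univ _⟩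
  have he' : ∀ i, δ' i = univ.gcd δ' * e i := fun i => he i (mem_univ i)
  have hd0 : univ.gcd δ' ≠ 0 := by
    intro h0
    have := he' ⟨0, hn⟩
    rw [h0, zero_mul] at this
    exact hδ' _ this
  have hei : ∀ i, e i ≠ 0 := by
    intro i h0
    have := he' i
    rw [h0, mul_zero] at this
    exact hδ' _ this
  have hene : e ≠ 0 := fun h => hei ⟨0, hn⟩ (congr_fun h _)
  refine relIndex_of_cyclic _ _ e hene (univ.gcd δ') ?_ ?_
  · intro v
    exact ker_eq_multiples hn A hA δ' e hδ' he' hge hAδ v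
  · intro k
    simp only [Submodule.mem_toAddSubgroup, LinearMap.mem_range]
    constructor
    · rintro ⟨w, hw⟩
      have := congr_fun hw ⟨0, hn⟩
      rw [Dg_apply, he', Pi.smul_apply, smul_eq_mul] at this
      have h2 : e ⟨0, hn⟩ * (univ.gcd δ' * w ⟨0, hn⟩) = e ⟨0, hn⟩ * k := by
        rw [mul_comm _ k, ← this]; ring
      exact ⟨w ⟨0, hn⟩, (mul_left_cancel₀ (hei _) h2).symm⟩
    · rintro ⟨c, rfl⟩
      refine ⟨fun _ => c, ?_⟩
      funext i
      rw [Dg_apply, he', Pi.smul_apply, smul_eq_mul]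
      ring

end concrete2

end Groth.Agent.Lib.Helper17.LatIndex
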