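import Mathlib

/-!
# Orthogonal decomposition (up to finite index) in positive definite integral lattices
-/

set_option autoImplicit false

namespace Groth.Agent.Lib.Helper17.LatticeOrth

open Matrix

variable {L : Type*} [AddCommGroup L] [Module.Finite ℤ L] [Module.Free ℤ L]
  (B : LinearMap.BilinForm ℤ L) (hpos : ∀ x, x ≠ 0 → 0 < B x x) (A : Submodule ℤ L)

include hpos in
/-- Orthogonal projection with denominators. -/
theorem exists_smul_sub_mem_orthogonal (y : L) :
    ∃ c : ℤ, c ≠ 0 ∧ ∃ a ∈ A, c • y - a ∈ B.orthogonal A := by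
  classical
  let ι := Module.Free.ChooseBasisIndex ℤ A
  let bA : Module.Basis ι ℤ A := Module.Free.chooseBasis ℤ A
  let G : Matrix ι ι ℤ := fun i j => B (bA i : L) (bA j : L)
  have hdet : G.det ≠ 0 := by
    intro h0
    obtain ⟨v, hv, hGv⟩ := (Matrix.exists_mulVec_eq_zero_iff (M := G)).2 h0
    set a : A := ∑ j, v j • bA j with ha
    have ha0 : a ≠ 0 := by
      intro h
      apply hv
      have := (Fintype.linearIndependent_iff.1 bA.linearIndependent) v h
      funext i; exact this i
    have hBi : ∀ i, B (bA i : L) (a : L) = 0 := by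
      intro i
      have := congrFun hGv i
      simp only [Matrix.mulVec, dotProduct, Pi.zero_apply] at this
      rw [ha]
      simp only [Submodule.coe_sum, Submodule.coe_smul, map_sum, map_smul, smul_eq_mul]
      rw [← this]
      exact Finset.sum_congr rfl fun j _ => mul_comm _ _
    have hBa : B (a : L) (a : L) = 0 := by
      have h1 : (a : L) = ∑ j, v j • (bA j : L) := by rw [ha]; simp
      calc B (a : L) (a : L) = B (∑ j, v j • (bA j : L)) (a : L) := by rw [← h1]
        _ = ∑ j, v j • B (bA j : L) (a : L) := by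
          simp only [map_sum, map_smul, LinearMap.sum_apply, LinearMap.smul_apply]
        _ = 0 := by simp only [hBi, smul_zero, Finset.sum_const_zero]
    have : (a : L) ≠ 0 := fun h => ha0 (Subtype.ext h)
    exact absurd hBa (ne_of_gt (hpos _ this))
  let w : ι → ℤ := fun i => B (bA i : L) y
  let u : ι → ℤ := G.adjugate.mulVec w
  refine ⟨G.det, hdet, ((∑ j, u j • bA j : A) : L), Submodule.coe_mem _, ?_⟩
  have hGu : G.mulVec u = G.det • w := by
    change G.mulVec (G.adjugate.mulVec w) = _
    rw [Matrix.mulVec_mulVec, Matrix.mul_adjugate, Matrix.smul_mulVec, Matrix.one_mulVec]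
  have hBi : ∀ i, B (bA i : L) (G.det • y - ((∑ j, u j • bA j : A) : L)) = 0 := by
    intro i
    have := congrFun hGu i
    simp only [Matrix.mulVec, dotProduct, Pi.smul_apply, smul_eq_mul] at this
    simp only [Submodule.coe_sum, Submodule.coe_smul, map_sub, map_sum, map_smul, smul_eq_mul]
    rw [sub_eq_zero]
    change G.det * w i = _
    rw [← this]
    exact Finset.sum_congr rfl fun j _ => mul_comm _ _
  intro a' ha'
  have hrep := bA.sum_repr ⟨a', ha'⟩
  have : a' = ∑ i, (bA.repr ⟨a', ha'⟩ i) • (bA i : L) := by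
    have := congrArg (Subtype.val) hrep
    simp only [Submodule.coe_sum, Submodule.coe_smul] at this
    exact this.symm
  calc B a' (G.det • y - ((∑ j, u j • bA j : A) : L))
      = B (∑ i, (bA.repr ⟨a', ha'⟩ i) • (bA i : L)) (G.det • y - ((∑ j, u j • bA j : A) : L)) := by
        rw [← this]
    _ = ∑ i, (bA.repr ⟨a', ha'⟩ i) • B (bA i : L) (G.det • y - ((∑ j, u j • bA j : A) : L)) := by
        simp only [map_sum, map_smul, LinearMap.sum_apply, LinearMap.smul_apply]
    _ = 0 := by simp only [hBi, smul_zero, Finset.sum_const_zero]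

omit [Module.Free ℤ L] in
/-- Functionals on a saturated submodule of a finite free `ℤ`-module extend. -/
theorem exists_extend_dual (N : Submodule ℤ L)
    (hsat : ∀ (c : ℤ) (x : L), c ≠ 0 → c • x ∈ N → x ∈ N) (ψ : Module.Dual ℤ N) :
    ∃ φ : Module.Dual ℤ L, φ ∘ₗ N.subtype = ψ := by
  have htf : Module.IsTorsionFree ℤ (L ⧸ N) := by
    apply Module.IsTorsionFree.of_smul_eq_zero
    intro c q hq
    obtain ⟨x, rfl⟩ := N.mkQ_surjective q
    by_cases hc : c = 0
    · exact Or.inl hc
    · right
      rw [← map_smul, Submodule.mkQ_apply, Submodule.Quotient.mk_eq_zero] at hq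
      rw [Submodule.mkQ_apply, Submodule.Quotient.mk_eq_zero]
      exact hsat c x hc hq
  have hfree : Module.Free ℤ (L ⧸ N) := Module.free_of_finite_type_torsion_free'
  obtain ⟨s, hs⟩ := Module.projective_lifting_property N.mkQ (LinearMap.id : (L ⧸ N) →ₗ[ℤ] L ⧸ N)
    N.mkQ_surjective
  have hmem : ∀ x : L, x - s (N.mkQ x) ∈ N := by
    intro x
    rw [← Submodule.Quotient.mk_eq_zero, Submodule.Quotient.mk_sub, ← Submodule.mkQ_apply,
      ← Submodule.mkQ_apply, ← LinearMap.comp_apply, hs, LinearMap.id_apply, sub_self]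
  let π : L →ₗ[ℤ] N := (LinearMap.id - s ∘ₗ N.mkQ).codRestrict N (by
    intro x
    simpa using hmem x)
  refine ⟨ψ ∘ₗ π, ?_⟩
  ext n
  simp only [LinearMap.coe_comp, Function.comp_apply, Submodule.subtype_apply]
  congr 1
  apply Subtype.ext
  have h0 : (Submodule.Quotient.mk (n : L) : L ⧸ N) = 0 :=
    (Submodule.Quotient.mk_eq_zero N).2 n.2
  simp [π, h0]

end Groth.Agent.Lib.Helper17.LatticeOrth
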