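import Mathlib

/-!
# Length of a cokernel over a DVR is the valuation of the determinant (helper17)

`length_quot_range_eq_addVal_det`: for an endomorphism `f` of a finite free module over a discrete
valuation ring, `length (F ⧸ range f) = addVal (det f)` (both `⊤` when `det f = 0`).
-/

namespace Groth.Agent.Lib.Helper17.LengthDet

open IsDiscreteValuationRing Module

section core
variable {B : Type*} [CommRing B] [IsDomain B] [IsDiscreteValuationRing B]

lemma length_self_eq_top : Module.length B B = ⊤ := by
  rw [← Ring.ord_zero, Ring.ord_eq_addVal, addVal_zero]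

variable {F : Type*} [AddCommGroup F] [Module B F] {ι : Type*} [Fintype ι] [DecidableEq ι]

lemma length_quot_range_of_det_eq_zero (b : Basis ι B F) (f : F →ₗ[B] F)
    (h0 : LinearMap.det f = 0) : Module.length B (F ⧸ LinearMap.range f) = ⊤ := by
  rw [← LinearMap.det_toMatrix b] at h0
  obtain ⟨v, hv, hvM⟩ := Matrix.exists_vecMul_eq_zero_iff.mpr h0
  -- the functional
  let φ : F →ₗ[B] B := (Fintype.linearCombination B (fun i => v i) : (ι → B) →ₗ[B] B) ∘ₗ
    b.equivFun.toLinearMap
  have hφ : ∀ x, φ x = v ⬝ᵥ (b.repr x : ι → B) := by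
    intro x
    simp [φ, Fintype.linearCombination_apply, dotProduct, mul_comm]
  have hφf : ∀ x, φ (f x) = 0 := by
    intro x
    rw [hφ, ← LinearMap.toMatrix_mulVec_repr b b f x, Matrix.dotProduct_mulVec, hvM,
      zero_dotProduct]
  obtain ⟨i, hi⟩ : ∃ i, v i ≠ 0 := by
    by_contra hcon
    push Not at hcon
    exact hv (funext hcon)
  have hφb : φ (b i) = v i := by
    rw [hφ]; simp [dotProduct, Finsupp.single_apply]
  let φbar : (F ⧸ LinearMap.range f) →ₗ[B] B :=
    (LinearMap.range f).liftQ φ (by rintro _ ⟨x, rfl⟩; exact hφf x)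
  let ψ : B →ₗ[B] LinearMap.range φbar :=
    LinearMap.toSpanSingleton B _ ⟨v i, ⟨Submodule.Quotient.mk (b i), by simp [φbar, hφb]⟩⟩
  have hψ : Function.Injective ψ := by
    intro c d hcd
    have := congrArg Subtype.val hcd
    simp only [ψ, LinearMap.toSpanSingleton_apply, Submodule.coe_smul, smul_eq_mul] at this
    exact mul_right_cancel₀ hi this
  have h1 := Module.length_le_of_injective ψ hψ
  have h2 := Module.length_le_of_surjective φbar.rangeRestrict φbar.surjective_rangeRestrict
  rw [length_self_eq_top] at h1
  exact top_le_iff.mp (h1.trans h2)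

end core

section core2
variable {B : Type*} [CommRing B] [IsDomain B] [IsDiscreteValuationRing B]
variable {F : Type*} [AddCommGroup F] [Module B F] {ι : Type*} [Fintype ι] [DecidableEq ι]

lemma addVal_prod (s : Finset ι) (a : ι → B) :
    addVal B (∏ i ∈ s, a i) = ∑ i ∈ s, addVal B (a i) := by
  induction s using Finset.induction_on with
  | empty => simp
  | insert i s hi ih => rw [Finset.prod_insert hi, Finset.sum_insert hi, addVal_mul, ih]

lemma injective_of_det_ne_zero (b : Basis ι B F) (f : F →ₗ[B] F)
    (h0 : LinearMap.det f ≠ 0) : Function.Injective f := by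
  rw [injective_iff_map_eq_zero]
  intro x hx
  by_contra hne
  apply h0
  rw [← LinearMap.det_toMatrix b]
  apply Matrix.exists_mulVec_eq_zero_iff.mp
  refine ⟨(b.repr x : ι → B), ?_, ?_⟩
  · intro h
    apply hne
    apply b.repr.injective
    ext i
    simpa using congrFun h i
  · rw [LinearMap.toMatrix_mulVec_repr b b f x, hx]; simp

lemma length_quot_range_of_det_ne_zero (b : Basis ι B F) (f : F →ₗ[B] F)
    (h0 : LinearMap.det f ≠ 0) :
    Module.length B (F ⧸ LinearMap.range f) = addVal B (LinearMap.det f) := by
  have hinj := injective_of_det_ne_zero b f h0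
  set N := LinearMap.range f with hN
  let f' : F ≃ₗ[B] N := LinearEquiv.ofInjective f hinj
  have hrank : Module.finrank B N = Module.finrank B F := (LinearEquiv.finrank_eq f').symm
  set b' := Submodule.smithNormalFormTopBasis b hrank with hb'
  set ab := Submodule.smithNormalFormBotBasis b hrank with hab
  set a := Submodule.smithNormalFormCoeffs b hrank with ha
  have hdef : ∀ i, (ab i : F) = a i • b' i := Submodule.smithNormalFormBotBasis_def b hrank
  -- length side
  have hlen : Module.length B (F ⧸ N) = ∑ i, addVal B (a i) := by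
    rw [(Submodule.quotientEquivPiSpan N b hrank).length_eq, Module.length_pi_of_fintype]
    apply Finset.sum_congr rfl
    intro i _
    rw [← Ring.ord_eq_addVal]
    rfl
  -- determinant side
  let g' : F ≃ₗ[B] N := b'.equiv ab (Equiv.refl ι)
  let e : F ≃ₗ[B] F := f'.trans g'.symm
  have hfac : f = (N.subtype ∘ₗ g'.toLinearMap) ∘ₗ e.toLinearMap := by
    ext x
    simp only [e, f', LinearMap.comp_apply, LinearEquiv.coe_coe, LinearEquiv.trans_apply,
      LinearEquiv.apply_symm_apply, Submodule.subtype_apply]
    rfl
  have hdetg : LinearMap.det (N.subtype ∘ₗ g'.toLinearMap) = ∏ i, a i := by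
    rw [← LinearMap.det_toMatrix b']
    have : LinearMap.toMatrix b' b' (N.subtype ∘ₗ g'.toLinearMap) = Matrix.diagonal a := by
      ext i j
      rw [LinearMap.toMatrix_apply, LinearMap.comp_apply, LinearEquiv.coe_coe, Basis.equiv_apply,
        Equiv.refl_apply, Submodule.subtype_apply, hdef, map_smul, Basis.repr_self,
        Finsupp.smul_apply, Finsupp.single_apply, Matrix.diagonal_apply]
      by_cases hij : i = j
      · subst hij; simp
      · rw [if_neg hij, if_neg (Ne.symm hij), smul_zero]
    rw [this, Matrix.det_diagonal]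
  have hunit : IsUnit (LinearMap.det e.toLinearMap) := LinearEquiv.isUnit_det' e
  rw [hlen, hfac, LinearMap.det_comp, hdetg, addVal_mul, addVal_prod]
  obtain ⟨u, hu⟩ := hunit
  rw [← hu, addVal_eq_zero_of_unit, add_zero]

theorem length_quot_range_eq_addVal_det (b : Basis ι B F) (f : F →ₗ[B] F) :
    Module.length B (F ⧸ LinearMap.range f) = addVal B (LinearMap.det f) := by
  by_cases h0 : LinearMap.det f = 0
  · rw [length_quot_range_of_det_eq_zero b f h0, h0, addVal_zero]
  · exact length_quot_range_of_det_ne_zero b f h0

end core2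

end Groth.Agent.Lib.Helper17.LengthDet
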