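import Mathlib
import Groth.Prelude

/-! Localization of an abelian category w.r.t. a class with left and right calculus of fractions
is abelian and the localization functor is exact. Adapted from Mathlib's
`CategoryTheory/Abelian/SerreClass/Localization.lean`. -/

universe v' v u' u
set_option linter.unusedSectionVars false

namespace Groth.Agent.Lib.Helper17.LocAbelian

open CategoryTheory CategoryTheory.Limits

variable {C : Type u} [Category.{v} C] [Abelian C]
  {D : Type u'} [Category.{v'} D]
  (L : C ⥤ D) (W : MorphismProperty C) [W.HasLeftCalculusOfFractions]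
  [W.HasRightCalculusOfFractions]
  [L.IsLocalization W] [Preadditive D] [L.Additive]

include L W

lemma map_eq_zero_iff_pre {X Y : C} (f : X ⟶ Y) :
    L.map f = 0 ↔ ∃ (Z : C) (s : Z ⟶ X) (_ : W s), s ≫ f = 0 := by
  rw [← L.map_zero, MorphismProperty.map_eq_iff_precomp L W]
  simp

lemma map_eq_zero_iff_post {X Y : C} (f : X ⟶ Y) :
    L.map f = 0 ↔ ∃ (Z : C) (s : Y ⟶ Z) (_ : W s), f ≫ s = 0 := by
  rw [← L.map_zero, MorphismProperty.map_eq_iff_postcomp L W]
  simp

lemma preservesMonomorphisms : L.PreservesMonomorphisms where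
  preserves {X Y} f _ := by
    have := Localization.essSurj L W
    rw [Preadditive.mono_iff_cancel_zero]
    intro P z hz
    obtain ⟨φ, hφ⟩ := Localization.exists_rightFraction L W
      ((L.objObjPreimageIso P).hom ≫ z)
    rw [← cancel_epi (L.objObjPreimageIso P).hom, comp_zero, hφ,
      ← cancel_epi (L.map φ.s), comp_zero,
      MorphismProperty.RightFraction.map_s_comp_map]
    have h1 : L.map φ.s ≫ (L.objObjPreimageIso P).hom ≫ z = L.map φ.f := by
      rw [hφ]; simp
    have h2 : L.map (φ.f ≫ f) = 0 := by
      rw [L.map_comp, ← h1, Category.assoc, Category.assoc, hz, comp_zero, comp_zero]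
    rw [map_eq_zero_iff_pre L W] at h2
    obtain ⟨Z, t, ht, fac⟩ := h2
    have := Localization.inverts L W t ht
    rw [← Category.assoc] at fac
    have h3 : t ≫ φ.f = 0 := by
      rw [← cancel_mono f, fac, zero_comp]
    rw [← cancel_epi (L.map t), ← L.map_comp, h3, L.map_zero, comp_zero]

lemma preservesEpimorphisms : L.PreservesEpimorphisms where
  preserves {X Y} f _ := by
    have := Localization.essSurj L W
    rw [Preadditive.epi_iff_cancel_zero]
    intro P z hz
    obtain ⟨φ, hφ⟩ := Localization.exists_leftFraction L W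
      (z ≫ (L.objObjPreimageIso P).inv)
    rw [← cancel_mono (L.objObjPreimageIso P).inv, zero_comp, hφ,
      ← cancel_mono (L.map φ.s), zero_comp,
      MorphismProperty.LeftFraction.map_comp_map_s]
    have h1 : L.map φ.f = z ≫ (L.objObjPreimageIso P).inv ≫ L.map φ.s := by
      simp [reassoc_of% hφ]
    have h2 : L.map (f ≫ φ.f) = 0 := by
      rw [L.map_comp, h1, reassoc_of% hz, zero_comp]
    rw [map_eq_zero_iff_post L W] at h2
    obtain ⟨Z, t, ht, fac⟩ := h2
    have := Localization.inverts L W t ht
    rw [Category.assoc] at fac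
    have h3 : φ.f ≫ t = 0 := by
      rw [← cancel_epi f, fac, comp_zero]
    rw [← cancel_mono (L.map t), ← L.map_comp, h3, L.map_zero, zero_comp]

set_option backward.isDefEq.respectTransparency false in
lemma preservesKernel {X Y : C} (f : X ⟶ Y) :
    PreservesLimit (parallelPair f 0) L := by
  have := preservesMonomorphisms L W
  have := Localization.essSurj L W
  suffices ∀ (P : D) (z : P ⟶ L.obj X) (hz : z ≫ L.map f = 0),
      ∃ (l : P ⟶ L.obj (kernel f)), l ≫ L.map (kernel.ι f) = z from
    preservesLimit_of_preserves_limit_cone (kernelIsKernel f)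
      ((KernelFork.isLimitMapConeEquiv _ L).2
        (Fork.IsLimit.ofExistsUnique
          (fun s ↦ existsUnique_of_exists_of_unique
            (this _ _ (KernelFork.condition s))
            (fun _ _ h₁ h₂ ↦ by simpa [cancel_mono] using h₁.trans h₂.symm))))
  intro P w hw
  wlog hw' : ∃ (Z : C) (hZ : P = L.obj Z) (z : Z ⟶ X), w = eqToHom hZ ≫ L.map z
      generalizing P
  · obtain ⟨φ, hφ⟩ := Localization.exists_rightFraction L W
      ((L.objObjPreimageIso P).hom ≫ w)
    rw [← cancel_epi (L.map φ.s),
      MorphismProperty.RightFraction.map_s_comp_map] at hφ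
    obtain ⟨l, hl⟩ := this _ (L.map φ.f) (by
      rw [← hφ, Category.assoc, Category.assoc, hw, comp_zero, comp_zero]) ⟨_, rfl, by simp⟩
    exact ⟨(L.objObjPreimageIso P).inv ≫ inv (L.map φ.s) ≫ l, by simp [hl, ← hφ]⟩
  obtain ⟨Z, rfl, z, rfl⟩ := hw'
  simp only [eqToHom_refl, Category.id_comp, ← L.map_comp, map_eq_zero_iff_pre L W] at hw
  obtain ⟨Z', t, ht, fac⟩ := hw
  have := Localization.inverts L W t ht
  rw [← Category.assoc] at fac
  exact ⟨inv (L.map t) ≫ L.map (kernel.lift _ _ fac), by simp [← Functor.map_comp]⟩

set_option backward.isDefEq.respectTransparency false in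
lemma preservesCokernel {X Y : C} (f : X ⟶ Y) :
    PreservesColimit (parallelPair f 0) L := by
  have := preservesEpimorphisms L W
  have := Localization.essSurj L W
  suffices ∀ (P : D) (z : L.obj Y ⟶ P) (hz : L.map f ≫ z = 0),
      ∃ (l : L.obj (cokernel f) ⟶ P), L.map (cokernel.π f) ≫ l = z from
    preservesColimit_of_preserves_colimit_cocone (cokernelIsCokernel f)
      ((CokernelCofork.isColimitMapCoconeEquiv _ L).2
        (Cofork.IsColimit.ofExistsUnique
          (fun s ↦ existsUnique_of_exists_of_unique
            (this _ _ (CokernelCofork.condition s))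
            (fun _ _ h₁ h₂ ↦ by simpa [cancel_epi] using h₁.trans h₂.symm))))
  intro P w hw
  wlog hw' : ∃ (Z : C) (hZ : L.obj Z = P) (z : Y ⟶ Z), w = L.map z ≫ eqToHom hZ
      generalizing P
  · obtain ⟨φ, hφ⟩ := Localization.exists_leftFraction L W
      (w ≫ (L.objObjPreimageIso P).inv)
    rw [← cancel_mono (L.map φ.s), Category.assoc,
      MorphismProperty.LeftFraction.map_comp_map_s] at hφ
    obtain ⟨l, hl⟩ := this _ (L.map φ.f) (by rw [← hφ, reassoc_of% hw, zero_comp]) ⟨_, rfl, by simp⟩
    exact ⟨l ≫ inv (L.map φ.s) ≫ (L.objObjPreimageIso P).hom, by simp [reassoc_of% hl, ← hφ]⟩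
  obtain ⟨Z, rfl, z, rfl⟩ := hw'
  simp only [eqToHom_refl, Category.comp_id, ← L.map_comp,
    map_eq_zero_iff_post L W] at hw
  obtain ⟨Z', t, ht, fac⟩ := hw
  rw [Category.assoc] at fac
  have := Localization.inverts L W t ht
  exact ⟨L.map (cokernel.desc _ _ fac) ≫ inv (L.map t), by simp [← L.map_comp_assoc]⟩

set_option backward.isDefEq.respectTransparency false in
lemma hasKernels : HasKernels D where
  has_limit f := by
    obtain ⟨g, ⟨e⟩⟩ :=
      (Localization.essSurj_mapArrow L W).mem_essImage (Arrow.mk f)
    have := preservesKernel L W g.hom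
    have : HasLimit (parallelPair (L.map g.hom) 0) :=
      ⟨_, (KernelFork.isLimitMapConeEquiv _ L).1
        (isLimitOfPreserves L (kernelIsKernel g.hom))⟩
    exact hasLimit_of_iso (show parallelPair (L.map g.hom) 0 ≅ _ from
      parallelPair.ext (Arrow.leftFunc.mapIso e) (Arrow.rightFunc.mapIso e))

set_option backward.isDefEq.respectTransparency false in
lemma hasCokernels : HasCokernels D where
  has_colimit f := by
    obtain ⟨g, ⟨e⟩⟩ :=
      (Localization.essSurj_mapArrow L W).mem_essImage (Arrow.mk f)
    have := preservesCokernel L W g.hom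
    have : HasColimit (parallelPair (L.map g.hom) 0) :=
      ⟨_, (CokernelCofork.isColimitMapCoconeEquiv _ L).1
        (isColimitOfPreserves L (cokernelIsCokernel g.hom))⟩
    exact hasColimit_of_iso (show _ ≅ parallelPair (L.map g.hom) 0 from
      parallelPair.ext (Arrow.leftFunc.mapIso e.symm) (Arrow.rightFunc.mapIso e.symm))

lemma hasFiniteProducts : HasFiniteProducts D :=
  have := Localization.essSurj L W
  L.hasFiniteProducts_of_additive_of_essSurj

set_option backward.isDefEq.respectTransparency false in
lemma isIso_coimageImageComparison [HasKernels D] [HasCokernels D] {X Y : D} (f : X ⟶ Y) :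
    IsIso (Abelian.coimageImageComparison f) := by
  obtain ⟨g, ⟨e⟩⟩ :=
    (Localization.essSurj_mapArrow L W).mem_essImage (Arrow.mk f)
  have := fun {X Y : C} (f : X ⟶ Y) => preservesKernel L W f
  have := fun {X Y : C} (f : X ⟶ Y) => preservesCokernel L W f
  let iso : Arrow.mk (L.map (Abelian.coimageImageComparison g.hom)) ≅
      Arrow.mk (Abelian.coimageImageComparison f) :=
    Abelian.PreservesCoimageImageComparison.iso L g.hom ≪≫
      Abelian.coimageImageComparisonFunctor.mapIso e
  rw [Arrow.isIso_iff_isIso_of_isIso iso.inv]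
  infer_instance

/-- The abelian category structure on the localized category. -/
@[instance_reducible]
noncomputable def abelian : Abelian D := by
  haveI := hasKernels L W
  haveI := hasCokernels L W
  haveI := hasFiniteProducts L W
  haveI : ∀ {X Y : D} (f : X ⟶ Y), IsIso (Abelian.coimageImageComparison f) :=
    fun f => isIso_coimageImageComparison L W f
  exact Abelian.ofCoimageImageComparisonIsIso

lemma preservesFiniteLimits : PreservesFiniteLimits L := by
  let _ := abelian L W
  exact ((Functor.preservesFiniteLimits_tfae L).out 2 3).1 (fun _ _ f => preservesKernel L W f)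

lemma preservesFiniteColimits : PreservesFiniteColimits L := by
  let _ := abelian L W
  exact ((Functor.preservesFiniteColimits_tfae L).out 2 3).1 (fun _ _ f => preservesCokernel L W f)

end Groth.Agent.Lib.Helper17.LocAbelian
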