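import Mathlib.Algebra.Category.ModuleCat.FilteredColimits
import Mathlib.Algebra.Module.LocalizedModule.Basic
import Mathlib.CategoryTheory.Linear.LinearFunctor
import Mathlib.CategoryTheory.Limits.ConcreteCategory.Basic
import Mathlib.CategoryTheory.Limits.Types.Filtered
import Mathlib.Algebra.Category.ModuleCat.Basic

set_option autoImplicit false
universe u

namespace Groth.Agent.Lib.Helper17

open CategoryTheory CategoryTheory.Limits

variable {A : Type u} [CommRing A]

/-- The filtered category attached to a submonoid: objects are elements of `S`,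
morphisms `s ⟶ t` are elements `u` with `s * u = t`. -/
structure SCat (S : Submonoid A) : Type u where
  /-- the underlying element -/
  val : S

namespace SCat

variable (S : Submonoid A)

instance : Category.{u} (SCat S) where
  Hom s t := {u : S // s.val * u = t.val}
  id s := ⟨1, mul_one _⟩
  comp f g := ⟨f.1 * g.1, by rw [← mul_assoc, f.2, g.2]⟩
  id_comp f := Subtype.ext (one_mul _)
  comp_id f := Subtype.ext (mul_one _)
  assoc f g h := Subtype.ext (mul_assoc _ _ _)

instance : IsFiltered (SCat S) where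
  cocone_objs s t := ⟨⟨s.val * t.val⟩, ⟨t.val, rfl⟩, ⟨s.val, mul_comm _ _⟩, trivial⟩
  cocone_maps s t f g := ⟨⟨t.val * s.val⟩, ⟨s.val, rfl⟩, Subtype.ext (by
    change f.1 * s.val = g.1 * s.val
    rw [mul_comm f.1, mul_comm g.1, f.2, g.2])⟩
  nonempty := ⟨⟨1⟩⟩

variable {S}

/-- The constant diagram on `M` with transition maps given by multiplication. -/
noncomputable def diag (M : ModuleCat.{u} A) : SCat S ⥤ ModuleCat.{u} A where
  obj _ := M
  map f := ((f.1 : S) : A) • 𝟙 M
  map_id s := by
    change ((1 : S) : A) • 𝟙 M = 𝟙 M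
    simp
  map_comp f g := by
    change ((f.1 * g.1 : S) : A) • 𝟙 M = (((f.1 : S) : A) • 𝟙 M) ≫ (((g.1 : S) : A) • 𝟙 M)
    rw [Linear.smul_comp, Linear.comp_smul, Category.comp_id, smul_smul, Submonoid.coe_mul,
      mul_comm]

lemma diag_map_apply (M : ModuleCat.{u} A) {s t : SCat S} (f : s ⟶ t) (m : M) :
    ((diag M).map f).hom m = ((f.1 : S) : A) • m := rfl

lemma mk_smul_eq {M : Type u} [AddCommGroup M] [Module A M] (s t u : S) (h : s * u = t)
    (m : M) : LocalizedModule.mk ((u : A) • m) t = LocalizedModule.mk m s := by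
  subst h
  rw [← Submonoid.smul_def, LocalizedModule.mk_cancel_common_right]

/-- The cocone exhibiting `LocalizedModule S M` as the colimit of `diag M`. -/
noncomputable def cocone (M : ModuleCat.{u} A) : Cocone (diag (S := S) M) where
  pt := ModuleCat.of A (LocalizedModule S M)
  ι :=
    { app := fun s => ModuleCat.ofHom
        (LocalizedModule.divBy s.val ∘ₗ LocalizedModule.mkLinearMap S M)
      naturality := by
        intro s t f
        ext m
        change LocalizedModule.divBy t.val
            (LocalizedModule.mkLinearMap S M (((f.1 : S) : A) • m)) =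
          LocalizedModule.divBy s.val (LocalizedModule.mkLinearMap S M m)
        rw [LocalizedModule.mkLinearMap_apply, LocalizedModule.mkLinearMap_apply,
          LocalizedModule.divBy_apply, LocalizedModule.divBy_apply, LocalizedModule.liftOn_mk,
          LocalizedModule.liftOn_mk]
        simp only [one_mul]
        exact mk_smul_eq s.val t.val f.1 f.2 m }

lemma cocone_ι_apply (M : ModuleCat.{u} A) (s : SCat S) (m : M) :
    ((cocone M).ι.app s).hom m = LocalizedModule.mk m s.val := by
  change LocalizedModule.divBy s.val (LocalizedModule.mkLinearMap S M m) = _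
  rw [LocalizedModule.mkLinearMap_apply, LocalizedModule.divBy_apply, LocalizedModule.liftOn_mk]
  simp only [one_mul]

/-- `LocalizedModule S M` is the filtered colimit of `diag M`. -/
noncomputable def coconeIsColimit (M : ModuleCat.{u} A) : IsColimit (cocone (S := S) M) := by
  haveI : ReflectsColimitsOfShape (SCat S) (forget (ModuleCat.{u} A)) :=
    ReflectsFilteredColimitsOfSize.reflects_filtered_colimits (SCat S)
  refine isColimitOfReflects (forget (ModuleCat.{u} A)) ?_
  refine Types.FilteredColimit.isColimitOf _ _ ?_ ?_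
  · intro x
    induction x using LocalizedModule.induction_on with
    | h m s => exact ⟨⟨s⟩, m, (cocone_ι_apply M ⟨s⟩ m).symm⟩
  · intro i j (xi : M) (xj : M) h
    have h' : LocalizedModule.mk (xi : M) i.val = LocalizedModule.mk (xj : M) j.val := by
      rw [← cocone_ι_apply M i xi, ← cocone_ι_apply M j xj]
      exact h
    obtain ⟨u, hu⟩ := LocalizedModule.mk_eq.mp h'
    refine ⟨⟨i.val * j.val * u⟩, ⟨j.val * u, by rw [mul_assoc]⟩,
      ⟨i.val * u, by rw [mul_comm i.val j.val, mul_assoc]⟩, ?_⟩
    change (((j.val * u : S) : A)) • (xi : M) = (((i.val * u : S) : A)) • (xj : M)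
    simp only [Submonoid.smul_def, smul_smul] at hu
    rw [Submonoid.coe_mul, Submonoid.coe_mul, mul_comm (j.val : A), mul_comm (i.val : A)]
    exact hu

lemma cocone_ι_one (M : ModuleCat.{u} A) :
    (cocone (S := S) M).ι.app ⟨1⟩ = ModuleCat.ofHom (LocalizedModule.mkLinearMap S M) := by
  ext m
  rw [cocone_ι_apply]
  rfl

lemma smul_cocone_ι (M : ModuleCat.{u} A) (s : S) :
    ((s : S) : A) • (cocone (S := S) M).ι.app ⟨s⟩ = (cocone (S := S) M).ι.app ⟨1⟩ := by
  have := (cocone (S := S) M).w (⟨s, one_mul _⟩ : (⟨1⟩ : SCat S) ⟶ ⟨s⟩)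
  rw [← this]
  change _ = (((s : S) : A) • 𝟙 M) ≫ _
  rw [Linear.smul_comp, Category.id_comp]
  rfl

end SCat

open SCat in
theorem isLocalizedModule_map_of_preservesColimitsOfShape (S : Submonoid A)
    (T : ModuleCat.{u} A ⥤ ModuleCat.{u} A) [T.Additive] [T.Linear A]
    [PreservesColimitsOfShape (SCat S) T] (M : ModuleCat.{u} A) :
    IsLocalizedModule S (T.map (ModuleCat.ofHom (LocalizedModule.mkLinearMap S M) :
      M ⟶ ModuleCat.of A (LocalizedModule S M))).hom := by
  have hTc : IsColimit (T.mapCocone (cocone (S := S) M)) :=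
    isColimitOfPreserves T (coconeIsColimit M)
  have : PreservesColimitsOfShape (SCat S) (forget (ModuleCat.{u} A)) :=
    PreservesFilteredColimitsOfSize.preserves_filtered_colimits (SCat S)
  have hFmap : ∀ {s t : SCat S} (f : s ⟶ t) (x : T.obj M),
      ((diag (S := S) M ⋙ T).map f).hom x = ((f.1 : S) : A) • x := by
    intro s t f x
    change (T.map (((f.1 : S) : A) • 𝟙 M)).hom x = _
    rw [T.map_smul, T.map_id]
    rfl
  have hι : ∀ s : S, ((s : S) : A) • T.map ((cocone (S := S) M).ι.app ⟨s⟩) =
      T.map (ModuleCat.ofHom (LocalizedModule.mkLinearMap S M)) := by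
    intro s
    rw [← T.map_smul, smul_cocone_ι, cocone_ι_one]
    rfl
  refine ⟨?_, ?_, ?_⟩
  · intro s
    let N : ModuleCat.{u} A := ModuleCat.of A (LocalizedModule S M)
    let φ : N ⟶ N := ((s : S) : A) • 𝟙 N
    let ψ : N ⟶ N := ModuleCat.ofHom (LocalizedModule.divBy s)
    have h1 : φ ≫ ψ = 𝟙 N := by
      ext x
      exact LocalizedModule.divBy_mul_by s x
    have h2 : ψ ≫ φ = 𝟙 N := by
      ext x
      exact LocalizedModule.mul_by_divBy s x
    have hφ : T.map φ = ((s : S) : A) • 𝟙 (T.obj N) := by
      rw [T.map_smul, T.map_id]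
    have h1' : (((s : S) : A) • 𝟙 (T.obj N)) ≫ T.map ψ = 𝟙 _ := by
      rw [← hφ, ← T.map_comp, h1, T.map_id]
    have h2' : T.map ψ ≫ (((s : S) : A) • 𝟙 (T.obj N)) = 𝟙 _ := by
      rw [← hφ, ← T.map_comp, h2, T.map_id]
    rw [Module.End.isUnit_iff]
    constructor
    · intro x y hxy
      have hx := congrArg (fun g => g.hom x) h1'
      have hy := congrArg (fun g => g.hom y) h1'
      simp only [ModuleCat.hom_comp, LinearMap.comp_apply, ModuleCat.hom_id,
        LinearMap.id_apply] at hx hy
      rw [← hx, ← hy]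
      exact congrArg (T.map ψ).hom hxy
    · intro y
      refine ⟨(T.map ψ).hom y, ?_⟩
      have hy := congrArg (fun g => g.hom y) h2'
      simpa using hy
  · intro y
    obtain ⟨s, x, hx⟩ := Concrete.isColimit_exists_rep (diag (S := S) M ⋙ T) hTc y
    refine ⟨(x, s.val), ?_⟩
    rw [← hι s.val, ← hx]
    rfl
  · intro x₁ x₂ h
    have h' : (T.mapCocone (cocone (S := S) M)).ι.app ⟨1⟩ x₁ =
        (T.mapCocone (cocone (S := S) M)).ι.app ⟨1⟩ x₂ := by
      change (T.map ((cocone (S := S) M).ι.app ⟨1⟩)).hom x₁ =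
        (T.map ((cocone (S := S) M).ι.app ⟨1⟩)).hom x₂
      rw [cocone_ι_one]
      exact h
    obtain ⟨k, f, g, hfg⟩ := Concrete.isColimit_exists_of_rep_eq (diag (S := S) M ⋙ T) hTc
      x₁ x₂ h'
    have hfg' : ((diag (S := S) M ⋙ T).map f).hom x₁ = ((diag (S := S) M ⋙ T).map g).hom x₂ :=
      hfg
    rw [hFmap, hFmap] at hfg'
    have hfg1 : f.1 = g.1 := by
      have h1 := f.2
      have h2 := g.2
      change (1 : S) * f.1 = k.val at h1
      change (1 : S) * g.1 = k.val at h2
      rw [one_mul] at h1 h2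
      rw [h1, h2]
    refine ⟨f.1, ?_⟩
    rw [Submonoid.smul_def, Submonoid.smul_def, hfg', hfg1]

end Groth.Agent.Lib.Helper17
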