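import Groth.Agent.Lib.Helper17.StalkVanish
import Groth.Agent.Lib.Helper16.LocalDualityGor
import Groth.Agent.Lib.Helper16.RegularGorenstein
import Groth.Agent.Lib.Helper16.LocCohGrothVanish
import Groth.Agent.Lib.Helper25.Matlis
import Groth.Agent.S0022
import Groth.Agent.Lib.Helper9.RefStalk2

/-!
# `H^i(P, F(-m)) = 0` for `m ≫ 0` iff the local cohomology `H^i_{m_x}(F_x)` vanishes at all closed
points (Hartshorne III.7.6-type criterion via local duality)
-/

set_option autoImplicit false
set_option maxSynthPendingDepth 3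

universe u

open CategoryTheory CategoryTheory.Limits AlgebraicGeometry Opposite Abelian IsLocalRing

namespace Groth.Agent.Lib.Helper17.LocDualVanish

section algebra

variable (A : Type u) [CommRing A] [IsRegularLocalRing A] (r : ℕ)
  (M : Type u) [AddCommGroup M] [Module A M] [Module.Finite A M]

/-- local duality over a regular local ring, in vanishing form -/
theorem subsingleton_H_iff_ext (hr : ringKrullDim A = r) (i j : ℕ) (hij : i + j = r) :
    Subsingleton (LocCoh.H (maximalIdeal A) i M) ↔
      Subsingleton (Abelian.Ext.{u} (ModuleCat.of A M) (ModuleCat.of A A) j) := by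
  haveI : LocCoh.IsGorensteinLocalRing A :=
    Groth.Agent.Lib.Helper16.RegGor.isGorensteinLocalRing_of_isRegularLocalRing A
  obtain ⟨g, hg⟩ := Groth.Agent.Lib.Helper16.GorTop.exists_hull (R := A) hr
  obtain ⟨e⟩ := Groth.Agent.Lib.Helper16.LD.local_duality hr _ g hg M i j hij
  rw [e.toEquiv.subsingleton_congr]
  constructor
  · intro h
    refine ⟨fun x y => ?_⟩
    by_contra hxy
    obtain ⟨φ, hφ⟩ := Groth.Agent.Lib.Helper25.exists_hom_ne_zero g hg (sub_ne_zero.2 hxy)
    apply hφ
    rw [h.elim φ 0, LinearMap.zero_apply]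
  · intro h
    exact ⟨fun φ ψ => LinearMap.ext fun x => by rw [h.elim x 0, map_zero, map_zero]⟩

/-- Grothendieck vanishing above the dimension -/
theorem subsingleton_H_of_gt (hr : ringKrullDim A = r) (i : ℕ) (hi : r < i) :
    Subsingleton (LocCoh.H (maximalIdeal A) i M) := by
  haveI : IsNoetherianRing A := inferInstance
  refine Groth.Agent.Lib.Helper16.LC.subsingleton_H_of_supportDim_lt (maximalIdeal A) M (r + 1)
    ?_ i hi
  refine lt_of_le_of_lt (Module.supportDim_le_ringKrullDim A M) ?_
  rw [hr]
  exact_mod_cast Nat.lt_succ_self r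

end algebra

open Groth.Agent.Lib.Lead.SD Groth.Agent.Lib.Lead.Pn Groth.Agent.Lib.Lead.Koszul
  Groth.Agent.Lib.Lead.TwistExact Groth.Agent.Lib.Helper29.QCoh
  Groth.Agent.Lib.Helper17.DualVanish Groth.Agent.Lib.Helper17.CMPd
  Groth.Agent.Lib.Helper17.StalkExt Groth.Agent.Lib.Helper17.StalkVanish

variable (k : Type u) [Field k] (r : ℕ)

theorem main (F : (CohB1.ProjSpace r k).Modules) (hF : Coh.IsCoh F) (i : ℕ) :
    (∃ m₀ : ℤ, ∀ m : ℤ, m₀ ≤ m → Subsingleton (Coh.HH (CohB1.ProjSpace r k)
      (Twist.twistBy (CohB1.polyGrading r k) F (-m)) i)) ↔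
    ∀ x : (CohB1.ProjSpace r k), IsClosed ({x} : Set (CohB1.ProjSpace r k)) →
      Subsingleton (LocCoh.H (IsLocalRing.maximalIdeal ((CohB1.ProjSpace r k).presheaf.stalk x)) i
        (F.presheaf.stalk x)) := by
  haveI := hF.1
  haveI := hF.2
  have hfin : ∀ x : (CohB1.ProjSpace r k),
      Module.Finite ((CohB1.ProjSpace r k).presheaf.stalk x) (F.presheaf.stalk x) := by
    intro x
    exact Groth.Agent.Lib.Helper9.RefStalk.finite_stalk_of_isCoh F hF x
  by_cases hi : i ≤ r
  · haveI : EnoughInjectives (CohB1.ProjSpace r k).Modules :=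
      Groth.Agent.S0485.result (Opens.grothendieckTopology (CohB1.ProjSpace r k))
        (CohB1.ProjSpace r k).ringCatSheaf
    haveI : HasInjectiveResolutions (ModSite.Mod (CohB1.ProjSpace r k).sheaf) :=
      inferInstanceAs (HasInjectiveResolutions (CohB1.ProjSpace r k).Modules)
    haveI : HasExt.{u} (CohB1.ProjSpace r k).Modules := hasExt_of_enoughInjectives _
    haveI : ModSite.HasSheafHom (O := (CohB1.ProjSpace r k).sheaf) F :=
      Groth.Agent.Lib.Helper17.IHom.hasSheafHom _
    have hv := vanishing_iff k r F hF i hi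
    refine Iff.trans hv ?_
    rw [isZero_extSh_omega_iff_unit k r F (r - i)]
    constructor
    · intro h x hx
      haveI := Groth.Agent.Lib.Helper17.PnReg.isRegularLocalRing_stalk k r x
      haveI := hfin x
      rw [subsingleton_H_iff_ext _ r _ (ringKrullDim_stalk_of_isClosed k r x hx) i (r - i)
        (by omega)]
      exact subsingleton_stalk_ext_of_isZero F hF (r - i) h x
    · intro h
      refine isZero_extSh_unit_of_forall_closed F hF (r - i) (fun x hx => ?_)
      haveI := Groth.Agent.Lib.Helper17.PnReg.isRegularLocalRing_stalk k r x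
      haveI := hfin x
      rw [← subsingleton_H_iff_ext _ r _ (ringKrullDim_stalk_of_isClosed k r x hx) i (r - i)
        (by omega)]
      exact h x hx
  · have hi' : r < i := by omega
    constructor
    · intro _ x hx
      haveI := Groth.Agent.Lib.Helper17.PnReg.isRegularLocalRing_stalk k r x
      haveI := hfin x
      exact subsingleton_H_of_gt _ r _ (ringKrullDim_stalk_of_isClosed k r x hx) i hi'
    · intro _
      refine ⟨0, fun m _ => ?_⟩
      haveI := (Groth.Agent.Lib.Lead.Pn.isCoh_twist r k (-m)).1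
      haveI := (Groth.Agent.Lib.Lead.Pn.isCoh_twist r k (-m)).2
      haveI : (CohB1.tensorMod F (Twist.twistProjSpace r k (-m))).IsQuasicoherent := inferInstance
      have hq : Coh.IsQCoh (Twist.twistBy (CohB1.polyGrading r k) F (-m)) :=
        ‹(CohB1.tensorMod F (Twist.twistProjSpace r k (-m))).IsQuasicoherent›
      exact @Groth.Agent.S0022.result r k _ (Twist.twistBy (CohB1.polyGrading r k) F (-m)) hq i hi'

end Groth.Agent.Lib.Helper17.LocDualVanish
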