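import Groth.Agent.Lib.Helper17.LocColimit
import Mathlib.Algebra.Category.ModuleCat.Localization
import Mathlib.Algebra.Category.ModuleCat.ChangeOfRings
import Mathlib.RingTheory.LocalProperties.Exactness
import Mathlib.Algebra.Homology.ShortComplex.ExactFunctor
import Mathlib.Algebra.Category.ModuleCat.EpiMono

set_option autoImplicit false
universe u

namespace Groth.Agent.Lib.Helper17

open CategoryTheory CategoryTheory.Limits

variable {A : Type u} [CommRing A]

theorem isLocalizedModule_map_of_isLocalizedModule (S : Submonoid A)
    (T : ModuleCat.{u} A ⥤ ModuleCat.{u} A) [T.Additive] [T.Linear A]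
    [PreservesColimitsOfShape (SCat S) T] {M N : ModuleCat.{u} A} (ι : M ⟶ N)
    [IsLocalizedModule S ι.hom] : IsLocalizedModule S (T.map ι).hom := by
  let e : LocalizedModule S M ≃ₗ[A] N := IsLocalizedModule.iso S ι.hom
  let eIso : ModuleCat.of A (LocalizedModule S M) ≅ N := e.toModuleIso
  have hι : ι = ModuleCat.ofHom (LocalizedModule.mkLinearMap S M) ≫ eIso.hom := by
    ext m
    change ι.hom m = e (LocalizedModule.mkLinearMap S M m)
    rw [LocalizedModule.mkLinearMap_apply]
    exact (IsLocalizedModule.iso_mk_one S ι.hom m).symm
  have := isLocalizedModule_map_of_preservesColimitsOfShape S T M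
  rw [hι, T.map_comp]
  exact IsLocalizedModule.of_linearEquiv S _ ((T.mapIso eIso).toLinearEquiv)

section local_exact

variable (S : Submonoid A)

/-- The identity, as a linear equivalence between the localized module and its restriction of
scalars. -/
noncomputable def resEquiv (X : ModuleCat.{u} A) :
    (X.localizedModule S) ≃ₗ[A]
      ((ModuleCat.restrictScalars (algebraMap A (Localization S))).obj (X.localizedModule S)) where
  toFun x := x
  invFun x := x
  map_add' _ _ := rfl
  map_smul' a x := (algebraMap_smul (Localization S) a x).symm
  left_inv _ := rfl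
  right_inv _ := rfl

/-- The localization map, as a morphism to the restriction of scalars of the localization. -/
noncomputable def toRes (X : ModuleCat.{u} A) :
    X ⟶ (ModuleCat.restrictScalars (algebraMap A (Localization S))).obj (X.localizedModule S) :=
  ModuleCat.ofHom (X := X) (Y := ↑((ModuleCat.restrictScalars (algebraMap A (Localization S))).obj
    (X.localizedModule S))) ((resEquiv S X).toLinearMap ∘ₗ X.localizedModuleMkLinearMap S)

instance (X : ModuleCat.{u} A) : IsLocalizedModule S (toRes S X).hom := by
  change IsLocalizedModule S ((resEquiv S X).toLinearMap ∘ₗ X.localizedModuleMkLinearMap S)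
  infer_instance

lemma toRes_naturality {X Y : ModuleCat.{u} A} (φ : X ⟶ Y) :
    toRes S X ≫ (ModuleCat.restrictScalars (algebraMap A (Localization S))).map
      (ModuleCat.localizedModuleMap S φ) = φ ≫ toRes S Y := by
  ext x
  change (IsLocalizedModule.mapExtendScalars S (X.localizedModuleMkLinearMap S)
    (Y.localizedModuleMkLinearMap S) (Localization S) φ.hom)
      (X.localizedModuleMkLinearMap S x) = Y.localizedModuleMkLinearMap S (φ.hom x)
  rw [IsLocalizedModule.mapExtendScalars_apply_apply, IsLocalizedModule.map_apply]

variable (T : ModuleCat.{u} A ⥤ ModuleCat.{u} A) [T.Additive] [T.Linear A]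
  [PreservesColimitsOfShape (SCat S) T]

instance isLocalizedModule_map_toRes (X : ModuleCat.{u} A) :
    IsLocalizedModule S (T.map (toRes S X)).hom :=
  isLocalizedModule_map_of_isLocalizedModule S T (toRes S X)

lemma map_map_toRes {X Y : ModuleCat.{u} A} (φ : X ⟶ Y) :
    IsLocalizedModule.map S (T.map (toRes S X)).hom (T.map (toRes S Y)).hom (T.map φ).hom =
      (T.map ((ModuleCat.restrictScalars (algebraMap A (Localization S))).map
        (ModuleCat.localizedModuleMap S φ))).hom := by
  apply IsLocalizedModule.lift_unique
  rw [← ModuleCat.hom_comp, ← ModuleCat.hom_comp, ← T.map_comp, ← T.map_comp, toRes_naturality]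

end local_exact

section main

variable (T : ModuleCat.{u} A ⥤ ModuleCat.{u} A) [T.Additive] [T.Linear A]
  [∀ S : Submonoid A, PreservesColimitsOfShape (SCat S) T]

theorem preservesFiniteLimits_of_forall_maximal
    (h : ∀ (m : Ideal A) [m.IsMaximal], PreservesFiniteLimits
      (ModuleCat.restrictScalars (algebraMap A (Localization.AtPrime m)) ⋙ T)) :
    PreservesFiniteLimits T := by
  rw [Functor.preservesFiniteLimits_iff_forall_exact_map_and_mono]
  intro S hS
  have key : ∀ (P : Ideal A) [P.IsMaximal],
      Function.Exact
        (IsLocalizedModule.map P.primeCompl (T.map (toRes P.primeCompl S.X₁)).hom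
          (T.map (toRes P.primeCompl S.X₂)).hom (T.map S.f).hom)
        (IsLocalizedModule.map P.primeCompl (T.map (toRes P.primeCompl S.X₂)).hom
          (T.map (toRes P.primeCompl S.X₃)).hom (T.map S.g).hom) ∧
      Function.Injective
        (IsLocalizedModule.map P.primeCompl (T.map (toRes P.primeCompl S.X₁)).hom
          (T.map (toRes P.primeCompl S.X₂)).hom (T.map S.f).hom) := by
    intro P _
    have hS' : (S.map (ModuleCat.localizedModuleFunctor P.primeCompl)).ShortExact :=
      hS.map_of_exact _
    have := (Functor.preservesFiniteLimits_iff_forall_exact_map_and_mono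
      (ModuleCat.restrictScalars (algebraMap A (Localization.AtPrime P)) ⋙ T)).mp (h P) _ hS'
    rw [map_map_toRes, map_map_toRes]
    exact ⟨(ShortComplex.ShortExact.moduleCat_exact_iff_function_exact _).mp this.1,
      (ModuleCat.mono_iff_injective _).mp this.2⟩
  refine ⟨?_, ?_⟩
  · rw [ShortComplex.ShortExact.moduleCat_exact_iff_function_exact]
    refine exact_of_isLocalized_maximal
      (fun P _ => T.obj ((ModuleCat.restrictScalars (algebraMap A (Localization P.primeCompl))).obj
        (S.X₁.localizedModule P.primeCompl)))
      (fun P _ => (T.map (toRes P.primeCompl S.X₁)).hom)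
      (fun P _ => T.obj ((ModuleCat.restrictScalars (algebraMap A (Localization P.primeCompl))).obj
        (S.X₂.localizedModule P.primeCompl)))
      (fun P _ => (T.map (toRes P.primeCompl S.X₂)).hom)
      (fun P _ => T.obj ((ModuleCat.restrictScalars (algebraMap A (Localization P.primeCompl))).obj
        (S.X₃.localizedModule P.primeCompl)))
      (fun P _ => (T.map (toRes P.primeCompl S.X₃)).hom)
      (T.map S.f).hom (T.map S.g).hom ?_
    intro P _
    exact (key P).1
  · rw [ModuleCat.mono_iff_injective]
    refine injective_of_isLocalized_maximal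
      (fun P _ => T.obj ((ModuleCat.restrictScalars (algebraMap A (Localization P.primeCompl))).obj
        (S.X₁.localizedModule P.primeCompl)))
      (fun P _ => (T.map (toRes P.primeCompl S.X₁)).hom)
      (fun P _ => T.obj ((ModuleCat.restrictScalars (algebraMap A (Localization P.primeCompl))).obj
        (S.X₂.localizedModule P.primeCompl)))
      (fun P _ => (T.map (toRes P.primeCompl S.X₂)).hom)
      (T.map S.f).hom ?_
    intro P _
    exact (key P).2

theorem preservesFiniteColimits_of_forall_maximal
    (h : ∀ (m : Ideal A) [m.IsMaximal], PreservesFiniteColimits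
      (ModuleCat.restrictScalars (algebraMap A (Localization.AtPrime m)) ⋙ T)) :
    PreservesFiniteColimits T := by
  rw [Functor.preservesFiniteColimits_iff_forall_exact_map_and_epi]
  intro S hS
  have key : ∀ (P : Ideal A) [P.IsMaximal],
      Function.Exact
        (IsLocalizedModule.map P.primeCompl (T.map (toRes P.primeCompl S.X₁)).hom
          (T.map (toRes P.primeCompl S.X₂)).hom (T.map S.f).hom)
        (IsLocalizedModule.map P.primeCompl (T.map (toRes P.primeCompl S.X₂)).hom
          (T.map (toRes P.primeCompl S.X₃)).hom (T.map S.g).hom) ∧
      Function.Surjective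
        (IsLocalizedModule.map P.primeCompl (T.map (toRes P.primeCompl S.X₂)).hom
          (T.map (toRes P.primeCompl S.X₃)).hom (T.map S.g).hom) := by
    intro P _
    have hS' : (S.map (ModuleCat.localizedModuleFunctor P.primeCompl)).ShortExact :=
      hS.map_of_exact _
    have := (Functor.preservesFiniteColimits_iff_forall_exact_map_and_epi
      (ModuleCat.restrictScalars (algebraMap A (Localization.AtPrime P)) ⋙ T)).mp (h P) _ hS'
    rw [map_map_toRes, map_map_toRes]
    exact ⟨(ShortComplex.ShortExact.moduleCat_exact_iff_function_exact _).mp this.1,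
      (ModuleCat.epi_iff_surjective _).mp this.2⟩
  refine ⟨?_, ?_⟩
  · rw [ShortComplex.ShortExact.moduleCat_exact_iff_function_exact]
    refine exact_of_isLocalized_maximal
      (fun P _ => T.obj ((ModuleCat.restrictScalars (algebraMap A (Localization P.primeCompl))).obj
        (S.X₁.localizedModule P.primeCompl)))
      (fun P _ => (T.map (toRes P.primeCompl S.X₁)).hom)
      (fun P _ => T.obj ((ModuleCat.restrictScalars (algebraMap A (Localization P.primeCompl))).obj
        (S.X₂.localizedModule P.primeCompl)))
      (fun P _ => (T.map (toRes P.primeCompl S.X₂)).hom)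
      (fun P _ => T.obj ((ModuleCat.restrictScalars (algebraMap A (Localization P.primeCompl))).obj
        (S.X₃.localizedModule P.primeCompl)))
      (fun P _ => (T.map (toRes P.primeCompl S.X₃)).hom)
      (T.map S.f).hom (T.map S.g).hom ?_
    intro P _
    exact (key P).1
  · rw [ModuleCat.epi_iff_surjective]
    refine surjective_of_isLocalized_maximal
      (fun P _ => T.obj ((ModuleCat.restrictScalars (algebraMap A (Localization P.primeCompl))).obj
        (S.X₂.localizedModule P.primeCompl)))
      (fun P _ => (T.map (toRes P.primeCompl S.X₂)).hom)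
      (fun P _ => T.obj ((ModuleCat.restrictScalars (algebraMap A (Localization P.primeCompl))).obj
        (S.X₃.localizedModule P.primeCompl)))
      (fun P _ => (T.map (toRes P.primeCompl S.X₃)).hom)
      (T.map S.g).hom ?_
    intro P _
    exact (key P).2

end main

end Groth.Agent.Lib.Helper17
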