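import Mathlib
import Groth.Prelude.Def_ModSite
import Groth.Agent.Lib.Helper17.ModSiteExact

open CategoryTheory CategoryTheory.Limits Opposite

universe u

noncomputable section

namespace Groth.Agent.Lib.Helper17.OverMapLib

open SheafOfModules

variable {C : Type u} [SmallCategory C] {J : GrothendieckTopology C} (R : Sheaf J RingCat.{u})
  {X Y : C} (g : Y ⟶ X)

def overMapCompToSheaf :
    overMap.{u} R g ⋙ toSheaf (R.over Y) ≅
      toSheaf (R.over X) ⋙ (Over.map g).sheafPushforwardContinuous AddCommGrpCat.{u} (J.over Y) (J.over X) :=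
  Iso.refl _

instance pushAb_preservesColimits : PreservesColimitsOfSize.{u, u}
    ((Over.map g).sheafPushforwardContinuous AddCommGrpCat.{u} (J.over Y) (J.over X)) :=
  ((Over.map g).sheafAdjunctionCocontinuous AddCommGrpCat.{u} (J.over Y) (J.over X)).leftAdjoint_preservesColimits

instance overMap_preservesColimits : PreservesColimitsOfSize.{u, u} (overMap.{u} R g) := by
  have hA1 := ModSiteColim.toSheaf_preservesColimits (R.over X)
  have hB1 := ModSiteColim.toSheaf_preservesColimits (R.over Y)
  have rB1 : ReflectsColimitsOfSize.{u, u} (SheafOfModules.toSheaf.{u} (R.over Y)) :=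
    reflectsColimits_of_reflectsIsomorphisms
  have c1 : PreservesColimitsOfSize.{u, u} (overMap.{u} R g ⋙ toSheaf (R.over Y)) :=
    preservesColimits_of_natIso (overMapCompToSheaf R g).symm
  exact preservesColimits_of_reflects_of_preserves _ (SheafOfModules.toSheaf.{u} (R.over Y))

end Groth.Agent.Lib.Helper17.OverMapLib
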