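import Mathlib
import Groth.Prelude.Def_ModSite
import Groth.Agent.Lib.Helper17.FreeOn

open CategoryTheory CategoryTheory.Limits Opposite

universe u

noncomputable section

namespace Groth.Agent.Lib.Helper17.TermSec

open Groth.Agent.Lib.Helper17.FreeOn SheafOfModules

variable {D : Type u} [SmallCategory D] {K : GrothendieckTopology D} {R : Sheaf K RingCat.{u}}
  {T : D} (hT : IsTerminal T)

/-- morphisms out of a free module are families of sections over the terminal object -/
def homFree (M : SheafOfModules.{u} R) {I : Type u} : (free I ⟶ M) ≃ (I → M.val.obj (op T)) :=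
  (freeHomEquiv M).trans (Equiv.piCongrRight fun _ => sectionsEquivOfIsTerminal M.val hT)

lemma homFree_apply (M : SheafOfModules.{u} R) {I : Type u} (f : free I ⟶ M) (i : I) :
    homFree hT M f i = (ιFree i ≫ f).val.app (op T) (1 : R.obj.obj (op T)) := rfl

lemma homFree_comp {M N : SheafOfModules.{u} R} {I : Type u} (f : free I ⟶ M) (p : M ⟶ N) (i : I) :
    homFree hT N (f ≫ p) i = p.val.app (op T) (homFree hT M f i) := rfl

/-- the free sections over the terminal object -/
def fs (I : Type u) (i : I) : (free (R := R) I).val.obj (op T) := homFree hT _ (𝟙 _) i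

lemma homFree_eq {M : SheafOfModules.{u} R} {I : Type u} (f : free I ⟶ M) (i : I) :
    homFree hT M f i = f.val.app (op T) (fs hT I i) := by
  have := homFree_comp hT (𝟙 (free I)) f i
  rwa [Category.id_comp] at this

lemma homFree_symm_fs {M : SheafOfModules.{u} R} {I : Type u} (s : I → M.val.obj (op T)) (i : I) :
    ((homFree hT M).symm s).val.app (op T) (fs hT I i) = s i := by
  rw [← homFree_eq, Equiv.apply_symm_apply]

lemma homFree_comp_of_eq {M : SheafOfModules.{u} R} {I I' : Type u} [Fintype I']
    (f : free I ⟶ free I') (p : free I' ⟶ M) (i : I)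
    (c : I' → R.obj.obj (op T)) (hc : homFree hT _ f i = ∑ k, c k • fs hT I' k) :
    homFree hT M (f ≫ p) i = ∑ k, c k • homFree hT M p k := by
  rw [homFree_comp, hc, map_sum]
  refine Finset.sum_congr rfl fun k _ => ?_
  rw [map_smul, ← homFree_eq]

/-- projection of a free module to a factor -/
def pr (I : Type u) [DecidableEq I] (k : I) : free (R := R) I ⟶ unit R :=
  Cofan.IsColimit.desc (isColimitFreeCofan I) (fun k' => if k' = k then 𝟙 _ else 0)

lemma ιFree_pr (I : Type u) [DecidableEq I] (k k' : I) :
    ιFree (R := R) k' ≫ pr I k = if k' = k then 𝟙 _ else 0 := by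
  have := Cofan.IsColimit.fac (isColimitFreeCofan (R := R) I)
    (fun k' => if k' = k then 𝟙 (unit R) else 0) k'
  exact this

lemma free_hom_ext {I : Type u} {M : SheafOfModules.{u} R} {f g : free I ⟶ M}
    (h : ∀ i, ιFree i ≫ f = ιFree i ≫ g) : f = g :=
  Cofan.IsColimit.hom_ext (isColimitFreeCofan (R := R) I) _ _ h

lemma sum_pr_ιFree (I : Type u) [DecidableEq I] [Fintype I] :
    ∑ k, pr (R := R) I k ≫ ιFree k = 𝟙 _ := by
  refine free_hom_ext fun k' => ?_
  rw [Preadditive.comp_sum, Category.comp_id]
  have : ∀ k, ιFree (R := R) k' ≫ pr I k ≫ ιFree k = if k' = k then ιFree k else 0 := by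
    intro k
    rw [← Category.assoc, ιFree_pr]
    split_ifs <;> simp
  simp_rw [this]
  simp

lemma sum_val_app {M N : SheafOfModules.{u} R} {ι : Type*} (s : Finset ι) (f : ι → (M ⟶ N))
    (X : Dᵒᵖ) (x : M.val.obj X) :
    (∑ i ∈ s, f i).val.app X x = ∑ i ∈ s, (f i).val.app X x := by
  classical
  induction s using Finset.induction_on with
  | empty => rfl
  | insert a s ha ih =>
    rw [Finset.sum_insert ha, Finset.sum_insert ha, ← ih]
    rfl


lemma ιFree_app_one (I : Type u) (k : I) :
    (ιFree (R := R) k).val.app (op T) (1 : R.obj.obj (op T)) = fs hT I k := by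
  show _ = (ιFree k ≫ 𝟙 _).val.app (op T) (1 : R.obj.obj (op T))
  rw [Category.comp_id]

lemma ιFree_app (I : Type u) (k : I) (c : R.obj.obj (op T)) :
    (ιFree (R := R) k).val.app (op T) c = c • fs hT I k := by
  rw [← ιFree_app_one, ← map_smul]
  congr 1
  exact (mul_one c).symm

/-- expansion of a section of a finite free module over the terminal object -/
lemma expand (I : Type u) [DecidableEq I] [Fintype I] (x : (free (R := R) I).val.obj (op T)) :
    x = ∑ k, ((pr I k).val.app (op T) x : R.obj.obj (op T)) • fs hT I k := by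
  have h1 : x = ((SheafOfModules.Hom.val (𝟙 (free (R := R) I))).app (op T)) x := rfl
  rw [← sum_pr_ιFree] at h1
  rw [sum_val_app] at h1
  conv_lhs => rw [h1]
  refine Finset.sum_congr rfl fun k _ => ?_
  exact ιFree_app hT I k _

end Groth.Agent.Lib.Helper17.TermSec
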