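import Mathlib
import Groth.Prelude.Def_ModSite
import Groth.Agent.Lib.Helper17.OverMapLib
import Groth.Agent.Lib.Helper17.TermSec

open CategoryTheory CategoryTheory.Limits Opposite

universe u

noncomputable section

namespace Groth.Agent.Lib.Helper17.OverMapLib

open SheafOfModules TermSec

variable {C : Type u} [SmallCategory C] {J : GrothendieckTopology C} (R : Sheaf J RingCat.{u})
  {X Y : C} (g : Y ⟶ X)

instance overMap_additive : (overMap.{u} R g).Additive where

/-- the terminal object of `Over X` -/
abbrev tX (X : C) : IsTerminal (Over.mk (𝟙 X)) := Over.mkIdTerminal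

/-- the canonical map from the image of the terminal object to the terminal object -/
def tg : (Over.map g).obj (Over.mk (𝟙 Y)) ⟶ Over.mk (𝟙 X) := Over.homMk g (by simp)

/-- the unit iso for overMap -/
abbrev ηg : unit (R.over Y) ≅ (overMap.{u} R g).obj (unit (R.over X)) := (overMapUnitIso g).symm

/-- transport of a map out of a free module -/
def transFree {I : Type u} {M : SheafOfModules.{u} (R.over X)} (p : free I ⟶ M) :
    free (R := R.over Y) I ⟶ (overMap.{u} R g).obj M :=
  (mapFreeIso (overMap.{u} R g) I (ηg R g)).hom ≫ (overMap.{u} R g).map p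

lemma homFree_transFree {I : Type u} {M : SheafOfModules.{u} (R.over X)} (p : free I ⟶ M) (i : I) :
    homFree (tX Y) _ (transFree R g p) i =
      M.val.map (tg g).op (homFree (tX X) M p i) := by
  rw [homFree_apply, homFree_apply]
  unfold transFree
  rw [ιFree_mapFreeIso_hom_assoc, ← Functor.map_comp]
  set q := ιFree i ≫ p with hq
  have hnat := PresheafOfModules.naturality_apply q.val
    (tg g).op (1 : (R.over X).obj.obj (op (Over.mk (𝟙 X))))
  rw [← hnat]
  have h1 : ((unit (R.over X)).val.map (tg g).op)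
      (1 : (R.over X).obj.obj (op (Over.mk (𝟙 X)))) = (1 : (R.over X).obj.obj (op ((Over.map g).obj (Over.mk (𝟙 Y))))) :=
    map_one ((R.over X).obj.map (tg g).op).hom
  rw [h1]
  rfl

/-- the transported relation map -/
def transRel {I I' : Type u} (ρ : free (R := R.over X) I ⟶ free I') :
    free (R := R.over Y) I ⟶ free I' :=
  transFree R g ρ ≫ (mapFreeIso (overMap.{u} R g) I' (ηg R g)).inv

lemma transRel_transFree {I I' : Type u} (ρ : free (R := R.over X) I ⟶ free I')
    {M : SheafOfModules.{u} (R.over X)} (π : free I' ⟶ M) :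
    transRel R g ρ ≫ transFree R g π = transFree R g (ρ ≫ π) := by
  unfold transRel transFree
  simp

lemma epi_transFree {I : Type u} {M : SheafOfModules.{u} (R.over X)} (π : free I ⟶ M) [Epi π] :
    Epi (transFree R g π) := by
  unfold transFree
  infer_instance

lemma exists_desc {I I' : Type u} (ρ : free (R := R.over X) I ⟶ free I')
    {M : SheafOfModules.{u} (R.over X)} (π : free I' ⟶ M) (w : ρ ≫ π = 0)
    (hc : IsColimit (CokernelCofork.ofπ π w)) {N : SheafOfModules.{u} (R.over Y)}
    (a' : free I' ⟶ N) (ha' : transRel R g ρ ≫ a' = 0) :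
    ∃ a : (overMap.{u} R g).obj M ⟶ N, transFree R g π ≫ a = a' := by
  have hc' := CokernelCofork.mapIsColimit _ hc (overMap.{u} R g)
  have h0 : (overMap.{u} R g).map ρ ≫ ((mapFreeIso (overMap.{u} R g) I' (ηg R g)).inv ≫ a') = 0 := by
    have : (overMap.{u} R g).map ρ ≫ ((mapFreeIso (overMap.{u} R g) I' (ηg R g)).inv ≫ a') =
        (mapFreeIso (overMap.{u} R g) I (ηg R g)).inv ≫ transRel R g ρ ≫ a' := by
      unfold transRel transFree
      simp
    rw [this, ha', comp_zero]
  refine ⟨hc'.desc (CokernelCofork.ofπ _ h0), ?_⟩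
  have h1 := hc'.fac (CokernelCofork.ofπ _ h0) WalkingParallelPair.one
  unfold transFree
  rw [Category.assoc]
  erw [h1]
  simp

/-- restriction of ring sections from the terminal object of `Over X` to that of `Over Y` -/
def resT : (R.over X).obj.obj (op (Over.mk (𝟙 X))) →+* (R.over Y).obj.obj (op (Over.mk (𝟙 Y))) :=
  ((R.over X).obj.map (tg g).op).hom

lemma resT_eq (c : R.obj.obj (op X)) : resT R g c = (R.obj.map g.op).hom c := rfl

lemma map_fs (I : Type u) (k : I) :
    (free (R := R.over X) I).val.map (tg g).op (fs (tX X) I k) =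
      (mapFreeIso (overMap.{u} R g) I (ηg R g)).hom.val.app (op (Over.mk (𝟙 Y))) (fs (tX Y) I k) := by
  have h1 := homFree_transFree R g (𝟙 (free (R := R.over X) I)) k
  rw [← homFree_eq]
  unfold fs
  rw [← h1]
  unfold transFree
  rw [CategoryTheory.Functor.map_id, Category.comp_id]

/-- the comparison map on sections of a free module over the terminal objects -/
def Φ (I' : Type u) : (free (R := R.over X) I').val.obj (op (Over.mk (𝟙 X))) →+
    (free (R := R.over Y) I').val.obj (op (Over.mk (𝟙 Y))) :=
  AddMonoidHom.comp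
    ((mapFreeIso (overMap.{u} R g) I' (ηg R g)).inv.val.app (op (Over.mk (𝟙 Y)))).hom.toAddMonoidHom
    ((free (R := R.over X) I').val.map (tg g).op).hom.toAddMonoidHom

lemma Φ_apply (I' : Type u) (x : (free (R := R.over X) I').val.obj (op (Over.mk (𝟙 X)))) :
    Φ R g I' x = (mapFreeIso (overMap.{u} R g) I' (ηg R g)).inv.val.app (op (Over.mk (𝟙 Y)))
      ((free (R := R.over X) I').val.map (tg g).op x) := rfl

lemma Φ_fs (I' : Type u) (k : I') : Φ R g I' (fs (tX X) I' k) = fs (tX Y) I' k := by
  rw [Φ_apply, map_fs]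
  have := congrArg (fun f => f.val.app (op (Over.mk (𝟙 Y))) (fs (tX Y) I' k))
    (mapFreeIso (overMap.{u} R g) I' (ηg R g)).hom_inv_id
  exact this

lemma Φ_smul (I' : Type u) (c : (R.over X).obj.obj (op (Over.mk (𝟙 X))))
    (x : (free (R := R.over X) I').val.obj (op (Over.mk (𝟙 X)))) :
    Φ R g I' (c • x) = resT R g c • Φ R g I' x := by
  rw [Φ_apply, Φ_apply, PresheafOfModules.map_smul]
  exact map_smul ((mapFreeIso (overMap.{u} R g) I' (ηg R g)).inv.val.app (op (Over.mk (𝟙 Y)))).hom
    (resT R g c) _

lemma homFree_transRel {I I' : Type u} [Fintype I'] (ρ : free (R := R.over X) I ⟶ free I') (r : I)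
    (c : I' → (R.over X).obj.obj (op (Over.mk (𝟙 X))))
    (hc : homFree (tX X) _ ρ r = ∑ k, c k • fs (tX X) I' k) :
    homFree (tX Y) _ (transRel R g ρ) r = ∑ k, resT R g (c k) • fs (tX Y) I' k := by
  have h1 : homFree (tX Y) _ (transRel R g ρ) r = Φ R g I' (homFree (tX X) _ ρ r) := by
    unfold transRel
    rw [homFree_comp, homFree_transFree]
    rfl
  rw [h1, hc, map_sum]
  refine Finset.sum_congr rfl fun k _ => ?_
  rw [Φ_smul, Φ_fs]

end Groth.Agent.Lib.Helper17.OverMapLib
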