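import Mathlib
import Groth.Prelude.Def_ModSite
import Groth.Agent.Lib.Helper17.OverMapTrans
import Groth.Agent.Lib.Helper17.EqCrit2

open CategoryTheory CategoryTheory.Limits Opposite

universe u

noncomputable section

namespace Groth.Agent.Lib.Helper17.LocalFactor

open SheafOfModules TermSec OverMapLib Groth.Agent.Lib.Helper17.IHom Groth.Agent.Lib.Helper17.EqCrit

variable {C : Type u} [SmallCategory C] {J : GrothendieckTopology C} {O : Sheaf J CommRingCat.{u}}

lemma homFree_zero {D : Type u} [SmallCategory D] {K : GrothendieckTopology D} {R : Sheaf K RingCat.{u}}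
  {T : D} (hT : IsTerminal T) (M : SheafOfModules.{u} R) {I : Type u} (i : I) :
    homFree hT M (0 : free I ⟶ M) i = 0 := by
  rw [homFree_apply, comp_zero]
  rfl

/-- the key step on one member of the covering -/
theorem key (F H : ModSite.Mod O) (hH : EC H) (φ : F ⟶ H) (X : C)
    (P : (F.over X).Presentation) [P.IsFinite] :
    ∃ S ∈ J X, ∀ ⦃W : C⦄ (g : W ⟶ X), S g →
      ∃ (n : ℕ) (a : (ModSite.restr O W).obj F ⟶ SheafOfModules.free (ULift.{u} (Fin n)))
        (b : SheafOfModules.free (ULift.{u} (Fin n)) ⟶ (ModSite.restr O W).obj H),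
        a ≫ b = (ModSite.restr O W).map φ := by
  classical
  have : Finite P.generators.I := GeneratingSections.IsFiniteType.finite
  have : Finite P.relations.I := GeneratingSections.IsFiniteType.finite
  have := Fintype.ofFinite P.generators.I
  have := Fintype.ofFinite P.relations.I
  let R := ModSite.ringSh O
  let π : free P.generators.I ⟶ F.over X := P.generators.π
  let ρ : free P.relations.I ⟶ free P.generators.I :=
    (freeHomEquiv _).symm P.relations.s ≫ kernel.ι _
  have w : ρ ≫ π = 0 := by simp [ρ, π]
  have hc : IsColimit (CokernelCofork.ofπ π w) := P.isColimit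
  let φ' : F.over X ⟶ H.over X := (ModSite.restr O X).map φ
  let A : P.relations.I → P.generators.I → (R.over X).obj.obj (op (Over.mk (𝟙 X))) := fun r k =>
    (pr P.generators.I k).val.app (op (Over.mk (𝟙 X))) (homFree (tX X) _ ρ r)
  have hA : ∀ r, homFree (tX X) _ ρ r = ∑ k, A r k • fs (tX X) _ k := fun r =>
    expand (tX X) _ _
  let h : P.generators.I → (H.over X).val.obj (op (Over.mk (𝟙 X))) := fun k =>
    homFree (tX X) _ (π ≫ φ') k
  have hrel : ∀ r, ∑ k, A r k • h k = 0 := by
    intro r
    have := homFree_comp_of_eq (tX X) ρ (π ≫ φ') r (A r) (hA r)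
    rw [← this, ← Category.assoc, w, zero_comp, homFree_zero]
  let eg := Fintype.equivFin P.generators.I
  let er := Fintype.equivFin P.relations.I
  let b : Fin (Fintype.card P.relations.I) → Fin (Fintype.card P.generators.I) → O.obj.obj (op X) :=
    fun i j => A (er.symm i) (eg.symm j)
  let z : Fin (Fintype.card P.generators.I) → (toPMod H).obj (op X) := fun j => h (eg.symm j)
  have hb : ∀ i, ∑ j, b i j • z j = 0 := by
    intro i
    have := hrel (er.symm i)
    rw [← Equiv.sum_comp eg.symm] at this
    exact this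
  obtain ⟨S, hS, HS⟩ := ec_multi hH _ X _ b z hb
  refine ⟨S, hS, ?_⟩
  intro W g hg
  obtain ⟨l, v, e, hv, he⟩ := HS g hg
  let G := overMap.{u} R g
  let π' : free P.generators.I ⟶ G.obj (F.over X) := transFree R g π
  let ρ' : free (R := R.over W) P.relations.I ⟶ free P.generators.I := transRel R g ρ
  let e' : P.generators.I → Fin l → (R.over W).obj.obj (op (Over.mk (𝟙 W))) := fun k p => e (eg k) p
  let ã : free (R := R.over W) P.generators.I ⟶ free (ULift.{u} (Fin l)) :=
    (homFree (tX W) _).symm (fun k => ∑ p, e' k p • fs (tX W) _ (ULift.up p))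
  let b' : free (ULift.{u} (Fin l)) ⟶ H.over W := (homFree (tX W) _).symm (fun p => v p.down)
  have hmat : ∀ r p, ∑ k, resT R g (A r k) * e' k p = 0 := by
    intro r p
    have h0 := he (er r) p
    rw [← Equiv.sum_comp eg] at h0
    simp only [b, Equiv.symm_apply_apply] at h0
    refine Eq.trans (Finset.sum_congr rfl fun k _ => ?_) h0
    exact mul_comm (G := O.obj.obj (op W)) _ _
  have h1 : ρ' ≫ ã = 0 := by
    apply (homFree (tX W) _).injective
    funext r
    rw [homFree_comp_of_eq (tX W) ρ' ã r _ (homFree_transRel R g ρ r (A r) (hA r))]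
    simp only [ã, Equiv.apply_symm_apply]
    rw [homFree_zero]
    simp_rw [Finset.smul_sum, smul_smul]
    rw [Finset.sum_comm]
    simp_rw [← Finset.sum_smul, hmat, zero_smul]
    simp
  obtain ⟨a₀, ha₀⟩ := exists_desc R g ρ π w hc ã h1
  have : Epi π := epi_of_isColimit_cofork hc
  have hepi : Epi π' := epi_transFree R g π
  suffices hmain : ∃ (a : (overFunctor R W).obj F ⟶ free (R := R.over W) (ULift.{u} (Fin l)))
      (b : free (R := R.over W) (ULift.{u} (Fin l)) ⟶ (overFunctor R W).obj H),
      a ≫ b = (overFunctor R W).map φ by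
    obtain ⟨a, b, hab⟩ := hmain
    exact ⟨l, a, b, hab⟩
  refine ⟨(overFunctorMap R g).inv.app F ≫ a₀, b', ?_⟩
  rw [← cancel_epi ((overFunctorMap R g).hom.app F), ← cancel_epi π']
  have e1 : π' ≫ (overFunctorMap R g).hom.app F ≫ ((overFunctorMap R g).inv.app F ≫ a₀) ≫ b' = ã ≫ b' := by
    rw [Category.assoc, Iso.hom_inv_id_app_assoc, ← Category.assoc, ha₀]
  have e2 : π' ≫ (overFunctorMap R g).hom.app F ≫ (overFunctor R W).map φ =
      transFree R g (π ≫ φ') ≫ (overFunctorMap R g).hom.app H := by
    have hn := (overFunctorMap R g).hom.naturality φ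
    rw [← hn]
    simp only [π', transFree, Category.assoc, Functor.comp_map, Functor.map_comp]
    rfl
  rw [e1, e2]
  apply (homFree (tX W) _).injective
  funext k
  rw [homFree_comp, homFree_comp, homFree_transFree]
  simp only [ã, b', Equiv.apply_symm_apply]
  rw [map_sum]
  simp_rw [map_smul, homFree_symm_fs]
  have := hv (eg k)
  simp only [z, Equiv.symm_apply_apply] at this
  exact this.symm

end Groth.Agent.Lib.Helper17.LocalFactor
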