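import Groth.Agent.Lib.Helper17.MVAbs

/-!
# Dual Mayer–Vietoris (for left adjoints)
-/

set_option autoImplicit false
universe v u

open CategoryTheory Limits

namespace Groth.Agent.Lib.Helper17.MVDual

open Groth.Agent.Lib.Helper17.MVAbs

section crit

variable {C : Type u} [Category.{v} C] [Abelian C] [EnoughInjectives C]

lemma eq_zero_of_mono_eq_zero {A B : C} (i : A ⟶ B) [Mono i] (h : i = 0) {T : C} (x : T ⟶ A) :
    x = 0 := by
  rw [← cancel_mono i, h, comp_zero, zero_comp]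

/-- short exactness can be tested by mapping into injective objects. -/
lemma shortExact_of_hom_injective (S : ShortComplex C)
    (h1 : ∀ (N : C), Injective N → ∀ χ : S.X₃ ⟶ N, S.g ≫ χ = 0 → χ = 0)
    (h2 : ∀ (N : C), Injective N → ∀ ψ : S.X₂ ⟶ N, S.f ≫ ψ = 0 → ∃ χ : S.X₃ ⟶ N, ψ = S.g ≫ χ)
    (h3 : ∀ (N : C), Injective N → ∀ φ : S.X₁ ⟶ N, ∃ ψ : S.X₂ ⟶ N, S.f ≫ ψ = φ) :
    S.ShortExact := by
  have hepi : Epi S.g := by
    apply Abelian.epi_of_cokernel_π_eq_zero
    have := h1 (Injective.under (cokernel S.g)) inferInstance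
      (cokernel.π S.g ≫ Injective.ι _) (by rw [cokernel.condition_assoc, zero_comp])
    rw [← cancel_mono (Injective.ι (cokernel S.g)), this, zero_comp]
  have hmono : Mono S.f := by
    apply Abelian.mono_of_kernel_ι_eq_zero
    let i := Injective.ι (kernel S.f)
    obtain ⟨ψ, hψ⟩ := h3 _ inferInstance (Injective.factorThru i (kernel.ι S.f))
    have hi : i = 0 := by
      rw [← Injective.comp_factorThru i (kernel.ι S.f), ← hψ, kernel.condition_assoc, zero_comp]
    have := eq_zero_of_mono_eq_zero i hi (𝟙 (kernel S.f))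
    rw [← Category.id_comp (kernel.ι S.f), this, zero_comp]
  have hex : S.Exact := by
    rw [ShortComplex.exact_iff_mono_cokernel_desc]
    apply Abelian.mono_of_kernel_ι_eq_zero
    set g' := cokernel.desc S.f S.g S.zero
    let i := Injective.ι (kernel g')
    let ψ0 := Injective.factorThru i (kernel.ι g')
    obtain ⟨χ, hχ⟩ := h2 _ inferInstance (cokernel.π S.f ≫ ψ0)
      (by rw [cokernel.condition_assoc, zero_comp])
    have h0 : ψ0 = g' ≫ χ := by
      rw [← cancel_epi (cokernel.π S.f), hχ, cokernel.π_desc_assoc]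
    have hi : i = 0 := by
      rw [← Injective.comp_factorThru i (kernel.ι g')]
      show kernel.ι g' ≫ ψ0 = 0
      rw [h0, kernel.condition_assoc, zero_comp]
    have := eq_zero_of_mono_eq_zero i hi (𝟙 (kernel g'))
    rw [← Category.id_comp (kernel.ι g'), this, zero_comp]
  exact { exact := hex, mono_f := hmono, epi_g := hepi }

end crit

section mates

variable {C : Type u} [Category.{v} C] {D : Type*} [Category D]
  {L₁ L₂ : C ⥤ D} {R₁ R₂ : D ⥤ C} (adj₁ : L₁ ⊣ R₁) (adj₂ : L₂ ⊣ R₂)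

lemma homEquiv_mate (α : R₁ ⟶ R₂) {M : C} {N : D} (f : L₁.obj M ⟶ N) :
    adj₂.homEquiv M N (((conjugateEquiv adj₁ adj₂).symm α).app M ≫ f) =
      adj₁.homEquiv M N f ≫ α.app N := by
  rw [Adjunction.homEquiv_unit, Adjunction.homEquiv_unit, Functor.map_comp, ← Category.assoc,
    ← unit_conjugateEquiv_symm, Category.assoc, Category.assoc, α.naturality]

end mates

section dual

variable {C : Type u} [Category.{v} C] [Abelian C] [EnoughInjectives C]
  {Φ0 Φ1 Φ2 Φ12 L0 L1 L2 L12 : C ⥤ C}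
  [Φ0.Additive] [Φ1.Additive] [Φ2.Additive] [Φ12.Additive]
  [L0.Additive] [L1.Additive] [L2.Additive] [L12.Additive]
  (adj0 : L0 ⊣ Φ0) (adj1 : L1 ⊣ Φ1) (adj2 : L2 ⊣ Φ2) (adj12 : L12 ⊣ Φ12)
  (r1 : Φ0 ⟶ Φ1) (r2 : Φ0 ⟶ Φ2) (s1 : Φ1 ⟶ Φ12) (s2 : Φ2 ⟶ Φ12) (w : r1 ≫ s1 = r2 ≫ s2)

include w in
lemma mate_w : (conjugateEquiv adj1 adj12).symm s1 ≫ (conjugateEquiv adj0 adj1).symm r1 =
    (conjugateEquiv adj2 adj12).symm s2 ≫ (conjugateEquiv adj0 adj2).symm r2 := by
  rw [conjugateEquiv_symm_comp, conjugateEquiv_symm_comp, w]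

lemma homEquiv_add' {L R : C ⥤ C} [R.Additive] (adj : L ⊣ R) {M N : C} (f g : L.obj M ⟶ N) :
    adj.homEquiv M N (f + g) = adj.homEquiv M N f + adj.homEquiv M N g := by
  rw [Adjunction.homEquiv_unit, Adjunction.homEquiv_unit, Adjunction.homEquiv_unit,
    Functor.map_add, Preadditive.comp_add]

lemma homEquiv_neg' {L R : C ⥤ C} [R.Additive] (adj : L ⊣ R) {M N : C} (f : L.obj M ⟶ N) :
    adj.homEquiv M N (-f) = -adj.homEquiv M N f := by
  rw [Adjunction.homEquiv_unit, Adjunction.homEquiv_unit, Functor.map_neg, Preadditive.comp_neg]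

lemma homEquiv_zero' {L R : C ⥤ C} [R.Additive] (adj : L ⊣ R) {M N : C} :
    adj.homEquiv M N (0 : L.obj M ⟶ N) = 0 := by
  rw [Adjunction.homEquiv_unit, Functor.map_zero, comp_zero]

/-- **dual Mayer–Vietoris**: the sequence of left adjoints is short exact. -/
theorem mvObj_dual_shortExact
    (h : ∀ N : C, Injective N → (mvObj r1 r2 s1 s2 w N).ShortExact)
    (hinj : ∀ N : C, Injective N → Injective (Φ0.obj N)) (M : C) :
    (mvObj ((conjugateEquiv adj1 adj12).symm s1) ((conjugateEquiv adj2 adj12).symm s2)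
      ((conjugateEquiv adj0 adj1).symm r1) ((conjugateEquiv adj0 adj2).symm r2)
      (mate_w adj0 adj1 adj2 adj12 r1 r2 s1 s2 w) M).ShortExact := by
  set a1 := (conjugateEquiv adj1 adj12).symm s1
  set a2 := (conjugateEquiv adj2 adj12).symm s2
  set b1 := (conjugateEquiv adj0 adj1).symm r1
  set b2 := (conjugateEquiv adj0 adj2).symm r2
  apply shortExact_of_hom_injective
  · -- injectivity
    intro N hN χ0 hχ
    let χ : L0.obj M ⟶ N := χ0
    show χ = 0
    have hS := h N hN
    haveI : Mono (biprod.lift (r1.app N) (r2.app N)) := hS.mono_f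
    have hχ' : biprod.desc (b1.app M) (-(b2.app M)) ≫ χ = 0 := hχ
    have e1 : b1.app M ≫ χ = 0 := by
      have := congrArg (fun t => biprod.inl ≫ t) hχ'
      simpa using this
    have e2 : b2.app M ≫ χ = 0 := by
      have := congrArg (fun t => biprod.inr ≫ t) hχ'
      simpa using this
    have f1 := homEquiv_mate adj0 adj1 r1 χ
    have f2 := homEquiv_mate adj0 adj2 r2 χ
    rw [show ((conjugateEquiv adj0 adj1).symm r1).app M ≫ χ = 0 from e1, homEquiv_zero'] at f1
    rw [show ((conjugateEquiv adj0 adj2).symm r2).app M ≫ χ = 0 from e2, homEquiv_zero'] at f2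
    have : adj0.homEquiv M N χ ≫ biprod.lift (r1.app N) (r2.app N) = 0 := by
      apply biprod.hom_ext
      · rw [Category.assoc, biprod.lift_fst, zero_comp, ← f1]
      · rw [Category.assoc, biprod.lift_snd, zero_comp, ← f2]
    have h0 : adj0.homEquiv M N χ = 0 := by
      rw [← cancel_mono (biprod.lift (r1.app N) (r2.app N)), this, zero_comp]
    have := congrArg (adj0.homEquiv M N).symm h0
    rw [Equiv.symm_apply_apply] at this
    rw [this, ← homEquiv_zero' adj0 (M := M) (N := N), Equiv.symm_apply_apply]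
  · -- exactness in the middle
    intro N hN ψ0 hψ
    let ψ : L1.obj M ⊞ L2.obj M ⟶ N := ψ0
    show ∃ χ : L0.obj M ⟶ N, ψ = biprod.desc (b1.app M) (-(b2.app M)) ≫ χ
    have hS := h N hN
    haveI := hS.mono_f
    set ψ1 : L1.obj M ⟶ N := biprod.inl ≫ ψ
    set ψ2 : L2.obj M ⟶ N := biprod.inr ≫ ψ
    have hψ' : biprod.lift (a1.app M) (a2.app M) ≫ ψ = 0 := hψ
    have hdec : ψ = biprod.desc ψ1 ψ2 := by
      apply biprod.hom_ext' <;> simp [ψ1, ψ2]
    have e : a1.app M ≫ ψ1 + a2.app M ≫ ψ2 = 0 := by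
      rw [← hψ', hdec, biprod.lift_desc]
    have f1 := homEquiv_mate adj1 adj12 s1 ψ1
    have f2 := homEquiv_mate adj2 adj12 s2 ψ2
    have e' : adj1.homEquiv M N ψ1 ≫ s1.app N + adj2.homEquiv M N ψ2 ≫ s2.app N = 0 := by
      rw [← f1, ← f2, ← homEquiv_add', ← homEquiv_zero' adj12 (M := M) (N := N)]
      exact congrArg _ e
    -- lift through the kernel
    have hz : biprod.lift (adj1.homEquiv M N ψ1) (-(adj2.homEquiv M N ψ2)) ≫
        (mvObj r1 r2 s1 s2 w N).g = 0 := by
      show biprod.lift (adj1.homEquiv M N ψ1) (-(adj2.homEquiv M N ψ2)) ≫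
        biprod.desc (s1.app N) (-(s2.app N)) = 0
      rw [biprod.lift_desc]
      simpa using e'
    let χ' : M ⟶ Φ0.obj N := hS.exact.lift _ hz
    have hχ' : χ' ≫ biprod.lift (r1.app N) (r2.app N) =
        biprod.lift (adj1.homEquiv M N ψ1) (-(adj2.homEquiv M N ψ2)) := hS.exact.lift_f _ hz
    have g1 : χ' ≫ r1.app N = adj1.homEquiv M N ψ1 := by
      have := congrArg (fun t => t ≫ biprod.fst) hχ'
      simpa using this
    have g2 : χ' ≫ r2.app N = -(adj2.homEquiv M N ψ2) := by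
      have := congrArg (fun t => t ≫ biprod.snd) hχ'
      simpa using this
    refine ⟨(adj0.homEquiv M N).symm χ', ?_⟩
    rw [hdec]
    apply biprod.hom_ext'
    · rw [biprod.inl_desc, biprod.inl_desc_assoc]
      apply (adj1.homEquiv M N).injective
      rw [homEquiv_mate adj0 adj1 r1, Equiv.apply_symm_apply, g1]
    · rw [biprod.inr_desc, biprod.inr_desc_assoc, Preadditive.neg_comp]
      apply (adj2.homEquiv M N).injective
      rw [homEquiv_neg', homEquiv_mate adj0 adj2 r2, Equiv.apply_symm_apply, g2, neg_neg]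
  · -- surjectivity
    intro N hN φ0
    let φ : L12.obj M ⟶ N := φ0
    show ∃ ψ : L1.obj M ⊞ L2.obj M ⟶ N, biprod.lift (a1.app M) (a2.app M) ≫ ψ = φ
    have hS := h N hN
    haveI : Injective (mvObj r1 r2 s1 s2 w N).X₁ := hinj N hN
    let σ := hS.splittingOfInjective
    let φ' := adj12.homEquiv M N φ
    -- lift φ' through the split epi
    let σs : Φ12.obj N ⟶ Φ1.obj N ⊞ Φ2.obj N := σ.s
    have hσ : σs ≫ biprod.desc (s1.app N) (-(s2.app N)) = 𝟙 _ := σ.s_g
    let t : M ⟶ Φ1.obj N ⊞ Φ2.obj N := φ' ≫ σs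
    have ht : t ≫ biprod.desc (s1.app N) (-(s2.app N)) = φ' := by
      show (φ' ≫ σs) ≫ biprod.desc (s1.app N) (-(s2.app N)) = φ'
      rw [Category.assoc, hσ, Category.comp_id]
    let t1 : M ⟶ Φ1.obj N := t ≫ biprod.fst
    let t2 : M ⟶ Φ2.obj N := t ≫ biprod.snd
    have ht' : t1 ≫ s1.app N - t2 ≫ s2.app N = φ' := by
      rw [← ht]
      have : t = biprod.lift t1 t2 := by
        apply biprod.hom_ext <;> simp [t1, t2]
      rw [this, biprod.lift_desc]
      simp [sub_eq_add_neg]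
    refine ⟨biprod.desc ((adj1.homEquiv M N).symm t1) (-(adj2.homEquiv M N).symm t2), ?_⟩
    rw [biprod.lift_desc]
    apply (adj12.homEquiv M N).injective
    rw [homEquiv_add', Preadditive.comp_neg, homEquiv_neg', homEquiv_mate adj1 adj12 s1,
      homEquiv_mate adj2 adj12 s2, Equiv.apply_symm_apply, Equiv.apply_symm_apply,
      ← sub_eq_add_neg]
    exact ht'

end dual

end Groth.Agent.Lib.Helper17.MVDual
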