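import Groth.Agent.Lib.Helper17.MVTri
import Groth.Agent.Lib.Helper17.RestrKInj
import Groth.Agent.Lib.Helper17.PushCoh2
import Groth.Agent.Lib.Helper17.KInjRes
import Groth.Prelude.Def_DCoh3

/-!
# Mayer–Vietoris triangles for `R f_*`
-/

set_option autoImplicit false
universe u

open CategoryTheory Limits Opposite AlgebraicGeometry TopologicalSpace CochainComplex Pretriangulated

attribute [local instance] HasDerivedCategory.standard

namespace Groth.Agent.Lib.Helper17.MVRpush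

open Groth.Agent.Lib.Helper17.SecFun Groth.Agent.Lib.Helper17.MVAbs Groth.Agent.Lib.Helper17.MVTri
open Groth.Agent.Lib.Helper17.PushCoh Groth.Agent.Lib.Helper17.PushCoh2
open Groth.Agent.Lib.Helper17.RestrKInj

variable {X Y : Scheme.{u}}

/-- a K-injective representative with injective terms. -/
lemma exists_kinj_inj (E : DCoh.D X) :
    ∃ (I : CochainComplex X.Modules ℤ), I.IsKInjective ∧ (∀ n, Injective (I.X n)) ∧
      Nonempty (E ≅ DerivedCategory.Q.obj I) := by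
  let M := (DerivedCategory.Q (C := X.Modules)).objPreimage E
  let e0 : DerivedCategory.Q.obj M ≅ E := (DerivedCategory.Q (C := X.Modules)).objObjPreimageIso E
  obtain ⟨I, φ, hI, hφ, -, hinj⟩ := Groth.Agent.Lib.Helper17.KInjRes.exists_kInjective_resolution M
  haveI := hφ
  haveI : IsIso (DerivedCategory.Q.map φ) := (DerivedCategory.isIso_Q_map_iff_quasiIso _ _).2 hφ
  exact ⟨I, hI, hinj, ⟨e0.symm ≪≫ asIso (DerivedCategory.Q.map φ)⟩⟩

/-- `R(f ∘ j)_* (E|_W) ≅ Q(f_* j_* j^* I)`. -/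
noncomputable def pieceIso (f : X ⟶ Y) (W : X.Opens) [DCoh.HasRpush (W.ι ≫ f)] (E : DCoh.D X)
    (I : CochainComplex X.Modules ℤ) [I.IsKInjective] (e : E ≅ DerivedCategory.Q.obj I) :
    (DCoh.Rpush (W.ι ≫ f)).obj ((DCoh.restrictD W.ι).obj E) ≅
      DerivedCategory.Q.obj (Cx (ZClos.resPush W ⋙ Scheme.Modules.pushforward f) I) :=
  (DCoh.Rpush (W.ι ≫ f)).mapIso ((DCoh.restrictD W.ι).mapIso e ≪≫
      ((Scheme.Modules.restrictFunctor W.ι).mapDerivedCategoryFactors).app I) ≪≫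
    RpushIso (W.ι ≫ f) (Cx (Scheme.Modules.restrictFunctor W.ι) I) ≪≫
    DerivedCategory.Q.mapIso ((NatIso.mapHomologicalComplex
      (Functor.isoWhiskerLeft (Scheme.Modules.restrictFunctor W.ι)
        (Scheme.Modules.pushforwardComp W.ι f).symm) (ComplexShape.up ℤ)).app I)

/-- **Mayer–Vietoris for `R f_*`.** -/
theorem mv_Rpush (f : X ⟶ Y) (U V : X.Opens) (hUV : U ⊔ V = ⊤)
    [DCoh.HasRpush f] [DCoh.HasRpush (U.ι ≫ f)] [DCoh.HasRpush (V.ι ≫ f)]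
    [DCoh.HasRpush ((U ⊓ V).ι ≫ f)] (E : DCoh.D X) :
    ∃ (a : (DCoh.Rpush f).obj E ⟶ ((DCoh.Rpush (U.ι ≫ f)).obj ((DCoh.restrictD U.ι).obj E) ⊞
        (DCoh.Rpush (V.ι ≫ f)).obj ((DCoh.restrictD V.ι).obj E)))
      (b : ((DCoh.Rpush (U.ι ≫ f)).obj ((DCoh.restrictD U.ι).obj E) ⊞
        (DCoh.Rpush (V.ι ≫ f)).obj ((DCoh.restrictD V.ι).obj E)) ⟶
          (DCoh.Rpush ((U ⊓ V).ι ≫ f)).obj ((DCoh.restrictD (U ⊓ V).ι).obj E))
      (c : (DCoh.Rpush ((U ⊓ V).ι ≫ f)).obj ((DCoh.restrictD (U ⊓ V).ι).obj E) ⟶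
        ((DCoh.Rpush f).obj E)⟦(1 : ℤ)⟧),
      Triangle.mk a b c ∈ distTriang (DCoh.D Y) := by
  obtain ⟨I, hI, hinj, ⟨e⟩⟩ := exists_kinj_inj E
  haveI := hI
  obtain ⟨a, b, c, hT⟩ := mv_triangle (Scheme.Modules.pushforward f) (SecData.push f) U V hUV I hinj
  exact exists_triangle_of_isos _ hT
    ((RpushIso f I).symm ≪≫ (DCoh.Rpush f).mapIso e.symm)
    (biprod.mapIso (pieceIso f U E I e).symm (pieceIso f V E I e).symm)
    (pieceIso f (U ⊓ V) E I e).symm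

/-- `Rj_* (E|_W) ≅ Q(j_* j^* I)`. -/
noncomputable def pieceIso' (W : X.Opens) [DCoh.HasRpush W.ι] (E : DCoh.D X)
    (I : CochainComplex X.Modules ℤ) [I.IsKInjective] (e : E ≅ DerivedCategory.Q.obj I) :
    (DCoh.Rpush W.ι).obj ((DCoh.restrictD W.ι).obj E) ≅
      DerivedCategory.Q.obj (Cx (ZClos.resPush W ⋙ 𝟭 X.Modules) I) :=
  (DCoh.Rpush W.ι).mapIso ((DCoh.restrictD W.ι).mapIso e ≪≫
      ((Scheme.Modules.restrictFunctor W.ι).mapDerivedCategoryFactors).app I) ≪≫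
    RpushIso W.ι (Cx (Scheme.Modules.restrictFunctor W.ι) I)

/-- **Mayer–Vietoris for an object of `D(O_X)`.** -/
theorem mv_id (U V : X.Opens) (hUV : U ⊔ V = ⊤)
    [DCoh.HasRpush U.ι] [DCoh.HasRpush V.ι] [DCoh.HasRpush (U ⊓ V).ι] (E : DCoh.D X) :
    ∃ (a : E ⟶ ((DCoh.Rpush U.ι).obj ((DCoh.restrictD U.ι).obj E) ⊞
        (DCoh.Rpush V.ι).obj ((DCoh.restrictD V.ι).obj E)))
      (b : ((DCoh.Rpush U.ι).obj ((DCoh.restrictD U.ι).obj E) ⊞
        (DCoh.Rpush V.ι).obj ((DCoh.restrictD V.ι).obj E)) ⟶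
          (DCoh.Rpush (U ⊓ V).ι).obj ((DCoh.restrictD (U ⊓ V).ι).obj E))
      (c : (DCoh.Rpush (U ⊓ V).ι).obj ((DCoh.restrictD (U ⊓ V).ι).obj E) ⟶ E⟦(1 : ℤ)⟧),
      Triangle.mk a b c ∈ distTriang (DCoh.D X) := by
  obtain ⟨I, hI, hinj, ⟨e⟩⟩ := exists_kinj_inj E
  haveI := hI
  obtain ⟨a, b, c, hT⟩ := mv_triangle (𝟭 X.Modules) (SecData.id X) U V hUV I hinj
  have e₁ : DerivedCategory.Q.obj (Cx (𝟭 X.Modules ⋙ 𝟭 X.Modules) I) ≅ E :=
    DerivedCategory.Q.mapIso (HomologicalComplex.Hom.isoOfComponents (fun n => Iso.refl _)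
      (by
        intro i j _
        simp)) ≪≫ e.symm
  exact exists_triangle_of_isos _ hT e₁
    (biprod.mapIso (pieceIso' U E I e).symm (pieceIso' V E I e).symm)
    (pieceIso' (U ⊓ V) E I e).symm

end Groth.Agent.Lib.Helper17.MVRpush
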