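import Groth.Agent.Lib.Helper17.SecComp

/-!
# The Mayer–Vietoris distinguished triangle
-/

set_option autoImplicit false
universe v u v' u'

open CategoryTheory Limits Opposite AlgebraicGeometry TopologicalSpace CochainComplex Pretriangulated

attribute [local instance] HasDerivedCategory.standard

namespace Groth.Agent.Lib.Helper17.MVTri

open Groth.Agent.Lib.Helper17.SecFun Groth.Agent.Lib.Helper17.MVAbs

section transport

variable {C : Type u} [Category.{v} C] [HasZeroObject C] [HasShift C ℤ] [Preadditive C]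
  [∀ n : ℤ, Functor.Additive (CategoryTheory.shiftFunctor C n)] [Pretriangulated C]

/-- transport a distinguished triangle along isomorphisms of its vertices. -/
lemma exists_triangle_of_isos (T : Triangle C) (hT : T ∈ distTriang C) {A₁ A₂ A₃ : C}
    (e₁ : T.obj₁ ≅ A₁) (e₂ : T.obj₂ ≅ A₂) (e₃ : T.obj₃ ≅ A₃) :
    ∃ (a : A₁ ⟶ A₂) (b : A₂ ⟶ A₃) (c : A₃ ⟶ A₁⟦(1 : ℤ)⟧), Triangle.mk a b c ∈ distTriang C := by
  refine ⟨e₁.inv ≫ T.mor₁ ≫ e₂.hom, e₂.inv ≫ T.mor₂ ≫ e₃.hom,
    e₃.inv ≫ T.mor₃ ≫ e₁.hom⟦(1 : ℤ)⟧', ?_⟩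
  refine isomorphic_distinguished T hT _ (Triangle.isoMk _ _ e₁.symm e₂.symm e₃.symm ?_ ?_ ?_)
  · show (e₁.inv ≫ T.mor₁ ≫ e₂.hom) ≫ e₂.inv = e₁.inv ≫ T.mor₁
    rw [Category.assoc, Category.assoc, Iso.hom_inv_id, Category.comp_id]
  · show (e₂.inv ≫ T.mor₂ ≫ e₃.hom) ≫ e₃.inv = e₂.inv ≫ T.mor₂
    rw [Category.assoc, Category.assoc, Iso.hom_inv_id, Category.comp_id]
  · show (e₃.inv ≫ T.mor₃ ≫ e₁.hom⟦(1 : ℤ)⟧') ≫ e₁.inv⟦(1 : ℤ)⟧' = e₃.inv ≫ T.mor₃
    rw [Category.assoc, Category.assoc, ← Functor.map_comp, Iso.hom_inv_id, CategoryTheory.Functor.map_id,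
      Category.comp_id]

end transport

section sum

variable {A : Type u'} [Category.{v'} A] [Abelian A] {B : Type u} [Category.{v} B] [Abelian B]
  {D : Type*} [Category D] [Preadditive D] [HasBinaryBiproducts D]
  (G : CochainComplex B ℤ ⥤ D) [G.Additive]
  (Φ1 Φ2 : A ⥤ B) [Φ1.Additive] [Φ2.Additive] (I : CochainComplex A ℤ)

/-- an additive functor sends the complex of the sum to the sum. -/
noncomputable def sumIso :
    G.obj (Cx (Φsum Φ1 Φ2) I) ≅ G.obj (Cx Φ1 I) ⊞ G.obj (Cx Φ2 I) where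
  hom := biprod.lift
    (G.map ((NatTrans.mapHomologicalComplex (sumFst Φ1 Φ2) (ComplexShape.up ℤ)).app I))
    (G.map ((NatTrans.mapHomologicalComplex (sumSnd Φ1 Φ2) (ComplexShape.up ℤ)).app I))
  inv := biprod.desc
    (G.map ((NatTrans.mapHomologicalComplex (sumInl Φ1 Φ2) (ComplexShape.up ℤ)).app I))
    (G.map ((NatTrans.mapHomologicalComplex (sumInr Φ1 Φ2) (ComplexShape.up ℤ)).app I))
  hom_inv_id := by
    rw [biprod.lift_desc, ← G.map_comp, ← G.map_comp, ← G.map_add,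
      ← NatTrans.comp_app, ← NatTrans.comp_app, ← NatTrans.mapHomologicalComplex_comp,
      ← NatTrans.mapHomologicalComplex_comp]
    have : (NatTrans.mapHomologicalComplex (sumFst Φ1 Φ2 ≫ sumInl Φ1 Φ2) (ComplexShape.up ℤ)).app I +
        (NatTrans.mapHomologicalComplex (sumSnd Φ1 Φ2 ≫ sumInr Φ1 Φ2) (ComplexShape.up ℤ)).app I =
        𝟙 _ := by
      ext n
      exact congrArg (fun t => t.app (I.X n)) (sum_total (Φ1 := Φ1) (Φ2 := Φ2))
    rw [this, G.map_id]
  inv_hom_id := by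
    apply biprod.hom_ext' <;> apply biprod.hom_ext
    · rw [biprod.inl_desc_assoc, Category.assoc, biprod.lift_fst, ← G.map_comp, ← NatTrans.comp_app,
        ← NatTrans.mapHomologicalComplex_comp, sumInl_fst, Category.comp_id, biprod.inl_fst,
        NatTrans.mapHomologicalComplex_id, NatTrans.id_app, G.map_id]
    · rw [biprod.inl_desc_assoc, Category.assoc, biprod.lift_snd, ← G.map_comp, ← NatTrans.comp_app,
        ← NatTrans.mapHomologicalComplex_comp, sumInl_snd, Category.comp_id, biprod.inl_snd]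
      have : (NatTrans.mapHomologicalComplex (0 : Φ1 ⟶ Φ2) (ComplexShape.up ℤ)).app I = 0 := by
        ext n
        rfl
      rw [this, G.map_zero]
    · rw [biprod.inr_desc_assoc, Category.assoc, biprod.lift_fst, ← G.map_comp, ← NatTrans.comp_app,
        ← NatTrans.mapHomologicalComplex_comp, sumInr_fst, Category.comp_id, biprod.inr_fst]
      have : (NatTrans.mapHomologicalComplex (0 : Φ2 ⟶ Φ1) (ComplexShape.up ℤ)).app I = 0 := by
        ext n
        rfl
      rw [this, G.map_zero]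
    · rw [biprod.inr_desc_assoc, Category.assoc, biprod.lift_snd, ← G.map_comp, ← NatTrans.comp_app,
        ← NatTrans.mapHomologicalComplex_comp, sumInr_snd, Category.comp_id, biprod.inr_snd,
        NatTrans.mapHomologicalComplex_id, NatTrans.id_app, G.map_id]

end sum

section mv

variable {X T : Scheme.{u}} (Ψ : X.Modules ⥤ T.Modules) [Ψ.Additive] (dΨ : SecData Ψ) (U V : X.Opens)

include dΨ in
/-- **the Mayer–Vietoris triangle** of a complex of injectives. -/
theorem mv_triangle (hUV : U ⊔ V = ⊤) (I : CochainComplex X.Modules ℤ)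
    (hI : ∀ n, Injective (I.X n)) :
    ∃ (a : DerivedCategory.Q.obj (Cx (𝟭 X.Modules ⋙ Ψ) I) ⟶
        DerivedCategory.Q.obj (Cx (ZClos.resPush U ⋙ Ψ) I) ⊞
          DerivedCategory.Q.obj (Cx (ZClos.resPush V ⋙ Ψ) I))
      (b : DerivedCategory.Q.obj (Cx (ZClos.resPush U ⋙ Ψ) I) ⊞
          DerivedCategory.Q.obj (Cx (ZClos.resPush V ⋙ Ψ) I) ⟶
        DerivedCategory.Q.obj (Cx (ZClos.resPush (U ⊓ V) ⋙ Ψ) I))
      (c : DerivedCategory.Q.obj (Cx (ZClos.resPush (U ⊓ V) ⋙ Ψ) I) ⟶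
        (DerivedCategory.Q.obj (Cx (𝟭 X.Modules ⋙ Ψ) I))⟦(1 : ℤ)⟧),
      Triangle.mk a b c ∈ distTriang (DerivedCategory T.Modules) := by
  have hS := mvT_shortExact Ψ dΨ U V hUV I hI
  exact exists_triangle_of_isos _ (DerivedCategory.triangleOfSES_distinguished hS)
    (Iso.refl _) (sumIso DerivedCategory.Q (ZClos.resPush U ⋙ Ψ) (ZClos.resPush V ⋙ Ψ) I)
    (Iso.refl _)

end mv

end Groth.Agent.Lib.Helper17.MVTri
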