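import Groth.Agent.Lib.Helper17.MVDual
import Groth.Agent.Lib.Helper17.MVTri
import Groth.Agent.Lib.Helper17.SecComp
import Groth.Prelude.Def_CxOX
import Groth.Prelude.Def_DCoh3

/-!
# Mayer–Vietoris triangle for extension by zero
-/

set_option autoImplicit false
universe u

open CategoryTheory Limits Opposite AlgebraicGeometry TopologicalSpace CochainComplex Pretriangulated

attribute [local instance] HasDerivedCategory.standard

namespace Groth.Agent.Lib.Helper17.MVShriek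

open Groth.Agent.Lib.Helper17.SecFun Groth.Agent.Lib.Helper17.MVAbs Groth.Agent.Lib.Helper17.MVTri
open Groth.Agent.Lib.Helper17.MVDual

variable {X : Scheme.{u}}

/-- `j_! j^*`. -/
noncomputable abbrev resExt (W : X.Opens) : X.Modules ⥤ X.Modules :=
  𝟭 X.Modules ⋙ (Scheme.Modules.restrictFunctor W.ι ⋙ CxOX.extZero W.ι)

/-- `j_! j^* ⊣ j_* j^*`. -/
noncomputable def adjW (W : X.Opens) : resExt W ⊣ ZClos.resPush W ⋙ 𝟭 X.Modules :=
  Adjunction.id.comp ((Scheme.Modules.restrictAdjunction W.ι).comp (CxOX.extZeroAdj W.ι))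

/-- the identity adjunction. -/
noncomputable def adj0 (X : Scheme.{u}) : 𝟭 X.Modules ⋙ 𝟭 X.Modules ⊣ 𝟭 X.Modules ⋙ 𝟭 X.Modules :=
  Adjunction.id.comp Adjunction.id

variable (U V : X.Opens)

lemma mvObj_id_shortExact (hUV : U ⊔ V = ⊤) (N : X.Modules) (hN : Injective N) :
    (mvObj _ _ _ _ (mvT_w (𝟭 X.Modules) U V) N).ShortExact := by
  haveI := hN
  refine mvObj_shortExact ((SecData.id X).comp (SecData.id X))
    ((SecData.resPush U).comp (SecData.id X))
    ((SecData.resPush V).comp (SecData.id X)) ((SecData.resPush (U ⊓ V)).comp (SecData.id X))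
    (SecData.res_whiskerRight (SecData.res_resPushUnit U) (SecData.id X))
    (SecData.res_whiskerRight (SecData.res_resPushUnit V) (SecData.id X))
    (SecData.res_whiskerRight (SecData.res_resPushMap inf_le_left) (SecData.id X))
    (SecData.res_whiskerRight (SecData.res_resPushMap inf_le_right) (SecData.id X))
    (mvT_w (𝟭 X.Modules) U V) ?_ ?_ N
  · intro A
    show A ≤ SecData.uR U A ⊔ SecData.uR V A
    rw [SecData.uR_eq, SecData.uR_eq, ← inf_sup_right, hUV, top_inf_eq]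
  · intro A
    show SecData.uR U A ⊓ SecData.uR V A ≤ SecData.uR (U ⊓ V) A
    rw [SecData.uR_eq, SecData.uR_eq, SecData.uR_eq]
    exact le_inf (le_inf (inf_le_left.trans inf_le_left) (inf_le_right.trans inf_le_left))
      (inf_le_left.trans inf_le_right)

/-- the maps `j_{UV!} ⟶ j_{U!}` etc. -/
noncomputable def a1 : resExt (U ⊓ V) ⟶ resExt U :=
  (conjugateEquiv (adjW U) (adjW (U ⊓ V))).symm (mvS (𝟭 X.Modules) (inf_le_left : U ⊓ V ≤ U))

noncomputable def a2 : resExt (U ⊓ V) ⟶ resExt V :=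
  (conjugateEquiv (adjW V) (adjW (U ⊓ V))).symm (mvS (𝟭 X.Modules) (inf_le_right : U ⊓ V ≤ V))

noncomputable def b1 : resExt U ⟶ 𝟭 X.Modules ⋙ 𝟭 X.Modules :=
  (conjugateEquiv (adj0 X) (adjW U)).symm (mvR (𝟭 X.Modules) U)

noncomputable def b2 : resExt V ⟶ 𝟭 X.Modules ⋙ 𝟭 X.Modules :=
  (conjugateEquiv (adj0 X) (adjW V)).symm (mvR (𝟭 X.Modules) V)

lemma ab_w : a1 U V ≫ b1 U = a2 U V ≫ b2 V :=
  mate_w (adj0 X) (adjW U) (adjW V) (adjW (U ⊓ V)) _ _ _ _ (mvT_w (𝟭 X.Modules) U V)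

theorem mvShriek_obj_shortExact (hUV : U ⊔ V = ⊤) (M : X.Modules) :
    (mvObj (a1 U V) (a2 U V) (b1 U) (b2 V) (ab_w U V) M).ShortExact :=
  mvObj_dual_shortExact (adj0 X) (adjW U) (adjW V) (adjW (U ⊓ V)) _ _ _ _
    (mvT_w (𝟭 X.Modules) U V) (fun N hN => mvObj_id_shortExact U V hUV N hN)
    (fun N hN => hN) M

theorem mvShriek_shortExact (hUV : U ⊔ V = ⊤) (K : CochainComplex X.Modules ℤ) :
    (mvCx (a1 U V) (a2 U V) (b1 U) (b2 V) (ab_w U V) K).ShortExact :=
  mvCx_shortExact _ _ _ _ _ K (fun n => mvShriek_obj_shortExact U V hUV (K.X n))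

/-- `Q(j_! j^* K) ≅ j_!(E|_W)`. -/
noncomputable def shriekPiece (W : X.Opens) [PreservesFiniteLimits (CxOX.extZero W.ι)]
    (E : DCoh.D X) (K : CochainComplex X.Modules ℤ) (e : DerivedCategory.Q.obj K ≅ E) :
    DerivedCategory.Q.obj (Cx (resExt W) K) ≅
      (CxOX.extZeroD W.ι).obj ((DCoh.restrictD W.ι).obj E) :=
  (((CxOX.extZero W.ι).mapDerivedCategoryFactors).app
      (Cx (Scheme.Modules.restrictFunctor W.ι) K)).symm ≪≫
    (CxOX.extZeroD W.ι).mapIso
      ((((Scheme.Modules.restrictFunctor W.ι).mapDerivedCategoryFactors).app K).symm ≪≫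
        (DCoh.restrictD W.ι).mapIso e)

/-- **Mayer–Vietoris for `j_!`.** -/
theorem mv_shriek (hUV : U ⊔ V = ⊤)
    [PreservesFiniteLimits (CxOX.extZero U.ι)] [PreservesFiniteLimits (CxOX.extZero V.ι)]
    [PreservesFiniteLimits (CxOX.extZero (U ⊓ V).ι)] (E : DCoh.D X) :
    ∃ (a : (CxOX.extZeroD (U ⊓ V).ι).obj ((DCoh.restrictD (U ⊓ V).ι).obj E) ⟶
        ((CxOX.extZeroD U.ι).obj ((DCoh.restrictD U.ι).obj E) ⊞
          (CxOX.extZeroD V.ι).obj ((DCoh.restrictD V.ι).obj E)))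
      (b : ((CxOX.extZeroD U.ι).obj ((DCoh.restrictD U.ι).obj E) ⊞
          (CxOX.extZeroD V.ι).obj ((DCoh.restrictD V.ι).obj E)) ⟶ E)
      (c : E ⟶ ((CxOX.extZeroD (U ⊓ V).ι).obj ((DCoh.restrictD (U ⊓ V).ι).obj E))⟦(1 : ℤ)⟧),
      Triangle.mk a b c ∈ distTriang (DCoh.D X) := by
  let K := (DerivedCategory.Q (C := X.Modules)).objPreimage E
  let e : DerivedCategory.Q.obj K ≅ E := (DerivedCategory.Q (C := X.Modules)).objObjPreimageIso E
  have hS := mvShriek_shortExact U V hUV K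
  have e₃ : DerivedCategory.Q.obj (Cx (𝟭 X.Modules ⋙ 𝟭 X.Modules) K) ≅ E :=
    DerivedCategory.Q.mapIso (HomologicalComplex.Hom.isoOfComponents (fun n => Iso.refl _)
      (by
        intro i j _
        simp)) ≪≫ e
  exact exists_triangle_of_isos _ (DerivedCategory.triangleOfSES_distinguished hS)
    (shriekPiece (U ⊓ V) E K e)
    (sumIso DerivedCategory.Q (resExt U) (resExt V) K ≪≫
      biprod.mapIso (shriekPiece U E K e) (shriekPiece V E K e))
    e₃

end Groth.Agent.Lib.Helper17.MVShriek
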