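import Mathlib

/-!
# Minkowski: the kernel of `GL_n(ℤ) → GL_n(ℤ/p)` is torsion free for odd `p` (helper17)

* `key_step`: in a ring without `ℕ`-torsion, if `(1 + p^k X)^l = 1` (`p` odd prime, `l` prime,
  `k ≥ 1`) then `p ∣ X`.
* `finite_order_case`: an integer matrix `g ≡ 1 mod p` of finite order is `1`.
-/

namespace Groth.Agent.Lib.Helper17.Minkowski

section key
variable {R : Type*} [Ring R]

/-- binomial expansion split: `(1 + N)^(t+2) = 1 + (t+2) N + N^2 S`. -/
lemma one_add_pow_split (N : R) (t : ℕ) :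
    (1 + N) ^ (t + 2) = 1 + ((t + 2 : ℕ) : R) * N +
      N ^ 2 * ∑ m ∈ Finset.range (t + 1), N ^ m * (((t + 2).choose (m + 2) : ℕ) : R) := by
  rw [add_comm 1 N, (Commute.one_right N).add_pow, Finset.sum_range_succ', Finset.sum_range_succ',
    Finset.mul_sum]
  simp only [one_pow, mul_one, pow_zero, Nat.choose_zero_right, Nat.cast_one, zero_add, pow_one,
    Nat.choose_one_right]
  rw [add_comm, add_comm _ (N * _), ← add_assoc]
  congr 1
  · rw [(Nat.cast_commute (t + 2) N).eq]
  · apply Finset.sum_congr rfl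
    intro m _
    rw [← mul_assoc, ← pow_add, add_comm 2 m]

end key

section key2
variable {R : Type*} [Ring R]

lemma key_step (htf : ∀ (c : ℕ) (x y : R), c ≠ 0 → (c : R) * x = (c : R) * y → x = y)
    (p l : ℕ) (hp : p.Prime) (hp2 : p ≠ 2) (hl : l.Prime) (k : ℕ) (hk : 1 ≤ k) (X : R)
    (h : (1 + (p : R) ^ k * X) ^ l = 1) : ∃ Y : R, X = (p : R) * Y := by
  obtain ⟨t, rfl⟩ : ∃ t, l = t + 2 := ⟨l - 2, by have := hl.two_le; omega⟩
  set N : R := (p : R) ^ k * X with hN
  set S : R := ∑ m ∈ Finset.range (t + 1), N ^ m * (((t + 2).choose (m + 2) : ℕ) : R) with hS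
  have hsplit := one_add_pow_split N t
  rw [h] at hsplit
  have hpc : ∀ y : R, Commute ((p : R) ^ k) y := fun y => (Nat.cast_commute p y).pow_left k
  -- `l X + p^k X^2 S = 0`
  have h1 : ((t + 2 : ℕ) : R) * X + (p : R) ^ k * (X * X * S) = 0 := by
    have h0 : ((p ^ k : ℕ) : R) * (((t + 2 : ℕ) : R) * X + (p : R) ^ k * (X * X * S)) =
        ((p ^ k : ℕ) : R) * 0 := by
      rw [mul_zero, Nat.cast_pow]
      have e1 : ((t + 2 : ℕ) : R) * N = (p : R) ^ k * (((t + 2 : ℕ) : R) * X) := by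
        rw [hN, ← mul_assoc, ← mul_assoc, (Nat.cast_commute (t + 2) ((p : R) ^ k)).eq]
      have e2 : N ^ 2 * S = (p : R) ^ k * ((p : R) ^ k * (X * X * S)) := by
        rw [hN, pow_two]
        rw [mul_assoc ((p : R) ^ k) X, ← mul_assoc X ((p : R) ^ k) X, ← (hpc X).eq]
        simp only [mul_assoc]
      rw [e1, e2] at hsplit
      have : (1 : R) + ((p : R) ^ k * (((t + 2 : ℕ) : R) * X) +
          (p : R) ^ k * ((p : R) ^ k * (X * X * S))) = 1 + 0 := by
        rw [add_zero, ← add_assoc]; exact hsplit.symm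
      have := add_left_cancel this
      rw [← mul_add] at this
      exact this
    exact htf (p ^ k) _ _ (pow_ne_zero k hp.ne_zero) h0
  by_cases hlp : t + 2 = p
  · -- `l = p`: `p ∣ S`
    have hSdvd : ∃ S' : R, S = (p : R) * S' := by
      have : (p : R) ∣ S := by
        rw [hS]
        apply Finset.dvd_sum
        intro m hm
        rw [Finset.mem_range] at hm
        by_cases hmt : m < t
        · have hdvd : p ∣ (t + 2).choose (m + 2) := by
            rw [hlp]
            exact hp.dvd_choose_self (by omega) (by omega)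
          obtain ⟨c, hc⟩ := hdvd
          refine ⟨N ^ m * (c : R), ?_⟩
          rw [hc, Nat.cast_mul, ← mul_assoc, ← mul_assoc, (Nat.cast_commute p (N ^ m)).eq]
        · have hmt' : m = t := by omega
          subst hmt'
          have ht1 : 1 ≤ m := by
            have := hp.two_le
            omega
          obtain ⟨m', rfl⟩ : ∃ m', m = m' + 1 := ⟨m - 1, by omega⟩
          obtain ⟨k', rfl⟩ : ∃ k', k = k' + 1 := ⟨k - 1, by omega⟩
          refine ⟨(p : R) ^ k' * X * N ^ m' * (((m' + 1 + 2).choose (m' + 1 + 2) : ℕ) : R), ?_⟩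
          rw [pow_succ' N m', hN, pow_succ' (p : R) k']
          simp only [mul_assoc]
      exact this
    obtain ⟨S', hS'⟩ := hSdvd
    obtain ⟨k', rfl⟩ : ∃ k', k = k' + 1 := ⟨k - 1, by omega⟩
    refine ⟨-((p : R) ^ k' * (X * X * S')), ?_⟩
    have h2 : (p : R) * (X + (p : R) ^ (k' + 1) * (X * X * S')) = (p : R) * 0 := by
      rw [mul_zero, ← h1, hlp, hS', mul_add]
      congr 1
      rw [← mul_assoc (X * X), ← (Nat.cast_commute p (X * X)).eq]
      simp only [mul_assoc]
      rw [← mul_assoc (p : R), (Nat.cast_commute p ((p : R) ^ (k' + 1))).eq, mul_assoc]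
    have h3 := htf p _ _ hp.ne_zero h2
    rw [mul_neg, ← mul_assoc, ← pow_succ']
    exact eq_neg_of_add_eq_zero_left h3
  · -- `l ≠ p`
    have hcop : Nat.Coprime (t + 2) p := (Nat.coprime_primes hl hp).mpr hlp
    obtain ⟨k', rfl⟩ : ∃ k', k = k' + 1 := ⟨k - 1, by omega⟩
    have hbez : ((t + 2 : ℕ) : ℤ) * Int.gcdA (t + 2) p + (p : ℤ) * Int.gcdB (t + 2) p = 1 := by
      have := Int.gcd_eq_gcd_ab ((t + 2 : ℕ) : ℤ) (p : ℤ)
      rw [Int.gcd_natCast_natCast, hcop.gcd_eq_one] at this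
      exact_mod_cast this.symm
    set a : ℤ := Int.gcdA (t + 2) p
    set b : ℤ := Int.gcdB (t + 2) p
    have hbezR : ((t + 2 : ℕ) : R) * (a : R) + (p : R) * (b : R) = 1 := by
      have := congrArg (Int.cast : ℤ → R) hbez
      push_cast at this
      push_cast
      exact this
    refine ⟨-((a : R) * ((p : R) ^ k' * (X * X * S))) + (b : R) * X, ?_⟩
    have h4 : ((t + 2 : ℕ) : R) * X = -((p : R) ^ (k' + 1) * (X * X * S)) :=
      eq_neg_of_add_eq_zero_left h1
    calc X = (((t + 2 : ℕ) : R) * (a : R) + (p : R) * (b : R)) * X := by rw [hbezR, one_mul]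
      _ = (a : R) * (((t + 2 : ℕ) : R) * X) + (p : R) * ((b : R) * X) := by
        rw [add_mul, (Nat.cast_commute (t + 2) (a : R)).eq]
        simp only [mul_assoc]
      _ = _ := by
        have e : (a : R) * ((p : R) ^ (k' + 1) * (X * X * S)) =
            (p : R) * ((a : R) * ((p : R) ^ k' * (X * X * S))) := by
          rw [pow_succ', mul_assoc (p : R), ← mul_assoc (a : R) (p : R),
            ← (Nat.cast_commute p (a : R)).eq, mul_assoc]
        rw [h4, mul_neg, e, mul_add, mul_neg]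

end key2

section mat
variable {n : ℕ}

local notation "Mat" => Matrix (Fin n) (Fin n) ℤ

lemma mat_htf : ∀ (c : ℕ) (x y : Mat), c ≠ 0 → (c : Mat) * x = (c : Mat) * y → x = y := by
  intro c x y hc h
  ext i j
  have := congrFun (congrFun h i) j
  rw [← nsmul_eq_mul, ← nsmul_eq_mul, Matrix.smul_apply, Matrix.smul_apply, nsmul_eq_mul,
    nsmul_eq_mul] at this
  exact mul_left_cancel₀ (by exact_mod_cast hc) this

lemma one_add_mul_pow {R : Type*} [Ring R] (p : ℕ) (X : R) (j : ℕ) :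
    ∃ X' : R, (1 + (p : R) * X) ^ j = 1 + (p : R) * X' := by
  induction j with
  | zero => exact ⟨0, by simp⟩
  | succ j ih =>
    obtain ⟨X', hX'⟩ := ih
    refine ⟨X' + X + X' * ((p : R) * X), ?_⟩
    rw [pow_succ, hX']
    noncomm_ring

lemma prime_case (p l : ℕ) (hp : p.Prime) (hp2 : p ≠ 2) (hl : l.Prime) (g : Mat)
    (hg : ∃ X : Mat, g = 1 + (p : Mat) * X) (hgl : g ^ l = 1) : g = 1 := by
  have hall : ∀ k : ℕ, ∃ X : Mat, g = 1 + (p : Mat) ^ (k + 1) * X := by
    intro k
    induction k with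
    | zero => simpa using hg
    | succ k ih =>
      obtain ⟨X, hX⟩ := ih
      obtain ⟨Y, hY⟩ := key_step mat_htf p l hp hp2 hl (k + 1) (by omega) X (by rw [← hX]; exact hgl)
      exact ⟨Y, by rw [hX, hY, pow_succ (p : Mat) (k + 1), mul_assoc]⟩
  ext i j
  have hdvd : ∀ k : ℕ, ((p : ℤ) ^ (k + 1)) ∣ (g i j - (1 : Mat) i j) := by
    intro k
    obtain ⟨X, hX⟩ := hall k
    refine ⟨X i j, ?_⟩
    have : g i j = (1 : Mat) i j + (((p : Mat) ^ (k + 1)) * X) i j := by
      conv_lhs => rw [hX]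
      rfl
    rw [this, ← Nat.cast_pow, ← nsmul_eq_mul, Matrix.smul_apply, nsmul_eq_mul]
    push_cast
    ring
  by_contra hne
  have hz : g i j - (1 : Mat) i j ≠ 0 := sub_ne_zero.mpr hne
  set z := g i j - (1 : Mat) i j
  have h1 := hdvd z.natAbs
  have h2 : (p ^ (z.natAbs + 1) : ℕ) ∣ z.natAbs := by
    have := Int.natAbs_dvd_natAbs.mpr h1
    rwa [Int.natAbs_pow, Int.natAbs_natCast] at this
  have h3 := Nat.le_of_dvd (Int.natAbs_pos.mpr hz) h2
  have h4 : z.natAbs + 1 < p ^ (z.natAbs + 1) := Nat.lt_pow_self hp.one_lt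
  omega

lemma finite_order_case (p : ℕ) (hp : p.Prime) (hp2 : p ≠ 2) (m : ℕ) :
    1 ≤ m → ∀ g : Mat, (∃ X : Mat, g = 1 + (p : Mat) * X) → g ^ m = 1 → g = 1 := by
  induction m using Nat.strong_induction_on with
  | _ m ih =>
    intro hm g hg hgm
    by_cases hm1 : m = 1
    · subst hm1; simpa using hgm
    have hl : (m.minFac).Prime := Nat.minFac_prime hm1
    obtain ⟨m', hm'⟩ := Nat.minFac_dvd m
    have hm'pos : 1 ≤ m' := by
      rcases Nat.eq_zero_or_pos m' with h0 | h0
      · rw [h0, mul_zero] at hm'; omega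
      · exact h0
    have hm'lt : m' < m := by
      have := hl.two_le
      nlinarith
    obtain ⟨X, rfl⟩ := hg
    obtain ⟨X', hX'⟩ := one_add_mul_pow p X m'
    have h1 : ((1 + (p : Mat) * X) ^ m') ^ m.minFac = 1 := by
      rw [← pow_mul, mul_comm, ← hm']; exact hgm
    have h2 := prime_case p m.minFac hp hp2 hl _ ⟨X', hX'⟩ h1
    exact ih m' hm'lt hm'pos _ ⟨X, rfl⟩ h2

end mat

end Groth.Agent.Lib.Helper17.Minkowski
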