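import Mathlib

namespace Groth.Agent.Lib.Helper17.NodeDeriv

open MvPolynomial

universe u w

section general

variable {k : Type u} {A : Type*} {S : Type w} [CommRing k] [CommRing A] [Algebra k A] [CommRing S] [Algebra k S]

/-- A `φ`-derivation `L : A → C` (Leibniz rule over an algebra map `φ`) induces a `k`-linear functional
on Kähler differentials with `Λ (f • d g) = φ f * L g`. -/
theorem exists_kaehler_functional (φ : A →ₐ[k] S) (L : A →ₗ[k] S)
    (hL : ∀ f g, L (f * g) = φ f * L g + φ g * L f) :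
    ∃ Λ : Ω[A⁄k] →ₗ[k] S, ∀ f g, Λ (f • KaehlerDifferential.D k A g) = φ f * L g := by
  let _ : Module A S := Module.compHom S φ.toRingHom
  have smul_def : ∀ (a : A) (c : S), a • c = φ a * c := fun _ _ => rfl
  have : IsScalarTower k A S :=
    ⟨fun r a c => by rw [smul_def, smul_def, map_smul, smul_mul_assoc]⟩
  let δ : Derivation k A S := Derivation.mk' L (fun a b => by rw [hL, smul_def, smul_def])
  refine ⟨δ.liftKaehlerDifferential.restrictScalars k, fun f g => ?_⟩
  rw [LinearMap.restrictScalars_apply, map_smul, Derivation.liftKaehlerDifferential_comp_D, smul_def]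
  rfl

end general

section node

variable (k : Type u) [Field k]

/-- The ideal `(XY)` of `k[X,Y]`. -/
noncomputable abbrev nodeIdeal : Ideal (MvPolynomial (Fin 2) k) :=
  Ideal.span {(MvPolynomial.X 0 * MvPolynomial.X 1 : MvPolynomial (Fin 2) k)}

/-- The coordinate ring of the node. -/
noncomputable abbrev Node : Type u := MvPolynomial (Fin 2) k ⧸ nodeIdeal k

variable {k}
variable {S : Type w} [CommRing S] [Algebra k S]

/-- The lift to dual numbers. -/
noncomputable def dualLift (x y a b : S) (hxy : x * y = 0) (hab : x * b + y * a = 0) :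
    Node k →ₐ[k] TrivSqZeroExt S S :=
  Ideal.Quotient.liftₐ (nodeIdeal k)
    (MvPolynomial.aeval ![TrivSqZeroExt.inl x + TrivSqZeroExt.inr a,
      TrivSqZeroExt.inl y + TrivSqZeroExt.inr b]) (by
    intro f hf
    have hle : nodeIdeal k ≤ RingHom.ker (MvPolynomial.aeval (R := k) ![(TrivSqZeroExt.inl x + TrivSqZeroExt.inr a : TrivSqZeroExt S S),
      TrivSqZeroExt.inl y + TrivSqZeroExt.inr b]) := by
      rw [Ideal.span_le, Set.singleton_subset_iff, SetLike.mem_coe, RingHom.mem_ker, map_mul,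
        aeval_X, aeval_X]
      ext
      · simp [hxy]
      · simp
        linear_combination hab
    exact RingHom.mem_ker.mp (hle hf))


variable (x y a b : S) (hxy : x * y = 0) (hab : x * b + y * a = 0)

/-- The algebra map `Node k → C`, `X ↦ x`, `Y ↦ y`. -/
noncomputable def nodeφ : Node k →ₐ[k] S :=
  (TrivSqZeroExt.fstHom k S S).comp (dualLift x y a b hxy hab)

/-- The `nodeφ`-derivation `Node k → C`, `X ↦ a`, `Y ↦ b`. -/
noncomputable def nodeL : Node k →ₗ[k] S :=
  ((TrivSqZeroExt.sndHom S S).restrictScalars k).comp (dualLift x y a b hxy hab).toLinearMap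

lemma nodeφ_apply (f : Node k) : nodeφ x y a b hxy hab f = (dualLift x y a b hxy hab f).fst := rfl

lemma nodeL_apply (f : Node k) : nodeL x y a b hxy hab f = (dualLift x y a b hxy hab f).snd := rfl

lemma nodeL_mul (f g : Node k) :
    nodeL x y a b hxy hab (f * g) =
      nodeφ x y a b hxy hab f * nodeL x y a b hxy hab g +
        nodeφ x y a b hxy hab g * nodeL x y a b hxy hab f := by
  simp only [nodeφ_apply, nodeL_apply, map_mul, TrivSqZeroExt.snd_mul, smul_eq_mul,
    MulOpposite.smul_eq_mul_unop, MulOpposite.unop_op]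
  ring

lemma dualLift_mk (F : MvPolynomial (Fin 2) k) :
    dualLift x y a b hxy hab (Ideal.Quotient.mk (nodeIdeal k) F) =
      MvPolynomial.aeval ![(TrivSqZeroExt.inl x + TrivSqZeroExt.inr a : TrivSqZeroExt S S),
        TrivSqZeroExt.inl y + TrivSqZeroExt.inr b] F := rfl

lemma dualLift_X0 : dualLift x y a b hxy hab (Ideal.Quotient.mk (nodeIdeal k) (X 0)) =
    TrivSqZeroExt.inl x + TrivSqZeroExt.inr a := by
  rw [dualLift_mk]
  simp

lemma dualLift_X1 : dualLift x y a b hxy hab (Ideal.Quotient.mk (nodeIdeal k) (X 1)) =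
    TrivSqZeroExt.inl y + TrivSqZeroExt.inr b := by
  rw [dualLift_mk]
  simp

lemma nodeφ_X0 : nodeφ x y a b hxy hab (Ideal.Quotient.mk (nodeIdeal k) (X 0)) = x := by
  rw [nodeφ_apply, dualLift_X0]; simp
lemma nodeφ_X1 : nodeφ x y a b hxy hab (Ideal.Quotient.mk (nodeIdeal k) (X 1)) = y := by
  rw [nodeφ_apply, dualLift_X1]; simp
lemma nodeL_X0 : nodeL x y a b hxy hab (Ideal.Quotient.mk (nodeIdeal k) (X 0)) = a := by
  rw [nodeL_apply, dualLift_X0]; simp
lemma nodeL_X1 : nodeL x y a b hxy hab (Ideal.Quotient.mk (nodeIdeal k) (X 1)) = b := by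
  rw [nodeL_apply, dualLift_X1]; simp


/-- Two `φ`-derivations on the node agreeing on the generators are equal. -/
lemma leibniz_ext (φ : Node k →ₐ[k] S) (L L' : Node k →ₗ[k] S)
    (hL : ∀ f g, L (f * g) = φ f * L g + φ g * L f)
    (hL' : ∀ f g, L' (f * g) = φ f * L' g + φ g * L' f)
    (h0 : L (Ideal.Quotient.mk (nodeIdeal k) (X 0)) = L' (Ideal.Quotient.mk (nodeIdeal k) (X 0)))
    (h1 : L (Ideal.Quotient.mk (nodeIdeal k) (X 1)) = L' (Ideal.Quotient.mk (nodeIdeal k) (X 1))) :
    L = L' := by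
  have one : ∀ (L : Node k →ₗ[k] S), (∀ f g, L (f * g) = φ f * L g + φ g * L f) → L 1 = 0 := by
    intro L hL
    have := hL 1 1
    rw [mul_one, map_one φ, one_mul] at this
    exact left_eq_add.mp this
  refine LinearMap.ext fun P => ?_
  obtain ⟨F, rfl⟩ := Ideal.Quotient.mk_surjective P
  induction F using MvPolynomial.induction_on with
  | C c =>
    have : Ideal.Quotient.mk (nodeIdeal k) (C c) = algebraMap k (Node k) c := rfl
    rw [this, Algebra.algebraMap_eq_smul_one, map_smul, map_smul, one L hL, one L' hL']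
  | add p q hp hq => rw [map_add, map_add, map_add, hp, hq]
  | mul_X p i hp =>
    have hi : L (Ideal.Quotient.mk (nodeIdeal k) (X i)) = L' (Ideal.Quotient.mk (nodeIdeal k) (X i)) := by
      fin_cases i
      · exact h0
      · exact h1
    rw [map_mul, hL, hL', hp, hi]

end node

section kernel

variable {k : Type u} [Field k]

lemma aeval_sub_mem (J : Ideal (MvPolynomial (Fin 2) k))
    (ρ : MvPolynomial (Fin 2) k →ₐ[k] MvPolynomial (Fin 2) k)
    (h : ∀ i, ρ (X i) - X i ∈ J) (F : MvPolynomial (Fin 2) k) : ρ F - F ∈ J := by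
  induction F using MvPolynomial.induction_on with
  | C c =>
    have : ρ (C c) = C c := ρ.commutes c
    rw [this, sub_self]; exact J.zero_mem
  | add p q hp hq =>
    have : ρ (p + q) - (p + q) = (ρ p - p) + (ρ q - q) := by rw [map_add]; ring
    rw [this]; exact J.add_mem hp hq
  | mul_X p i hp =>
    have : ρ (p * X i) - p * X i = (ρ p - p) * ρ (X i) + p * (ρ (X i) - X i) := by
      rw [map_mul]; ring
    rw [this]; exact J.add_mem (J.mul_mem_right _ hp) (J.mul_mem_left _ (h i))

lemma mem_span_X1 (F : MvPolynomial (Fin 2) k)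
    (h : MvPolynomial.aeval ![(Polynomial.X : Polynomial k), 0] F = 0) :
    F ∈ Ideal.span {(X 1 : MvPolynomial (Fin 2) k)} := by
  let ρ : MvPolynomial (Fin 2) k →ₐ[k] MvPolynomial (Fin 2) k :=
    (Polynomial.aeval (X 0 : MvPolynomial (Fin 2) k)).comp
      (MvPolynomial.aeval ![(Polynomial.X : Polynomial k), 0])
  have hρ : ρ F = 0 := by
    show Polynomial.aeval (X 0 : MvPolynomial (Fin 2) k) (MvPolynomial.aeval ![(Polynomial.X : Polynomial k), 0] F) = 0
    rw [h, map_zero]
  have := aeval_sub_mem (Ideal.span {(X 1 : MvPolynomial (Fin 2) k)}) ρ (by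
    intro i
    fin_cases i
    · simp [ρ]
    · simp [ρ]) F
  rw [hρ, zero_sub] at this
  simpa using (Ideal.neg_mem_iff _).mp this

lemma mem_span_X0 (F : MvPolynomial (Fin 2) k)
    (h : MvPolynomial.aeval ![0, (Polynomial.X : Polynomial k)] F = 0) :
    F ∈ Ideal.span {(X 0 : MvPolynomial (Fin 2) k)} := by
  let ρ : MvPolynomial (Fin 2) k →ₐ[k] MvPolynomial (Fin 2) k :=
    (Polynomial.aeval (X 1 : MvPolynomial (Fin 2) k)).comp
      (MvPolynomial.aeval ![0, (Polynomial.X : Polynomial k)])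
  have hρ : ρ F = 0 := by
    show Polynomial.aeval (X 1 : MvPolynomial (Fin 2) k) (MvPolynomial.aeval ![0, (Polynomial.X : Polynomial k)] F) = 0
    rw [h, map_zero]
  have := aeval_sub_mem (Ideal.span {(X 0 : MvPolynomial (Fin 2) k)}) ρ (by
    intro i
    fin_cases i
    · simp [ρ]
    · simp [ρ]) F
  rw [hρ, zero_sub] at this
  simpa using (Ideal.neg_mem_iff _).mp this

lemma mem_nodeIdeal (F : MvPolynomial (Fin 2) k)
    (h1 : MvPolynomial.aeval ![(Polynomial.X : Polynomial k), 0] F = 0)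
    (h2 : MvPolynomial.aeval ![0, (Polynomial.X : Polynomial k)] F = 0) :
    F ∈ nodeIdeal k := by
  obtain ⟨G, rfl⟩ := Ideal.mem_span_singleton'.mp (mem_span_X1 F h1)
  rw [map_mul, aeval_X] at h2
  simp only [Matrix.cons_val_one, Matrix.cons_val_fin_one] at h2
  have hG := (mul_eq_zero.mp h2).resolve_right Polynomial.X_ne_zero
  obtain ⟨H, rfl⟩ := Ideal.mem_span_singleton'.mp (mem_span_X0 G hG)
  rw [mul_assoc]
  exact Ideal.mul_mem_left _ _ (Ideal.mem_span_singleton_self _)

end kernel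

section main

variable (k : Type u) [Field k]

lemma nodeφ_mk {S : Type w} [CommRing S] [Algebra k S] (x y a b : S) (hxy : x * y = 0)
    (hab : x * b + y * a = 0) (F : MvPolynomial (Fin 2) k) :
    nodeφ x y a b hxy hab (Ideal.Quotient.mk (nodeIdeal k) F) = MvPolynomial.aeval ![x, y] F := by
  rw [nodeφ, AlgHom.comp_apply, dualLift_mk, ← AlgHom.comp_apply, MvPolynomial.comp_aeval]
  congr 2
  funext i
  fin_cases i <;> simp

/-- `X ↦ T, Y ↦ 0`. -/
noncomputable def φ1 : Node k →ₐ[k] Polynomial k :=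
  nodeφ Polynomial.X 0 1 0 (mul_zero _) (by simp)
/-- the derivation `∂/∂X` followed by `Y ↦ 0`. -/
noncomputable def L1 : Node k →ₗ[k] Polynomial k :=
  nodeL Polynomial.X 0 1 0 (mul_zero _) (by simp)
/-- `X ↦ 0, Y ↦ T`. -/
noncomputable def φ2 : Node k →ₐ[k] Polynomial k :=
  nodeφ 0 Polynomial.X 0 1 (zero_mul _) (by simp)
/-- the derivation `∂/∂Y` followed by `X ↦ 0`. -/
noncomputable def L2 : Node k →ₗ[k] Polynomial k :=
  nodeL 0 Polynomial.X 0 1 (zero_mul _) (by simp)

lemma L1_mul (f g : Node k) : L1 k (f * g) = φ1 k f * L1 k g + φ1 k g * L1 k f := nodeL_mul _ _ _ _ _ _ f g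
lemma L2_mul (f g : Node k) : L2 k (f * g) = φ2 k f * L2 k g + φ2 k g * L2 k f := nodeL_mul _ _ _ _ _ _ f g

lemma L1_eq : L1 k = (Polynomial.derivative (R := k)) ∘ₗ (φ1 k).toLinearMap := by
  refine leibniz_ext (φ1 k) _ _ (L1_mul k) ?_ ?_ ?_
  · intro f g
    simp only [LinearMap.comp_apply, AlgHom.toLinearMap_apply, map_mul, Polynomial.derivative_mul]
    ring
  · simp only [LinearMap.comp_apply, AlgHom.toLinearMap_apply, L1, φ1, nodeL_X0, nodeφ_X0,
      Polynomial.derivative_X]
  · simp only [LinearMap.comp_apply, AlgHom.toLinearMap_apply, L1, φ1, nodeL_X1, nodeφ_X1,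
      Polynomial.derivative_zero]

lemma L2_eq : L2 k = (Polynomial.derivative (R := k)) ∘ₗ (φ2 k).toLinearMap := by
  refine leibniz_ext (φ2 k) _ _ (L2_mul k) ?_ ?_ ?_
  · intro f g
    simp only [LinearMap.comp_apply, AlgHom.toLinearMap_apply, map_mul, Polynomial.derivative_mul]
    ring
  · simp only [LinearMap.comp_apply, AlgHom.toLinearMap_apply, L2, φ2, nodeL_X0, nodeφ_X0,
      Polynomial.derivative_zero]
  · simp only [LinearMap.comp_apply, AlgHom.toLinearMap_apply, L2, φ2, nodeL_X1, nodeφ_X1,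
      Polynomial.derivative_X]

lemma eps_eq : (Polynomial.aeval (0 : k)).comp (φ1 k) = (Polynomial.aeval (0 : k)).comp (φ2 k) := by
  apply Ideal.Quotient.algHom_ext
  apply MvPolynomial.algHom_ext
  intro i
  simp only [AlgHom.comp_apply, Ideal.Quotient.mkₐ_eq_mk, φ1, φ2, nodeφ_mk, aeval_X]
  fin_cases i <;> simp

theorem mem_range_of_L_eq_zero [CharZero k] (P : Node k) (h1 : L1 k P = 0) (h2 : L2 k P = 0) :
    P ∈ Set.range (algebraMap k (Node k)) := by
  rw [L1_eq] at h1
  rw [L2_eq] at h2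
  simp only [LinearMap.comp_apply, AlgHom.toLinearMap_apply] at h1 h2
  have e1 := Polynomial.eq_C_of_derivative_eq_zero h1
  have e2 := Polynomial.eq_C_of_derivative_eq_zero h2
  have hc : (φ1 k P).coeff 0 = (φ2 k P).coeff 0 := by
    rw [Polynomial.coeff_zero_eq_aeval_zero, Polynomial.coeff_zero_eq_aeval_zero]
    exact congrArg (fun ψ : Node k →ₐ[k] k => ψ P) (eps_eq k)
  set c := (φ1 k P).coeff 0 with hcdef
  rw [← hc] at e2
  refine ⟨c, ?_⟩
  obtain ⟨F, rfl⟩ := Ideal.Quotient.mk_surjective P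
  have hmem : F - MvPolynomial.C c ∈ nodeIdeal k := by
    apply mem_nodeIdeal
    · have := nodeφ_mk k (Polynomial.X : Polynomial k) 0 1 0 (mul_zero _) (by simp) F
      rw [map_sub, ← this]
      show φ1 k _ - _ = 0
      rw [e1]; simp
    · have := nodeφ_mk k 0 (Polynomial.X : Polynomial k) 0 1 (zero_mul _) (by simp) F
      rw [map_sub, ← this]
      show φ2 k _ - _ = 0
      rw [e2]; simp
  have := (Ideal.Quotient.eq_zero_iff_mem).mpr hmem
  rw [map_sub, sub_eq_zero] at this
  rw [this]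
  rfl

theorem D_eq_zero_iff [CharZero k] (P : Node k) :
    KaehlerDifferential.D k (Node k) P = 0 ↔ P ∈ Set.range (algebraMap k (Node k)) := by
  constructor
  · intro h
    obtain ⟨Λ1, hΛ1⟩ := exists_kaehler_functional (φ1 k) (L1 k) (L1_mul k)
    obtain ⟨Λ2, hΛ2⟩ := exists_kaehler_functional (φ2 k) (L2 k) (L2_mul k)
    apply mem_range_of_L_eq_zero
    · have := hΛ1 1 P
      rw [one_smul (Node k) (KaehlerDifferential.D k (Node k) P), h, map_zero, map_one, one_mul] at this
      exact this.symm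
    · have := hΛ2 1 P
      rw [one_smul (Node k) (KaehlerDifferential.D k (Node k) P), h, map_zero, map_one, one_mul] at this
      exact this.symm
  · rintro ⟨c, rfl⟩
    exact Derivation.map_algebraMap _ c

theorem X_smul_D_Y_ne_zero :
    (Ideal.Quotient.mk (nodeIdeal k) (X 0)) •
      KaehlerDifferential.D k (Node k) (Ideal.Quotient.mk (nodeIdeal k) (X 1)) ≠ 0 := by
  intro h
  set t : Polynomial k ⧸ Ideal.span {(Polynomial.X : Polynomial k) ^ 3} :=
    Ideal.Quotient.mk _ Polynomial.X with ht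
  have ht3 : t ^ 3 = 0 := by
    rw [ht, ← map_pow, Ideal.Quotient.eq_zero_iff_mem]
    exact Ideal.mem_span_singleton_self _
  have hxy : t * t ^ 2 = 0 := by rw [← ht3]; ring
  have hab : t * (-t) + t ^ 2 * 1 = 0 := by ring
  obtain ⟨Λ, hΛ⟩ := exists_kaehler_functional (nodeφ (k := k) t (t ^ 2) 1 (-t) hxy hab)
    (nodeL (k := k) t (t ^ 2) 1 (-t) hxy hab) (nodeL_mul _ _ _ _ _ _)
  have := hΛ (Ideal.Quotient.mk (nodeIdeal k) (X 0)) (Ideal.Quotient.mk (nodeIdeal k) (X 1))
  rw [h, map_zero, nodeφ_X0, nodeL_X1] at this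
  have ht2 : t ^ 2 = 0 := by linear_combination this
  rw [ht, ← map_pow, Ideal.Quotient.eq_zero_iff_mem, Ideal.mem_span_singleton,
    pow_dvd_pow_iff Polynomial.X_ne_zero Polynomial.not_isUnit_X] at ht2
  omega

theorem not_surjective_D [CharZero k] :
    ¬ Function.Surjective (KaehlerDifferential.D k (Node k)) := by
  intro hsurj
  obtain ⟨f, hf⟩ := hsurj ((Ideal.Quotient.mk (nodeIdeal k) (X 0)) •
      KaehlerDifferential.D k (Node k) (Ideal.Quotient.mk (nodeIdeal k) (X 1)))
  obtain ⟨Λ1, hΛ1⟩ := exists_kaehler_functional (φ1 k) (L1 k) (L1_mul k)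
  obtain ⟨Λ2, hΛ2⟩ := exists_kaehler_functional (φ2 k) (L2 k) (L2_mul k)
  have hmem : f ∈ Set.range (algebraMap k (Node k)) := by
    apply mem_range_of_L_eq_zero
    · have := hΛ1 1 f
      rw [one_smul (Node k) (KaehlerDifferential.D k (Node k) f), hf, hΛ1, map_one, one_mul] at this
      rw [← this, L1, nodeL_X1, mul_zero]
    · have := hΛ2 1 f
      rw [one_smul (Node k) (KaehlerDifferential.D k (Node k) f), hf, hΛ2, map_one, one_mul] at this
      rw [← this, φ2, nodeφ_X0, zero_mul]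
  have h0 : KaehlerDifferential.D k (Node k) f = 0 := (D_eq_zero_iff k f).mpr hmem
  rw [h0] at hf
  exact X_smul_D_Y_ne_zero k hf.symm

end main

end Groth.Agent.Lib.Helper17.NodeDeriv
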