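import Mathlib
import Groth.Prelude.Def_CxOX
import Groth.Agent.Lib.Helper17.Noeth1
import Groth.Agent.Lib.Helper17.IdealFG3
import Groth.Agent.Lib.Helper17.NoethColimMod
import Groth.Agent.Lib.Helper29.QCohGen
import Groth.Agent.Lib.Helper29.QCohFinite

open CategoryTheory CategoryTheory.Limits TopologicalSpace Opposite AlgebraicGeometry

universe u

namespace Groth.Agent.Lib.Helper17.NoethObj

open Groth.Agent.Lib.Helper29.QCoh

attribute [local instance] IsFiltered.isConnected

instance : IsDirected (ULift.{u} ℕ) (· ≤ ·) :=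
  ⟨fun a b => ⟨⟨max a.down b.down⟩, le_max_left a.down b.down, le_max_right a.down b.down⟩⟩

theorem main {U X : Scheme.{u}} [IsLocallyNoetherian X] [IsAffine U] (j : U ⟶ X)
    [IsOpenImmersion j] (c : ℕ →o Subobject (CxOX.extZeroUnit j)) :
    ∃ n : ℕ, ∀ m : ℕ, n ≤ m → c n = c m := by
  classical
  haveI : IsLocallyNoetherian U := isLocallyNoetherian_of_isOpenImmersion j
  haveI : IsNoetherian U := { }
  let E : X.Modules := CxOX.extZeroUnit j
  let OU : U.Modules := unitM U
  let e : (Scheme.Modules.restrictFunctor j).obj E ≅ OU :=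
    (asIso ((CxOX.extZeroAdj j).unit.app OU)).symm
  let Λ := ULift.{u} ℕ
  have hφ : Monotone (fun a : Λ => c a.down) := fun a b h => c.monotone h
  let KF : Λ ⥤ X.Modules := hφ.functor ⋙ Subobject.underlying
  let D : Λ ⥤ U.Modules := KF ⋙ Scheme.Modules.restrictFunctor j
  let b : ∀ n : Λ, D.obj n ⟶ OU := fun n =>
    (Scheme.Modules.restrictFunctor j).map (c n.down).arrow ≫ e.hom
  haveI : (Scheme.Modules.restrictFunctor j).PreservesMonomorphisms :=
    Functor.preservesMonomorphisms_of_adjunction (CxOX.extZeroAdj j)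
  have hDmono : ∀ (n m : Λ) (h : n ⟶ m), Mono (D.map h) := by
    intro n m h
    have : Mono (KF.map h) := by
      change Mono (Subobject.underlying.map (hφ.functor.map h))
      exact mono_of_mono_fac (Subobject.underlying_arrow (hφ.functor.map h))
    change Mono ((Scheme.Modules.restrictFunctor j).map (KF.map h))
    infer_instance
  have hbmono : ∀ n, Mono (b n) := fun n => by
    have : Mono ((Scheme.Modules.restrictFunctor j).map (c n.down).arrow) :=
      (Scheme.Modules.restrictFunctor j).map_mono (c n.down).arrow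
    exact mono_comp' this inferInstance
  have hbnat : ∀ (n m : Λ) (h : n ⟶ m), D.map h ≫ b m = b n := by
    intro n m h
    change (Scheme.Modules.restrictFunctor j).map (KF.map h) ≫
      (Scheme.Modules.restrictFunctor j).map (c m.down).arrow ≫ e.hom = _
    rw [← Category.assoc, ← Functor.map_comp]
    congr 2
    exact Subobject.underlying_arrow _
  let α : D ⟶ (Functor.const Λ).obj OU :=
    { app := b
      naturality := fun n m h => by
        rw [hbnat n m h]; simp }
  haveI : ∀ n, Mono (α.app n) := hbmono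
  haveI : Mono α := NatTrans.mono_of_mono_app α
  let g : colimit D ⟶ OU := colimit.desc D ⟨OU, α⟩
  haveI : Mono g := colim.map_mono' α (colimit.isColimit D) (isColimitConstCocone Λ OU) g
    (fun n => by
      change colimit.ι D n ≫ colimit.desc D ⟨OU, α⟩ = α.app n ≫ 𝟙 OU
      rw [colimit.ι_desc]
      exact (Category.comp_id _).symm)
  obtain ⟨m, Ui, k, s, hs⟩ := IdealFG.main (colimit D) g
  have hrep : ∀ p : (Σ i : Fin m, Fin (k i)), ∃ (l : Λ) (a : Γ(D.obj l, Ui p.1)),
      ((colimit.cocone D).ι.app l).app (Ui p.1) a = s p.1 p.2 := fun p =>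
    NoethColimMod.exists_rep D (colimit.cocone D) (colimit.isColimit D) ⊤
      (fun W _ => NoetherianSpace.isCompact _) (Ui p.1) le_top (s p.1 p.2)
  choose l a ha using hrep
  let N : Λ := ⟨Finset.univ.sup fun p => (l p).down⟩
  have hlN : ∀ p, l p ≤ N := fun p =>
    Finset.le_sup (f := fun p => (l p).down) (Finset.mem_univ p)
  have hsurjN : ∀ (u : U) (t : (colimit D).presheaf.stalk u),
      ∃ y, stalkMap (colimit.ι D N) u y = t := by
    intro u t
    have ht : t ∈ Submodule.span (U.presheaf.stalk u)
        (Set.range (fun p : (Σ i : {i : Fin m // u ∈ Ui i}, Fin (k i.1)) =>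
          ((colimit D).presheaf.germ (Ui p.1.1) u p.1.2) (s p.1.1 p.2))) := by
      rw [hs u]; trivial
    have hle : Submodule.span (U.presheaf.stalk u)
        (Set.range (fun p : (Σ i : {i : Fin m // u ∈ Ui i}, Fin (k i.1)) =>
          ((colimit D).presheaf.germ (Ui p.1.1) u p.1.2) (s p.1.1 p.2))) ≤
          stalkMapRange (colimit.ι D N) u := by
      rw [Submodule.span_le]
      rintro _ ⟨p, rfl⟩
      refine ⟨(D.obj N).presheaf.germ (Ui p.1.1) u p.1.2
        ((D.map (homOfLE (hlN ⟨p.1.1, p.2⟩))).app _ (a ⟨p.1.1, p.2⟩)), ?_⟩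
      rw [stalkMap_germ]
      congr 1
      rw [← ha ⟨p.1.1, p.2⟩]
      have := colimit.w D (homOfLE (hlN ⟨p.1.1, p.2⟩))
      change _ = (colimit.ι D (l ⟨p.1.1, p.2⟩)).app _ _
      rw [← this]; rfl
    exact hle ht
  refine ⟨N.down, fun M hM => ?_⟩
  let M' : Λ := ⟨M⟩
  have hNM : N ≤ M' := hM
  let h : N ⟶ M' := homOfLE hNM
  have hepi : Epi (D.map h) := by
    rw [epi_iff_stalkMap_surjective]
    intro u t
    obtain ⟨y, hy⟩ := hsurjN u (stalkMap (colimit.ι D M') u t)
    refine ⟨y, ?_⟩
    have hinj : Function.Injective (stalkMap (b M') u) :=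
      (mono_iff_stalkMap_injective (b M')).1 (hbmono M') u
    apply hinj
    have e1 : colimit.ι D M' ≫ g = b M' := colimit.ι_desc _ _
    have e2 : colimit.ι D N ≫ g = b N := colimit.ι_desc _ _
    rw [← stalkMap_comp_apply, hbnat, ← e2, stalkMap_comp_apply, hy, ← stalkMap_comp_apply, e1]
  have hiso : IsIso (D.map h) := by
    haveI := hDmono N M' h
    exact isIso_of_mono_of_epi _
  let f : KF.obj N ⟶ KF.obj M' := KF.map h
  haveI : Mono f := by
    change Mono (Subobject.underlying.map (hφ.functor.map h))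
    exact mono_of_mono_fac (Subobject.underlying_arrow (hφ.functor.map h))
  haveI hfm : Mono f := by
    change Mono (Subobject.underlying.map (hφ.functor.map h))
    exact mono_of_mono_fac (Subobject.underlying_arrow (hφ.functor.map h))
  haveI hf : IsIso f := @isIso_of_isIso_restrict U X j _ (KF.obj N) (KF.obj M') E f hfm
    (c M).arrow (Subobject.arrow_mono (c M))
    (fun x hx => subsingleton_stalk_extZero j OU x hx) hiso
  apply le_antisymm (c.monotone hM)
  refine Subobject.le_of_comm (@inv _ _ _ _ f hf) ?_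
  have h2 : f ≫ (c M).arrow = (c N.down).arrow := Subobject.underlying_arrow _
  rw [← h2]
  exact @IsIso.inv_hom_id_assoc _ _ _ _ f hf _ _

end Groth.Agent.Lib.Helper17.NoethObj
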