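import Groth.Agent.Lib.Helper17.OpenAdj
import Groth.Agent.Lib.Helper17.AdjHo

/-!
# The derived adjunction `j^* ⊣ Rj_*` for an open immersion
-/

set_option autoImplicit false
universe u

open CategoryTheory Limits Opposite AlgebraicGeometry TopologicalSpace CochainComplex

attribute [local instance] HasDerivedCategory.standard

namespace Groth.Agent.Lib.Helper17.OpenAdj

open Groth.Agent.Lib.Helper17.PushCoh Groth.Agent.Lib.Helper17.PushCoh2
open Groth.Agent.Lib.Helper17.DerAbs Groth.Agent.Lib.Helper17.DerKInj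
open Groth.Agent.Lib.Helper17.RFTri Groth.Agent.Lib.Helper17.SuppRes
open Groth.Agent.Lib.Helper17.MVGamma Pretriangulated

variable {U X : Scheme.{u}} (j : U ⟶ X) [IsOpenImmersion j]

/-- `j^* ⊣ j_*` on homotopy categories. -/
noncomputable def adjKj : (Scheme.Modules.restrictFunctor j).mapHomotopyCategory (ComplexShape.up ℤ) ⊣
    (Scheme.Modules.pushforward j).mapHomotopyCategory (ComplexShape.up ℤ) :=
  Groth.Agent.Lib.Helper17.AdjHo.adjHo (Scheme.Modules.restrictAdjunction j) (ComplexShape.up ℤ)

/-- the structure 2-cell of `j^*` on derived categories. -/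
noncomputable abbrev αj : DerivedCategory.Qh ⋙ DCoh.restrictD j ⟶
    (Scheme.Modules.restrictFunctor j).mapHomotopyCategory (ComplexShape.up ℤ) ⋙
      DerivedCategory.Qh :=
  (Scheme.Modules.restrictFunctor j).mapDerivedCategoryFactorsh.hom

variable [DCoh.HasRpush j]

/-- **the derived adjunction `j^* ⊣ Rj_*`.** -/
noncomputable def openAdj : DCoh.restrictD j ⊣ DCoh.Rpush j := by
  haveI h1 : (DCoh.restrictD j).IsLeftDerivedFunctor (αj j)
      (HomotopyCategory.quasiIso X.Modules (ComplexShape.up ℤ)) :=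
    Functor.isLeftDerivedFunctor_of_inverts _ _
      (Scheme.Modules.restrictFunctor j).mapDerivedCategoryFactorsh
  haveI h3 : (DCoh.restrictD j ⋙ DCoh.Rpush j).IsLeftDerivedFunctor
      ((Functor.associator _ _ _).inv ≫ Functor.whiskerRight (αj j) (DCoh.Rpush j))
      (HomotopyCategory.quasiIso X.Modules (ComplexShape.up ℤ)) :=
    Functor.isLeftDerivedFunctor_of_inverts _ _
      ((Functor.associator _ _ _).symm ≪≫ Functor.isoWhiskerRight
        (Scheme.Modules.restrictFunctor j).mapDerivedCategoryFactorsh (DCoh.Rpush j))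
  haveI h4 := isRightDerivedFunctor_comp (enoughLocal_Qh (hA U)) (compat_Qh _) (DCoh.Rpush j)
    (Groth.Agent.Lib.Helper17.RpushRes.unitR j) (DCoh.restrictD j)
  exact (adjKj j).derived (HomotopyCategory.quasiIso X.Modules (ComplexShape.up ℤ))
    (HomotopyCategory.quasiIso U.Modules (ComplexShape.up ℤ)) (αj j)
    (Groth.Agent.Lib.Helper17.RpushRes.unitR j)

end Groth.Agent.Lib.Helper17.OpenAdj
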