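import Groth.Agent.Lib.Helper17.RGammaZPush

/-!
# `Rj_*` and `j^*` as inverse equivalences on supported objects
-/

set_option autoImplicit false
universe u

open CategoryTheory Limits Opposite AlgebraicGeometry TopologicalSpace CochainComplex

attribute [local instance] HasDerivedCategory.standard

namespace Groth.Agent.Lib.Helper17.OpenAdj

open Groth.Agent.Lib.Helper17.PushCoh Groth.Agent.Lib.Helper17.PushCoh2
open Groth.Agent.Lib.Helper17.DerAbs Groth.Agent.Lib.Helper17.DerKInj
open Groth.Agent.Lib.Helper17.RFTri Groth.Agent.Lib.Helper17.SuppRes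
open Groth.Agent.Lib.Helper17.MVGamma Groth.Agent.Lib.Helper17.RFRlim Pretriangulated
open Groth.Agent.Lib.Helper17.RGammaZ Groth.Agent.Lib.Helper17.LpullAdj

section

variable {X : Scheme.{u}} (W : X.Opens) [CxOX.HasRgammaZ W.ι]

/-- `RΓ_Z(E) = 0` if `E` is in the essential image of `Rj_*`, `j : W ⟶ X`. -/
lemma isZero_RgammaZ_of_iso (E : DCoh.D X) (Q : DCoh.D (W : Scheme.{u}))
    (e : E ≅ (DCoh.Rpush W.ι).obj Q) : IsZero ((CxOX.RgammaZ W.ι).obj E) := by
  let adj := openAdj W.ι
  obtain ⟨b, c, hT⟩ := exists_triangle W E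
  have hz : IsZero ((DCoh.restrictD W.ι).obj ((CxOX.RgammaZ W.ι).obj E)) :=
    isZero_restrictD_RgammaZ W E
  have h0 : (CxOX.RgammaZToId W.ι).app E = 0 := by
    have : (CxOX.RgammaZToId W.ι).app E ≫ e.hom = 0 := hom_Rpush_eq_zero W.ι adj hz _
    rw [← cancel_mono e.hom, this, zero_comp]
  have hz1 : IsZero ((DCoh.restrictD W.ι).obj (((CxOX.RgammaZ W.ι).obj E)⟦(1 : ℤ)⟧)) := by
    refine IsZero.of_iso ?_ (((DCoh.restrictD W.ι).commShiftIso (1 : ℤ)).app _)
    exact (CategoryTheory.shiftFunctor _ (1 : ℤ)).map_isZero hz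
  obtain ⟨g, hg⟩ := Triangle.coyoneda_exact₁ _ hT (𝟙 (((CxOX.RgammaZ W.ι).obj E)⟦(1 : ℤ)⟧))
    (by
      change 𝟙 _ ≫ ((CxOX.RgammaZToId W.ι).app E)⟦(1 : ℤ)⟧' = 0
      rw [h0, Functor.map_zero, comp_zero])
  have hg0 : g = 0 := hom_Rpush_eq_zero W.ι adj hz1 g
  rw [hg0, zero_comp] at hg
  have h1 : IsZero (((CxOX.RgammaZ W.ι).obj E)⟦(1 : ℤ)⟧) := (IsZero.iff_id_eq_zero _).2 hg
  have h2 := (CategoryTheory.shiftFunctor (DCoh.D X) (-1 : ℤ)).map_isZero h1
  exact IsZero.of_iso h2 ((shiftEquiv (DCoh.D X) (1 : ℤ)).unitIso.app _)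

end

section

variable {X Xbar : Scheme.{u}} (j : X ⟶ Xbar) [IsOpenImmersion j] (T : Xbar.Opens)
  (hjT : Set.range j.base ⊆ (T : Set Xbar))

/-- the factorisation of `j` through `T`. -/
noncomputable def jT : X ⟶ (T : Scheme.{u}) :=
  IsOpenImmersion.lift T.ι j (by rw [Scheme.Opens.range_ι]; exact hjT)

lemma jT_fac : jT j T hjT ≫ T.ι = j := IsOpenImmersion.lift_fac _ _ _

instance : IsOpenImmersion (jT j T hjT) := by
  haveI : IsOpenImmersion (jT j T hjT ≫ T.ι) := by rw [jT_fac]; infer_instance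
  exact IsOpenImmersion.of_comp _ T.ι

/-- `Rj_* F ≅ R(T.ι)_* R(jT)_* F`. -/
lemma nonempty_Rpush_fac (F : DCoh.D X) :
    Nonempty ((DCoh.Rpush j).obj F ≅
      (DCoh.Rpush T.ι).obj ((DCoh.Rpush (jT j T hjT)).obj F)) := by
  obtain ⟨e1⟩ := nonempty_Rpush_comp_iso (jT j T hjT) T.ι
  obtain ⟨e2⟩ := nonempty_Rpush_congr (jT_fac j T hjT)
  exact ⟨(e2.app F).symm ≪≫ (e1.app F).symm⟩

end

/-- restriction along an open immersion preserves `D_QCoh`. -/
lemma isQCohD_restrictD' {X Xbar : Scheme.{u}} (j : X ⟶ Xbar) [IsOpenImmersion j]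
    (E : DCoh.D Xbar) (hE : DCoh.IsQCohD E) :
    DCoh.IsQCohD ((DCoh.restrictD j).obj E) := by
  intro i
  haveI : (DCoh.HD E i).IsQuasicoherent := hE i
  exact (SheafOfModules.isQuasicoherent X.ringCatSheaf).prop_of_iso
    (Groth.Agent.Lib.Helper28.DCohRes.HDresDIso j E i).symm
    (inferInstanceAs ((DCoh.HD E i).restrict j).IsQuasicoherent)

theorem openEquiv {X Xbar : Scheme.{u}}
    (j : X ⟶ Xbar) [IsOpenImmersion j] (U : X.Opens) (U' T : Xbar.Opens)
    (hU' : (U' : Set Xbar) = (closure (j.base '' ((U : Set X)ᶜ)))ᶜ)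
    (hT : (T : Set Xbar) = (U' : Set Xbar) ∪ Set.range j.base)
    [DCoh.HasRpush j] [CxOX.HasRgammaZ T.ι]
    (adj : DCoh.restrictD j ⊣ DCoh.Rpush j) :
    (∀ F : DCoh.D X, CxOX.IsSuppD U.ι F →
        CxOX.IsSuppD U'.ι ((DCoh.Rpush j).obj F) ∧
          IsZero ((CxOX.RgammaZ T.ι).obj ((DCoh.Rpush j).obj F))) ∧
    (∀ F : DCoh.D X, IsIso (adj.counit.app F)) ∧
    (∀ G : DCoh.D Xbar, CxOX.IsSuppD U'.ι G → IsZero ((CxOX.RgammaZ T.ι).obj G) →
        IsIso (adj.unit.app G) ∧ CxOX.IsSuppD U.ι ((DCoh.restrictD j).obj G)) := by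
  have hjT : Set.range j.base ⊆ (T : Set Xbar) := by
    rw [hT]; exact Set.subset_union_right
  -- `j(U)` misses the closure of `j(Z)`
  have hUdisj : ∀ x : X, x ∈ U → j.base x ∉ closure (j.base '' ((U : Set X)ᶜ)) := by
    intro x hx hc
    have hopen : IsOpen (j.base '' (U : Set X)) := j.isOpenEmbedding.isOpenMap _ U.isOpen
    have hmem : j.base x ∈ j.base '' (U : Set X) := ⟨x, hx, rfl⟩
    obtain ⟨y, hy1, hy2⟩ := mem_closure_iff.1 hc _ hopen hmem
    obtain ⟨x1, hx1, rfl⟩ := hy1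
    obtain ⟨x2, hx2, h12⟩ := hy2
    have := j.isOpenEmbedding.injective h12
    subst this
    exact hx2 hx1
  refine ⟨?_, ?_, ?_⟩
  · intro F hF
    constructor
    · -- support of `Rj_* F`
      have h0 : IsZero ((DCoh.restrictD (j ⁻¹ᵁ U').ι).obj F) := by
        apply isZero_restrictD
        intro i y hy hs
        have hyU' : j.base y ∈ (U' : Set Xbar) := hy
        rw [hU'] at hyU'
        have hyU : y ∈ U := by
          by_contra hc
          exact hyU' (subset_closure ⟨y, hc, rfl⟩)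
        have := hF i hs
        apply this
        rw [Scheme.Opens.range_ι]
        exact hyU
      have h1 := isZero_restrictD_Rpush j U' F h0
      intro i
      have := support_subset_compl U' (DCoh.HD ((DCoh.Rpush j).obj F) i)
        (IsZero.of_iso ((DerivedCategory.homologyFunctor _ i).map_isZero h1)
          (Groth.Agent.Lib.Helper28.DCohRes.HDresDIso U'.ι _ i).symm)
      rw [Scheme.Opens.range_ι]
      exact this
    · obtain ⟨e⟩ := nonempty_Rpush_fac j T hjT F
      exact isZero_RgammaZ_of_iso T _ _ e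
  · intro F
    haveI := isIso_counit j adj
    infer_instance
  · intro G hG hGz
    constructor
    · obtain ⟨b, c, hTr⟩ := exists_triangle T G
      haveI : IsIso b := (Triangle.isZero₁_iff_isIso₂ _ hTr).1 hGz
      let GT := (DCoh.restrictD T.ι).obj G
      let T' : Set (T : Scheme.{u}) := T.ι.base ⁻¹' closure (j.base '' ((U : Set X)ᶜ))
      have hT'c : IsClosed T' := isClosed_closure.preimage T.ι.base.hom.continuous
      have hT'r : T' ⊆ Set.range (jT j T hjT).base := by
        intro t ht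
        have h1 : T.ι.base t ∈ (T : Set Xbar) := t.2
        rw [hT] at h1
        rcases h1 with h1 | h1
        · rw [hU'] at h1
          exact absurd ht h1
        · obtain ⟨x, hx⟩ := h1
          refine ⟨x, ?_⟩
          apply T.ι.isOpenEmbedding.injective
          have hfac := congrArg (fun φ => φ.base x) (jT_fac j T hjT)
          exact hfac.trans hx
      have hsupp : ∀ i : ℤ, CohB1.support (DCoh.HD GT i) ⊆ T' := by
        intro i t ht
        by_contra hc
        refine not_mem_support_restrictD T.ι G i t ?_ ht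
        intro hs
        have := hG i hs
        rw [Scheme.Opens.range_ι, hU'] at this
        exact hc (not_not.1 this)
      have hu := isIso_unit_of_support (jT j T hjT) (openAdj (jT j T hjT)) GT T' hT'c hT'r hsupp
      obtain ⟨e1⟩ := nonempty_Rpush_fac j T hjT
        ((DCoh.restrictD (jT j T hjT)).obj GT)
      haveI := hu
      let e : G ≅ (DCoh.Rpush j).obj ((DCoh.restrictD (jT j T hjT)).obj GT) :=
        asIso b ≪≫ (DCoh.Rpush T.ι).mapIso (asIso ((openAdj (jT j T hjT)).unit.app GT)) ≪≫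
          e1.symm
      exact isIso_unit_of_iso j adj e
    · intro i x hx
      rw [Scheme.Opens.range_ι]
      intro hxU
      refine not_mem_support_restrictD j G i x ?_ hx
      intro hs
      have := hG i hs
      rw [Scheme.Opens.range_ι, hU'] at this
      exact hUdisj x hxU (not_not.1 this)

end Groth.Agent.Lib.Helper17.OpenAdj
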