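import Mathlib.CategoryTheory.Localization.CalculusOfFractions
import Mathlib.CategoryTheory.Comma.Over.Basic

/-!
# Localization of slice categories (right calculus of fractions)

If `W` has a right calculus of fractions in `C`, `L : C ⥤ D` is a localization at `W`,
`L' : Over S ⥤ E` is a localization at `W_S := W.inverseImage (Over.forget S)` and
`Φ : E ⥤ Over (L.obj S)` satisfies `L' ⋙ Φ ≅ Over.post L`, then `Φ` is an equivalence.
-/

universe v₁ v₂ v₃ u₁ u₂ u₃

namespace Groth.Agent.Lib.Helper17.OverLoc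

open CategoryTheory

variable {C : Type u₁} [Category.{v₁} C] (W : MorphismProperty C) (S : C)

/-- The class `W_S`. -/
abbrev WS : MorphismProperty (Over S) := W.inverseImage (Over.forget S)

instance hasRightCalculusOfFractions_WS [W.HasRightCalculusOfFractions] :
    (WS W S).HasRightCalculusOfFractions where
  exists_rightFraction X Y φ := by
    obtain ⟨ψ, hψ⟩ := (inferInstance : W.HasRightCalculusOfFractions).exists_rightFraction
      (MorphismProperty.LeftFraction.mk φ.f.left φ.s.left φ.hs)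
    dsimp at hψ
    have hs : ψ.s ≫ X.hom = ψ.f ≫ Y.hom := by
      have h1 := Over.w φ.f
      have h2 := Over.w φ.s
      rw [← h1, ← h2, reassoc_of% hψ]
    exact ⟨MorphismProperty.RightFraction.mk
      (Over.homMk (U := Over.mk (ψ.s ≫ X.hom)) ψ.s rfl) ψ.hs
      (Over.homMk (U := Over.mk (ψ.s ≫ X.hom)) ψ.f hs.symm), by
        ext
        exact hψ⟩
  ext X Y Y' f₁ f₂ s hs eq := by
    obtain ⟨X', t, ht, fac⟩ := (inferInstance : W.HasRightCalculusOfFractions).ext
      f₁.left f₂.left s.left hs (by rw [← Over.comp_left, eq, Over.comp_left])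
    exact ⟨Over.mk (t ≫ X.hom), Over.homMk t rfl, ht, by ext; exact fac⟩

section

variable [W.HasRightCalculusOfFractions]
  {D : Type u₂} [Category.{v₂} D] (L : C ⥤ D) [L.IsLocalization W]
  {E : Type u₃} [Category.{v₃} E] (L' : Over S ⥤ E) [L'.IsLocalization (WS W S)]
  (Φ : E ⥤ Over (L.obj S)) (e : L' ⋙ Φ ≅ Over.post L)

/-- forget a right fraction in `Over S` to `C`. -/
def forgetFrac {X Y : Over S} (ρ : (WS W S).RightFraction X Y) :
    W.RightFraction X.left Y.left :=
  MorphismProperty.RightFraction.mk ρ.s.left ρ.hs ρ.f.left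

/-- the underlying morphism, with a clean type. -/
def leftD {X Y : Over S} (m : (Over.post L).obj X ⟶ (Over.post L).obj Y) :
    L.obj X.left ⟶ L.obj Y.left := m.left

omit [W.HasRightCalculusOfFractions] [L.IsLocalization W] in
lemma leftD_ext {X Y : Over S} (m m' : (Over.post L).obj X ⟶ (Over.post L).obj Y)
    (h : leftD S L m = leftD S L m') : m = m' := by
  ext
  exact h

include e in
lemma key {X Y : Over S} (ρ : (WS W S).RightFraction X Y) :
    leftD S L (e.inv.app X ≫ Φ.map (ρ.map L' (Localization.inverts L' (WS W S))) ≫ e.hom.app Y) =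
      (forgetFrac W S ρ).map L (Localization.inverts L W) := by
  have h1 : (Over.post L).map ρ.s ≫
      (e.inv.app X ≫ Φ.map (ρ.map L' (Localization.inverts L' (WS W S))) ≫ e.hom.app Y) =
      (Over.post L).map ρ.f := by
    have n1 := e.inv.naturality ρ.s
    have n2 := e.hom.naturality ρ.f
    dsimp at n1 n2
    rw [reassoc_of% n1, ← Φ.map_comp_assoc,
      MorphismProperty.RightFraction.map_s_comp_map, n2]
    simp
  have h2 : L.map (forgetFrac W S ρ).s ≫ leftD S L
      (e.inv.app X ≫ Φ.map (ρ.map L' (Localization.inverts L' (WS W S))) ≫ e.hom.app Y) =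
      L.map (forgetFrac W S ρ).f := congrArg (fun m => m.left) h1
  haveI : IsIso (L.map (forgetFrac W S ρ).s) := Localization.inverts L W _ (forgetFrac W S ρ).hs
  rw [← cancel_epi (L.map (forgetFrac W S ρ).s),
    MorphismProperty.RightFraction.map_s_comp_map]
  exact h2

include W L in
lemma essSurj_post : (Over.post (X := S) L).EssSurj where
  mem_essImage Y := by
    haveI := Localization.essSurj L W
    let i := L.objObjPreimageIso Y.left
    obtain ⟨ρ, hρ⟩ := Localization.exists_rightFraction L W (i.hom ≫ Y.hom)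
    haveI : IsIso (L.map ρ.s) := Localization.inverts L W _ ρ.hs
    refine ⟨Over.mk ρ.f, ⟨Over.isoMk ((@asIso _ _ _ _ (L.map ρ.s) this) ≪≫ i) ?_⟩⟩
    change (L.map ρ.s ≫ i.hom) ≫ Y.hom = L.map ρ.f
    rw [Category.assoc, hρ, MorphismProperty.RightFraction.map_s_comp_map]

include W L e in
lemma essSurj : Φ.EssSurj where
  mem_essImage Y := by
    haveI := essSurj_post W S L
    exact ⟨L'.obj ((Over.post L).objPreimage Y),
      ⟨e.app _ ≪≫ (Over.post L).objObjPreimageIso Y⟩⟩

include W L e in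
lemma faithful_aux {X Y : Over S} (φ₁ φ₂ : L'.obj X ⟶ L'.obj Y)
    (h : Φ.map φ₁ = Φ.map φ₂) : φ₁ = φ₂ := by
  obtain ⟨ρ₁, rfl⟩ := Localization.exists_rightFraction L' (WS W S) φ₁
  obtain ⟨ρ₂, rfl⟩ := Localization.exists_rightFraction L' (WS W S) φ₂
  have k1 := key W S L L' Φ e ρ₁
  have k2 := key W S L L' Φ e ρ₂
  have k : (forgetFrac W S ρ₁).map L (Localization.inverts L W) =
      (forgetFrac W S ρ₂).map L (Localization.inverts L W) := by rw [← k1, ← k2, h]
  rw [MorphismProperty.RightFraction.map_eq_iff] at k ⊢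
  obtain ⟨Z, t₁, t₂, hst, hft, ht⟩ := k
  dsimp [forgetFrac] at t₁ t₂ hst hft ht
  refine ⟨Over.mk (t₂ ≫ ρ₂.s.left ≫ X.hom), Over.homMk t₁ ?_, Over.homMk t₂ ?_, ?_, ?_, ?_⟩
  · dsimp
    rw [← reassoc_of% hst, Over.w]
  · dsimp
    rw [Over.w]
  · ext
    exact hst
  · ext
    exact hft
  · change W (t₁ ≫ ρ₁.s.left)
    exact ht

include W L e in
lemma faithful : Φ.Faithful where
  map_injective {a b} φ₁ φ₂ h := by
    haveI := Localization.essSurj L' (WS W S)
    let iX := L'.objObjPreimageIso a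
    let iY := L'.objObjPreimageIso b
    have := faithful_aux W S L L' Φ e (iX.hom ≫ φ₁ ≫ iY.inv) (iX.hom ≫ φ₂ ≫ iY.inv)
      (by simp [h])
    simpa using this

include W L e in
lemma full_aux {X Y : Over S} (ψ : (Over.post L).obj X ⟶ (Over.post L).obj Y) :
    ∃ φ : L'.obj X ⟶ L'.obj Y, e.inv.app X ≫ Φ.map φ ≫ e.hom.app Y = ψ := by
  obtain ⟨ρ, hρ⟩ := Localization.exists_rightFraction L W ψ.left
  have hw : ψ.left ≫ L.map Y.hom = L.map X.hom := Over.w ψ
  have h1 : L.map (ρ.f ≫ Y.hom) = L.map (ρ.s ≫ X.hom) := by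
    have hw' : ρ.map L (Localization.inverts L W) ≫ L.map Y.hom = L.map X.hom := by
      rw [← hρ]; exact hw
    rw [L.map_comp, L.map_comp, ← hw', MorphismProperty.RightFraction.map_s_comp_map_assoc]
  obtain ⟨Z, t, ht, fac⟩ := (MorphismProperty.map_eq_iff_precomp L W _ _).1 h1
  let Z' : Over S := Over.mk (t ≫ ρ.s ≫ X.hom)
  let s' : Z' ⟶ X := Over.homMk (t ≫ ρ.s) (by simp [Z'])
  let f' : Z' ⟶ Y := Over.homMk (t ≫ ρ.f) (by simp [Z', fac])
  let ρ' : (WS W S).RightFraction X Y :=
    MorphismProperty.RightFraction.mk s' (W.comp_mem _ _ ht ρ.hs) f'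
  refine ⟨ρ'.map L' (Localization.inverts L' (WS W S)), ?_⟩
  have hψ : leftD S L ψ = ρ.map L (Localization.inverts L W) := hρ
  apply leftD_ext
  rw [key W S L L' Φ e ρ', hψ]
  haveI : IsIso (L.map ρ.s) := Localization.inverts L W _ ρ.hs
  haveI : IsIso (L.map (forgetFrac W S ρ').s) :=
    Localization.inverts L W _ (forgetFrac W S ρ').hs
  rw [← cancel_epi (L.map (forgetFrac W S ρ').s),
    MorphismProperty.RightFraction.map_s_comp_map]
  change L.map (t ≫ ρ.f) = L.map (t ≫ ρ.s) ≫ _
  rw [L.map_comp, L.map_comp, Category.assoc, MorphismProperty.RightFraction.map_s_comp_map]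

include W L e in
lemma full : Φ.Full where
  map_surjective {a b} ψ := by
    haveI := Localization.essSurj L' (WS W S)
    let iX := L'.objObjPreimageIso a
    let iY := L'.objObjPreimageIso b
    obtain ⟨φ', hφ'⟩ := full_aux W S L L' Φ e
      (e.inv.app _ ≫ Φ.map iX.hom ≫ ψ ≫ Φ.map iY.inv ≫ e.hom.app _)
    have h2 : Φ.map φ' = Φ.map iX.hom ≫ ψ ≫ Φ.map iY.inv := by
      have := congrArg (fun m => e.hom.app _ ≫ m ≫ e.inv.app _) hφ'
      simpa using this
    refine ⟨iX.inv ≫ φ' ≫ iY.hom, ?_⟩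
    rw [Φ.map_comp, Φ.map_comp, h2]
    simp [← Φ.map_comp_assoc, ← Φ.map_comp]

include W L e in
theorem isEquivalence : Φ.IsEquivalence :=
  { faithful := faithful W S L L' Φ e
    full := full W S L L' Φ e
    essSurj := essSurj W S L L' Φ e }

end

end Groth.Agent.Lib.Helper17.OverLoc
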