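import Groth.Agent.Lib.Helper17.RpushQC
import Groth.Agent.Lib.Helper17.RFRlim
import Groth.Agent.Lib.Helper17.QcSec
import Groth.Agent.Lib.Helper17.ApproxExt
import Groth.Agent.Lib.Helper28.DCohTilde7
import Groth.Agent.Lib.Helper28.DCohRes28
import Groth.Agent.Lib.Helper29.QCohLocFree

/-!
# Pseudo-coherence of `Rf_*` on unbounded complexes from the bounded case
-/

set_option autoImplicit false
universe u

open CategoryTheory Limits Opposite AlgebraicGeometry TopologicalSpace CochainComplex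

attribute [local instance] HasDerivedCategory.standard

namespace Groth.Agent.Lib.Helper17.PCPush

open Pretriangulated DerivedCategory
open Groth.Agent.Lib.Helper17.RFTri Groth.Agent.Lib.Helper17.RFRlim
open Groth.Agent.Lib.Helper17.DerKInj Groth.Agent.Lib.Helper17.PushCoh2
open Groth.Agent.Lib.Helper28.DCohRes

section Abstract

universe v₁ v₂ u₁ u₂ w₁ w₂

variable {A : Type u₁} [Category.{v₁} A] [Abelian A] [HasDerivedCategory.{w₁} A]
  {B : Type u₂} [Category.{v₂} B] [Abelian B] [HasDerivedCategory.{w₂} B]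
  (F : A ⥤ B) [F.Additive]
  [(Φ F).HasRightDerivedFunctor (HomotopyCategory.quasiIso A (ComplexShape.up ℤ))]
  (hA : HasKInjRes A)

include hA in
/-- `RF` commutes with shifts (objectwise). -/
lemma nonempty_RF_shift_iso (E : DerivedCategory A) (n : ℤ) :
    Nonempty ((RF F).obj (E⟦n⟧) ≅ ((RF F).obj E)⟦n⟧) := by
  obtain ⟨I, hI, ⟨e⟩⟩ := exists_kInjective_iso hA E
  haveI := hI
  let e1 : E⟦n⟧ ≅ DerivedCategory.Q.obj (I⟦n⟧) :=
    (CategoryTheory.shiftFunctor _ n).mapIso e ≪≫
      ((DerivedCategory.Q (C := A)).commShiftIso n).symm.app I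
  let e2 : DerivedCategory.Q.obj ((F.mapHomologicalComplex (ComplexShape.up ℤ)).obj (I⟦n⟧)) ≅
      (DerivedCategory.Q.obj ((F.mapHomologicalComplex (ComplexShape.up ℤ)).obj I))⟦n⟧ :=
    DerivedCategory.Q.mapIso (((F.mapHomologicalComplex (ComplexShape.up ℤ)).commShiftIso n).app I)
      ≪≫ ((DerivedCategory.Q (C := B)).commShiftIso n).app _
  exact ⟨(RF F).mapIso e1 ≪≫ RFIso F hA (I⟦n⟧) ≪≫ e2 ≪≫
    (CategoryTheory.shiftFunctor _ n).mapIso ((RF F).mapIso e ≪≫ RFIso F hA I).symm⟩

end Abstract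

variable {X Y : Scheme.{u}}

/-- the cohomology sheaves of a shift. -/
noncomputable def HDshiftIso (E : DCoh.D X) (n a a' : ℤ) (h : n + a = a') :
    DCoh.HD (E⟦n⟧) a ≅ DCoh.HD E a' :=
  ((DerivedCategory.homologyFunctor X.Modules 0).shiftIso n a a' h).app E

lemma isQCohD_shift (E : DCoh.D X) (hE : DCoh.IsQCohD E) (n : ℤ) : DCoh.IsQCohD (E⟦n⟧) := by
  intro i
  haveI : (DCoh.HD E (n + i)).IsQuasicoherent := hE (n + i)
  exact (SheafOfModules.isQuasicoherent X.ringCatSheaf).prop_of_iso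
    (HDshiftIso E n i (n + i) rfl).symm (hE (n + i))

/-- finite cohomological dimension of `Rf_*` on `D_QCoh`, with an arbitrary upper bound. -/
theorem exists_bound' (f : X ⟶ Y) [QuasiCompact f] [QuasiSeparated f] [CompactSpace Y] :
    ∃ N : ℤ, ∀ (E : DCoh.D X) (b : ℤ), DCoh.IsQCohD E → E.IsLE b → ∀ m : ℤ, N + b ≤ m →
      IsZero (DCoh.HD ((DCoh.Rpush f).obj E) m) := by
  obtain ⟨N, hN⟩ := Groth.Agent.Lib.Helper17.RpushQC.exists_bound f
  refine ⟨N, fun E b hE hLE m hm => ?_⟩
  haveI := hLE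
  haveI : (E⟦b⟧).IsLE 0 := DerivedCategory.TStructure.t.isLE_shift E b b 0 (by omega)
  have h1 := hN (E⟦b⟧) (isQCohD_shift E hE b) inferInstance (m - b) (by omega)
  obtain ⟨e⟩ := nonempty_RF_shift_iso (Scheme.Modules.pushforward f) (hA X) E b
  refine IsZero.of_iso h1 ?_
  exact (HDshiftIso ((DCoh.Rpush f).obj E) b (m - b) m (by omega)).symm ≪≫
    (DerivedCategory.homologyFunctor Y.Modules (m - b)).mapIso e.symm

/-- a pseudo-coherent object has quasi-coherent cohomology sheaves. -/
theorem isQCohD_of_isPseudoCoherentD (K : DCoh.D X) (hK : ∀ m : ℤ, DCoh.IsPseudoCoherentD m K) :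
    DCoh.IsQCohD K := by
  intro i
  apply isQuasicoherent_of_locally
  intro x
  obtain ⟨U, j, hj, hx, E, α, hE, hα⟩ := (isPseudoCoherentD_iff (i - 1) K).1 (hK (i - 1)) x
  refine ⟨U, j, hj, hx, ?_⟩
  have hiso : IsIso ((DerivedCategory.homologyFunctor U.Modules i).map α) := hα.1 i (by omega)
  have hq : (E.homology i).IsQuasicoherent :=
    Groth.Agent.Lib.Helper17.QcSec.isQuasicoherent_homology E
      (fun n => Groth.Agent.Lib.Helper29.QCoh.isQuasicoherent_of_isFinLocFree (hE.2 n)) i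
  exact (SheafOfModules.isQuasicoherent U.ringCatSheaf).prop_of_iso
    (((DerivedCategory.homologyFunctorFactors U.Modules i).app E).symm ≪≫
      @asIso _ _ _ _ _ hiso ≪≫ HDresDIso j K i) hq

/-- the truncation triangle `τ_{<a} F ⟶ F ⟶ τ_{≥a} F`. -/
lemma exists_trunc_triangle (F : DCoh.D X) (a : ℤ) :
    ∃ (A B : DCoh.D X) (u : A ⟶ F) (v : F ⟶ B) (w : B ⟶ A⟦(1 : ℤ)⟧),
      Triangle.mk u v w ∈ distTriang (DCoh.D X) ∧ A.IsLE (a - 1) ∧ B.IsGE a :=
  ⟨_, _, _, _, _, DerivedCategory.TStructure.t.triangleLTGE_distinguished a F,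
    inferInstanceAs (DerivedCategory.TStructure.t.IsLE
      ((DerivedCategory.TStructure.t.triangleLTGE a).obj F).obj₁ (a - 1)),
    inferInstanceAs (DerivedCategory.TStructure.t.IsGE
      ((DerivedCategory.TStructure.t.triangleLTGE a).obj F).obj₃ a)⟩

section Main

variable (f : X ⟶ Y) [QuasiCompact f] [QuasiSeparated f] [CompactSpace Y]

/-- **pseudo-coherence of `Rf_* F` for unbounded pseudo-coherent `F`, from the bounded case.** -/
theorem isPseudoCoherentD_Rpush (k : ℤ)
    (hK : ∀ (F : DCoh.D X) (n a b : ℤ), F.IsGE a → F.IsLE b → DCoh.IsPseudoCoherentD n F →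
      DCoh.IsPseudoCoherentD (n + k) ((DCoh.Rpush f).obj F))
    (F : DCoh.D X) (hF : ∀ m : ℤ, DCoh.IsPseudoCoherentD m F) (m : ℤ) :
    DCoh.IsPseudoCoherentD m ((DCoh.Rpush f).obj F) := by
  haveI : CompactSpace X := by
    have := QuasiCompact.isCompact_preimage (f := f) (U := Set.univ) isOpen_univ isCompact_univ
    rw [Set.preimage_univ] at this
    exact isCompact_univ_iff.1 this
  obtain ⟨N, hN⟩ := exists_bound' f
  obtain ⟨b, hb⟩ := Groth.Agent.Lib.Helper28.DCohTilde.exists_isLE_of_isPseudoCoherentD F 0 (hF 0)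
  have hFq := isQCohD_of_isPseudoCoherentD F hF
  -- the truncation degree
  let a : ℤ := min (min (m - N + 1) (m - k + 1)) b
  have ha1 : N + (a - 1) ≤ m := by
    have : a ≤ m - N + 1 := le_trans (min_le_left _ _) (min_le_left _ _)
    omega
  have ha2 : a - 1 ≤ m - k := by
    have : a ≤ m - k + 1 := le_trans (min_le_left _ _) (min_le_right _ _)
    omega
  have ha3 : a ≤ b := min_le_right _ _
  obtain ⟨A, B, u, v, w, hT, hAle, hB⟩ := exists_trunc_triangle F a
  haveI := hAle
  haveI := hB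
  haveI := hb
  -- cohomology of `A`
  have hAz : ∀ i : ℤ, a ≤ i → IsZero ((DerivedCategory.homologyFunctor X.Modules i).obj A) :=
    fun i hi => DerivedCategory.isZero_of_isLE A (a - 1) i (by omega)
  have hBz : ∀ i : ℤ, i < a → IsZero ((DerivedCategory.homologyFunctor X.Modules i).obj B) :=
    fun i hi => DerivedCategory.isZero_of_isGE B a i hi
  have hAq : DCoh.IsQCohD A := by
    intro i
    by_cases hi : i < a
    · haveI : Epi ((DerivedCategory.homologyFunctor X.Modules i).map u) :=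
        (HomologySequence.epi_homologyMap_mor₁_iff _ hT i).2 ((hBz i hi).eq_of_tgt _ _)
      haveI : Mono ((DerivedCategory.homologyFunctor X.Modules i).map u) :=
        (HomologySequence.mono_homologyMap_mor₁_iff _ hT (i - 1) i (by omega)).2
          ((hBz (i - 1) (by omega)).eq_of_src _ _)
      haveI : IsIso ((DerivedCategory.homologyFunctor X.Modules i).map u) :=
        isIso_of_mono_of_epi _
      exact (SheafOfModules.isQuasicoherent X.ringCatSheaf).prop_of_iso
        (asIso ((DerivedCategory.homologyFunctor X.Modules i).map u)).symm (hFq i)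
    · exact isQuasicoherent_of_isZero (hAz i (by omega))
  -- `B` is bounded
  have hBle : B.IsLE b := by
    rw [DerivedCategory.isLE_iff]
    intro i hi
    refine (HomologySequence.exact₃ _ hT i (i + 1) rfl).isZero_of_both_zeros
      ((DerivedCategory.isZero_of_isLE F b i hi).eq_of_src _ _)
      ((hAz (i + 1) (by omega)).eq_of_tgt _ _)
  -- pseudo-coherence of `A` and `B`
  have hApc : ∀ n : ℤ, a ≤ n → DCoh.IsPseudoCoherentD n A := fun n hn =>
    isPseudoCoherentD_of_isZero_homology (fun i hi => hAz i (by omega))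
  have hBpc : DCoh.IsPseudoCoherentD (m - k) B :=
    (isPseudoCoherentD_triangle (m - k) _ hT).1 (hApc _ (by omega)) (hF _)
  have h1 : DCoh.IsPseudoCoherentD m ((DCoh.Rpush f).obj B) := by
    have := hK B (m - k) a b hB hBle hBpc
    rwa [sub_add_cancel] at this
  have h2 : DCoh.IsPseudoCoherentD m ((DCoh.Rpush f).obj A) :=
    isPseudoCoherentD_of_isZero_homology (fun i hi => hN A (a - 1) hAq hAle i (by omega))
  obtain ⟨δ, hδ⟩ := exists_distinguished_RF (Scheme.Modules.pushforward f) (hA X) _ hT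
  exact (isPseudoCoherentD_triangle m _ hδ).2.1 h2 h1

end Main

end Groth.Agent.Lib.Helper17.PCPush
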