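import Mathlib

/-!
# p-linear endomorphisms over an algebraically closed field (Fitting + Lang/Dieudonné)
-/

set_option autoImplicit false
set_option linter.style.haveILetI false
set_option linter.unusedSectionVars false

open Polynomial

namespace Groth.Agent.Lib.Helper17.PLinear

variable {p : ℕ} [hp : Fact p.Prime] {k : Type*} [Field k] [CharP k p]
variable {V : Type*} [AddCommGroup V] [Module k V]

section Iterate

variable (F : V →ₛₗ[frobenius k p] V)

theorem iter_add (m : ℕ) (a b : V) : (⇑F)^[m] (a + b) = (⇑F)^[m] a + (⇑F)^[m] b := by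
  induction m generalizing a b with
  | zero => rfl
  | succ m ih => rw [Function.iterate_succ_apply, map_add, ih, ← Function.iterate_succ_apply,
      ← Function.iterate_succ_apply]

theorem iter_zero (m : ℕ) : (⇑F)^[m] 0 = 0 := by
  induction m with
  | zero => rfl
  | succ m ih => rw [Function.iterate_succ_apply, map_zero, ih]

theorem iter_smul (m : ℕ) (c : k) (a : V) : (⇑F)^[m] (c • a) = c ^ (p ^ m) • (⇑F)^[m] a := by
  induction m generalizing c a with
  | zero => simp
  | succ m ih =>
    rw [Function.iterate_succ_apply, map_smulₛₗ, ih, ← Function.iterate_succ_apply,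
      frobenius_def, ← pow_mul, pow_succ']

theorem iter_fixed (m : ℕ) (a : V) (ha : F a = a) : (⇑F)^[m] a = a :=
  Function.iterate_fixed ha m

end Iterate

section AddPoly

variable (p) in
/-- the additive polynomials -/
noncomputable def P (a : ℕ → k) : ℕ → k[X]
  | 0 => C (a 0) * X
  | (i + 1) => (P a i) ^ p + C (a (i + 1)) * X

theorem P_eval_zero (a : ℕ → k) (i : ℕ) : (P p a i).eval 0 = 0 := by
  induction i with
  | zero => simp [P]
  | succ i ih => simp [P, ih, hp.out.ne_zero]

theorem P_natDegree (a : ℕ → k) (h0 : a 0 ≠ 0) (i : ℕ) : (P p a i).natDegree = p ^ i := by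
  induction i with
  | zero =>
    show (C (a 0) * X).natDegree = p ^ 0
    rw [natDegree_C_mul_X _ h0, pow_zero]
  | succ i ih =>
    show ((P p a i) ^ p + C (a (i + 1)) * X).natDegree = p ^ (i + 1)
    have h1 : ((P p a i) ^ p).natDegree = p ^ (i + 1) := by
      rw [natDegree_pow, ih, pow_succ, mul_comm]
    have h2 : (C (a (i + 1)) * X).natDegree < ((P p a i) ^ p).natDegree := by
      rw [h1]
      refine lt_of_le_of_lt ((natDegree_C_mul_le _ _).trans natDegree_X_le) ?_
      exact Nat.one_lt_pow (Nat.succ_ne_zero i) hp.out.one_lt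
    rw [natDegree_add_eq_left_of_natDegree_lt h2, h1]

theorem exists_root [IsAlgClosed k] (a : ℕ → k) (h0 : a 0 ≠ 0) (i : ℕ) :
    ∃ t : k, t ≠ 0 ∧ ((P p a i).eval t) ^ p = t := by
  have hp1 : 1 ≤ p - 1 := by have := hp.out.two_le; omega
  obtain ⟨R, hR⟩ : ∃ R : k[X], P p a i = X * R := by
    have : (X : k[X]) ∣ P p a i := by
      rw [X_dvd_iff, coeff_zero_eq_eval_zero, P_eval_zero]
    exact this
  have hR0 : R ≠ 0 := by
    rintro rfl
    have := P_natDegree a h0 i
    rw [hR, mul_zero, natDegree_zero] at this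
    exact (pow_pos hp.out.pos i).ne this
  set G : k[X] := X ^ (p - 1) * R ^ p - C 1 with hG
  have hdeg : G.degree ≠ 0 := by
    have h1 : G.natDegree = (p - 1) + p * R.natDegree := by
      rw [hG, natDegree_sub_C, natDegree_mul (pow_ne_zero _ X_ne_zero) (pow_ne_zero _ hR0),
        natDegree_X_pow, natDegree_pow]
    intro h
    have h2 : G.natDegree = 0 := natDegree_eq_of_degree_eq_some h
    rw [h1] at h2
    omega
  obtain ⟨t, ht⟩ := IsAlgClosed.exists_root G hdeg
  have ht' : t ^ (p - 1) * (R.eval t) ^ p = 1 := by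
    have : G.eval t = 0 := ht
    rw [hG, eval_sub, eval_mul, eval_pow, eval_pow, eval_X, eval_C, sub_eq_zero] at this
    exact this
  have ht0 : t ≠ 0 := by
    rintro rfl
    rw [zero_pow (by omega), zero_mul] at ht'
    exact zero_ne_one ht'
  refine ⟨t, ht0, ?_⟩
  rw [hR, eval_mul, eval_X, mul_pow]
  have : t ^ p = t * t ^ (p - 1) := by
    rw [← pow_succ', Nat.sub_add_cancel hp.out.one_le]
  rw [this, mul_assoc, ht', mul_one]

end AddPoly

section LemmaC

variable [IsAlgClosed k] [FiniteDimensional k V] (F : V →ₛₗ[frobenius k p] V)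

/-- the spans of the first `j` iterates -/
def S (v : V) (j : ℕ) : Submodule k V :=
  Submodule.span k (Set.range (fun i : Fin j => (⇑F)^[i] v))

theorem S_mono (v : V) : Monotone (S F v) := by
  intro j j' h
  apply Submodule.span_mono
  rintro _ ⟨i, rfl⟩
  exact ⟨⟨i, lt_of_lt_of_le i.2 h⟩, rfl⟩

theorem mem_S (v : V) {i j : ℕ} (h : i < j) : (⇑F)^[i] v ∈ S F v j :=
  Submodule.subset_span ⟨⟨i, h⟩, rfl⟩

theorem exists_fixed_ne_zero [Nontrivial V] (hinj : Function.Injective F) :
    ∃ x : V, x ≠ 0 ∧ F x = x := by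
  obtain ⟨v, hv⟩ := exists_ne (0 : V)
  set e : ℕ → V := fun i => (⇑F)^[i] v with he
  have hesucc : ∀ i, e (i + 1) = F (e i) := fun i => Function.iterate_succ_apply' _ _ _
  have hex : ∃ m, e m ∈ S F v m := by
    obtain ⟨n, hn⟩ := monotone_stabilizes_iff_noetherian.mpr
      (inferInstance : IsNoetherian k V) ⟨S F v, S_mono F v⟩
    refine ⟨n, ?_⟩
    have : S F v n = S F v (n + 1) := hn (n + 1) (Nat.le_succ n)
    rw [this]
    exact mem_S F v (Nat.lt_succ_self n)
  classical
  set m := Nat.find hex with hm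
  have hmem : e m ∈ S F v m := Nat.find_spec hex
  have hmin : ∀ j, j < m → e j ∉ S F v j := fun j hj => Nat.find_min hex hj
  have hm0 : m ≠ 0 := by
    intro h0
    rw [h0] at hmem
    have : S F v 0 = ⊥ := by
      rw [S, Set.range_eq_empty, Submodule.span_empty]
    rw [this, Submodule.mem_bot] at hmem
    exact hv hmem
  obtain ⟨m', hm'⟩ := Nat.exists_eq_succ_of_ne_zero hm0
  rw [hm'] at hmem hmin
  obtain ⟨a', ha'⟩ := (Submodule.mem_span_range_iff_exists_fun k).mp hmem
  -- a' 0 ≠ 0
  have h0 : a' 0 ≠ 0 := by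
    intro h0
    rw [Fin.sum_univ_succ, h0, zero_smul, zero_add] at ha'
    choose b hb using fun i : Fin m' => IsAlgClosed.exists_pow_nat_eq (a' i.succ) hp.out.pos
    have h1 : F (∑ i : Fin m', b i • e i) = F (e m') := by
      rw [map_sum, ← hesucc, ← ha']
      refine Finset.sum_congr rfl (fun i _ => ?_)
      rw [map_smulₛₗ, frobenius_def, hb, ← hesucc]
      rfl
    have h2 := hinj h1
    apply hmin m' (Nat.lt_succ_self m')
    rw [← h2]
    exact Submodule.sum_mem _ (fun i _ => Submodule.smul_mem _ _ (mem_S F v i.2))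
  set a : ℕ → k := fun i => if h : i < m' + 1 then a' ⟨i, h⟩ else 0 with ha
  have ha0 : a 0 ≠ 0 := by
    simp only [ha, Nat.zero_lt_succ, dif_pos]
    exact h0
  have hrel : e (m' + 1) = ∑ i ∈ Finset.range (m' + 1), a i • e i := by
    rw [Finset.sum_range, ← ha']
    refine Finset.sum_congr rfl (fun i _ => ?_)
    simp only [ha, i.2, dif_pos]
    rfl
  obtain ⟨t, ht0, ht⟩ := exists_root (p := p) a ha0 m'
  set c : ℕ → k := fun i => (P p a i).eval t with hc
  have hc0 : c 0 = a 0 * t := by simp [hc, P]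
  have hcs : ∀ i, c (i + 1) = (c i) ^ p + a (i + 1) * t := by
    intro i
    simp [hc, P]
  set x : V := ∑ i ∈ Finset.range (m' + 1), c i • e i with hx
  have hFx : F x = x := by
    have e1 : F x = ∑ i ∈ Finset.range m', (c i) ^ p • e (i + 1) +
        t • (a 0 • e 0 + ∑ i ∈ Finset.range m', a (i + 1) • e (i + 1)) := by
      rw [hx, map_sum, Finset.sum_range_succ]
      congr 1
      · refine Finset.sum_congr rfl (fun i _ => ?_)
        rw [map_smulₛₗ, frobenius_def, hesucc]
      · rw [map_smulₛₗ, frobenius_def, ← hesucc, ht, hrel, Finset.sum_range_succ', add_comm]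
    have e2 : x = (a 0 * t) • e 0 +
        ∑ i ∈ Finset.range m', ((c i) ^ p + a (i + 1) * t) • e (i + 1) := by
      rw [hx, Finset.sum_range_succ', add_comm, hc0]
      congr 1
      refine Finset.sum_congr rfl (fun i _ => ?_)
      rw [hcs]
    rw [e1]
    conv_rhs => rw [e2]
    simp only [add_smul, Finset.sum_add_distrib, smul_add, Finset.smul_sum, smul_smul]
    rw [mul_comm t (a 0)]
    have : ∀ i, t * a (i + 1) = a (i + 1) * t := fun i => mul_comm _ _
    simp only [this]
    abel
  refine ⟨x, ?_, hFx⟩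
  intro hx0
  have hcm : c m' ≠ 0 := by
    intro h
    have : (c m') ^ p = t := ht
    rw [h, zero_pow hp.out.ne_zero] at this
    exact ht0 this.symm
  apply hmin m' (Nat.lt_succ_self m')
  have h3 : c m' • e m' = -∑ i ∈ Finset.range m', c i • e i := by
    rw [hx, Finset.sum_range_succ] at hx0
    exact eq_neg_of_add_eq_zero_right hx0
  have h4 : e m' = (c m')⁻¹ • (-∑ i ∈ Finset.range m', c i • e i) := by
    rw [← h3, smul_smul, inv_mul_cancel₀ hcm, one_smul]
  rw [h4]
  refine Submodule.smul_mem _ _ (Submodule.neg_mem _ ?_)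
  exact Submodule.sum_mem _ (fun i hi =>
    Submodule.smul_mem _ _ (mem_S F v (Finset.mem_range.mp hi)))

end LemmaC

section Lang

variable (F : V →ₛₗ[frobenius k p] V)

/-- span of the fixed vectors -/
def fixedSpan : Submodule k V := Submodule.span k {v | F v = v}

/-- span of the vectors killed by an iterate -/
def nilSpan : Submodule k V := Submodule.span k {v | ∃ m, (⇑F)^[m] v = 0}

variable [IsAlgClosed k]

theorem fixedSpan_surj : ∀ w ∈ fixedSpan F, ∀ a : k, ∃ w' ∈ fixedSpan F, F w' = a • w := by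
  intro w hw
  induction hw using Submodule.span_induction with
  | mem v hv =>
    intro a
    obtain ⟨b, hb⟩ := IsAlgClosed.exists_pow_nat_eq a hp.out.pos
    refine ⟨b • v, Submodule.smul_mem _ _ (Submodule.subset_span hv), ?_⟩
    rw [map_smulₛₗ, frobenius_def, hb, hv]
  | zero =>
    intro a
    exact ⟨0, Submodule.zero_mem _, by simp⟩
  | add x y _ _ hx hy =>
    intro a
    obtain ⟨x', hx', hx''⟩ := hx a
    obtain ⟨y', hy', hy''⟩ := hy a
    exact ⟨x' + y', Submodule.add_mem _ hx' hy', by rw [map_add, hx'', hy'', smul_add]⟩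
  | smul c x _ hx =>
    intro a
    obtain ⟨x', hx', hx''⟩ := hx (a * c)
    exact ⟨x', hx', by rw [hx'', mul_smul]⟩

theorem artin_schreier : ∀ w ∈ fixedSpan F, ∀ a : k, ∃ w' ∈ fixedSpan F, F w' - w' = a • w := by
  intro w hw
  induction hw using Submodule.span_induction with
  | mem v hv =>
    intro a
    have hdeg : (X ^ p - X - C a : k[X]).degree ≠ 0 := by
      have h1 : (X ^ p - X - C a : k[X]).natDegree = p := by
        rw [natDegree_sub_C, FiniteField.X_pow_card_sub_X_natDegree_eq k hp.out.one_lt]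
      intro h
      have h2 := natDegree_eq_of_degree_eq_some h
      rw [h1] at h2
      exact hp.out.ne_zero h2
    obtain ⟨b, hb⟩ := IsAlgClosed.exists_root _ hdeg
    have hb' : b ^ p - b = a := by
      have : (X ^ p - X - C a : k[X]).eval b = 0 := hb
      simp only [eval_sub, eval_pow, eval_X, eval_C, sub_eq_zero] at this
      exact this
    refine ⟨b • v, Submodule.smul_mem _ _ (Submodule.subset_span hv), ?_⟩
    rw [map_smulₛₗ, frobenius_def, hv, ← sub_smul, hb']
  | zero =>
    intro a
    exact ⟨0, Submodule.zero_mem _, by simp⟩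
  | add x y _ _ hx hy =>
    intro a
    obtain ⟨x', hx', hx''⟩ := hx a
    obtain ⟨y', hy', hy''⟩ := hy a
    refine ⟨x' + y', Submodule.add_mem _ hx' hy', ?_⟩
    rw [map_add, smul_add, ← hx'', ← hy'']
    abel
  | smul c x _ hx =>
    intro a
    obtain ⟨x', hx', hx''⟩ := hx (a * c)
    exact ⟨x', hx', by rw [hx'', mul_smul]⟩

theorem fixedSpan_stable : fixedSpan F ≤ (fixedSpan F).comap F := by
  intro w hw
  rw [Submodule.mem_comap]
  induction hw using Submodule.span_induction with
  | mem v hv => rw [hv]; exact Submodule.subset_span hv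
  | zero => rw [map_zero]; exact Submodule.zero_mem _
  | add x y _ _ hx hy => rw [map_add]; exact Submodule.add_mem _ hx hy
  | smul c x _ hx => rw [map_smulₛₗ]; exact Submodule.smul_mem _ _ hx

theorem lang [FiniteDimensional k V] (hinj : Function.Injective F) : fixedSpan F = ⊤ := by
  by_contra hne
  set W := fixedSpan F with hW
  haveI : Nontrivial (V ⧸ W) := Submodule.Quotient.nontrivial_iff.mpr hne
  let Fb : (V ⧸ W) →ₛₗ[frobenius k p] (V ⧸ W) := W.mapQ W F (fixedSpan_stable F)
  have hFb : ∀ u : V, Fb (Submodule.Quotient.mk u) = Submodule.Quotient.mk (F u) :=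
    fun u => Submodule.mapQ_apply _ _ _ _
  have hFbinj : Function.Injective Fb := by
    rw [injective_iff_map_eq_zero]
    intro xb hxb
    obtain ⟨u, rfl⟩ := Submodule.Quotient.mk_surjective W xb
    rw [hFb, Submodule.Quotient.mk_eq_zero] at hxb
    obtain ⟨w', hw', hw''⟩ := fixedSpan_surj F (F u) hxb 1
    rw [one_smul] at hw''
    have : w' = u := hinj hw''
    rw [Submodule.Quotient.mk_eq_zero, ← this]
    exact hw'
  obtain ⟨xb, hxb0, hxb⟩ := exists_fixed_ne_zero Fb hFbinj
  obtain ⟨u, rfl⟩ := Submodule.Quotient.mk_surjective W xb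
  apply hxb0
  rw [hFb, Submodule.Quotient.eq] at hxb
  obtain ⟨w', hw', hw''⟩ := artin_schreier F (F u - u) hxb (-1)
  have hfix : F (u + w') = u + w' := by
    rw [map_add]
    have : F w' = w' + (-1 : k) • (F u - u) := by rw [← hw'']; abel
    rw [this, neg_one_smul]
    abel
  have h1 : u + w' ∈ W := Submodule.subset_span hfix
  rw [Submodule.Quotient.mk_eq_zero]
  have : u = (u + w') - w' := by abel
  rw [this]
  exact Submodule.sub_mem _ h1 hw'

end Lang

section Fitting

universe u

variable [IsAlgClosed k]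

theorem mapQ_iter {V : Type*} [AddCommGroup V] [Module k V] (F : V →ₛₗ[frobenius k p] V)
    (W : Submodule k V) (hW : W ≤ W.comap F) (m : ℕ) (u : V) :
    (⇑(W.mapQ W F hW))^[m] (Submodule.Quotient.mk u) = Submodule.Quotient.mk ((⇑F)^[m] u) := by
  induction m generalizing u with
  | zero => rfl
  | succ m ih =>
    rw [Function.iterate_succ_apply, Function.iterate_succ_apply]
    have : (W.mapQ W F hW) (Submodule.Quotient.mk u) = Submodule.Quotient.mk (F u) :=
      Submodule.mapQ_apply _ _ _ _
    rw [this, ih]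

theorem sup_eq_top_aux : ∀ (d : ℕ) (V : Type u) [AddCommGroup V] [Module k V]
    [FiniteDimensional k V] (F : V →ₛₗ[frobenius k p] V), Module.finrank k V = d →
    fixedSpan F ⊔ nilSpan F = ⊤ := by
  intro d
  induction d using Nat.strong_induction_on with
  | _ d ih =>
  intro V _ _ _ F hd
  by_cases hinj : Function.Injective F
  · rw [lang F hinj, top_sup_eq]
  · set W : Submodule k V := LinearMap.ker F with hW
    have hWne : W ≠ ⊥ := fun h => hinj (LinearMap.ker_eq_bot.mp h)
    have hWstab : W ≤ W.comap F := by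
      intro w hw
      rw [Submodule.mem_comap, LinearMap.mem_ker.mp hw]
      exact Submodule.zero_mem _
    have hlt : Module.finrank k (V ⧸ W) < d := by
      have h1 := Submodule.finrank_quotient_add_finrank W
      have h2 : 0 < Module.finrank k W := by
        rw [Module.finrank_pos_iff]
        exact Submodule.nontrivial_iff_ne_bot.mpr hWne
      omega
    have ih' := ih _ hlt (V ⧸ W) (W.mapQ W F hWstab) rfl
    set Fb := W.mapQ W F hWstab with hFb
    set T := fixedSpan F ⊔ nilSpan F with hT
    have hWT : W ≤ T := by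
      refine le_trans ?_ le_sup_right
      intro w hw
      exact Submodule.subset_span ⟨1, LinearMap.mem_ker.mp hw⟩
    have h1 : fixedSpan Fb ≤ T.map W.mkQ := by
      apply Submodule.span_le.mpr
      intro xb hxb
      obtain ⟨u, rfl⟩ := Submodule.Quotient.mk_surjective W xb
      have hxb' : Fb (Submodule.Quotient.mk u) = Submodule.Quotient.mk u := hxb
      have : Fb (Submodule.Quotient.mk u) = Submodule.Quotient.mk (F u) :=
        Submodule.mapQ_apply _ _ _ _
      rw [this, Submodule.Quotient.eq] at hxb'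
      have hFF : F (F u) = F u := by
        have := LinearMap.mem_ker.mp hxb'
        rw [map_sub, sub_eq_zero] at this
        exact this
      refine ⟨u, ?_, rfl⟩
      have hu : u = F u - (F u - u) := by abel
      rw [hu]
      refine Submodule.sub_mem _ (le_sup_left (a := fixedSpan F) (Submodule.subset_span hFF))
        (hWT hxb')
    have h2 : nilSpan Fb ≤ T.map W.mkQ := by
      apply Submodule.span_le.mpr
      rintro xb ⟨m, hm⟩
      obtain ⟨u, rfl⟩ := Submodule.Quotient.mk_surjective W xb
      rw [hFb, mapQ_iter, Submodule.Quotient.mk_eq_zero] at hm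
      refine ⟨u, ?_, rfl⟩
      refine le_sup_right (a := fixedSpan F) (Submodule.subset_span ⟨m + 1, ?_⟩)
      rw [Function.iterate_succ_apply']
      exact LinearMap.mem_ker.mp hm
    have h3 : T.map W.mkQ = ⊤ := by
      rw [eq_top_iff, ← ih']
      exact sup_le h1 h2
    have h4 := Submodule.comap_map_mkQ W T
    rw [h3, Submodule.comap_top] at h4
    rw [h4]
    exact (sup_eq_right.mpr hWT).symm

theorem sup_eq_top {V : Type u} [AddCommGroup V] [Module k V]
    [FiniteDimensional k V] (F : V →ₛₗ[frobenius k p] V) :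
    fixedSpan F ⊔ nilSpan F = ⊤ := sup_eq_top_aux _ V F rfl

end Fitting

section Indep

variable (F : V →ₛₗ[frobenius k p] V)

open Classical in
theorem eq_intCast_of_pow_eq (x : k) (hx : x ^ p = x) : ∃ n : ℤ, (n : k) = x :=
  (mem_bot_iff_intCast p k).mp ((Subfield.mem_bot_iff_pow_eq_self k p).mpr hx)

open Classical in
/-- Artin-type argument: fixed vectors that are independent over `𝔽_p` are independent over `k`. -/
theorem indep_aux (s : Finset V) (hs : ∀ v ∈ s, F v = v)
    (hZ : ∀ c : s → ℤ, (∑ v : s, c v • (v : V)) = 0 → ∀ v : s, (p : ℤ) ∣ c v) :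
    ∀ (n : ℕ) (g : s → k), (Finset.univ.filter (fun i => g i ≠ 0)).card = n →
      (∑ v : s, g v • (v : V)) = 0 → g = 0 := by
  intro n
  induction n using Nat.strong_induction_on with
  | _ n ih =>
  intro g hcard hrel
  by_contra hg
  obtain ⟨i₀, hi₀⟩ : ∃ i₀, g i₀ ≠ 0 := by
    by_contra hcon
    push Not at hcon
    exact hg (funext hcon)
  set g' : s → k := fun i => g i / g i₀ with hg'
  have hrel' : (∑ v : s, g' v • (v : V)) = 0 := by
    have : (∑ v : s, g' v • (v : V)) = (g i₀)⁻¹ • ∑ v : s, g v • (v : V) := by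
      rw [Finset.smul_sum]
      refine Finset.sum_congr rfl (fun v _ => ?_)
      rw [smul_smul, hg']
      dsimp only
      rw [div_eq_inv_mul]
    rw [this, hrel, smul_zero]
  have hrelF : (∑ v : s, (g' v) ^ p • (v : V)) = 0 := by
    have := congrArg F hrel'
    rw [map_sum, map_zero] at this
    rw [← this]
    refine Finset.sum_congr rfl (fun v _ => ?_)
    rw [map_smulₛₗ, frobenius_def, hs v v.2]
  set h : s → k := fun i => (g' i) ^ p - g' i with hh
  have hrelh : (∑ v : s, h v • (v : V)) = 0 := by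
    simp only [hh, sub_smul, Finset.sum_sub_distrib, hrelF, hrel', sub_zero]
  have hg'i₀ : g' i₀ = 1 := div_self hi₀
  have hsub : Finset.univ.filter (fun i => h i ≠ 0) ⊂ Finset.univ.filter (fun i => g i ≠ 0) := by
    rw [Finset.ssubset_iff_of_subset]
    · refine ⟨i₀, by simp [hi₀], ?_⟩
      simp [hh, hg'i₀]
    · intro i hi
      simp only [Finset.mem_filter, Finset.mem_univ, true_and] at hi ⊢
      intro hgi
      apply hi
      simp [hh, hg', hgi, hp.out.ne_zero]
  have hh0 : h = 0 := ih _ (hcard ▸ Finset.card_lt_card hsub) h rfl hrelh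
  have hfix : ∀ i, (g' i) ^ p = g' i := fun i => by
    have := congrFun hh0 i
    simpa [hh, sub_eq_zero] using this
  choose c hc using fun i => eq_intCast_of_pow_eq (p := p) (g' i) (hfix i)
  have hrelc : (∑ v : s, c v • (v : V)) = 0 := by
    rw [← hrel']
    refine Finset.sum_congr rfl (fun v _ => ?_)
    rw [← hc v, Int.cast_smul_eq_zsmul]
  have hdvd := hZ c hrelc i₀
  have : ((c i₀ : ℤ) : k) = 0 := (CharP.intCast_eq_zero_iff k p _).mpr hdvd
  rw [hc, hg'i₀] at this
  exact one_ne_zero this

theorem indep (s : Finset V) (hs : ∀ v ∈ s, F v = v)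
    (hZ : ∀ c : s → ℤ, (∑ v : s, c v • (v : V)) = 0 → ∀ v : s, (p : ℤ) ∣ c v) :
    LinearIndependent k (fun v : s => (v : V)) := by
  rw [Fintype.linearIndependent_iff]
  intro g hg i
  have := indep_aux F s hs hZ _ g rfl hg
  rw [this]
  rfl

end Indep

section Disjoint

variable (F : V →ₛₗ[frobenius k p] V)

theorem exists_iter_eq_zero_of_mem_nilSpan (x : V) (hx : x ∈ nilSpan F) :
    ∃ m, (⇑F)^[m] x = 0 := by
  induction hx using Submodule.span_induction with
  | mem v hv => exact hv
  | zero => exact ⟨0, rfl⟩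
  | add x y _ _ hx hy =>
    obtain ⟨m₁, h₁⟩ := hx
    obtain ⟨m₂, h₂⟩ := hy
    refine ⟨m₁ + m₂, ?_⟩
    have e1 : (⇑F)^[m₁ + m₂] y = 0 := by
      rw [Function.iterate_add_apply, h₂, iter_zero]
    have e2 : (⇑F)^[m₁ + m₂] x = 0 := by
      rw [add_comm, Function.iterate_add_apply, h₁, iter_zero]
    rw [iter_add, e1, e2, add_zero]
  | smul c x _ hx =>
    obtain ⟨m, hm⟩ := hx
    exact ⟨m, by rw [iter_smul, hm, smul_zero]⟩

/-- the `m`-th iterate as an additive map -/
def iterHom (m : ℕ) : V →+ V where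
  toFun := (⇑F)^[m]
  map_zero' := iter_zero F m
  map_add' := iter_add F m

theorem disjoint : Disjoint (fixedSpan F) (nilSpan F) := by
  rw [Submodule.disjoint_def]
  intro x hx1 hx2
  obtain ⟨m, hm⟩ := exists_iter_eq_zero_of_mem_nilSpan F x hx2
  obtain ⟨b, hbS, hbspan, hbli⟩ := exists_linearIndependent k {v : V | F v = v}
  have hx1' : x ∈ Submodule.span k b := by rw [hbspan]; exact hx1
  rw [← Set.image_id b, Finsupp.mem_span_image_iff_linearCombination] at hx1'
  obtain ⟨l, hl, rfl⟩ := hx1'
  rw [Finsupp.linearCombination_apply, Finsupp.sum] at hm ⊢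
  have h1 : (⇑F)^[m] (∑ a ∈ l.support, l a • id a) =
      ∑ a ∈ l.support, (l a) ^ (p ^ m) • a := by
    have := map_sum (iterHom F m) (fun a => l a • id a) l.support
    refine this.trans (Finset.sum_congr rfl (fun a ha => ?_))
    show (⇑F)^[m] (l a • a) = _
    have hab : a ∈ b := by
      have := hl ha
      exact this
    rw [iter_smul, iter_fixed F m a (hbS hab)]
  rw [h1] at hm
  have hli' := linearIndependent_iff'.mp hbli
  have hsupp : ∀ a ∈ l.support, a ∈ b := fun a ha => hl ha
  -- transfer the sum to the subtype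
  have h2 : ∑ a ∈ l.support.attach, (l a.1) ^ (p ^ m) • (a.1 : V) = 0 := by
    rw [Finset.sum_attach l.support (fun a => (l a) ^ (p ^ m) • a)]
    exact hm
  have h3 := hli' (l.support.attach.map ⟨fun a => (⟨a.1, hsupp a.1 a.2⟩ : b), by
      intro a a' haa'
      exact Subtype.ext (congrArg (fun z : b => (z : V)) haa')⟩)
    (fun z => (l z.1) ^ (p ^ m)) (by
      rw [Finset.sum_map]
      exact h2)
  refine Finset.sum_eq_zero (fun a ha => ?_)
  have h4 := h3 ⟨a, hsupp a ha⟩ (by
    rw [Finset.mem_map]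
    exact ⟨⟨a, ha⟩, Finset.mem_attach _ _, rfl⟩)
  have h5 : l a = 0 := by
    have : (l a) ^ (p ^ m) = 0 := h4
    exact pow_eq_zero_iff (pow_ne_zero m hp.out.ne_zero) |>.mp this
  rw [h5, zero_smul]

end Disjoint

section Main

universe u

theorem main (p : ℕ) [Fact p.Prime] (k : Type u) [Field k]
    [IsAlgClosed k] [CharP k p] (V : Type u) [AddCommGroup V] [Module k V] [FiniteDimensional k V]
    (F : V →+ V) (hF : ∀ (a : k) (v : V), F (a • v) = a ^ p • F v) :
    IsCompl (Submodule.span k {v : V | F v = v})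
        (Submodule.span k {v : V | ∃ m : ℕ, (⇑F)^[m] v = 0}) ∧
      ∀ (s : Finset V), (∀ v ∈ s, F v = v) →
        (∀ c : s → ℤ, (∑ v : s, c v • (v : V)) = 0 → ∀ v : s, (p : ℤ) ∣ c v) →
          LinearIndependent k (fun v : s => (v : V)) := by
  let F' : V →ₛₗ[frobenius k p] V :=
    { toFun := F
      map_add' := map_add F
      map_smul' := fun a v => by
        rw [hF, frobenius_def] }
  have hcoe : (⇑F' : V → V) = ⇑F := rfl
  refine ⟨?_, fun s hs hZ => indep F' s hs hZ⟩
  have h1 : Submodule.span k {v : V | F v = v} = fixedSpan F' := rfl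
  have h2 : Submodule.span k {v : V | ∃ m : ℕ, (⇑F)^[m] v = 0} = nilSpan F' := rfl
  rw [h1, h2]
  exact ⟨disjoint F', codisjoint_iff.mpr (sup_eq_top F')⟩

end Main

end Groth.Agent.Lib.Helper17.PLinear
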