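import Mathlib
import Groth.Agent.Lib.Helper17.PLinear

/-!
# Surjectivity of `F - 1` for p-linear endomorphisms (Lang), and the integral-algebra version
-/

set_option autoImplicit false
set_option linter.style.haveILetI false
set_option linter.unusedSectionVars false

open Polynomial

namespace Groth.Agent.Lib.Helper17.PLinear

section SubId

universe u

variable {p : ℕ} [hp : Fact p.Prime] {k : Type*} [Field k] [CharP k p] [IsAlgClosed k]
variable {V : Type u} [AddCommGroup V] [Module k V] [FiniteDimensional k V]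

theorem sub_id_surjective (F : V →ₛₗ[frobenius k p] V) :
    Function.Surjective (fun v => F v - v) := by
  -- the image is closed under addition
  have hadd : ∀ x y : V, (∃ x', F x' - x' = x) → (∃ y', F y' - y' = y) →
      ∃ z', F z' - z' = x + y := by
    rintro x y ⟨x', hx'⟩ ⟨y', hy'⟩
    exact ⟨x' + y', by rw [map_add, ← hx', ← hy']; abel⟩
  intro x
  have hx : x ∈ fixedSpan F ⊔ nilSpan F := by rw [sup_eq_top F]; trivial
  obtain ⟨y, hy, z, hz, rfl⟩ := Submodule.mem_sup.mp hx
  apply hadd
  · obtain ⟨w', -, hw'⟩ := artin_schreier F y hy 1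
    exact ⟨w', by rw [hw', one_smul]⟩
  · obtain ⟨m, hm⟩ := exists_iter_eq_zero_of_mem_nilSpan F z hz
    refine ⟨-∑ i ∈ Finset.range m, (⇑F)^[i] z, ?_⟩
    rw [map_neg, map_sum]
    have h1 : ∑ i ∈ Finset.range m, F ((⇑F)^[i] z) = ∑ i ∈ Finset.range m, (⇑F)^[i + 1] z :=
      Finset.sum_congr rfl (fun i _ => (Function.iterate_succ_apply' _ _ _).symm)
    rw [h1]
    have h2 : ∑ i ∈ Finset.range m, (⇑F)^[i + 1] z - ∑ i ∈ Finset.range m, (⇑F)^[i] z =
        (⇑F)^[m] z - (⇑F)^[0] z := by
      rw [← Finset.sum_sub_distrib]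
      exact Finset.sum_range_sub (fun i => (⇑F)^[i] z) m
    have h3 : -∑ i ∈ Finset.range m, (⇑F)^[i + 1] z - -∑ i ∈ Finset.range m, (⇑F)^[i] z =
        -((⇑F)^[m] z - (⇑F)^[0] z) := by rw [← h2]; abel
    rw [h3, hm]
    simp

end SubId

section Integral

universe u v w

theorem sub_id_surjective_of_integral (p : ℕ) [Fact p.Prime]
    (L : Type u) [Field L] [IsAlgClosed L] [CharP L p]
    (R : Type v) [CommRing R] [Algebra L R] [Algebra.IsIntegral L R] [ExpChar R p]
    (M : Type w) [AddCommGroup M] [Module R M] [Module.Finite R M]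
    (φ : M →ₛₗ[frobenius R p] M) :
    Function.Surjective fun m : M => φ m - m := by
  letI : Module L M := Module.compHom M (algebraMap L R)
  haveI : IsScalarTower L R M := IsScalarTower.of_algebraMap_smul (fun _ _ => rfl)
  intro m
  obtain ⟨n, s, hs⟩ := Module.Finite.exists_fin (R := R) (M := M)
  have hrep : ∀ x : M, ∃ c : Fin n → R, x = ∑ j, c j • s j := by
    intro x
    have hx : x ∈ Submodule.span R (Set.range s) := by rw [hs]; trivial
    obtain ⟨c, hc⟩ := (Submodule.mem_span_range_iff_exists_fun R).mp hx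
    exact ⟨c, hc.symm⟩
  choose c hc using fun i => hrep (φ (s i))
  obtain ⟨d, hd⟩ := hrep m
  let T : Set R := (Set.range fun ij : Fin n × Fin n => c ij.1 ij.2) ∪ Set.range d
  have hTfin : T.Finite := (Set.finite_range _).union (Set.finite_range _)
  let R₀ : Subalgebra L R := Algebra.adjoin L T
  have hcmem : ∀ i j, c i j ∈ R₀ := fun i j =>
    Algebra.subset_adjoin (Or.inl ⟨(i, j), rfl⟩)
  have hdmem : ∀ j, d j ∈ R₀ := fun j => Algebra.subset_adjoin (Or.inr ⟨j, rfl⟩)
  haveI : Module.Finite L R₀ := by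
    have : (Subalgebra.toSubmodule R₀).FG :=
      fg_adjoin_of_finite hTfin (fun x _ => Algebra.IsIntegral.isIntegral x)
    exact Module.Finite.iff_fg.mpr this
  let G : (Fin n → R₀) →ₗ[L] M :=
    { toFun := fun r => ∑ j, (r j : R) • s j
      map_add' := fun r r' => by
        simp only [Pi.add_apply, Subalgebra.coe_add, add_smul, Finset.sum_add_distrib]
      map_smul' := fun a r => by
        simp only [Pi.smul_apply, RingHom.id_apply, Finset.smul_sum]
        refine Finset.sum_congr rfl (fun j _ => ?_)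
        show ((a • r j : R₀) : R) • s j = (algebraMap L R a) • ((r j : R) • s j)
        rw [Subalgebra.coe_smul, Algebra.smul_def, mul_smul] }
  have hGapply : ∀ r : Fin n → R₀, G r = ∑ j, (r j : R) • s j := fun _ => rfl
  let V : Submodule L M := LinearMap.range G
  have hstab : ∀ x ∈ V, φ x ∈ V := by
    rintro _ ⟨r, rfl⟩
    refine ⟨fun l => ∑ j, (r j) ^ p * ⟨c j l, hcmem j l⟩, ?_⟩
    rw [hGapply, hGapply, map_sum]
    have h1 : ∀ j, φ ((r j : R) • s j) = ∑ l, ((r j : R) ^ p * c j l) • s l := by
      intro j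
      rw [map_smulₛₗ, frobenius_def, hc j, Finset.smul_sum]
      exact Finset.sum_congr rfl (fun l _ => by rw [smul_smul])
    rw [Finset.sum_congr rfl (fun j _ => h1 j), Finset.sum_comm]
    refine Finset.sum_congr rfl (fun l _ => ?_)
    rw [← Finset.sum_smul]
    congr 1
    simp
  let F : V →ₛₗ[frobenius L p] V :=
    { toFun := fun x => ⟨φ x.1, hstab x.1 x.2⟩
      map_add' := fun x y => Subtype.ext (map_add φ x.1 y.1)
      map_smul' := fun a x => by
        apply Subtype.ext
        show φ ((algebraMap L R a) • x.1) = (algebraMap L R (frobenius L p a)) • φ x.1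
        rw [map_smulₛₗ, frobenius_def, frobenius_def, map_pow] }
  have hm : m ∈ V := ⟨fun j => ⟨d j, hdmem j⟩, by rw [hGapply, hd]⟩
  obtain ⟨y, hy⟩ := sub_id_surjective F ⟨m, hm⟩
  exact ⟨y.1, congrArg Subtype.val hy⟩

end Integral

end Groth.Agent.Lib.Helper17.PLinear
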