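import Mathlib
import Groth.Prelude.Def_PP16
import Groth.Prelude.Def_DiffOp
import Groth.Agent.Lib.Helper5.DiffOp

/-!
# Universal property of principal parts for differential operators (EGA IV 16.8.4)
-/

set_option autoImplicit false
set_option linter.style.haveILetI false
set_option linter.unusedSectionVars false

open scoped TensorProduct
open Groth.Agent.Lib.Helper5.DiffOp

namespace Groth.Agent.Lib.Helper17.PPUniv

universe u

variable (n : ℕ) (A B : Type u) [CommRing A] [CommRing B] [Algebra A B]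
  (M N : Type u) [AddCommGroup M] [Module A M] [Module B M] [IsScalarTower A B M]
  [AddCommGroup N] [Module A N] [Module B N] [IsScalarTower A B N]

/-- the quotient map into the synonym `Pr` -/
noncomputable def mkPr : B ⊗[A] B →+ PP16.Pr n A B :=
  (Ideal.Quotient.mk ((KaehlerDifferential.ideal A B) ^ (n + 1))).toAddMonoidHom

theorem mkPr_surjective : Function.Surjective (mkPr n A B) :=
  Ideal.Quotient.mk_surjective

theorem mkPr_eq_zero {x : B ⊗[A] B} (hx : x ∈ (KaehlerDifferential.ideal A B) ^ (n + 1)) :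
    mkPr n A B x = 0 :=
  Ideal.Quotient.eq_zero_iff_mem.mpr hx

theorem mkPr_one : mkPr n A B 1 = 1 := rfl

theorem smul_mkPr (c : B) (x : B ⊗[A] B) :
    c • mkPr n A B x = mkPr n A B (((1 : B) ⊗ₜ[A] c) * x) := by
  show (PP16.dn n A B c : PP16.P n A B) * Ideal.Quotient.mk _ x = Ideal.Quotient.mk _ _
  rw [map_mul]
  rfl

theorem algebraMap_smul_mkPr (b : B) (x : B ⊗[A] B) :
    (algebraMap B (PP16.P n A B) b) • mkPr n A B x = mkPr n A B ((b ⊗ₜ[A] (1 : B)) * x) := by
  show (algebraMap B (PP16.P n A B) b : PP16.P n A B) * Ideal.Quotient.mk _ x =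
    Ideal.Quotient.mk _ _
  rw [map_mul]
  rfl

variable {n A B M N}

/-- any `u` with the two properties is given by the action formula -/
theorem key (D : M →ₗ[A] N) (u : PP16.PM n A B M →+ N)
    (h1 : ∀ (b : B) (t : PP16.PM n A B M), u (algebraMap B (PP16.P n A B) b • t) = b • u t)
    (h2 : ∀ m : M, u (PP16.dM n A B M m) = D m) (x : B ⊗[A] B) (m : M) :
    u (mkPr n A B x ⊗ₜ[B] m) = act A B M N x D m := by
  induction x using TensorProduct.induction_on with
  | zero => simp
  | add x y hx hy =>
    rw [map_add, TensorProduct.add_tmul, map_add, hx, hy, map_add]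
    rfl
  | tmul b c =>
    have e1 : mkPr n A B (b ⊗ₜ[A] c) ⊗ₜ[B] m =
        (algebraMap B (PP16.P n A B) b) • (PP16.dM n A B M (c • m)) := by
      have : b ⊗ₜ[A] c = (b ⊗ₜ[A] (1 : B)) * (((1 : B) ⊗ₜ[A] c) * 1) := by
        rw [mul_one, Algebra.TensorProduct.tmul_mul_tmul, mul_one, one_mul]
      rw [this, ← algebraMap_smul_mkPr, ← smul_mkPr, mkPr_one]
      have e2 : (c • (1 : PP16.Pr n A B)) ⊗ₜ[B] m = PP16.dM n A B M (c • m) :=
        TensorProduct.smul_tmul c (1 : PP16.Pr n A B) m
      rw [← e2]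
      rfl
    rw [e1, h1, h2, act_tmul]

variable (n) in
theorem exists_u (D : M →ₗ[A] N) (hD : Diff16.IsDiffOpLE A B M N n D) :
    ∃ u : PP16.PM n A B M →+ N,
      (∀ (b : B) (t : PP16.PM n A B M), u (algebraMap B (PP16.P n A B) b • t) = b • u t) ∧
        ∀ m : M, u (PP16.dM n A B M m) = D m := by
  have hann := (isDiffOpLE_iff_pow_le n D).mp hD
  let g₀ : (B ⊗[A] B) →+ (M →+ N) :=
    { toFun := fun x => (act A B M N x D).toAddMonoidHom
      map_zero' := by ext m; simp
      map_add' := fun x y => by ext m; simp }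
  have hg₀ : ∀ x m, g₀ x m = act A B M N x D m := fun _ _ => rfl
  let g : PP16.Pr n A B →+ (M →+ N) :=
    QuotientAddGroup.lift ((KaehlerDifferential.ideal A B) ^ (n + 1)).toAddSubgroup g₀ (by
      intro x hx
      rw [AddMonoidHom.mem_ker]
      ext m
      rw [hg₀]
      have : act A B M N x D = 0 := hann hx
      rw [this]
      rfl)
  have hg : ∀ x m, g (mkPr n A B x) m = act A B M N x D m := fun _ _ => rfl
  have hbal : ∀ (c : B) (y : PP16.Pr n A B) (m : M), g (c • y) m = g y (c • m) := by
    intro c y m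
    obtain ⟨x, rfl⟩ := mkPr_surjective n A B y
    rw [smul_mkPr, hg, hg, act_mul']
    induction x using TensorProduct.induction_on with
    | zero => simp
    | add x y hx hy => simp only [map_add, LinearMap.add_apply, hx, hy]
    | tmul b b' =>
      rw [act_tmul, act_tmul, act_tmul, one_smul, smul_comm]
  refine ⟨TensorProduct.liftAddHom g hbal, ?_, ?_⟩
  · intro b t
    induction t using TensorProduct.induction_on with
    | zero => simp
    | add t t' ht ht' => rw [smul_add, map_add, ht, ht', map_add, smul_add]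
    | tmul y m =>
      obtain ⟨x, rfl⟩ := mkPr_surjective n A B y
      rw [TensorProduct.smul_tmul', algebraMap_smul_mkPr, TensorProduct.liftAddHom_tmul,
        TensorProduct.liftAddHom_tmul, hg, hg, act_mul, act_tmul, one_smul]
  · intro m
    show TensorProduct.liftAddHom g hbal ((1 : PP16.Pr n A B) ⊗ₜ[B] m) = D m
    rw [TensorProduct.liftAddHom_tmul, ← mkPr_one, hg, map_one]
    rfl

theorem main (D : M →ₗ[A] N) :
    Diff16.IsDiffOpLE A B M N n D ↔
      ∃! u : PP16.PM n A B M →+ N,
        (∀ (b : B) (t : PP16.PM n A B M), u (algebraMap B (PP16.P n A B) b • t) = b • u t) ∧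
          ∀ m : M, u (PP16.dM n A B M m) = D m := by
  constructor
  · intro hD
    obtain ⟨u, hu1, hu2⟩ := exists_u n D hD
    refine ⟨u, ⟨hu1, hu2⟩, ?_⟩
    rintro u' ⟨hu1', hu2'⟩
    ext t
    induction t using TensorProduct.induction_on with
    | zero => simp
    | add t t' ht ht' => rw [map_add, map_add, ht, ht']
    | tmul y m =>
      obtain ⟨x, rfl⟩ := mkPr_surjective n A B y
      rw [key D u' hu1' hu2', key D u hu1 hu2]
  · rintro ⟨u, ⟨hu1, hu2⟩, -⟩
    rw [isDiffOpLE_iff_pow_le]
    intro x hx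
    rw [mem_ann]
    ext m
    rw [← key D u hu1 hu2, mkPr_eq_zero n A B hx, TensorProduct.zero_tmul, map_zero]
    rfl

end Groth.Agent.Lib.Helper17.PPUniv
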