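import Mathlib

/-!
# Subalgebras of `k[[t]]` and gaps of the value semigroup
-/

set_option autoImplicit false
universe u

namespace Groth.Agent.Lib.Helper17.PSGaps

open PowerSeries

variable {k : Type u} [Field k] (A : Subalgebra k (PowerSeries k))
  (hcl : ∀ f : PowerSeries k, (∀ n : ℕ, ∃ g ∈ A, (n : ℕ∞) ≤ PowerSeries.order (f - g)) → f ∈ A)
  (Γ : Set ℕ) (hΓ : ∀ n : ℕ, n ∈ Γ ↔ ∃ f ∈ A, PowerSeries.order f = n)

include hΓ in
/-- Killing the coefficient in degree `j ∈ Γ` by an element of `A`. -/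
theorem exists_sub_order_gt (j : ℕ) (hj : j ∈ Γ) (F : PowerSeries k) (hF : (j : ℕ∞) ≤ F.order) :
    ∃ g ∈ A, ((j + 1 : ℕ) : ℕ∞) ≤ (F - g).order := by
  obtain ⟨u, huA, hu⟩ := (hΓ j).1 hj
  have hu0 : u ≠ 0 := by
    rintro rfl
    rw [PowerSeries.order_zero] at hu
    exact ENat.top_ne_natCast _ hu
  have hb : PowerSeries.coeff j u ≠ 0 := by
    have := PowerSeries.coeff_order hu0
    rwa [hu, ENat.toNat_natCast] at this
  refine ⟨(PowerSeries.coeff j F / PowerSeries.coeff j u) • u, A.smul_mem huA _, ?_⟩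
  apply PowerSeries.nat_le_order
  intro i hi
  rcases Nat.lt_succ_iff_lt_or_eq.1 hi with hlt | heq
  · have h1 : PowerSeries.coeff i F = 0 :=
      PowerSeries.coeff_of_lt_order i (lt_of_lt_of_le (by exact_mod_cast hlt) hF)
    have h2 : PowerSeries.coeff i u = 0 :=
      PowerSeries.coeff_of_lt_order i (by rw [hu]; exact_mod_cast hlt)
    rw [map_sub, h1, PowerSeries.coeff_smul, h2]
    simp
  · subst heq
    rw [map_sub, PowerSeries.coeff_smul, smul_eq_mul, div_mul_cancel₀ _ hb, sub_self]

include hcl hΓ in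
/-- Every power series of order at least `N` lies in `A`, if all `n ≥ N` are in `Γ`. -/
theorem mem_of_order_ge (N : ℕ) (hN : ∀ n, N ≤ n → n ∈ Γ) (F : PowerSeries k)
    (hF : (N : ℕ∞) ≤ F.order) : F ∈ A := by
  apply hcl
  have key : ∀ n : ℕ, ∃ g ∈ A, ((N + n : ℕ) : ℕ∞) ≤ PowerSeries.order (F - g) := by
    intro n
    induction n with
    | zero => exact ⟨0, A.zero_mem, by simpa using hF⟩
    | succ n ih =>
      obtain ⟨g, hgA, hg⟩ := ih
      obtain ⟨g', hg'A, hg'⟩ := exists_sub_order_gt A Γ hΓ (N + n) (hN _ (Nat.le_add_right N n))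
        (F - g) hg
      refine ⟨g + g', A.add_mem hgA hg'A, ?_⟩
      rw [show F - (g + g') = F - g - g' by ring]
      exact hg'
  intro n
  obtain ⟨g, hgA, hg⟩ := key n
  exact ⟨g, hgA, le_trans (by exact_mod_cast Nat.le_add_left n N) hg⟩

/-- A common denominator for a finitely generated `A`-submodule. -/
theorem exists_common_denom (hbir : ∀ f : PowerSeries k, ∃ a ∈ A, a ≠ 0 ∧ a * f ∈ A)
    (s : Finset (PowerSeries k)) :
    ∃ a ∈ A, a ≠ 0 ∧ ∀ f ∈ Submodule.span ↥A (s : Set (PowerSeries k)), a * f ∈ A := by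
  classical
  induction s using Finset.induction_on with
  | empty =>
    refine ⟨1, A.one_mem, one_ne_zero, ?_⟩
    intro f hf
    simp only [Finset.coe_empty, Submodule.span_empty, Submodule.mem_bot] at hf
    rw [hf, mul_zero]
    exact A.zero_mem
  | insert x s _ ih =>
    obtain ⟨a, haA, ha0, ha⟩ := ih
    obtain ⟨b, hbA, hb0, hb⟩ := hbir x
    refine ⟨b * a, A.mul_mem hbA haA, mul_ne_zero hb0 ha0, ?_⟩
    intro f hf
    rw [Finset.coe_insert, Submodule.mem_span_insert] at hf
    obtain ⟨c, g, hg, rfl⟩ := hf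
    have h1 : b * a * (c • x + g) = a * (c : PowerSeries k) * (b * x) + b * (a * g) := by
      rw [Algebra.smul_def]
      change b * a * ((c : PowerSeries k) * x + g) = _
      ring
    rw [h1]
    exact A.add_mem (A.mul_mem (A.mul_mem haA c.2) hb) (A.mul_mem hbA (ha g hg))

include hΓ in
theorem exists_bound (hA : Module.Finite ↥A (PowerSeries k))
    (hbir : ∀ f : PowerSeries k, ∃ a ∈ A, a ≠ 0 ∧ a * f ∈ A) :
    ∃ N : ℕ, ∀ n, N ≤ n → n ∈ Γ := by
  obtain ⟨s, hs⟩ := hA.fg_top
  obtain ⟨a, haA, ha0, ha⟩ := exists_common_denom A hbir s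
  refine ⟨a.order.toNat, fun n hn => (hΓ n).2 ⟨a * (PowerSeries.X : PowerSeries k) ^ (n - a.order.toNat),
    ha _ (by rw [hs]; trivial), ?_⟩⟩
  rw [PowerSeries.order_mul, PowerSeries.order_X_pow, ← PowerSeries.coe_toNat_order ha0]
  exact_mod_cast Nat.add_sub_cancel' hn

include hcl hΓ in
/-- Every power series lies in `A + span {X^g | g gap}`. -/
theorem mem_sup (N : ℕ) (hN : ∀ n, N ≤ n → n ∈ Γ) (m : ℕ) (F : PowerSeries k)
    (hF : ((N - m : ℕ) : ℕ∞) ≤ F.order) :
    F ∈ Subalgebra.toSubmodule A ⊔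
      Submodule.span k (Set.range fun g : ↥(Γᶜ) => (PowerSeries.X : PowerSeries k) ^ (g : ℕ)) := by
  induction m generalizing F with
  | zero =>
    exact Submodule.mem_sup_left (mem_of_order_ge A hcl Γ hΓ N hN F (by simpa using hF))
  | succ m ih =>
    by_cases hm : N ≤ m
    · apply ih
      rw [Nat.sub_eq_zero_of_le hm]
      simp
    · rw [not_le] at hm
      have hj : N - (m + 1) + 1 = N - m := by omega
      set j := N - (m + 1) with hjdef
      by_cases hjΓ : j ∈ Γ
      · obtain ⟨g, hgA, hg⟩ := exists_sub_order_gt A Γ hΓ j hjΓ F hF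
        rw [hj] at hg
        have := ih (F - g) hg
        have h2 : F = (F - g) + g := by ring
        rw [h2]
        exact Submodule.add_mem _ this (Submodule.mem_sup_left hgA)
      · have hg : ((N - m : ℕ) : ℕ∞) ≤ (F - PowerSeries.coeff j F • (PowerSeries.X : PowerSeries k) ^ j).order := by
          rw [← hj]
          apply PowerSeries.nat_le_order
          intro i hi
          rcases Nat.lt_succ_iff_lt_or_eq.1 hi with hlt | heq
          · have h1 : PowerSeries.coeff i F = 0 :=
              PowerSeries.coeff_of_lt_order i (lt_of_lt_of_le (by exact_mod_cast hlt) hF)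
            rw [map_sub, h1, PowerSeries.coeff_smul, PowerSeries.coeff_X_pow, if_neg (ne_of_lt hlt)]
            simp
          · subst heq
            rw [map_sub, PowerSeries.coeff_smul, PowerSeries.coeff_X_pow, if_pos rfl]
            simp
        have := ih _ hg
        have h2 : F = (F - PowerSeries.coeff j F • (PowerSeries.X : PowerSeries k) ^ j) +
            PowerSeries.coeff j F • (PowerSeries.X : PowerSeries k) ^ j := by ring
        rw [h2]
        refine Submodule.add_mem _ this (Submodule.mem_sup_right (Submodule.smul_mem _ _ ?_))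
        exact Submodule.subset_span ⟨⟨j, hjΓ⟩, rfl⟩

include hcl hΓ in
theorem finrank_eq (hG : Γᶜ.Finite) (N : ℕ) (hN : ∀ n, N ≤ n → n ∈ Γ) :
    Module.finrank k (PowerSeries k ⧸ Subalgebra.toSubmodule A) = Γᶜ.ncard := by
  classical
  let _ : Fintype ↥(Γᶜ) := hG.fintype
  let v : ↥(Γᶜ) → (PowerSeries k ⧸ Subalgebra.toSubmodule A) :=
    fun g => (Subalgebra.toSubmodule A).mkQ ((PowerSeries.X : PowerSeries k) ^ (g : ℕ))
  have hcoeff : ∀ (c : ↥(Γᶜ) → k) (j : ℕ),
      PowerSeries.coeff j (∑ i, c i • (PowerSeries.X : PowerSeries k) ^ (i : ℕ)) =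
        if h : j ∈ Γᶜ then c ⟨j, h⟩ else 0 := by
    intro c j
    rw [map_sum]
    simp only [PowerSeries.coeff_smul, PowerSeries.coeff_X_pow, smul_eq_mul, mul_ite, mul_one,
      mul_zero]
    split_ifs with h
    · rw [Finset.sum_eq_single ⟨j, h⟩]
      · simp
      · intro b _ hb
        rw [if_neg]
        intro hjb; apply hb; ext; exact hjb.symm
      · intro h; exact absurd (Finset.mem_univ _) h
    · apply Finset.sum_eq_zero
      intro b _
      rw [if_neg]
      intro hjb; apply h; rw [hjb]; exact b.2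
  have hli : LinearIndependent k v := by
    rw [Fintype.linearIndependent_iff]
    intro c hc
    set F : PowerSeries k := ∑ i, c i • (PowerSeries.X : PowerSeries k) ^ (i : ℕ) with hF
    have hFA : F ∈ A := by
      have : (Subalgebra.toSubmodule A).mkQ F = 0 := by
        rw [hF, map_sum, ← hc]
        apply Finset.sum_congr rfl
        intro i _
        rw [map_smul]
      exact (Submodule.Quotient.mk_eq_zero _).1 this
    have hF0 : F = 0 := by
      by_contra hne
      have h1 := PowerSeries.coeff_order hne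
      have h2 : F.order.toNat ∈ Γ := (hΓ _).2 ⟨F, hFA, (PowerSeries.coe_toNat_order hne).symm⟩
      rw [hcoeff c, dif_neg (fun h => h h2)] at h1
      exact h1 rfl
    intro i
    have := hcoeff c i
    rw [← hF, hF0, dif_pos i.2] at this
    simpa using this.symm
  have hsp : ⊤ ≤ Submodule.span k (Set.range v) := by
    intro x _
    obtain ⟨F, rfl⟩ := (Subalgebra.toSubmodule A).mkQ_surjective x
    have hmem := mem_sup A hcl Γ hΓ N hN N F (by simp)
    obtain ⟨a, ha, s, hs, rfl⟩ := Submodule.mem_sup.1 hmem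
    rw [map_add]
    have h0 : (Subalgebra.toSubmodule A).mkQ a = 0 := (Submodule.Quotient.mk_eq_zero _).2 ha
    rw [h0, zero_add]
    have : Submodule.map (Subalgebra.toSubmodule A).mkQ (Submodule.span k
        (Set.range fun g : ↥(Γᶜ) => (PowerSeries.X : PowerSeries k) ^ (g : ℕ))) =
        Submodule.span k (Set.range v) := by
      rw [Submodule.map_span, ← Set.range_comp]
      rfl
    rw [← this]
    exact Submodule.mem_map_of_mem hs
  have hb := Module.finrank_eq_card_basis (Module.Basis.mk hli hsp)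
  rw [hb, Set.ncard_eq_toFinset_card', Set.toFinset_card]

end Groth.Agent.Lib.Helper17.PSGaps
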