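import Mathlib
import Groth.Agent.Lib.Helper12.Fin14
import Groth.Agent.Lib.Lead.TwistExact
import Groth.Agent.Lib.Lead.Koszul.ClosedSub
import Groth.Agent.Lib.Lead.Koszul.Resol
import Groth.Agent.Lib.Helper17.PushTensor2
import Groth.Agent.Lib.Helper22.Cech.AffineVanishing
import Groth.Prelude.Def_W4c2seshadriposJets

/-!
# `H^i(X, m_x^a ⊗ L^m) = 0` for `i > 1`, `m ≫ 0`, uniformly in `a`
-/

set_option autoImplicit false
set_option maxHeartbeats 4000000
set_option synthInstance.maxHeartbeats 400000
set_option backward.isDefEq.respectTransparency.types false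

universe u

open CategoryTheory Limits AlgebraicGeometry TopologicalSpace Opposite

namespace Groth.Agent.Lib.Helper17.PointVanish

open Groth.Agent.Lib.Helper29.QCoh Groth.Agent.Lib.Lead.TwistExact

variable {X : Scheme.{u}}

/-- a closed subscheme supported in a point is affine -/
theorem isAffine_subscheme_of_support_subset (J : X.IdealSheafData) (x : X)
    (h : (J.support : Set X) ⊆ {x}) : IsAffine J.subscheme := by
  obtain ⟨_, ⟨U₀, hU₀, rfl⟩, hxU₀, -⟩ :=
    X.isBasis_affineOpens.exists_subset_of_mem_open (Set.mem_univ x) isOpen_univ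
  obtain ⟨U, hU, hxU⟩ : ∃ U : X.Opens, IsAffineOpen U ∧ x ∈ U := ⟨U₀, hU₀, hxU₀⟩
  have hr : Set.range J.subschemeι ⊆ Set.range U.ι := by
    rw [Scheme.IdealSheafData.range_subschemeι, Scheme.Opens.range_ι]
    intro y hy
    have : y = x := h hy
    rw [this]
    exact hxU
  let g : J.subscheme ⟶ U := IsOpenImmersion.lift U.ι J.subschemeι hr
  have hg : g ≫ U.ι = J.subschemeι := IsOpenImmersion.lift_fac _ _ _
  haveI : IsClosedImmersion (g ≫ U.ι) := by rw [hg]; infer_instance
  haveI : IsClosedImmersion g := IsClosedImmersion.of_comp g U.ι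
  haveI : IsAffine (U : Scheme.{u}) := hU
  exact isAffine_of_isAffineHom g

/-- the ideal sheaf sequence `0 → I → O → i_* O_Z → 0` -/
noncomputable def idealSC (J : X.IdealSheafData) : ShortComplex X.Modules :=
  ShortComplex.mk (ClSub.idealModι J) (ClSub.toSubscheme J) (kernel.condition _)

theorem idealSC_shortExact (J : X.IdealSheafData) : (idealSC J).ShortExact := by
  haveI : Epi (ClSub.toSubscheme J) :=
    Groth.Agent.Lib.Helper17.PushTensor.epi_unitToPush J.subschemeι
  haveI : Mono (idealSC J).f := inferInstanceAs (Mono (kernel.ι _))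
  haveI : Epi (idealSC J).g := inferInstanceAs (Epi (ClSub.toSubscheme J))
  exact ShortComplex.ShortExact.mk (ShortComplex.exact_of_f_is_kernel _ (kernelIsKernel _))

theorem main (k : Type u) [Field k]
    [X.Over (Spec (CommRingCat.of k))] [IsProper (X ↘ (Spec (CommRingCat.of k)))]
    (x : X) (hx : IsClosed ({x} : Set X)) (L : X.Modules) (hL : CohB1.IsAmple L) :
    ∃ m₀ : ℕ, ∀ m : ℕ, m₀ ≤ m → ∀ i : ℕ, 1 < i → ∀ a : ℕ,
      Subsingleton (Coh.HH X (CohB1.tensorMod
        (ClSub.idealMod ((W4c2seshadripos.pointIdeal x hx) ^ a)) (CohB1.tensorPow L m)) i) := by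
  have hLinv : PicF.IsInvertible L := hL.1
  have hOc : Coh.IsCoh (unitM X) := ⟨isQuasicoherent_of_isInvertible (isInvertible_unit X),
    isFiniteType_of_isInvertible (isInvertible_unit X)⟩
  obtain ⟨m₀, hm₀⟩ := Groth.Agent.Lib.Helper12.H12Fin.serre_vanishing_of_isAmple k
    (X ↘ (Spec (CommRingCat.of k))) L hL (unitM X) hOc
  refine ⟨m₀, fun m hm i hi a => ?_⟩
  obtain ⟨q, rfl⟩ : ∃ q, i = q + 1 + 1 := ⟨i - 2, by omega⟩
  set J := (W4c2seshadripos.pointIdeal x hx) ^ a with hJ
  have hLm : PicF.IsInvertible (CohB1.tensorPow L m) := isInvertible_tensorPow hLinv m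
  have hS := shortExact_map_tensorRight (isFlat_of_isInvertible hLm) (idealSC J)
    (idealSC_shortExact J)
  -- support
  have hsupp : (J.support : Set X) ⊆ {x} := by
    by_cases ha : a = 0
    · rw [hJ, ha, pow_zero]
      intro y hy
      exact absurd hy (by
        change y ∉ ((⊤ : X.IdealSheafData).support : Set X)
        rw [Scheme.IdealSheafData.support_top]
        exact fun h => h)
    · rw [hJ, Scheme.IdealSheafData.support_pow _ a ha]
      unfold W4c2seshadripos.pointIdeal
      rw [Scheme.IdealSheafData.coe_support_vanishingIdeal]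
      exact fun y hy => hy
  haveI : IsAffine J.subscheme := isAffine_subscheme_of_support_subset J x hsupp
  -- the third term
  have hLmf : FlatMod.IsFinLocFree (CohB1.tensorPow L m) :=
    isFinLocFree_of_isFinLocFreeOfRank ((isInvertible_iff_isFinLocFreeOfRank_one _).mp hLm)
  haveI : (CohB1.tensorPow L m).IsQuasicoherent := isQuasicoherent_of_isInvertible hLm
  haveI : (Coh.structureModule J.subscheme).IsQuasicoherent :=
    isQuasicoherent_of_isInvertible (isInvertible_unit _)
  have h3 : Subsingleton (Coh.HH X ((idealSC J).map (tensorRight (CohB1.tensorPow L m))).X₃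
      (q + 1)) := by
    refine (Groth.Agent.Lib.Lead.Koszul.subsingleton_HH_iff_push J.subschemeι
      (CohB1.tensorPow L m) hLmf (Coh.structureModule J.subscheme) (q + 1)).1 ?_
    exact Groth.Agent.Lib.Helper22.Cech.subsingleton_HH_succ_of_isAffine _ _ q
  have h2 : Subsingleton (Coh.HH X ((idealSC J).map (tensorRight (CohB1.tensorPow L m))).X₂
      (q + 1 + 1)) := hm₀ m hm (q + 1)
  exact Groth.Agent.Lib.Lead.Koszul.subsingleton_HH_X₁ _ hS (q + 1) h3 h2

end Groth.Agent.Lib.Helper17.PointVanish
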