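import Mathlib
import Groth.Agent.Lib.Helper17.PV1
import Groth.Agent.Lib.Helper17.AG3
import Groth.Agent.Lib.Helper29.QCohIdealMod
import Groth.Agent.Lib.Helper29.QCohCrit
import Groth.Agent.Lib.Helper22.Adic.Sections

/-!
# `H^1(X, m_x^a ⊗ L^m) ≠ 0 ⇒ H^1(X, m_x^(a+1) ⊗ L^m) ≠ 0`
-/

set_option autoImplicit false
set_option maxHeartbeats 4000000
set_option synthInstance.maxHeartbeats 400000
set_option backward.isDefEq.respectTransparency.types false

universe u

open CategoryTheory Limits AlgebraicGeometry TopologicalSpace Opposite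

namespace Groth.Agent.Lib.Helper17.PointVanish

open Groth.Agent.Lib.Helper29.QCoh Groth.Agent.Lib.Lead.TwistExact
open Groth.Agent.Lib.Helper22.Adic

variable {X : Scheme.{u}}

theorem idealModι_toSubscheme_of_le {J' J : X.IdealSheafData} (hle : J' ≤ J) :
    ClSub.idealModι J' ≫ ClSub.toSubscheme J = 0 := by
  apply Scheme.Modules.hom_ext
  intro W
  ext y
  change (ClSub.toSubscheme J).app W ((ClSub.idealModι J').app W y) = 0
  apply eq_zero_of_res_affine_eq_zero
  intro U hUW hU
  rw [← app_res, ← app_res, unitToPush_app]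
  have hmem : fromUnit ((ClSub.idealModι J').app U (res _ hUW y)) ∈ J.ideal ⟨U, hU⟩ :=
    hle ⟨U, hU⟩ (idealModι_app_mem J' ⟨U, hU⟩ _)
  rw [← J.ker_subschemeι_app ⟨U, hU⟩, RingHom.mem_ker] at hmem
  rw [hmem]
  rfl

/-- the inclusion `J' ⊆ J` of ideal sheaves as a morphism of modules -/
noncomputable def idealModIncl {J' J : X.IdealSheafData} (hle : J' ≤ J) :
    ClSub.idealMod J' ⟶ ClSub.idealMod J :=
  kernel.lift (ClSub.toSubscheme J) (ClSub.idealModι J') (idealModι_toSubscheme_of_le hle)

theorem idealModIncl_ι {J' J : X.IdealSheafData} (hle : J' ≤ J) :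
    idealModIncl hle ≫ ClSub.idealModι J = ClSub.idealModι J' :=
  kernel.lift_ι _ _ _

instance mono_idealModIncl {J' J : X.IdealSheafData} (hle : J' ≤ J) : Mono (idealModIncl hle) :=
  mono_of_mono_fac (idealModIncl_ι hle)

/-- the quotient `J / J'` is killed by `K` when `K J ⊆ J'` -/
theorem killed_cokernel {K J' J : X.IdealSheafData} (hle : J' ≤ J) (hK : K * J ≤ J') :
    AmpGlue.Killed K (cokernel (idealModIncl hle)) := by
  intro U a ha s
  apply eq_zero_of_germ_eq_zero
  intro y hy
  haveI : Epi (cokernel.π (idealModIncl hle)) := inferInstance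
  obtain ⟨t, ht⟩ := (epi_iff_stalkMap_surjective (cokernel.π (idealModIncl hle))).mp inferInstance y
    ((cokernel (idealModIncl hle)).presheaf.germ U.1 y hy s)
  obtain ⟨W, hyW, τ, rfl⟩ := (ClSub.idealMod J).presheaf.exists_germ_eq t
  rw [stalkMap_germ] at ht
  obtain ⟨W', hyW', i₁, i₂, e⟩ :=
    (cokernel (idealModIncl hle)).presheaf.germ_eq y hyW hy _ _ ht
  obtain ⟨V, hV, hyV, hVW'⟩ :=
    AlgebraicGeometry.exists_isAffineOpen_mem_and_subset (x := y) (U := W') hyW'
  have e' : res (cokernel (idealModIncl hle)) i₁.le ((cokernel.π (idealModIncl hle)).app W τ) =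
      res (cokernel (idealModIncl hle)) i₂.le s := e
  have hVU : V ≤ U.1 := hVW'.trans i₂.le
  have hVW : V ≤ W := hVW'.trans i₁.le
  rw [← germ_res _ hVU y hyV, res_smul']
  -- restriction of `s` to `V` is the image of `τ' := τ|_V`
  have hs : res (cokernel (idealModIncl hle)) hVU s =
      (cokernel.π (idealModIncl hle)).app V (res (ClSub.idealMod J) hVW τ) := by
    rw [app_res, ← res_res _ i₂.le hVW', ← e', res_res]
  rw [hs, ← Scheme.Modules.Hom.app_smul]
  -- `a|_V • τ'` comes from `J'`
  have ha' : rres X hVU a ∈ K.ideal ⟨V, hV⟩ :=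
    K.ideal_le_comap_ideal (U := ⟨V, hV⟩) (V := U) hVU ha
  have hmem : rres X hVU a * fromUnit ((ClSub.idealModι J).app V (res (ClSub.idealMod J) hVW τ)) ∈
      J'.ideal ⟨V, hV⟩ := by
    apply hK ⟨V, hV⟩
    rw [Scheme.IdealSheafData.ideal_mul]
    exact Ideal.mul_mem_mul ha' (idealModι_app_mem J ⟨V, hV⟩ _)
  obtain ⟨t', ht'⟩ := exists_idealModι_app_eq J' ⟨V, hV⟩ _ hmem
  have hφ : (idealModIncl hle).app V t' = rres X hVU a • res (ClSub.idealMod J) hVW τ := by
    apply idealModι_app_injective J V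
    rw [← app_comp, idealModIncl_ι, Scheme.Modules.Hom.app_smul]
    exact ht'
  rw [← hφ, ← app_comp, cokernel.condition]
  exact map_zero _

/-- vanishing of higher cohomology of `Q ⊗ N` for quasi-coherent `Q` killed by the ideal of a
closed point -/
theorem subsingleton_HH_of_killed_point (x : X) (hx : IsClosed ({x} : Set X))
    (Q : X.Modules) [Q.IsQuasicoherent]
    (hQ : AmpGlue.Killed (W4c2seshadripos.pointIdeal x hx) Q)
    (N : X.Modules) (hN : PicF.IsInvertible N) (q : ℕ) :
    Subsingleton (Coh.HH X (CohB1.tensorMod Q N) (q + 1)) := by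
  set P := W4c2seshadripos.pointIdeal x hx with hP
  have hsupp : (P.support : Set X) ⊆ {x} := by
    rw [hP]
    unfold W4c2seshadripos.pointIdeal
    rw [Scheme.IdealSheafData.coe_support_vanishingIdeal]
    exact fun y hy => hy
  haveI : IsAffine P.subscheme := isAffine_subscheme_of_support_subset P x hsupp
  haveI : IsIso ((Scheme.Modules.pullbackPushforwardAdjunction P.subschemeι).unit.app Q) :=
    Groth.Agent.Helper19.ClImmUnit.isIso_unit_of_killed P.subschemeι Q
      (fun U a ha s => hQ U a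
        (by rw [Scheme.IdealSheafData.ker_subschemeι] at ha; exact ha) s)
  have hNf : FlatMod.IsFinLocFree N :=
    isFinLocFree_of_isFinLocFreeOfRank ((isInvertible_iff_isFinLocFreeOfRank_one _).mp hN)
  haveI : N.IsQuasicoherent := isQuasicoherent_of_isInvertible hN
  haveI : ((Scheme.Modules.pullback P.subschemeι).obj Q).IsQuasicoherent :=
    isQuasicoherent_pullback _ _
  have h1 : Subsingleton (Coh.HH X (CohB1.tensorMod ((Scheme.Modules.pushforward P.subschemeι).obj
      ((Scheme.Modules.pullback P.subschemeι).obj Q)) N) (q + 1)) := by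
    refine (Groth.Agent.Lib.Lead.Koszul.subsingleton_HH_iff_push P.subschemeι N hNf
      ((Scheme.Modules.pullback P.subschemeι).obj Q) (q + 1)).1 ?_
    exact Groth.Agent.Lib.Helper22.Cech.subsingleton_HH_succ_of_isAffine _ _ q
  have e1 := asIso ((Scheme.Modules.pullbackPushforwardAdjunction P.subschemeι).unit.app Q)
  exact Groth.Agent.Lib.Lead.Pn.subsingleton_HH_of_iso
    (tensorCongr e1.symm (Iso.refl N)) (q + 1) h1

theorem main2 (x : X) (hx : IsClosed ({x} : Set X)) (L : X.Modules) (hL : PicF.IsInvertible L)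
    (a m : ℕ)
    (h : Nontrivial (Coh.HH X (CohB1.tensorMod
      (ClSub.idealMod ((W4c2seshadripos.pointIdeal x hx) ^ a)) (CohB1.tensorPow L m)) 1)) :
    Nontrivial (Coh.HH X (CohB1.tensorMod
      (ClSub.idealMod ((W4c2seshadripos.pointIdeal x hx) ^ (a + 1))) (CohB1.tensorPow L m)) 1) := by
  set P := W4c2seshadripos.pointIdeal x hx with hP
  have hle : P ^ (a + 1) ≤ P ^ a := by
    intro U
    rw [Scheme.IdealSheafData.ideal_pow, Scheme.IdealSheafData.ideal_pow]
    exact Ideal.pow_le_pow_right (Nat.le_succ a)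
  have hK : P * P ^ a ≤ P ^ (a + 1) := le_of_eq (pow_succ' P a).symm
  have hLm : PicF.IsInvertible (CohB1.tensorPow L m) := isInvertible_tensorPow hL m
  let S : ShortComplex X.Modules := ShortComplex.mk (idealModIncl hle)
    (cokernel.π (idealModIncl hle)) (cokernel.condition _)
  have hS : S.ShortExact := by
    haveI : Mono S.f := inferInstanceAs (Mono (idealModIncl hle))
    haveI : Epi S.g := inferInstanceAs (Epi (cokernel.π (idealModIncl hle)))
    exact ShortComplex.ShortExact.mk (ShortComplex.exact_of_g_is_cokernel _ (cokernelIsCokernel _))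
  have hS' := shortExact_map_tensorRight (isFlat_of_isInvertible hLm) S hS
  have hX₃ : Subsingleton (Coh.HH X (S.map (tensorRight (CohB1.tensorPow L m))).X₃ (0 + 1)) :=
    subsingleton_HH_of_killed_point x hx (cokernel (idealModIncl hle))
      (killed_cokernel hle hK) (CohB1.tensorPow L m) hLm 0
  by_contra hne
  rw [not_nontrivial_iff_subsingleton] at hne
  have hX₁ : Subsingleton (Coh.HH X (S.map (tensorRight (CohB1.tensorPow L m))).X₁ (0 + 1)) := hne
  have hX₂ := Groth.Agent.Lib.Lead.Koszul.subsingleton_HH_X₂ _ hS' (0 + 1) hX₁ hX₃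
  have hX₂' : Subsingleton (Coh.HH X (CohB1.tensorMod (ClSub.idealMod (P ^ a))
    (CohB1.tensorPow L m)) 1) := hX₂
  exact (not_subsingleton_iff_nontrivial.mpr h) hX₂'

end Groth.Agent.Lib.Helper17.PointVanish
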