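import Mathlib.FieldTheory.IsPerfectClosure
import Mathlib.RingTheory.RingHom.Flat
import Mathlib.RingTheory.RingHom.FaithfullyFlat
import Mathlib.RingTheory.Flat.EquationalCriterion
import Mathlib.RingTheory.Spectrum.Prime.Homeomorph
import Mathlib.RingTheory.IntegralClosure.IsIntegralClosure.Basic

/-!
# Perfect closures: flatness, integrality, spectra (helper17)
-/

set_option autoImplicit false
universe u

namespace Groth.Agent.Lib.Helper17.PerfClosure

section PRadical

variable {K L : Type*} [CommRing K] [CommRing L] (i : K →+* L) (p : ℕ)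
  [IsPRadical i p]

/-- Common exponent for finitely many elements. -/
theorem exists_common_pow {l : ℕ} (x : Fin l → L) :
    ∃ n : ℕ, ∀ k, ∃ y : K, i y = x k ^ p ^ n := by
  have h := fun k => IsPRadical.pow_mem i p (x k)
  choose n y hy using h
  refine ⟨Finset.univ.sup n, fun k => ?_⟩
  have hk : n k ≤ Finset.univ.sup n := Finset.le_sup (Finset.mem_univ k)
  refine ⟨y k ^ p ^ (Finset.univ.sup n - n k), ?_⟩
  rw [map_pow, hy k, ← pow_mul, ← pow_add, Nat.add_sub_cancel' hk]

omit [IsPRadical i p] in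
theorem pow_raise {n : ℕ} {x : L} {y : K} (h : i y = x ^ p ^ n) (m : ℕ) :
    i (y ^ p ^ m) = x ^ p ^ (n + m) := by
  rw [map_pow, h, ← pow_mul, ← pow_add]

include p in
theorem isIntegral_of_isPRadical (hp : 0 < p) : i.IsIntegral := by
  intro x
  obtain ⟨n, y, hy⟩ := IsPRadical.pow_mem i p x
  let _ := i.toAlgebra
  have h1 : IsIntegral K (x ^ p ^ n) := by
    rw [← hy]
    exact i.isIntegralElem_map
  exact IsIntegral.of_pow (pow_pos hp n) h1

include p in
theorem isHomeomorph_comap_of_isPRadical (hp : 0 < p) :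
    IsHomeomorph (PrimeSpectrum.comap i) := by
  apply PrimeSpectrum.isHomeomorph_comap
  · intro x
    obtain ⟨n, y, hy⟩ := IsPRadical.pow_mem i p x
    exact ⟨p ^ n, pow_pos hp n, y, hy⟩
  · exact (IsPRadical.ker_le i p).trans pNilradical_le_nilradical

end PRadical

section Flat

variable (p : ℕ) [Fact p.Prime]
    {A B A' B' : Type u} [CommRing A] [CommRing B] [CommRing A'] [CommRing B']
    [CharP A p] [CharP B p] [CharP A' p] [CharP B' p] [PerfectRing A' p] [PerfectRing B' p]

theorem map_iterateFrobeniusEquiv_symm (φ' : A' →+* B') (n : ℕ) (x : A') :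
    φ' ((iterateFrobeniusEquiv A' p n).symm x) = (iterateFrobeniusEquiv B' p n).symm (φ' x) := by
  apply (iterateFrobeniusEquiv B' p n).injective
  rw [RingEquiv.apply_symm_apply, iterateFrobeniusEquiv_def, ← map_pow,
    ← iterateFrobeniusEquiv_def, RingEquiv.apply_symm_apply]

omit [CharP A p] in
theorem flat_of_perfectClosure
    (φ : A →+* B) (hflat : φ.Flat) (i : A →+* A') (j : B →+* B')
    [IsPerfectClosure i p] [IsPerfectClosure j p]
    (φ' : A' →+* B') (hφ : φ'.comp i = j.comp φ) : φ'.Flat := by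
  classical
  have hp : p.Prime := Fact.out
  let _ := φ.toAlgebra
  let _ := φ'.toAlgebra
  have hfl : Module.Flat A B := hflat
  show Module.Flat A' B'
  have hφ' : ∀ a, φ' (i a) = j (φ a) := fun a => RingHom.congr_fun hφ a
  apply Module.Flat.of_forall_isTrivialRelation
  intro l a y hay
  have hay' : ∑ k, φ' (a k) * y k = 0 := hay
  obtain ⟨n₁, h₁⟩ := exists_common_pow i p a
  obtain ⟨n₂, h₂⟩ := exists_common_pow j p y
  choose α₁ hα₁ using h₁
  choose β₁ hβ₁ using h₂
  -- bring to the common exponent N = n₁ + n₂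
  set N := n₁ + n₂ with hN
  have hα₂ : ∀ k, i (α₁ k ^ p ^ n₂) = a k ^ p ^ N := fun k => pow_raise i p (hα₁ k) n₂
  have hβ₂ : ∀ k, j (β₁ k ^ p ^ n₁) = y k ^ p ^ N := fun k => by
    rw [hN, add_comm]; exact pow_raise j p (hβ₁ k) n₁
  -- the sum lies in the kernel of j
  have hker : j (∑ k, φ (α₁ k ^ p ^ n₂) * (β₁ k ^ p ^ n₁)) = 0 := by
    rw [map_sum]
    have : ∀ k, j (φ (α₁ k ^ p ^ n₂) * (β₁ k ^ p ^ n₁)) =
        iterateFrobenius B' p N (φ' (a k) * y k) := by
      intro k
      rw [map_mul, ← hφ', hα₂, hβ₂, iterateFrobenius_def, mul_pow, map_pow]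
    simp_rw [this]
    rw [← map_sum, hay', map_zero]
  have hnil : (∑ k, φ (α₁ k ^ p ^ n₂) * (β₁ k ^ p ^ n₁)) ∈ pNilradical B p :=
    IsPRadical.ker_le j p hker
  rw [mem_pNilradical] at hnil
  obtain ⟨m, hm⟩ := hnil
  set M := N + m with hM
  set α : Fin l → A := fun k => (α₁ k ^ p ^ n₂) ^ p ^ m with hα
  set β : Fin l → B := fun k => (β₁ k ^ p ^ n₁) ^ p ^ m with hβ
  have hαM : ∀ k, i (α k) = a k ^ p ^ M := fun k => pow_raise i p (hα₂ k) m
  have hβM : ∀ k, j (β k) = y k ^ p ^ M := fun k => pow_raise j p (hβ₂ k) m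
  have hrel : ∑ k, α k • β k = 0 := by
    have : ∑ k, α k • β k = iterateFrobenius B p m (∑ k, φ (α₁ k ^ p ^ n₂) * (β₁ k ^ p ^ n₁)) := by
      rw [map_sum]
      refine Finset.sum_congr rfl fun k _ => ?_
      rw [iterateFrobenius_def, mul_pow, ← map_pow]
      rfl
    rw [this, iterateFrobenius_def, hm]
  obtain ⟨κ, c, z, hz, hc⟩ := Module.Flat.isTrivialRelation_of_sum_smul_eq_zero hrel
  set ψA := (iterateFrobeniusEquiv A' p M).symm with hψA
  set ψB := (iterateFrobeniusEquiv B' p M).symm with hψB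
  have hψφ : ∀ x, φ' (ψA x) = ψB (φ' x) := fun x => map_iterateFrobeniusEquiv_symm p φ' M x
  have haψ : ∀ k, a k = ψA (i (α k)) := by
    intro k
    rw [hαM, ← iterateFrobeniusEquiv_def, hψA, RingEquiv.symm_apply_apply]
  have hyψ : ∀ k, y k = ψB (j (β k)) := by
    intro k
    rw [hβM, ← iterateFrobeniusEquiv_def, hψB, RingEquiv.symm_apply_apply]
  refine ⟨κ, fun k t => ψA (i (c k t)), fun t => ψB (j (z t)), ?_, ?_⟩
  · intro k
    rw [hyψ k, hz k, map_sum, map_sum]
    refine Finset.sum_congr rfl fun t _ => ?_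
    have : c k t • z t = φ (c k t) * z t := rfl
    rw [this, map_mul, map_mul, ← hφ', ← hψφ]
    rfl
  · intro t
    have : ∑ k, a k * ψA (i (c k t)) = ψA (i (∑ k, α k * c k t)) := by
      rw [map_sum, map_sum]
      refine Finset.sum_congr rfl fun k _ => ?_
      rw [map_mul, map_mul, ← haψ]
    rw [this, hc t, map_zero, map_zero]

omit [CharP A p] in
theorem faithfullyFlat_of_perfectClosure
    (φ : A →+* B) (hflat : φ.FaithfullyFlat) (i : A →+* A') (j : B →+* B')
    [IsPerfectClosure i p] [IsPerfectClosure j p]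
    (φ' : A' →+* B') (hφ : φ'.comp i = j.comp φ) : φ'.FaithfullyFlat := by
  have hp : p.Prime := Fact.out
  rw [RingHom.FaithfullyFlat.iff_flat_and_comap_surjective] at hflat ⊢
  refine ⟨flat_of_perfectClosure p φ hflat.1 i j φ' hφ, ?_⟩
  intro q'
  have hi := isHomeomorph_comap_of_isPRadical i p hp.pos
  have hj := isHomeomorph_comap_of_isPRadical j p hp.pos
  obtain ⟨P, hP⟩ := hflat.2 (PrimeSpectrum.comap i q')
  obtain ⟨P', hP'⟩ := hj.surjective P
  refine ⟨P', hi.injective ?_⟩
  rw [← hP, ← hP']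
  show PrimeSpectrum.comap i (PrimeSpectrum.comap φ' P') = PrimeSpectrum.comap φ (PrimeSpectrum.comap j P')
  rw [← PrimeSpectrum.comap_comp_apply, ← PrimeSpectrum.comap_comp_apply, hφ]

end Flat

end Groth.Agent.Lib.Helper17.PerfClosure
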