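import Mathlib

namespace Groth.Agent.Lib.Helper17.PicNil
open TensorProduct

universe u
variable {R : Type u} [CommRing R] (I : Ideal R)

lemma le_jacobson_of_isNilpotent (hI : IsNilpotent I) : I ≤ Ideal.jacobson ⊥ := by
  obtain ⟨n, hn⟩ := hI
  intro x hx
  have hxn : x ^ n ∈ I ^ n := Ideal.pow_mem_pow hx n
  rw [hn] at hxn
  have : x ∈ Ideal.radical (⊥ : Ideal R) := ⟨n, hxn⟩
  exact Ideal.radical_le_jacobson this

lemma mem_smul_top_of_tmul_eq_zero (Q : Type*) [AddCommGroup Q] [Module R Q] (x : Q)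
    (h : (1 : R ⧸ I) ⊗ₜ[R] x = 0) : x ∈ I • (⊤ : Submodule R Q) := by
  have := congrArg (quotTensorEquivQuotSMul Q I) h
  rw [quotTensorEquivQuotSMul_mk_one_tmul, map_zero, Submodule.Quotient.mk_eq_zero] at this
  exact this

lemma mk_smul_one_tmul (Q : Type*) [AddCommGroup Q] [Module R Q] (a : R) (x : Q) :
    (Ideal.Quotient.mk I a) • ((1 : R ⧸ I) ⊗ₜ[R] x) = (1 : R ⧸ I) ⊗ₜ[R] (a • x) := by
  rw [TensorProduct.smul_tmul', smul_eq_mul, mul_one, ← TensorProduct.smul_tmul]
  congr 1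
  rw [← Ideal.Quotient.algebraMap_eq, Algebra.algebraMap_eq_smul_one]

/-- a f.g. projective module whose reduction mod a nilpotent ideal is free of rank one is free of
rank one -/
lemma free_rank_one (hI : IsNilpotent I) (Q : Type*) [AddCommGroup Q] [Module R Q]
    [Module.Finite R Q] [Module.Projective R Q]
    (θ : (R ⧸ I) ⊗[R] Q ≃ₗ[R ⧸ I] (R ⧸ I)) : Nonempty (Q ≃ₗ[R] R) := by
  obtain ⟨e, he⟩ := TensorProduct.mk_surjective R Q (R ⧸ I) Ideal.Quotient.mk_surjective (θ.symm 1)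
  have he' : (1 : R ⧸ I) ⊗ₜ[R] e = θ.symm 1 := he
  have hθe : θ ((1 : R ⧸ I) ⊗ₜ[R] e) = 1 := by rw [he', LinearEquiv.apply_symm_apply]
  let φ : R →ₗ[R] Q := LinearMap.toSpanSingleton R Q e
  have hφ : ∀ a, φ a = a • e := fun a => rfl
  -- surjectivity
  have hsurj : Function.Surjective φ := by
    rw [← LinearMap.range_eq_top, eq_top_iff]
    apply Submodule.le_of_le_smul_of_le_jacobson_bot (I := I) Module.Finite.fg_top
      (le_jacobson_of_isNilpotent I hI)
    intro x _
    obtain ⟨a, ha⟩ := Ideal.Quotient.mk_surjective (θ ((1 : R ⧸ I) ⊗ₜ[R] x))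
    have h1 : (1 : R ⧸ I) ⊗ₜ[R] x = (1 : R ⧸ I) ⊗ₜ[R] (a • e) := by
      apply θ.injective
      rw [← mk_smul_one_tmul, map_smul, hθe, smul_eq_mul, mul_one, ha]
    have h2 : x - a • e ∈ I • (⊤ : Submodule R Q) := by
      apply mem_smul_top_of_tmul_eq_zero
      rw [tmul_sub, h1, sub_self]
    have : x = a • e + (x - a • e) := by abel
    rw [this]
    exact Submodule.add_mem_sup ⟨a, rfl⟩ h2
  obtain ⟨ψ, hψ⟩ := Module.projective_lifting_property φ LinearMap.id hsurj
  have hψ' : ∀ y, φ (ψ y) = y := fun y => LinearMap.congr_fun hψ y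
  set ε := ψ e with hε
  have hεe : ε • e = e := hψ' e
  have hidem : (1 - ε) * (1 - ε) = 1 - ε := by
    have h1 : ε * ε = ε := by
      calc ε * ε = ε • ψ e := by rw [smul_eq_mul]
        _ = ψ (ε • e) := (map_smul ψ ε e).symm
        _ = ε := by rw [hεe]
    ring_nf
    rw [pow_two, h1]
    ring
  have hmem : 1 - ε ∈ I := by
    have h1 : (1 - ε) • e = 0 := by rw [sub_smul, one_smul, hεe, sub_self]
    have h2 := mk_smul_one_tmul I Q (1 - ε) e
    rw [h1, tmul_zero] at h2
    have h3 := congrArg θ h2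
    rw [map_smul, hθe, map_zero, smul_eq_mul, mul_one] at h3
    exact Ideal.Quotient.eq_zero_iff_mem.mp h3
  have hε1 : 1 - ε = 0 := by
    obtain ⟨n, hn⟩ := hI
    have h1 : (1 - ε) ^ n ∈ I ^ n := Ideal.pow_mem_pow hmem n
    rw [hn] at h1
    have h2 : ∀ m : ℕ, (1 - ε) ^ (m + 1) = 1 - ε := by
      intro m
      induction m with
      | zero => simp
      | succ m ih => rw [pow_succ, ih, hidem]
    cases n with
    | zero =>
      rw [pow_zero] at h1
      have h10 : (1 : R) = 0 := h1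
      exact eq_zero_of_zero_eq_one h10.symm _
    | succ n => rw [h2 n] at h1; exact h1
  have hε : ε = 1 := by linear_combination -hε1
  have hinj : Function.Injective φ := by
    rw [injective_iff_map_eq_zero]
    intro a ha
    have h1 : ψ (φ a) = a * ε := by
      rw [hφ, map_smul, smul_eq_mul]
    rw [ha, map_zero, hε, mul_one] at h1
    exact h1.symm
  exact ⟨(LinearEquiv.ofBijective φ ⟨hinj, hsurj⟩).symm⟩

end Groth.Agent.Lib.Helper17.PicNil
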