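import Mathlib
import Groth.Agent.Lib.Helper17.PicNil

namespace Groth.Agent.Lib.Helper17.PicNil
open TensorProduct

universe u
variable {R : Type u} [CommRing R] (I : Ideal R)

lemma isNilpotent_of_mem_ker_mapMatrix (hI : IsNilpotent I) (n : ℕ)
    (x : Matrix (Fin n) (Fin n) R)
    (hx : x ∈ RingHom.ker (RingHom.mapMatrix (m := Fin n) (Ideal.Quotient.mk I))) :
    IsNilpotent x := by
  have hx' : ∀ a b, x a b ∈ I := by
    intro a b
    rw [RingHom.mem_ker] at hx
    have := congrFun (congrFun hx a) b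
    simpa [Ideal.Quotient.eq_zero_iff_mem] using this
  have hpow : ∀ m : ℕ, ∀ a b, (x ^ (m + 1)) a b ∈ I ^ (m + 1) := by
    intro m
    induction m with
    | zero => intro a b; simpa using hx' a b
    | succ m ih =>
      intro a b
      rw [pow_succ x, Matrix.mul_apply, pow_succ I]
      exact Ideal.sum_mem _ fun c _ => Ideal.mul_mem_mul (ih a c) (hx' c b)
  obtain ⟨N, hN⟩ := hI
  refine ⟨N + 1, ?_⟩
  ext a b
  have := hpow N a b
  rw [pow_succ I, hN, Ideal.zero_eq_bot, Ideal.bot_mul] at this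
  exact this

/-- lifting idempotent matrices -/
lemma exists_idempotent_lift (hI : IsNilpotent I) (n : ℕ)
    (P : Matrix (Fin n) (Fin n) (R ⧸ I)) (hP : P * P = P) :
    ∃ P' : Matrix (Fin n) (Fin n) R, P' * P' = P' ∧ P'.map (Ideal.Quotient.mk I) = P := by
  have hrange : P ∈ (RingHom.mapMatrix (m := Fin n) (Ideal.Quotient.mk I)).range := by
    refine ⟨P.map (Function.surjInv Ideal.Quotient.mk_surjective), ?_⟩
    ext a b
    simp [Function.surjInv_eq]
  obtain ⟨P', hP', hPP'⟩ := exists_isIdempotentElem_eq_of_ker_isNilpotent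
    (RingHom.mapMatrix (m := Fin n) (Ideal.Quotient.mk I))
    (fun x hx => isNilpotent_of_mem_ker_mapMatrix I hI n x hx) P hrange hP
  exact ⟨P', hP', hPP'⟩

/-- lifting a f.g. projective module along a nilpotent thickening, given a lifted idempotent -/
lemma exists_lift_of_idempotent (n : ℕ) (M : Type u) [AddCommGroup M] [Module (R ⧸ I) M]
    (s : (Fin n → R ⧸ I) →ₗ[R ⧸ I] M) (i : M →ₗ[R ⧸ I] (Fin n → R ⧸ I))
    (hsi : s ∘ₗ i = LinearMap.id)
    (P' : Matrix (Fin n) (Fin n) R) (hP' : P' * P' = P')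
    (hPP' : P'.map (Ideal.Quotient.mk I) = LinearMap.toMatrix' (i ∘ₗ s)) :
    ∃ (L : Type u) (_ : AddCommGroup L) (_ : Module R L) (_ : Module.Finite R L)
      (_ : Module.Projective R L), Nonempty ((R ⧸ I) ⊗[R] L ≃ₗ[R ⧸ I] M) := by
  let p' : (Fin n → R) →ₗ[R] (Fin n → R) := Matrix.toLin' P'
  have hp' : ∀ y, p' (p' y) = p' y := by
    intro y
    have : p' ∘ₗ p' = p' := by rw [← Matrix.toLin'_mul, hP']
    exact LinearMap.congr_fun this y
  let π : (Fin n → R) → (Fin n → R ⧸ I) := fun y a => Ideal.Quotient.mk I (y a)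
  have hsi' : ∀ m, s (i m) = m := fun m => LinearMap.congr_fun hsi m
  have hπp : ∀ y, π (p' y) = i (s (π y)) := by
    intro y
    have h1 : i (s (π y)) = Matrix.toLin' (LinearMap.toMatrix' (i ∘ₗ s)) (π y) := by
      rw [Matrix.toLin'_toMatrix']; rfl
    rw [h1, ← hPP']
    funext a
    simp only [π, p', Matrix.toLin'_apply, Matrix.mulVec, dotProduct, Matrix.map_apply, map_sum,
      map_mul]
  let L := LinearMap.range p'
  have hLfix : ∀ x : L, p' x.1 = x.1 := by
    rintro ⟨_, y, rfl⟩
    exact hp' y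
  have hproj : Module.Projective R L := by
    apply Module.Projective.of_split L.subtype p'.rangeRestrict
    apply LinearMap.ext
    intro x
    exact Subtype.ext (hLfix x)
  have hfin : Module.Finite R L := Module.Finite.range p'
  -- the comparison map
  let β : (R ⧸ I) ⊗[R] L →ₗ[R ⧸ I] M :=
    s ∘ₗ (TensorProduct.piScalarRight R (R ⧸ I) (R ⧸ I) (Fin n)).toLinearMap ∘ₗ
      (L.subtype.baseChange (R ⧸ I))
  have hβ : ∀ x : L, β (1 ⊗ₜ x) = s (π x.1) := by
    intro x
    simp only [β, LinearMap.coe_comp, LinearEquiv.coe_coe, Function.comp_apply,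
      LinearMap.baseChange_tmul, Submodule.subtype_apply, TensorProduct.piScalarRight_apply,
      TensorProduct.piScalarRightHom_tmul]
    congr 1
    funext a
    simp only [π]
    rw [← Ideal.Quotient.algebraMap_eq, Algebra.algebraMap_eq_smul_one]
  refine ⟨L, inferInstance, inferInstance, hfin, hproj, ⟨LinearEquiv.ofBijective β ⟨?_, ?_⟩⟩⟩
  · -- injective
    rw [injective_iff_map_eq_zero]
    intro z hz
    obtain ⟨x, rfl⟩ := TensorProduct.mk_surjective R L (R ⧸ I) Ideal.Quotient.mk_surjective z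
    change β (1 ⊗ₜ x) = 0 at hz
    rw [hβ] at hz
    have h1 : π x.1 = 0 := by
      have := hπp x.1
      rw [hLfix x, hz, map_zero] at this
      exact this
    have h2 : ∀ a, x.1 a ∈ I := fun a => by
      have := congrFun h1 a
      exact Ideal.Quotient.eq_zero_iff_mem.mp this
    have h3 : x = ∑ a, x.1 a • p'.rangeRestrict (fun j => if a = j then 1 else 0) := by
      have := LinearMap.pi_apply_eq_sum_univ p'.rangeRestrict x.1
      rw [← this]
      exact Subtype.ext (hLfix x).symm
    change (1 : R ⧸ I) ⊗ₜ[R] x = 0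
    rw [h3, tmul_sum]
    apply Finset.sum_eq_zero
    intro a _
    rw [← smul_tmul, ← Algebra.algebraMap_eq_smul_one, Ideal.Quotient.algebraMap_eq,
      Ideal.Quotient.eq_zero_iff_mem.mpr (h2 a), zero_tmul]
  · -- surjective
    intro m
    let y : Fin n → R := fun a => Function.surjInv Ideal.Quotient.mk_surjective (i m a)
    have hy : π y = i m := by
      funext a
      exact Function.surjInv_eq _ _
    refine ⟨1 ⊗ₜ p'.rangeRestrict y, ?_⟩
    rw [hβ]
    change s (π (p' y)) = m
    rw [hπp, hy, hsi', hsi']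

end Groth.Agent.Lib.Helper17.PicNil
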