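import Mathlib
import Groth.Agent.Lib.Helper17.PicNil2

namespace Groth.Agent.Lib.Helper17.PicNil
open TensorProduct CommRing

universe u
variable {R : Type u} [CommRing R] (I : Ideal R)

lemma exists_lift (hI : IsNilpotent I) (M : Type u) [AddCommGroup M] [Module (R ⧸ I) M]
    [Module.Finite (R ⧸ I) M] [Module.Projective (R ⧸ I) M] :
    ∃ (L : Type u) (_ : AddCommGroup L) (_ : Module R L) (_ : Module.Finite R L)
      (_ : Module.Projective R L), Nonempty ((R ⧸ I) ⊗[R] L ≃ₗ[R ⧸ I] M) := by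
  obtain ⟨n, s, hs⟩ := Module.Finite.exists_fin' (R ⧸ I) M
  obtain ⟨i, hi⟩ := Module.projective_lifting_property s LinearMap.id hs
  have hidem : LinearMap.toMatrix' (i ∘ₗ s) * LinearMap.toMatrix' (i ∘ₗ s)
      = LinearMap.toMatrix' (i ∘ₗ s) := by
    rw [← LinearMap.toMatrix'_comp]
    congr 1
    rw [LinearMap.comp_assoc, ← LinearMap.comp_assoc s i s, hi, LinearMap.id_comp]
  obtain ⟨P', hP', hPP'⟩ := exists_idempotent_lift I hI n _ hidem
  exact exists_lift_of_idempotent I n M s i hi P' hP' hPP'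

theorem bijective_mapAlgebra_quotient (hI : IsNilpotent I) :
    Function.Bijective (Pic.mapAlgebra R (R ⧸ I)) := by
  constructor
  · rw [injective_iff_map_eq_one]
    intro L hL
    rw [Pic.mapAlgebra_apply, Pic.mk_eq_one_iff] at hL
    obtain ⟨θ⟩ := hL
    rw [← Pic.mk_eq_self (M := L), Pic.mk_eq_one_iff]
    exact free_rank_one I hI L θ
  · intro M
    obtain ⟨θMN⟩ : Nonempty ((M : Type u) ⊗[R ⧸ I] ((M⁻¹ : Pic (R ⧸ I)) : Type u)
        ≃ₗ[R ⧸ I] (R ⧸ I)) := by
      rw [← Pic.mk_eq_one_iff, ← Pic.mul_eq_tensor, mul_inv_cancel]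
    obtain ⟨L, _, _, _, _, ⟨eL⟩⟩ := exists_lift I hI (M : Type u)
    obtain ⟨L₂, _, _, _, _, ⟨eL₂⟩⟩ := exists_lift I hI ((M⁻¹ : Pic (R ⧸ I)) : Type u)
    let θ : (R ⧸ I) ⊗[R] (L ⊗[R] L₂) ≃ₗ[R ⧸ I] (R ⧸ I) :=
      (AlgebraTensorModule.distribBaseChange R (R ⧸ I) L L₂) ≪≫ₗ
        (TensorProduct.congr eL eL₂) ≪≫ₗ θMN
    obtain ⟨eQ⟩ := free_rank_one I hI (L ⊗[R] L₂) θ
    have : Module.Invertible R L := Module.Invertible.left eQ
    refine ⟨Pic.mk R L, ?_⟩
    rw [Pic.mapAlgebra_apply, Pic.mk_eq_iff]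
    exact ⟨AlgebraTensorModule.congr (LinearEquiv.refl _ _) (Pic.mk.linearEquiv R L) ≪≫ₗ eL⟩


theorem bijective_mapRingHom {A' A : Type u} [CommRing A'] [CommRing A]
    (f : A' →+* A) (hf : Function.Surjective f) (hker : IsNilpotent (RingHom.ker f)) :
    Function.Bijective (Pic.mapRingHom f) := by
  let e : A' ⧸ RingHom.ker f ≃+* A := RingHom.quotientKerEquivOfSurjective hf
  have hfe : f = (e : A' ⧸ RingHom.ker f →+* A).comp (Ideal.Quotient.mk (RingHom.ker f)) := by
    ext x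
    simp [e]
  have h1 : Function.Bijective (Pic.mapRingHom (Ideal.Quotient.mk (RingHom.ker f))) := by
    have := Pic.mapRingHom_algebraMap (R := A') (A := A' ⧸ RingHom.ker f)
    rw [Ideal.Quotient.algebraMap_eq] at this
    rw [this]
    exact bijective_mapAlgebra_quotient (RingHom.ker f) hker
  have h2 : Function.Bijective (Pic.mapRingHom (e : A' ⧸ RingHom.ker f →+* A)) := by
    have hl : (Pic.mapRingHom (e.symm : A →+* A' ⧸ RingHom.ker f)).comp
        (Pic.mapRingHom (e : A' ⧸ RingHom.ker f →+* A)) = MonoidHom.id _ := by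
      rw [Pic.mapRingHom_comp_mapRingHom]
      have : (e.symm : A →+* A' ⧸ RingHom.ker f).comp (e : A' ⧸ RingHom.ker f →+* A)
          = RingHom.id _ := by ext x; simp
      rw [this, Pic.mapRingHom_id]
    have hr : (Pic.mapRingHom (e : A' ⧸ RingHom.ker f →+* A)).comp
        (Pic.mapRingHom (e.symm : A →+* A' ⧸ RingHom.ker f)) = MonoidHom.id _ := by
      rw [Pic.mapRingHom_comp_mapRingHom]
      have : (e : A' ⧸ RingHom.ker f →+* A).comp (e.symm : A →+* A' ⧸ RingHom.ker f)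
          = RingHom.id _ := by ext x; simp
      rw [this, Pic.mapRingHom_id]
    refine Function.bijective_iff_has_inverse.mpr
      ⟨Pic.mapRingHom (e.symm : A →+* A' ⧸ RingHom.ker f), ?_, ?_⟩
    · intro x; exact DFunLike.congr_fun hl x
    · intro x; exact DFunLike.congr_fun hr x
  rw [hfe, ← Pic.mapRingHom_comp_mapRingHom]
  exact h2.comp h1

end Groth.Agent.Lib.Helper17.PicNil
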