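import Mathlib
import Groth.Prelude.Def_W4sga6xxiiiPolyMap

set_option autoImplicit false
universe u
open Polynomial

namespace Groth.Agent.Lib.Helper17.S5656aux

/-- binomial polynomial -/
noncomputable def B (j : ℕ) : ℚ[X] :=
  C ((j.factorial : ℚ)⁻¹) * (descPochhammer ℤ j).map (Int.castRingHom ℚ)

theorem B_eval (j : ℕ) (n : ℤ) : (B j).eval (n : ℚ) = ((Ring.choose n j : ℤ) : ℚ) := by
  have h1 : ((Ring.choose n j : ℤ) : ℚ) = Ring.choose (n : ℚ) j :=
    Ring.map_choose (Int.castRingHom ℚ) n j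
  rw [h1, Ring.choose_eq_smul, ← aeval_eq_smeval, B, eval_mul, eval_C, smul_eq_mul,
    aeval_def, eval₂_eq_eval_map]
  rfl

/-- A rational polynomial with small values at `p^{-i}`: if integer valued on `ℤ[1/p]` then
`P(1) = P(0)`. -/
theorem lemmaB (p : ℕ) (hp : 1 < p) (P : ℚ[X])
    (h : ∀ (i : ℕ) (n : ℤ), ∃ z : ℤ, P.eval ((n : ℚ) / (p : ℚ) ^ i) = z) :
    P.eval 1 = P.eval 0 := by
  -- Q = P - P(0) vanishes at p^{-i} for large i
  obtain ⟨R, hR⟩ : ∃ R : ℚ[X], P - C (P.eval 0) = X * R := by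
    have : (X : ℚ[X]) ∣ P - C (P.eval 0) := by
      rw [X_dvd_iff, coeff_sub, coeff_C_zero, coeff_zero_eq_eval_zero, sub_self]
    exact this
  -- bound for R on [0,1]
  set M : ℚ := ∑ j ∈ R.support, |R.coeff j| with hM
  have hbound : ∀ t : ℚ, |t| ≤ 1 → |R.eval t| ≤ M := by
    intro t ht
    rw [eval_eq_sum, Polynomial.sum]
    refine (Finset.abs_sum_le_sum_abs _ _).trans (Finset.sum_le_sum (fun j _ => ?_))
    rw [abs_mul, abs_pow]
    calc |R.coeff j| * |t| ^ j ≤ |R.coeff j| * 1 :=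
          mul_le_mul_of_nonneg_left (pow_le_one₀ (abs_nonneg t) ht) (abs_nonneg _)
      _ = |R.coeff j| := mul_one _
  have hM0 : 0 ≤ M := Finset.sum_nonneg (fun j _ => abs_nonneg _)
  have hpq : (1 : ℚ) < p := by exact_mod_cast hp
  have hp0 : (0 : ℚ) < p := by linarith
  obtain ⟨i0, hi0⟩ : ∃ i0 : ℕ, M + 1 < (p : ℚ) ^ i0 := pow_unbounded_of_one_lt (M + 1) hpq
  have hzero : ∀ i : ℕ, i0 ≤ i → (P - C (P.eval 0)).eval (1 / (p : ℚ) ^ i) = 0 := by
    intro i hi
    have hpi : (0 : ℚ) < (p : ℚ) ^ i := pow_pos hp0 i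
    have hle : (p : ℚ) ^ i0 ≤ (p : ℚ) ^ i := pow_le_pow_right₀ hpq.le hi
    obtain ⟨z, hz⟩ := h i 1
    obtain ⟨z0, hz0⟩ := h 0 0
    have hz0' : P.eval 0 = z0 := by simpa using hz0
    have hval : (P - C (P.eval 0)).eval (1 / (p : ℚ) ^ i) = ((z - z0 : ℤ) : ℚ) := by
      rw [eval_sub, eval_C, hz0']
      have : P.eval (1 / (p : ℚ) ^ i) = z := by simpa using hz
      rw [this]
      push_cast
      ring
    have ht1 : |1 / (p : ℚ) ^ i| ≤ 1 := by
      rw [abs_of_pos (by positivity)]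
      rw [div_le_one hpi]
      exact one_le_pow₀ hpq.le
    have habs : |(P - C (P.eval 0)).eval (1 / (p : ℚ) ^ i)| < 1 := by
      rw [hR, eval_mul, eval_X, abs_mul, abs_of_pos (by positivity : (0:ℚ) < 1 / (p : ℚ) ^ i)]
      calc 1 / (p : ℚ) ^ i * |R.eval (1 / (p : ℚ) ^ i)| ≤ 1 / (p : ℚ) ^ i * M :=
            mul_le_mul_of_nonneg_left (hbound _ ht1) (by positivity)
        _ < 1 := by
            rw [div_mul_eq_mul_div, one_mul, div_lt_one hpi]
            linarith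
    rw [hval] at habs ⊢
    have : |(z - z0 : ℤ)| < 1 := by exact_mod_cast habs
    have : z - z0 = 0 := Int.abs_lt_one_iff.mp this
    rw [this]
    simp
  have hQ : P - C (P.eval 0) = 0 := by
    apply Polynomial.eq_of_infinite_eval_eq
    refine Set.infinite_of_injective_forall_mem (f := fun i : ℕ => 1 / (p : ℚ) ^ (i0 + i)) ?_ ?_
    · intro a b hab
      simp only [one_div, inv_inj] at hab
      have := pow_right_injective₀ hp0 hpq.ne' hab
      omega
    · intro i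
      simp only [Set.mem_ofPred_eq, eval_zero]
      exact hzero _ (Nat.le_add_right _ _)
  have := congrArg (eval 1) hQ
  simpa [sub_eq_zero] using this


variable {G : Type u} [AddCommGroup G]

theorem exists_poly (f : G → ℚ) (hf : W4sga6xxiii.IsPolyMap f) (z x : G) :
    ∃ P : ℚ[X], ∀ n : ℤ, f (z + n • x) = P.eval (n : ℚ) := by
  obtain ⟨m, y, -, hy⟩ := hf 2 ![z, x]
  refine ⟨∑ k : Fin 2 → Fin (m + 1),
    C (((Ring.choose (1 : ℤ) (k 0 : ℕ) : ℤ) : ℚ) * y k) * B (k 1 : ℕ), fun n => ?_⟩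
  have := hy ![1, n]
  simp only [Fin.sum_univ_two, Matrix.cons_val_zero, Matrix.cons_val_one, one_smul,
    Fin.prod_univ_two] at this
  rw [this, eval_finsetSum]
  refine Finset.sum_congr rfl (fun k _ => ?_)
  rw [eval_mul, eval_C, B_eval, zsmul_eq_mul]
  push_cast
  ring

theorem exists_div_pow (G' : AddSubgroup G) (p : ℕ)
    (hdiv : ∀ x ∈ G', ∃ y ∈ G', p • y = x) (x : G) (hx : x ∈ G') (i : ℕ) :
    ∃ w ∈ G', (p ^ i) • w = x := by
  induction i generalizing x with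
  | zero => exact ⟨x, hx, by simp⟩
  | succ i ih =>
    obtain ⟨y, hy, hyx⟩ := hdiv x hx
    obtain ⟨w, hw, hwy⟩ := ih y hy
    exact ⟨w, hw, by rw [pow_succ, mul_smul, smul_comm, hwy, hyx]⟩

theorem lemmaA (G' : AddSubgroup G) (p : ℕ) (hp : p.Prime)
    (hdiv : ∀ x ∈ G', ∃ y ∈ G', p • y = x)
    (f : G → ℚ) (hf : W4sga6xxiii.IsPolyMap f) (hint : ∀ x, ∃ z : ℤ, f x = z)
    (z x : G) (hx : x ∈ G') : f (z + x) = f z := by
  obtain ⟨P, hP⟩ := exists_poly f hf z x
  have hp0 : (p : ℚ) ≠ 0 := by exact_mod_cast hp.ne_zero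
  have key : P.eval 1 = P.eval 0 := by
    apply lemmaB p hp.one_lt P
    intro i n
    obtain ⟨w, hw, hwx⟩ := exists_div_pow G' p hdiv x hx i
    obtain ⟨Pw, hPw⟩ := exists_poly f hf z w
    -- P(X) = Pw(p^i X)
    have hcomp : P = Pw.comp (C ((p : ℚ) ^ i) * X) := by
      apply Polynomial.eq_of_infinite_eval_eq
      refine Set.infinite_of_injective_forall_mem (f := fun n : ℤ => (n : ℚ)) Int.cast_injective ?_
      intro n
      simp only [Set.mem_ofPred_eq, eval_comp, eval_mul, eval_C, eval_X]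
      rw [← hP n]
      have : ((p : ℚ) ^ i * (n : ℚ)) = (((p ^ i : ℕ) * n : ℤ) : ℚ) := by push_cast; ring
      rw [this, ← hPw]
      congr 2
      rw [← hwx, mul_smul, natCast_zsmul, smul_comm]
    obtain ⟨c, hc⟩ := hint (z + n • w)
    refine ⟨c, ?_⟩
    rw [hcomp, eval_comp, eval_mul, eval_C, eval_X, mul_div_cancel₀ _ (pow_ne_zero i hp0),
      ← hPw, hc]
  have h1 := hP 1
  have h0 := hP 0
  simp only [one_smul, Int.cast_one, zero_smul, add_zero, Int.cast_zero] at h1 h0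
  rw [h1, h0, key]

theorem main (G' : AddSubgroup G)
    (p : ℕ) (hp : p.Prime) (hdiv : ∀ x ∈ G', ∃ y ∈ G', p • y = x)
    (htor : ∀ x : G, ∃ n : ℤ, n ≠ 0 ∧ n • x ∈ G')
    (f : G → ℚ) (hf : W4sga6xxiii.IsPolyMap f) (hint : ∀ x, ∃ z : ℤ, f x = z) (x : G) :
    f x = f 0 := by
  obtain ⟨N, hN0, hN⟩ := htor x
  obtain ⟨P, hP⟩ := exists_poly f hf 0 x
  have hconst : P = C (f 0) := by
    apply Polynomial.eq_of_infinite_eval_eq
    refine Set.infinite_of_injective_forall_mem (f := fun k : ℤ => ((N * k : ℤ) : ℚ)) ?_ ?_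
    · intro a b hab
      have : N * a = N * b := Int.cast_injective hab
      exact mul_left_cancel₀ hN0 this
    · intro k
      simp only [Set.mem_ofPred_eq, eval_C]
      rw [← hP, zero_add, mul_comm, mul_smul]
      have := lemmaA G' p hp hdiv f hf hint 0 (k • N • x) (G'.zsmul_mem hN k)
      rwa [zero_add] at this
  have h1 := hP 1
  simp only [one_smul, Int.cast_one, zero_add] at h1
  rw [h1, hconst, eval_C]

end Groth.Agent.Lib.Helper17.S5656aux
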