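import Mathlib

/-!
# Existence of Postnikov systems in a triangulated category under vanishing of negative Homs
-/

set_option autoImplicit false
set_option linter.unusedSectionVars false

open CategoryTheory CategoryTheory.Limits CategoryTheory.Pretriangulated
open scoped ZeroObject

namespace Groth.Agent.Lib.Helper17.Postnikov

universe v u

variable {D : Type u} [Category.{v} D] [Preadditive D] [HasZeroObject D] [HasShift D ℤ]
  [∀ n : ℤ, (shiftFunctor D n).Additive] [Pretriangulated D]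
  (X : ChainComplex D ℕ) (N : ℕ)

/-- a stage of the construction -/
structure Stage (m : ℕ) where
  Y : D
  a : Y ⟶ X.X m
  V : ∀ (i : ℕ) (t : ℤ), m + 2 < i → i ≤ N → t = (i : ℤ) - m - 2 →
    ∀ φ : (shiftFunctor D t).obj (X.X i) ⟶ Y, φ = 0
  K : m + 2 ≤ N → ∀ g : X.X (m + 2) ⟶ Y, g ≫ a = 0 → g = 0
  lift : m + 1 ≤ N → ∃ b : X.X (m + 1) ⟶ Y, b ≫ a = X.d (m + 1) m

/-- a step of the construction -/
structure Step {m : ℕ} (s : Stage X N m) where
  s' : Stage X N (m + 1)
  b : X.X (m + 1) ⟶ s.Y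
  c : s.Y ⟶ (shiftFunctor D (1 : ℤ)).obj s'.Y
  h : m + 1 ≤ N → Triangle.mk s'.a b c ∈ distTriang D ∧ b ≫ s.a = X.d (m + 1) m

variable (hX : ∀ (i j : ℕ) (t : ℤ), j + 2 < i → i ≤ N → t = (i : ℤ) - j - 2 →
    ∀ φ : (shiftFunctor D t).obj (X.X i) ⟶ X.X j, φ = 0)

/-- the initial stage -/
def stageZero : Stage X N 0 where
  Y := X.X 0
  a := 𝟙 _
  V := fun i t hi hiN ht φ => hX i 0 t hi hiN ht φ
  K := fun _ g hg => by simpa using hg
  lift := fun _ => ⟨X.d 1 0, by simp⟩

include hX in
lemma exists_step {m : ℕ} (s : Stage X N m) : Nonempty (Step X N s) := by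
  by_cases h : m + 1 ≤ N
  · obtain ⟨b, hb⟩ := s.lift h
    obtain ⟨Z, f, c, hT⟩ := distinguished_cocone_triangle₁ b
    have key : ∀ (T : D) (φ : T ⟶ Z), φ ≫ f = 0 →
        (∀ g : (shiftFunctor D (1 : ℤ)).obj T ⟶ s.Y, g = 0) → φ = 0 := by
      intro T φ h1 h2
      obtain ⟨g, hg⟩ := Triangle.coyoneda_exact₁ _ hT (φ⟦(1 : ℤ)⟧') (by
        change (shiftFunctor D (1 : ℤ)).map φ ≫ (shiftFunctor D (1 : ℤ)).map f = 0
        rw [← Functor.map_comp, h1, Functor.map_zero])
      apply (shiftFunctor D (1 : ℤ)).map_injective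
      rw [Functor.map_zero]
      have hg0 : g = 0 := h2 g
      exact hg.trans (by rw [hg0]; exact zero_comp)
    refine ⟨{ s' := { Y := Z, a := f, V := ?_, K := ?_, lift := ?_ }, b := b, c := c,
              h := fun _ => ⟨hT, hb⟩ }⟩
    · intro i t hi hiN ht φ
      apply key _ φ (hX i (m + 1) t hi hiN ht _)
      intro g
      have := s.V i (t + 1) (by omega) hiN (by rw [ht]; push_cast; ring)
        ((shiftFunctorAdd' D t 1 (t + 1) rfl).hom.app (X.X i) ≫ g)
      rw [← cancel_epi ((shiftFunctorAdd' D t 1 (t + 1) rfl).hom.app (X.X i)), this, comp_zero]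
    · intro h2 g hg
      apply key _ g hg
      intro g'
      exact s.V (m + 1 + 2) 1 (by omega) h2 (by push_cast; ring) g'
    · intro h2
      have h3 : X.d (m + 1 + 1) (m + 1) ≫ b = 0 :=
        s.K h2 _ (by rw [Category.assoc, hb, X.d_comp_d])
      obtain ⟨b', hb'⟩ := Triangle.coyoneda_exact₂ _ hT (X.d (m + 1 + 1) (m + 1)) h3
      exact ⟨b', hb'.symm⟩
  · exact ⟨{ s' := { Y := (0 : D), a := 0, V := by intros; omega, K := by intros; omega,
                     lift := by intros; omega }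
             b := 0, c := 0, h := fun h' => absurd h' h }⟩

/-- the sequence of stages -/
noncomputable def stages : ∀ m : ℕ, Stage X N m
  | 0 => stageZero X N hX
  | m + 1 => (exists_step X N hX (stages m)).some.s'

/-- the steps -/
noncomputable def steps (m : ℕ) : Step X N (stages X N hX m) :=
  (exists_step X N hX (stages X N hX m)).some

include hX in
theorem exists_postnikov :
    ∃ (Y : ℕ → D) (a : ∀ k, Y k ⟶ X.X k) (b : ∀ k, X.X (k + 1) ⟶ Y k)
      (c : ∀ k, Y k ⟶ (shiftFunctor D (1 : ℤ)).obj (Y (k + 1))),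
      IsIso (a 0) ∧ ∀ k, k < N →
        Triangle.mk (a (k + 1)) (b k) (c k) ∈ distTriang D ∧ b k ≫ a k = X.d (k + 1) k := by
  refine ⟨fun k => (stages X N hX k).Y, fun k => (stages X N hX k).a,
    fun k => (steps X N hX k).b, fun k => (steps X N hX k).c, ?_,
    fun k hk => (steps X N hX k).h (by omega)⟩
  change IsIso (𝟙 (X.X 0))
  infer_instance

end Groth.Agent.Lib.Helper17.Postnikov
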