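import Mathlib.AlgebraicGeometry.ProjectiveSpectrum.Topology
import Mathlib.RingTheory.GradedAlgebra.Radical
import Mathlib.RingTheory.Nilpotent.Lemmas

/-! Existence of relevant homogeneous primes avoiding an element of the irrelevant ideal. -/

namespace Groth.Agent.Lib.Helper17

universe u

variable {R A : Type u} [CommRing R] [CommRing A] [Algebra R A]
  (𝒜 : ℕ → Submodule R A) [GradedAlgebra 𝒜]

/-- If `f` lies in the irrelevant ideal, `J` is a homogeneous ideal and `f ∉ √J`, there is a point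
of the projective spectrum containing `J` but not `f`. -/
theorem exists_projectiveSpectrum_not_mem (J : HomogeneousIdeal 𝒜) (f : A)
    (hf : f ∈ (HomogeneousIdeal.irrelevant 𝒜).toIdeal) (hfJ : f ∉ J.toIdeal.radical) :
    ∃ x : ProjectiveSpectrum 𝒜, J ≤ x.asHomogeneousIdeal ∧ f ∉ x.asHomogeneousIdeal := by
  rw [Ideal.radical_eq_sInf, Ideal.mem_sInf] at hfJ
  push Not at hfJ
  obtain ⟨q, ⟨hJq, hq⟩, hfq⟩ := hfJ
  have hcore_le : (q.homogeneousCore 𝒜).toIdeal ≤ q := Ideal.toIdeal_homogeneousCore_le 𝒜 q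
  have hfcore : f ∉ (q.homogeneousCore 𝒜).toIdeal := fun h => hfq (hcore_le h)
  refine ⟨⟨q.homogeneousCore 𝒜, hq.homogeneousCore, ?_⟩, ?_, ?_⟩
  · intro hle
    exact hfcore (hle hf)
  · exact (Ideal.homogeneousCore.gc 𝒜 J q).mp hJq
  · exact hfcore

end Groth.Agent.Lib.Helper17
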