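import Mathlib.RingTheory.Valuation.ValuationRing
import Mathlib.RingTheory.KrullDimension.Basic
import Mathlib.RingTheory.Localization.AtPrime.Basic
import Mathlib.RingTheory.Spectrum.Maximal.Basic
import Mathlib.Order.KrullDimension

/-!
# Spectrum of a semilocal Prüfer domain of finite Krull dimension is finite (helper17)
-/

set_option autoImplicit false
universe u

namespace Groth.Agent.Lib.Helper17.PruferSpec

variable (R : Type u) [CommRing R] [IsDomain R]

/-- Primes below a prime `m` with `R_m` a valuation ring form a chain. -/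
theorem primes_le_total (m : Ideal R) [m.IsPrime] [ValuationRing (Localization.AtPrime m)]
    (p q : Ideal R) [p.IsPrime] [q.IsPrime] (hp : p ≤ m) (hq : q ≤ m) : p ≤ q ∨ q ≤ p := by
  by_contra hcon
  rw [not_or] at hcon
  obtain ⟨h1, h2⟩ := hcon
  obtain ⟨x, hxp, hxq⟩ := Set.not_subset.mp h1
  obtain ⟨y, hyq, hyp⟩ := Set.not_subset.mp h2
  have hinj : Function.Injective (algebraMap R (Localization.AtPrime m)) :=
    IsLocalization.injective _ m.primeCompl_le_nonZeroDivisors
  -- key: if `algebraMap u ∣ algebraMap v`, `u ∈ I` prime `≤ m`, then `v ∈ I`.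
  have key : ∀ (I : Ideal R) [I.IsPrime], I ≤ m → ∀ u v : R, u ∈ I →
      algebraMap R (Localization.AtPrime m) u ∣ algebraMap R (Localization.AtPrime m) v → v ∈ I := by
    intro I _ hI u v hu hdvd
    obtain ⟨c, hc⟩ := hdvd
    obtain ⟨a, s, rfl⟩ := IsLocalization.exists_mk'_eq m.primeCompl c
    have h3 : algebraMap R (Localization.AtPrime m) (v * s) =
        algebraMap R (Localization.AtPrime m) (u * a) := by
      rw [map_mul, hc, mul_assoc, IsLocalization.mk'_spec, map_mul]
    have h4 : v * s = u * a := hinj h3
    have h5 : v * (s : R) ∈ I := by rw [h4]; exact I.mul_mem_right _ hu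
    rcases Ideal.IsPrime.mem_or_mem inferInstance h5 with h6 | h6
    · exact h6
    · exact absurd (hI h6) s.2
  rcases ValuationRing.dvd_total (algebraMap R (Localization.AtPrime m) x)
      (algebraMap R (Localization.AtPrime m) y) with h | h
  · exact hyp (key p hp x y hxp h)
  · exact hxq (key q hq y x hyq h)

/-- A chain of primes in a ring of finite Krull dimension is finite. -/
theorem finite_of_chain {α : Type*} [PartialOrder α] (hdim : Order.krullDim α < ⊤) (C : Set α)
    (hC : ∀ x ∈ C, ∀ y ∈ C, x ≤ y ∨ y ≤ x) : C.Finite := by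
  rcases C.eq_empty_or_nonempty with rfl | ⟨c₀, hc₀⟩
  · exact Set.finite_empty
  -- a uniform natural bound on heights
  have hne_top : Order.krullDim α ≠ ⊤ := hdim.ne
  have hbound : ∃ n : ℕ, ∀ x : α, Order.height x ≤ (n : ℕ∞) := by
    have h0 : (Order.height c₀ : WithBot ℕ∞) ≤ Order.krullDim α := Order.height_le_krullDim c₀
    have hne_bot : Order.krullDim α ≠ ⊥ := by
      intro h
      rw [h] at h0
      exact WithBot.coe_ne_bot (le_bot_iff.mp h0)
    obtain ⟨k, hk⟩ := WithBot.ne_bot_iff_exists.mp hne_bot
    have hk_top : k ≠ ⊤ := by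
      intro h
      apply hne_top
      rw [← hk, h]
      rfl
    obtain ⟨n, hn⟩ := ENat.ne_top_iff_exists.mp hk_top
    refine ⟨n, fun x => ?_⟩
    have h1 : (Order.height x : WithBot ℕ∞) ≤ Order.krullDim α := Order.height_le_krullDim x
    rw [← hk, WithBot.coe_le_coe] at h1
    rw [hn]
    exact h1
  obtain ⟨n, hn⟩ := hbound
  have hfin : ∀ x : α, Order.height x < ⊤ := fun x =>
    lt_of_le_of_lt (hn x) (ENat.natCast_lt_top n)
  apply Set.Finite.of_finite_image (f := fun x => (Order.height x).toNat)
  · apply (Set.finite_Iic n).subset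
    rintro _ ⟨x, _, rfl⟩
    simp only [Set.mem_Iic]
    exact ENat.toNat_le_of_le_natCast (hn x)
  · intro x hx y hy hxy
    simp only at hxy
    have hxy' : Order.height x = Order.height y := by
      rw [← ENat.natCast_toNat (hfin x).ne, ← ENat.natCast_toNat (hfin y).ne, hxy]
    by_contra hne
    rcases hC x hx y hy with h | h
    · have := Order.height_strictMono (lt_of_le_of_ne h hne) (hfin x)
      rw [hxy'] at this
      exact lt_irrefl _ this
    · have := Order.height_strictMono (lt_of_le_of_ne h (Ne.symm hne)) (hfin y)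
      rw [hxy'] at this
      exact lt_irrefl _ this

/-- The spectrum of a semilocal Prüfer domain of finite Krull dimension is finite. -/
theorem finite_primeSpectrum
    (hR : ∀ (p : Ideal R) [p.IsPrime], ValuationRing (Localization.AtPrime p))
    (hfin : Finite (MaximalSpectrum R)) (hdim : ringKrullDim R < ⊤) :
    Finite (PrimeSpectrum R) := by
  have hcover : (Set.univ : Set (PrimeSpectrum R)) =
      ⋃ m : MaximalSpectrum R, {p | p.asIdeal ≤ m.asIdeal} := by
    ext p
    simp only [Set.mem_univ, Set.mem_iUnion, Set.mem_ofPred_eq, true_iff]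
    obtain ⟨M, hM, hpM⟩ := Ideal.exists_le_maximal p.asIdeal p.2.ne_top
    exact ⟨⟨M, hM⟩, hpM⟩
  have hfinite : (Set.univ : Set (PrimeSpectrum R)).Finite := by
    rw [hcover]
    apply Set.finite_iUnion
    intro m
    apply finite_of_chain hdim
    intro p hp q hq
    have := m.isMaximal.isPrime
    have := hR m.asIdeal
    have := p.2
    have := q.2
    exact primes_le_total R m.asIdeal p.asIdeal q.asIdeal hp hq
  exact Set.finite_univ_iff.mp hfinite

end Groth.Agent.Lib.Helper17.PruferSpec
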