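import Mathlib
import Groth.Prelude.Def_ModSite
import Groth.Prelude.Def_AlgSpPerf

/-!
# Pullback of the structure sheaf along a morphism of ringed sites
-/

set_option autoImplicit false
universe u

open CategoryTheory Limits Opposite

namespace Groth.Agent.Lib.Helper17.PullUnit

section Types

variable {C D : Type u} [SmallCategory C] [SmallCategory D]
  (J : GrothendieckTopology C) (K : GrothendieckTopology D) (F : D ⥤ C) [F.IsContinuous K J]
  [(F.sheafPushforwardContinuous (Type u) K J).IsRightAdjoint]
  [PreservesFiniteLimits (F.sheafPullback (Type u) K J)]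

/-- the terminal sheaf of types: constant with value `PUnit`. -/
def T {E : Type u} [SmallCategory E] (L : GrothendieckTopology E) : Sheaf L (Type u) :=
  ⟨(Functor.const _).obj PUnit.{u + 1}, Presheaf.isSheaf_of_isTerminal L Types.isTerminalPUnit⟩

def isTerminalT {E : Type u} [SmallCategory E] (L : GrothendieckTopology E) : IsTerminal (T L) :=
  IsTerminal.ofUniqueHom (fun Q => ⟨{ app := fun _ => ↾fun _ => PUnit.unit }⟩)
    (fun Q m => by
      apply Sheaf.hom_ext
      ext X x
      rfl)


/-- morphisms from the terminal sheaf are sections. -/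
def homEquivSections {E : Type u} [SmallCategory E] (L : GrothendieckTopology E)
    (P : Sheaf L (Type u)) : (T L ⟶ P) ≃ P.obj.sections :=
  (show (T L ⟶ P) ≃ ((T L).obj ⟶ P.obj) from
    ⟨fun f => f.hom, fun g => ⟨g⟩, fun _ => rfl, fun _ => rfl⟩).trans
    (P.obj.sectionsEquivHom PUnit.{u + 1}).symm

lemma homEquivSections_apply {E : Type u} [SmallCategory E] (L : GrothendieckTopology E)
    (P : Sheaf L (Type u)) (f : T L ⟶ P) (X : Eᵒᵖ) :
    (homEquivSections L P f).val X = f.hom.app X PUnit.unit := rfl

include K in
/-- the comparison of sections as a composite of bijections. -/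
noncomputable def sectionsEquiv (P : Sheaf J (Type u)) :
    P.obj.sections ≃ (F.op ⋙ P.obj).sections :=
  let hT : IsTerminal ((F.sheafPullback (Type u) K J).obj (T K)) :=
    IsTerminal.isTerminalObj _ _ (isTerminalT K)
  let u : (F.sheafPullback (Type u) K J).obj (T K) ≅ T J := hT.uniqueUpToIso (isTerminalT J)
  (homEquivSections J P).symm.trans <| (u.homFromEquiv).symm.trans <|
    ((F.sheafAdjunctionContinuous (Type u) K J).homEquiv (T K) P).trans <|
    homEquivSections K ((F.sheafPushforwardContinuous (Type u) K J).obj P)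

include K in
theorem bijective_sectionsPrecomp (P : Sheaf J (Type u)) :
    Function.Bijective (F.op.sectionsPrecomp (P := P.obj)) := by
  have h : F.op.sectionsPrecomp (P := P.obj) = sectionsEquiv J K F P := by
    funext s
    apply Subtype.ext
    funext V
    dsimp only [sectionsEquiv, Equiv.trans_apply]
    erw [homEquivSections_apply]
    rw [Adjunction.homEquiv_unit]
    rfl
  rw [h]
  exact (sectionsEquiv J K F P).bijective

end Types


section Modules

open SheafOfModules

variable {C D : Type u} [SmallCategory C] [SmallCategory D]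
  {J : GrothendieckTopology C} {K : GrothendieckTopology D} {F : C ⥤ D}
  {S : Sheaf J RingCat.{u}} {R : Sheaf K RingCat.{u}} [Functor.IsContinuous F J K]
  (φ : S ⟶ (F.sheafPushforwardContinuous RingCat.{u} J K).obj R)
  [(F.sheafPushforwardContinuous (Type u) J K).IsRightAdjoint]
  [PreservesFiniteLimits (F.sheafPullback (Type u) J K)]

lemma bijective_pushforwardSections (M : SheafOfModules.{u} R) :
    Function.Bijective (pushforwardSections φ (M := M)) :=
  bijective_sectionsPrecomp K J F ⟨M.val.presheaf ⋙ forget _,
    (Presheaf.isSheaf_iff_isSheaf_forget _ _ (forget Ab)).1 M.isSheaf⟩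

variable [(pushforward.{u} φ).IsRightAdjoint]

instance isIso_pullbackObjUnitToUnit : IsIso (pullbackObjUnitToUnit φ) := by
  rw [isIso_iff_coyoneda_map_bijective]
  intro M
  rw [← ((pullbackPushforwardAdjunction.{u} φ).homEquiv _ _).bijective.of_comp_iff',
    ← (unitHomEquiv _).bijective.of_comp_iff']
  convert! (bijective_pushforwardSections φ M).comp (unitHomEquiv _).bijective
  ext f : 1
  dsimp
  rw [pushforwardSections_unitHomEquiv, EmbeddingLike.apply_eq_iff_eq,
    Adjunction.homEquiv_naturality_right,
    pullbackPushforwardAdjunction_homEquiv_pullbackObjUnitToUnit]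

variable [HasWeakSheafify J AddCommGrpCat.{u}] [HasWeakSheafify K AddCommGrpCat.{u}]
  [J.WEqualsLocallyBijective AddCommGrpCat.{u}]
  [K.WEqualsLocallyBijective AddCommGrpCat.{u}]

/-- the pullback of a free module is free. -/
noncomputable def pullbackObjFreeIso' (I : Type u) :
    (SheafOfModules.pullback φ).obj (free I) ≅ free I :=
  (asIso (sigmaComparison _ _)).symm ≪≫
    Sigma.mapIso (fun _ ↦ asIso (pullbackObjUnitToUnit φ))

end Modules

section RMor

variable {C : Type u} [SmallCategory C] {J : GrothendieckTopology C} {O_C : Sheaf J CommRingCat.{u}}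
  {D : Type u} [SmallCategory D] {K : GrothendieckTopology D} {O_D : Sheaf K CommRingCat.{u}}
  (f : ModSite.RMor O_C O_D)

/-- `f^* O_D^I ≅ O_C^I`. -/
noncomputable def pullFreeIso (I : Type u) :
    f.pull.obj (SheafOfModules.free (R := ModSite.ringSh O_D) I) ≅
      SheafOfModules.free (R := ModSite.ringSh O_C) I :=
  pullbackObjFreeIso' f.sharpR I

theorem isStrictlyPerfectMod_pull (E : CochainComplex (ModSite.Mod O_D) ℤ)
    (hE : DCoh.IsStrictlyPerfectMod (ModSite.ringSh O_D) E) :
    DCoh.IsStrictlyPerfectMod (ModSite.ringSh O_C)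
      ((f.pull.mapHomologicalComplex (ComplexShape.up ℤ)).obj E) := by
  obtain ⟨⟨a, b, hab⟩, hterm⟩ := hE
  refine ⟨⟨a, b, fun i hi => ?_⟩, fun i => ?_⟩
  · exact f.pull.map_isZero (hab i hi)
  · obtain ⟨n, ι, p, hιp⟩ := hterm i
    refine ⟨n, f.pull.map ι ≫ (pullFreeIso f _).hom, (pullFreeIso f _).inv ≫ f.pull.map p, ?_⟩
    rw [Category.assoc, Iso.hom_inv_id_assoc]
    exact ((f.pull.map_comp ι p).symm.trans (congrArg f.pull.map hιp)).trans (f.pull.map_id _)

end RMor

end Groth.Agent.Lib.Helper17.PullUnit
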