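import Mathlib
import Groth.Prelude.Def_QCohCat
import Groth.Prelude.Def_CxOX
import Groth.Agent.Lib.Helper29.QCohGen
import Groth.Agent.Lib.Helper29.QCohFinite
import Groth.Agent.Lib.Helper17.Baer5

/-!
# Finite type modules on quasi-compact schemes are quotients of finite sums of `j_! O_U` (helper17)
-/

set_option autoImplicit false

universe u

open CategoryTheory Limits AlgebraicGeometry Opposite TopologicalSpace

namespace Groth.Agent.Lib.Helper17.QCohGen

open Groth.Agent.Lib.Helper29.QCoh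

variable {X : Scheme.{u}}

/-- `j_! O_U` for an open `U` of `X`. -/
noncomputable def jU (U : X.Opens) : X.Modules := (CxOX.extZero U.ι).obj (unitM ↑U)

/-- hom out of `jU` from a section of the restriction -/
noncomputable def jUHom (M : X.Modules) (U : X.Opens)
    (s : Γ((Scheme.Modules.restrictFunctor U.ι).obj M, ⊤)) : jU U ⟶ M :=
  ((CxOX.extZeroAdj U.ι).homEquiv _ _).symm
    (homOfSection ((Scheme.Modules.restrictFunctor U.ι).obj M) s)

/-- the canonical section -/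
noncomputable def jUOne (U : X.Opens) : Γ((Scheme.Modules.restrictFunctor U.ι).obj (jU U), ⊤) :=
  ((CxOX.extZeroAdj U.ι).unit.app (unitM ↑U)).app ⊤ (toUnit 1)

lemma jUHom_app_one (M : X.Modules) (U : X.Opens)
    (s : Γ((Scheme.Modules.restrictFunctor U.ι).obj M, ⊤)) :
    ((Scheme.Modules.restrictFunctor U.ι).map (jUHom M U s)).app ⊤ (jUOne U) = s := by
  have h1 : ((CxOX.extZeroAdj U.ι).homEquiv _ _) (jUHom M U s) =
      homOfSection ((Scheme.Modules.restrictFunctor U.ι).obj M) s :=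
    Equiv.apply_symm_apply _ _
  rw [Adjunction.homEquiv_unit] at h1
  have h2 := congrArg (fun t => t.app ⊤ (toUnit 1)) h1
  have h3 : (homOfSection ((Scheme.Modules.restrictFunctor U.ι).obj M) s).app ⊤ (toUnit 1) = s :=
    homOfSection_app_one _ s
  exact h2.trans h3

lemma germ_mem_range (M : X.Modules) (U : X.Opens)
    (s : Γ((Scheme.Modules.restrictFunctor U.ι).obj M, ⊤)) (x : X) (hx : x ∈ U.ι ''ᵁ ⊤) :
    M.presheaf.germ (U.ι ''ᵁ ⊤) x hx s ∈ stalkMapRange (jUHom M U s) x := by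
  rw [mem_stalkMapRange]
  refine ⟨(jU U).presheaf.germ (U.ι ''ᵁ ⊤) x hx (jUOne U), ?_⟩
  rw [stalkMap_germ]
  congr 1
  exact jUHom_app_one M U s

theorem epi_desc (M : X.Modules) {I : Type*} [Finite I] (U : I → X.Opens)
    (s : ∀ i, Γ((Scheme.Modules.restrictFunctor (U i).ι).obj M, ⊤))
    (h : ∀ x : X, Submodule.span (X.presheaf.stalk x)
      {t | ∃ (i : I) (hx : x ∈ (U i).ι ''ᵁ ⊤), t = M.presheaf.germ ((U i).ι ''ᵁ ⊤) x hx (s i)} = ⊤) :
    Epi (Sigma.desc fun i => jUHom M (U i) (s i)) := by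
  rw [epi_iff_stalkMap_surjective]
  intro x t
  have ht : t ∈ Submodule.span (X.presheaf.stalk x)
      {t | ∃ (i : I) (hx : x ∈ (U i).ι ''ᵁ ⊤),
        t = M.presheaf.germ ((U i).ι ''ᵁ ⊤) x hx (s i)} := by rw [h x]; trivial
  have hle : Submodule.span (X.presheaf.stalk x)
      {t | ∃ (i : I) (hx : x ∈ (U i).ι ''ᵁ ⊤),
        t = M.presheaf.germ ((U i).ι ''ᵁ ⊤) x hx (s i)} ≤
        stalkMapRange (Sigma.desc fun i => jUHom M (U i) (s i)) x := by
    rw [Submodule.span_le]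
    rintro _ ⟨i, hx, rfl⟩
    obtain ⟨a, ha⟩ := (mem_stalkMapRange _ _ _).1 (germ_mem_range M (U i) (s i) x hx)
    refine (mem_stalkMapRange _ _ _).2 ⟨stalkMap (Sigma.ι (fun i => jU (U i)) i) x a, ?_⟩
    rw [← stalkMap_comp_apply, Sigma.ι_desc]
    exact ha
  exact (mem_stalkMapRange _ _ _).1 (hle ht)

theorem exists_epi_of_isFiniteType [CompactSpace X] (M : X.Modules) [M.IsFiniteType] :
    ∃ (m : ℕ) (U : Fin m → X.Opens) (φ : (∐ fun k => jU (U k)) ⟶ M), Epi φ := by
  choose U hU hxU n s hs using exists_affine_sections_span_eq_top M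
  obtain ⟨t, ht⟩ := isCompact_univ.elim_finite_subcover (fun x => (U x : Set X))
    (fun x => (U x).isOpen) (fun x _ => Set.mem_iUnion.2 ⟨x, hxU x⟩)
  let I := Σ x : t, Fin (n x.1)
  let e : I ≃ Fin (Fintype.card I) := Fintype.equivFin I
  have hUe : ∀ V : X.Opens, V.ι ''ᵁ ⊤ = V := fun V => Scheme.Opens.ι_image_top V
  let U' : I → X.Opens := fun i => U i.1.1
  let s' : ∀ i : I, Γ((Scheme.Modules.restrictFunctor (U' i).ι).obj M, ⊤) :=
    fun i => res M (hUe (U' i)).le (s i.1.1 i.2)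
  have hepi : Epi (Sigma.desc fun i => jUHom M (U' i) (s' i)) := by
    apply epi_desc
    intro x
    obtain ⟨x0, hx0, hxx0⟩ : ∃ x0 ∈ t, x ∈ U x0 := by
      have := ht (Set.mem_univ x)
      simpa using this
    rw [eq_top_iff, ← hs x0 x hxx0]
    apply Submodule.span_mono
    rintro _ ⟨l, rfl⟩
    refine ⟨⟨⟨x0, hx0⟩, l⟩, (hUe (U x0)).ge hxx0, ?_⟩
    exact (germ_res M (hUe (U x0)).le x ((hUe (U x0)).ge hxx0) (s x0 l)).symm
  refine ⟨Fintype.card I, fun k => U' (e.symm k),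
    (Sigma.reindex e.symm (fun i => jU (U' i))).hom ≫
      (Sigma.desc fun i => jUHom M (U' i) (s' i)), ?_⟩
  infer_instance

end Groth.Agent.Lib.Helper17.QCohGen
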