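import Groth.Agent.S11329
import Groth.Agent.Lib.Helper17.KProjAff
import Groth.Agent.Lib.Helper17.ZClosLib
import Groth.Agent.Lib.Helper17.CapCoh
import Groth.Agent.Lib.Helper29.QCohQcqs

set_option autoImplicit false
universe u
open CategoryTheory CategoryTheory.Limits AlgebraicGeometry Opposite TopologicalSpace

namespace Groth.Agent.Lib.Helper17.QCohInjFlasque

variable {X : Scheme.{u}}

/-- flasque -/
def IsFl (K : X.Modules) : Prop :=
  ∀ (U V : X.Opens) (h : U ≤ V), Function.Surjective (K.presheaf.map (homOfLE h).op)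

lemma app_res {M N : X.Modules} (φ : M ⟶ N) {U V : X.Opens} (i : U ⟶ V) (s : Γ(M, V)) :
    φ.app U (M.presheaf.map i.op s) = N.presheaf.map i.op (φ.app V s) := by
  have n := φ.mapPresheaf.naturality i.op
  exact congrArg (fun ψ => ψ s) n

/-- the property proved by induction on compact opens -/
def P (N : X.Modules) (W : X.Opens) : Prop :=
  ∃ (K : X.Modules) (ψ : N ⟶ K), K.IsQuasicoherent ∧ IsFl K ∧
    ∀ (V : X.Opens) (s : Γ(N, V)), ψ.app V s = 0 →
      N.presheaf.map (homOfLE (inf_le_left : V ⊓ W ≤ V)).op s = 0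

lemma mono_tilde_map (R : CommRingCat.{u}) {A B : ModuleCat.{u} R} (m : A ⟶ B) [Mono m] :
    Mono ((tilde.functor R).map m) := by
  haveI := Groth.Agent.Lib.Helper17.KProjAff.preservesFiniteLimits_tilde R
  infer_instance

theorem affine_case [IsNoetherian X] (N : X.Modules) [N.IsQuasicoherent] (U : X.Opens)
    (hU : IsAffineOpen U) : P N U := by
  let R : CommRingCat.{u} := Γ(X, U)
  let φ : Spec R ⟶ X := hU.fromSpec
  haveI : IsNoetherianRing R := IsLocallyNoetherian.component_noetherian ⟨U, hU⟩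
  let N' : (Spec R).Modules := (Scheme.Modules.restrictFunctor φ).obj N
  haveI : N'.IsQuasicoherent := inferInstance
  let M' : ModuleCat.{u} R := (modulesSpecToSheaf.obj N').presheaf.obj (.op ⊤)
  let I' : ModuleCat.{u} R := Injective.under M'
  let m : M' ⟶ I' := Injective.ι M'
  haveI hI' : Injective I' := inferInstance
  haveI : Module.Injective R I' := @Module.injective_module_of_injective_object R I' _ _ _ hI'
  haveI : IsIso N'.fromTildeΓ := inferInstance
  have hm : Mono ((tilde.functor R).map m) := mono_tilde_map R m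
  let g : N' ⟶ tilde I' := inv N'.fromTildeΓ ≫ (tilde.functor R).map m
  haveI : Mono g := @mono_comp _ _ _ _ _ (inv N'.fromTildeΓ) inferInstance _ hm
  refine ⟨(Scheme.Modules.pushforward φ).obj (tilde I'),
    (Scheme.Modules.restrictAdjunction φ).unit.app N ≫ (Scheme.Modules.pushforward φ).map g,
    ?_, ?_, ?_⟩
  · haveI : QuasiCompact φ := inferInstance
    haveI : QuasiSeparated φ := inferInstance
    exact Groth.Agent.Lib.Helper29.QCoh.isQuasicoherent_pushforward_of_qcqs φ (tilde I')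
  · intro V1 V2 h
    exact Groth.Agent.S11329.result R I' (φ ⁻¹ᵁ V1) (φ ⁻¹ᵁ V2) (fun x hx => h hx)
  · intro V s hs
    have h1 : g.app (φ ⁻¹ᵁ V) (N.presheaf.map (homOfLE (φ.image_preimage_le V)).op s) = 0 := hs
    have hinj := (Groth.Agent.Lib.Helper17.ZClosLib.mono_iff_injective_app g).1 inferInstance (φ ⁻¹ᵁ V)
    have h2 : N.presheaf.map (homOfLE (φ.image_preimage_le V)).op s = 0 :=
      hinj (h1.trans (map_zero (g.app (φ ⁻¹ᵁ V)).hom).symm)
    have hle : V ⊓ U ≤ φ ''ᵁ φ ⁻¹ᵁ V := by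
      rw [Scheme.Hom.image_preimage_eq_opensRange_inf, hU.opensRange_fromSpec]
      exact le_of_eq (inf_comm _ _)
    have h3 := congrArg (N.presheaf.map (homOfLE hle).op) h2
    rw [map_zero] at h3
    rw [← h3]
    exact (Groth.Agent.Lib.Helper17.SheafBasis.map_map_apply N.presheaf (homOfLE hle)
      (homOfLE (φ.image_preimage_le V)) (homOfLE inf_le_left) s).symm

theorem union_case (N : X.Modules) (S U : X.Opens) (hS : P N S) (hU : P N U) : P N (S ⊔ U) := by
  obtain ⟨K1, ψ1, hq1, hf1, hi1⟩ := hS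
  obtain ⟨K2, ψ2, hq2, hf2, hi2⟩ := hU
  refine ⟨K1 ⊞ K2, biprod.lift ψ1 ψ2, Groth.Agent.Lib.Helper17.CapCoh.isQuasicoherent_biprod K1 K2,
    ?_, ?_⟩
  · intro U' V' h s
    obtain ⟨t1, ht1⟩ := hf1 U' V' h ((biprod.fst : K1 ⊞ K2 ⟶ K1).app U' s)
    obtain ⟨t2, ht2⟩ := hf2 U' V' h ((biprod.snd : K1 ⊞ K2 ⟶ K2).app U' s)
    refine ⟨(biprod.inl : K1 ⟶ K1 ⊞ K2).app V' t1 + (biprod.inr : K2 ⟶ K1 ⊞ K2).app V' t2, ?_⟩
    rw [map_add, ← app_res, ← app_res, ht1, ht2]
    have h1 : ((biprod.fst : K1 ⊞ K2 ⟶ K1) ≫ biprod.inl + biprod.snd ≫ biprod.inr).app U' s = s := by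
      rw [biprod.total]; rfl
    exact h1
  · intro V s hs
    have e1 : ψ1.app V s = 0 := by
      have : (biprod.lift ψ1 ψ2 ≫ biprod.fst).app V s = 0 := by
        show (biprod.fst : K1 ⊞ K2 ⟶ K1).app V ((biprod.lift ψ1 ψ2).app V s) = 0
        rw [hs, map_zero]
      rwa [biprod.lift_fst] at this
    have e2 : ψ2.app V s = 0 := by
      have : (biprod.lift ψ1 ψ2 ≫ biprod.snd).app V s = 0 := by
        show (biprod.snd : K1 ⊞ K2 ⟶ K2).app V ((biprod.lift ψ1 ψ2).app V s) = 0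
        rw [hs, map_zero]
      rwa [biprod.lift_snd] at this
    have r1 := hi1 V s e1
    have r2 := hi2 V s e2
    let F : TopCat.Sheaf AddCommGrpCat X := (SheafOfModules.toSheaf X.ringCatSheaf).obj N
    have hA1 : V ⊓ S ≤ V ⊓ (S ⊔ U) := inf_le_inf_left _ le_sup_left
    have hA2 : V ⊓ U ≤ V ⊓ (S ⊔ U) := inf_le_inf_left _ le_sup_right
    have hc : V ⊓ (S ⊔ U) ≤ (V ⊓ S) ⊔ (V ⊓ U) := le_of_eq (inf_sup_left V S U)
    refine TopCat.Sheaf.eq_of_locally_eq₂ F (homOfLE hA1) (homOfLE hA2) hc _ _ ?_ ?_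
    · have := Groth.Agent.Lib.Helper17.SheafBasis.map_map_apply N.presheaf (homOfLE hA1)
        (homOfLE (inf_le_left : V ⊓ (S ⊔ U) ≤ V)) (homOfLE inf_le_left) s
      refine this.trans (r1.trans ?_)
      exact (map_zero _).symm
    · have := Groth.Agent.Lib.Helper17.SheafBasis.map_map_apply N.presheaf (homOfLE hA2)
        (homOfLE (inf_le_left : V ⊓ (S ⊔ U) ≤ V)) (homOfLE inf_le_left) s
      refine this.trans (r2.trans ?_)
      exact (map_zero _).symm

theorem exists_embedding [IsNoetherian X] (N : X.Modules) [N.IsQuasicoherent] :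
    ∃ (K : X.Modules) (ψ : N ⟶ K), K.IsQuasicoherent ∧ IsFl K ∧ Mono ψ := by
  have hP : P N ⊤ := by
    refine compact_open_induction_on (P := P N) ⊤ (CompactSpace.isCompact_univ) ?_ ?_
    · exact affine_case N ⊥ (isAffineOpen_bot X)
    · intro S _ U hS
      exact union_case N S U hS (affine_case N U U.2)
  obtain ⟨K, ψ, hq, hf, hi⟩ := hP
  refine ⟨K, ψ, hq, hf, ?_⟩
  rw [Groth.Agent.Lib.Helper17.ZClosLib.mono_iff_injective_app]
  intro V
  rw [injective_iff_map_eq_zero]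
  intro s hs
  have h1 := hi V s hs
  have h2 := congrArg (N.presheaf.map (homOfLE (le_inf le_rfl le_top : V ≤ V ⊓ ⊤)).op) h1
  rw [map_zero] at h2
  rw [← h2]
  have := Groth.Agent.Lib.Helper17.SheafBasis.map_map_apply N.presheaf
    (homOfLE (le_inf le_rfl le_top : V ≤ V ⊓ ⊤)) (homOfLE (inf_le_left : V ⊓ ⊤ ≤ V)) (𝟙 V) s
  rw [this]
  simp

theorem main (X : Scheme.{u}) [IsNoetherian X]
    (J : ObjectProperty.FullSubcategory (fun M : X.Modules => SheafOfModules.IsQuasicoherent M))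
    (hJ : Injective J) (U V : X.Opens) (hUV : U ≤ V) :
    Function.Surjective (J.obj.val.map (homOfLE hUV).op).hom := by
  haveI : J.obj.IsQuasicoherent := J.property
  obtain ⟨K, ψ, hq, hf, hm⟩ := exists_embedding J.obj
  let K' : ObjectProperty.FullSubcategory (fun M : X.Modules => SheafOfModules.IsQuasicoherent M) :=
    ⟨K, hq⟩
  let ψ' : J ⟶ K' := ObjectProperty.homMk ψ
  haveI : Mono ψ' := (ObjectProperty.ι _).mono_of_mono_map (by exact hm)
  let r : K' ⟶ J := Injective.factorThru (𝟙 J) ψ'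
  have hr : ψ' ≫ r = 𝟙 J := Injective.comp_factorThru _ _
  have hr' : ψ ≫ r.hom = 𝟙 J.obj := congrArg (fun f => f.hom) hr
  intro s
  obtain ⟨t, ht⟩ := hf U V hUV (ψ.app U s)
  refine ⟨r.hom.app V t, ?_⟩
  have h1 : J.obj.presheaf.map (homOfLE hUV).op (r.hom.app V t) = s := by
    rw [← app_res, ht]
    exact congrArg (fun f : J.obj ⟶ J.obj => f.app U s) hr'
  exact h1

end Groth.Agent.Lib.Helper17.QCohInjFlasque
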