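import Mathlib
import Groth.Agent.S2128
import Groth.Agent.Lib.Helper17.QCohAb
import Groth.Agent.Lib.Helper17.QCohGen

/-!
# `QCoh(X)` for `X` qcqs has a small separating set and is well-(co)powered (helper17)
-/

set_option autoImplicit false

universe u

open CategoryTheory Limits AlgebraicGeometry Opposite TopologicalSpace

namespace Groth.Agent.Lib.Helper17.QCohSep

open Groth.Agent.Lib.Helper29.QCoh Groth.Agent.Lib.Helper17.QCohGen

section Ab

variable {C : Type*} [Category C] [Abelian C] {L N : C} (φ : L ⟶ N) [Epi φ]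

/-- an epi is the cokernel of its kernel subobject -/
noncomputable def isColimitKS :
    IsColimit (CokernelCofork.ofπ (f := (kernelSubobject φ).arrow) φ
      (kernelSubobject_arrow_comp φ)) :=
  Abelian.epiIsCokernelOfKernel
    (KernelFork.ofι (kernelSubobject φ).arrow (kernelSubobject_arrow_comp φ))
    (IsKernel.isoKernel φ (kernelSubobject φ).arrow (kernelIsKernel φ) (kernelSubobjectIso φ)
      (kernelSubobject_arrow φ))

noncomputable def cokerIso : cokernel (kernelSubobject φ).arrow ≅ N :=
  (cokernelIsCokernel (kernelSubobject φ).arrow).coconePointUniqueUpToIso (isColimitKS φ)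

@[reassoc]
lemma π_cokerIso_hom : cokernel.π (kernelSubobject φ).arrow ≫ (cokerIso φ).hom = φ :=
  (cokernelIsCokernel (kernelSubobject φ).arrow).comp_coconePointUniqueUpToIso_hom
    (isColimitKS φ) WalkingParallelPair.one

end Ab

variable (X : Scheme.{u})

/-- index type of the separating family -/
def Idx : Type (u + 1) :=
  Σ (m : ℕ) (U : Fin m → X.Opens),
    {K : Subobject (∐ fun k => jU (U k)) // QCohCat.isQCoh X (cokernel K.arrow)}

instance : Small.{u} (Idx X) := by
  unfold Idx
  infer_instance

/-- the separating family -/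
noncomputable def gen : Idx X → QCohCat.QCoh X := fun i => ⟨cokernel i.2.2.1.arrow, i.2.2.2⟩

theorem isSeparating [CompactSpace X] [QuasiSeparatedSpace X] :
    (ObjectProperty.ofObj (gen X)).IsSeparating := by
  intro A B f g hfg
  obtain ⟨A0, hA⟩ := A
  obtain ⟨I, _, _, D, c, hc, hFP, hpt⟩ := Groth.Agent.S2128.result X A0 hA
  subst hpt
  apply ObjectProperty.hom_ext
  apply hc.hom_ext
  intro i
  haveI : (D.obj i).IsFinitePresentation := hFP i
  obtain ⟨m, U, φ, hφ⟩ := exists_epi_of_isFiniteType (D.obj i)
  rw [← cancel_epi φ]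
  have hq : QCohCat.isQCoh X (cokernel (kernelSubobject φ).arrow) :=
    (QCohCat.isQCoh X).prop_of_iso (cokerIso φ).symm
      (inferInstance : (D.obj i).IsQuasicoherent)
  let G : Idx X := ⟨m, U, ⟨kernelSubobject φ, hq⟩⟩
  have h1 := hfg (gen X G) (ObjectProperty.ofObj_apply _ G)
    (ObjectProperty.homMk ((cokerIso φ).hom ≫ c.ι.app i))
  have h2 := congrArg (fun t => cokernel.π (kernelSubobject φ).arrow ≫ t.hom) h1
  simp only [ObjectProperty.FullSubcategory.comp_hom, ObjectProperty.homMk_hom] at h2
  have key : ∀ t : c.pt ⟶ B.obj, φ ≫ c.ι.app i ≫ t =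
      cokernel.π (kernelSubobject φ).arrow ≫ ((cokerIso φ).hom ≫ c.ι.app i) ≫ t := by
    intro t
    rw [Category.assoc, π_cokerIso_hom_assoc]
  rw [key, key]
  exact h2

open Groth.Agent.Lib.Helper17.QCohAb

theorem wellPowered [CompactSpace X] [QuasiSeparatedSpace X] :
    WellPowered.{u} (QCohCat.QCoh X) :=
  wellPowered_of_isDetecting (isSeparating X).isDetecting

theorem wellPowered_op [CompactSpace X] [QuasiSeparatedSpace X] :
    WellPowered.{u} (QCohCat.QCoh X)ᵒᵖ := by
  haveI := wellPowered X
  infer_instance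

theorem isLeftAdjoint [CompactSpace X] [QuasiSeparatedSpace X]
    {A : Type*} [Category.{u} A] (F : QCohCat.QCoh X ⥤ A)
    [PreservesColimitsOfSize.{u, u} F] : F.IsLeftAdjoint := by
  haveI := wellPowered_op X
  exact isLeftAdjoint_of_preservesColimits_of_isSeparating (isSeparating X) F

end Groth.Agent.Lib.Helper17.QCohSep
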