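import Mathlib
import Groth.Agent.S2128
import Groth.Agent.Lib.Helper17.QCohSep
import Groth.Agent.Lib.Helper17.Noeth2
import Groth.Agent.Lib.Helper17.FaithAdj
import Groth.Agent.Lib.Helper29.QCohCrit

/-!
# Noetherian objects of `QCoh(Y)` for `Y` Noetherian are the coherent modules (helper17)
-/

set_option autoImplicit false

universe u

open CategoryTheory Limits AlgebraicGeometry Opposite TopologicalSpace

namespace Groth.Agent.Lib.Helper17.QCohNoeth

open Groth.Agent.Lib.Helper29.QCoh Groth.Agent.Lib.Helper17.QCohGen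
  Groth.Agent.Lib.Helper17.QCohAb

variable {X : Scheme.{u}}

theorem exists_epi_affine [CompactSpace X] (M : X.Modules) [M.IsFiniteType] :
    ∃ (m : ℕ) (U : Fin m → X.Opens) (_ : ∀ k, IsAffineOpen (U k))
      (φ : (∐ fun k => jU (U k)) ⟶ M), Epi φ := by
  choose U hU hxU n s hs using exists_affine_sections_span_eq_top M
  obtain ⟨t, ht⟩ := isCompact_univ.elim_finite_subcover (fun x => (U x : Set X))
    (fun x => (U x).isOpen) (fun x _ => Set.mem_iUnion.2 ⟨x, hxU x⟩)
  let I := Σ x : t, Fin (n x.1)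
  let e : I ≃ Fin (Fintype.card I) := Fintype.equivFin I
  have hUe : ∀ V : X.Opens, V.ι ''ᵁ ⊤ = V := fun V => Scheme.Opens.ι_image_top V
  let U' : I → X.Opens := fun i => U i.1.1
  let s' : ∀ i : I, Γ((Scheme.Modules.restrictFunctor (U' i).ι).obj M, ⊤) :=
    fun i => res M (hUe (U' i)).le (s i.1.1 i.2)
  have hepi : Epi (Sigma.desc fun i => jUHom M (U' i) (s' i)) := by
    apply epi_desc
    intro x
    obtain ⟨x0, hx0, hxx0⟩ : ∃ x0 ∈ t, x ∈ U x0 := by
      have := ht (Set.mem_univ x)
      simpa using this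
    rw [eq_top_iff, ← hs x0 x hxx0]
    apply Submodule.span_mono
    rintro _ ⟨l, rfl⟩
    refine ⟨⟨⟨x0, hx0⟩, l⟩, (hUe (U x0)).ge hxx0, ?_⟩
    exact (germ_res M (hUe (U x0)).le x ((hUe (U x0)).ge hxx0) (s x0 l)).symm
  refine ⟨Fintype.card I, fun k => U' (e.symm k), fun k => hU _,
    (Sigma.reindex e.symm (fun i => jU (U' i))).hom ≫
      (Sigma.desc fun i => jUHom M (U' i) (s' i)), ?_⟩
  infer_instance

theorem isNoetherianObject_jU [IsLocallyNoetherian X] (U : X.Opens) (hU : IsAffineOpen U) :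
    IsNoetherianObject (jU U) := by
  haveI : IsAffine (U : Scheme.{u}) := hU
  rw [isNoetherianObject_iff_monotone_chain_condition]
  exact fun c => Groth.Agent.Lib.Helper17.NoethObj.main U.ι c

theorem isNoetherianObject_of_isFiniteType [IsNoetherian X] (M : X.Modules) [M.IsFiniteType] :
    IsNoetherianObject M := by
  obtain ⟨m, U, hU, φ, hφ⟩ := exists_epi_affine M
  refine Groth.Agent.Lib.Helper17.FaithAdj.noeth_of_jointly_epi (ULift.{u} (Fin m)) M
    (fun t => jU (U t.down)) (fun t => Sigma.ι (fun k => jU (U k)) t.down ≫ φ)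
    (fun t => isNoetherianObject_jU _ (hU _)) ?_
  intro W v hv
  rw [← cancel_epi φ, comp_zero]
  apply Sigma.hom_ext
  intro k
  rw [comp_zero, ← Category.assoc]
  exact hv ⟨k⟩

section

variable (Y : Scheme.{u})

instance : (QCohCat.isQCoh Y).ι.Additive := by infer_instance

instance preservesFiniteLimits_ι : PreservesFiniteLimits (QCohCat.isQCoh Y).ι := by
  haveI := (QCohCat.isQCoh Y).preservesKernels_ι
  exact Functor.preservesFiniteLimits_of_preservesKernels _

instance preservesFiniteColimits_ι : PreservesFiniteColimits (QCohCat.isQCoh Y).ι := by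
  haveI := (QCohCat.isQCoh Y).preservesCokernels_ι
  exact Functor.preservesFiniteColimits_of_preservesCokernels _

theorem noeth_of_coh [IsNoetherian Y] (M : QCohCat.QCoh Y) (h : Coh.IsCoh M.obj) :
    IsNoetherianObject M := by
  haveI : M.obj.IsFiniteType := h.2
  haveI : IsNoetherianObject ((QCohCat.isQCoh Y).ι.obj M) :=
    isNoetherianObject_of_isFiniteType M.obj
  exact Groth.Agent.Lib.Helper17.FaithAdj.noeth_of_noeth_map (QCohCat.isQCoh Y).ι M

end

section

variable (Y : Scheme.{u})

theorem coh_of_noeth [CompactSpace Y] [QuasiSeparatedSpace Y] (M : QCohCat.QCoh Y)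
    [hN : IsNoetherianObject M] : Coh.IsCoh M.obj := by
  refine ⟨M.property, ?_⟩
  obtain ⟨M0, hM⟩ := M
  obtain ⟨I, _, _, D, c, hc, hFP, hpt⟩ := Groth.Agent.S2128.result Y M0 hM
  subst hpt
  have hq : ∀ i, QCohCat.isQCoh Y (D.obj i) := fun i => by
    haveI := hFP i
    exact (inferInstance : (D.obj i).IsQuasicoherent)
  let M : QCohCat.QCoh Y := ⟨c.pt, hM⟩
  let D' : I → QCohCat.QCoh Y := fun i => ⟨D.obj i, hq i⟩
  let a : ∀ i, D' i ⟶ M := fun i => ObjectProperty.homMk (c.ι.app i)
  let dm : ∀ {i j : I} (f : i ⟶ j), D' i ⟶ D' j := fun f => ObjectProperty.homMk (D.map f)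
  have ha : ∀ {i j : I} (f : i ⟶ j), dm f ≫ a j = a i := fun f => by
    apply ObjectProperty.hom_ext
    exact c.w f
  let S : I → Subobject M := fun i => imageSubobject (a i)
  obtain ⟨i0⟩ := IsFiltered.nonempty (C := I)
  obtain ⟨_, ⟨i1, rfl⟩, hmax⟩ := WellFounded.has_min (wellFounded_gt (α := Subobject M))
    (Set.range S) ⟨S i0, i0, rfl⟩
  have hmono : ∀ {i j : I} (f : i ⟶ j), S i ≤ S j := fun {i j} f => by
    change imageSubobject (a i) ≤ imageSubobject (a j)
    rw [← ha f]
    exact imageSubobject_comp_le _ _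
  have hle : ∀ j, S j ≤ S i1 := by
    intro j
    have h1 : S i1 ≤ S (IsFiltered.max i1 j) := hmono (IsFiltered.leftToMax i1 j)
    have h2 : S j ≤ S (IsFiltered.max i1 j) := hmono (IsFiltered.rightToMax i1 j)
    have h3 : S (IsFiltered.max i1 j) = S i1 := by
      by_contra hne
      exact hmax (S (IsFiltered.max i1 j)) ⟨_, rfl⟩ (lt_of_le_of_ne h1 (Ne.symm hne))
    exact h3 ▸ h2
  let b : ∀ j, D' j ⟶ ((S i1 : Subobject M) : QCohCat.QCoh Y) := fun j =>
    factorThruImageSubobject (a j) ≫ Subobject.ofLE _ _ (hle j)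
  have hb : ∀ j, b j ≫ (S i1).arrow = a j := fun j => by
    simp only [b, Category.assoc, Subobject.ofLE_arrow]
    exact imageSubobject_arrow_comp (a j)
  haveI : Mono ((S i1).arrow.hom) :=
    inferInstanceAs (Mono ((QCohCat.isQCoh Y).ι.map (S i1).arrow))
  let cc : Cocone D :=
    { pt := ((S i1 : Subobject M) : QCohCat.QCoh Y).obj
      ι :=
        { app := fun j => (b j).hom
          naturality := fun j k f => by
            rw [← cancel_mono ((S i1).arrow.hom)]
            have e1 : (b k).hom ≫ (S i1).arrow.hom = c.ι.app k :=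
              congrArg (fun t => t.hom) (hb k)
            have e2 : (b j).hom ≫ (S i1).arrow.hom = c.ι.app j :=
              congrArg (fun t => t.hom) (hb j)
            simp only [Functor.const_obj_obj, Functor.const_obj_map, Category.comp_id,
              Category.assoc]
            rw [e1, e2]
            exact c.w f } }
  let r : c.pt ⟶ cc.pt := hc.desc cc
  have hr : r ≫ (S i1).arrow.hom = 𝟙 c.pt := by
    apply hc.hom_ext
    intro j
    rw [← Category.assoc, hc.fac, Category.comp_id]
    exact congrArg (fun t => t.hom) (hb j)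
  have hr' : (ObjectProperty.homMk r : M ⟶ _) ≫ (S i1).arrow = 𝟙 M := by
    apply ObjectProperty.hom_ext
    exact hr
  haveI : Epi ((S i1).arrow) := epi_of_epi_fac hr'
  haveI : Epi (a i1) := by
    rw [← imageSubobject_arrow_comp (a i1)]
    exact epi_comp _ _
  haveI : Epi (c.ι.app i1) :=
    inferInstanceAs (Epi ((QCohCat.isQCoh Y).ι.map (a i1)))
  haveI := hFP i1
  haveI : c.pt.IsQuasicoherent := hM
  exact isFiniteType_of_epi (c.ι.app i1)

theorem main [IsNoetherian Y] (M : QCohCat.QCoh Y) :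
    IsNoetherianObject M ↔ Coh.IsCoh M.obj :=
  ⟨fun _ => coh_of_noeth Y M, noeth_of_coh Y M⟩

end

end Groth.Agent.Lib.Helper17.QCohNoeth
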