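import Mathlib
import Groth.Agent.Lib.Helper9.WayOut
import Groth.Agent.Lib.Helper7.HomologyExactFunctor

/-!
# Right adjoints of exact functors on derived categories: triangulated, left t-exact,
and way-out devissage for the unit and counit
-/

set_option autoImplicit false
set_option linter.unusedSectionVars false
set_option linter.style.haveILetI false

open CategoryTheory CategoryTheory.Limits DerivedCategory

universe w₁ w₂ v₁ v₂ u₁ u₂

namespace Groth.Agent.Lib.Helper17.RAdjTri

open Groth.Agent.Lib.Helper7.HomologyExactFunctor Groth.Agent.Lib.Helper9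

variable {A : Type u₁} [Category.{v₁} A] [Abelian A] [HasDerivedCategory.{w₁} A]
  {B : Type u₂} [Category.{v₂} B] [Abelian B] [HasDerivedCategory.{w₂} B]
  (F : A ⥤ B) [F.Additive] [PreservesFiniteLimits F] [PreservesFiniteColimits F]

lemma isGE_mapDerivedCategory (X : DerivedCategory A) (n : ℤ) [X.IsGE n] :
    (F.mapDerivedCategory.obj X).IsGE n := by
  rw [isGE_iff]
  intro i hi
  exact IsZero.of_iso (F.map_isZero (X.isZero_of_isGE n i hi)) (homologyMapDerivedCategoryIso F X i)

lemma isLE_mapDerivedCategory (X : DerivedCategory A) (n : ℤ) [X.IsLE n] :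
    (F.mapDerivedCategory.obj X).IsLE n := by
  rw [isLE_iff]
  intro i hi
  exact IsZero.of_iso (F.map_isZero (X.isZero_of_isLE n i hi)) (homologyMapDerivedCategoryIso F X i)

variable {F} {R : DerivedCategory B ⥤ DerivedCategory A} (adj : F.mapDerivedCategory ⊣ R)

include adj in
/-- the right adjoint of an exact functor is left t-exact -/
lemma isGE_rightAdjoint (X : DerivedCategory B) (n : ℤ) [X.IsGE n] : (R.obj X).IsGE n := by
  haveI : R.Additive := adj.right_adjoint_additive
  change TStructure.t.IsGE (R.obj X) n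
  rw [TStructure.t.isGE_iff_orthogonal (n - 1) n (by omega)]
  intro Y f hY
  haveI : Y.IsLE (n - 1) := hY
  haveI := isLE_mapDerivedCategory F Y (n - 1)
  have h0 : (adj.homEquiv Y X).symm f = 0 :=
    TStructure.t.zero_of_isLE_of_isGE _ (n - 1) n (by omega) inferInstance inferInstance
  have h1 := congr_arg (adj.homEquiv Y X) h0
  rw [Equiv.apply_symm_apply] at h1
  rw [h1, adj.homEquiv_unit, Functor.map_zero, comp_zero]

section Devissage

open CategoryTheory.Pretriangulated

/-- Devissage for the counit on bounded below objects. -/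
theorem isIso_counit_of_isGE (X : DerivedCategory B) (n₀ : ℤ) [X.IsGE n₀]
    (h : ∀ q : ℤ, IsIso (adj.counit.app ((singleFunctor B 0).obj ((homologyFunctor B q).obj X)))) :
    IsIso (adj.counit.app X) := by
  letI := adj.rightAdjointCommShift ℤ
  haveI := adj.commShift_of_leftAdjoint ℤ
  haveI : R.IsTriangulated := adj.isTriangulated_rightAdjoint
  let P : ObjectProperty B := fun Z => IsIso (adj.counit.app ((singleFunctor B 0).obj Z))
  haveI : P.IsClosedUnderIsomorphisms := ⟨fun {Z Z'} e hZ => by
    dsimp only [P] at hZ ⊢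
    rwa [← NatTrans.isIso_app_iff_of_iso adj.counit ((singleFunctor B 0).mapIso e)]⟩
  refine isIso_app_of_isGE_of_wayOutRight P (R ⋙ F.mapDerivedCategory) (𝟭 _) adj.counit
    ?_ ?_ (fun Z hZ => hZ) ?_ X n₀ h
  · intro n₁
    refine ⟨n₁, fun Y hY => ?_⟩
    haveI := isGE_rightAdjoint adj Y n₁
    exact isGE_mapDerivedCategory F (R.obj Y) n₁
  · intro n₁
    exact ⟨n₁, fun Y hY => hY⟩
  · intro Z hZ
    exact isIso_app_of_isZero (R ⋙ F.mapDerivedCategory) (𝟭 _) adj.counit _
      ((singleFunctor B 0).map_isZero hZ)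

/-- Devissage for the unit on bounded below objects. -/
theorem isIso_unit_of_isGE (Y : DerivedCategory A) (n₀ : ℤ) [Y.IsGE n₀]
    (h : ∀ q : ℤ, IsIso (adj.unit.app ((singleFunctor A 0).obj ((homologyFunctor A q).obj Y)))) :
    IsIso (adj.unit.app Y) := by
  letI := adj.rightAdjointCommShift ℤ
  haveI := adj.commShift_of_leftAdjoint ℤ
  haveI : R.IsTriangulated := adj.isTriangulated_rightAdjoint
  let P : ObjectProperty A := fun Z => IsIso (adj.unit.app ((singleFunctor A 0).obj Z))
  haveI : P.IsClosedUnderIsomorphisms := ⟨fun {Z Z'} e hZ => by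
    dsimp only [P] at hZ ⊢
    rwa [← NatTrans.isIso_app_iff_of_iso adj.unit ((singleFunctor A 0).mapIso e)]⟩
  refine isIso_app_of_isGE_of_wayOutRight P (𝟭 _) (F.mapDerivedCategory ⋙ R) adj.unit
    ?_ ?_ (fun Z hZ => hZ) ?_ Y n₀ h
  · intro n₁
    exact ⟨n₁, fun Y hY => hY⟩
  · intro n₁
    refine ⟨n₁, fun Y hY => ?_⟩
    haveI := isGE_mapDerivedCategory F Y n₁
    exact isGE_rightAdjoint adj (F.mapDerivedCategory.obj Y) n₁
  · intro Z hZ
    exact isIso_app_of_isZero (𝟭 _) (F.mapDerivedCategory ⋙ R) adj.unit _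
      ((singleFunctor A 0).map_isZero hZ)

end Devissage

end Groth.Agent.Lib.Helper17.RAdjTri
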