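import Mathlib
import Groth.Agent.Lib.Helper17.RAdjTri
import Groth.Agent.Lib.Helper17.CohIn

/-!
# Equivalences `D^+_{A'} ≃ D^+_A` induced by an exact functor and its derived right adjoint
-/

set_option autoImplicit false
set_option linter.unusedSectionVars false
set_option linter.style.haveILetI false

open CategoryTheory CategoryTheory.Limits DerivedCategory CategoryTheory.Pretriangulated

universe w₁ w₂ v₁ v₂ u₁ u₂

namespace Groth.Agent.Lib.Helper17.RAdjEquiv

open Groth.Agent.Lib.Helper7.HomologyExactFunctor Groth.Agent.Lib.Helper9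
  Groth.Agent.Lib.Helper17.RAdjTri Groth.Agent.Lib.Helper17.CohIn WSerre

variable {A : Type u₁} [Category.{v₁} A] [Abelian A] [HasDerivedCategory.{w₁} A]
  {B : Type u₂} [Category.{v₂} B] [Abelian B] [HasDerivedCategory.{w₂} B]
  {F : A ⥤ B} [F.Additive] [PreservesFiniteLimits F] [PreservesFiniteColimits F]
  {R : DerivedCategory B ⥤ DerivedCategory A} (adj : F.mapDerivedCategory ⊣ R)
  (PB : ObjectProperty B) [IsWeakSerre PB] (PA : ObjectProperty A) [IsWeakSerre PA]

include adj in
/-- the counit is invertible at `L Z` if the unit is invertible at `Z` -/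
lemma isIso_counit_app_of_isIso_unit_app (Z : DerivedCategory A) [IsIso (adj.unit.app Z)] :
    IsIso (adj.counit.app (F.mapDerivedCategory.obj Z)) := by
  have h := adj.left_triangle_components Z
  haveI : IsIso (F.mapDerivedCategory.map (adj.unit.app Z)) := inferInstance
  exact IsIso.of_isIso_fac_left h

section

variable (h2a : ∀ M : A, PA M → PB (F.obj M))
  (h2c : ∀ N : B, PB N → ∃ M : A, PA M ∧ Nonempty (F.obj M ≅ N))
  (h3 : ∀ M : A, PA M → IsIso (adj.unit.app ((singleFunctor A 0).obj M)))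

include h2a in
lemma cohIn_map (Y : DerivedCategory A) (hY : cohIn PA Y) :
    cohIn PB (F.mapDerivedCategory.obj Y) := fun i =>
  PB.prop_of_iso (homologyMapDerivedCategoryIso F Y i).symm (h2a _ (hY i))

include h3 in
theorem unit_part (Y : DerivedCategory A) (hY : cohInPlus PA Y) : IsIso (adj.unit.app Y) := by
  obtain ⟨hc, n₀, hn₀⟩ := hY
  haveI : Y.IsGE n₀ := hn₀
  exact isIso_unit_of_isGE adj Y n₀ (fun q => h3 _ (hc q))

include h2c h3 in
lemma isIso_counit_single (N : B) (hN : PB N) :
    IsIso (adj.counit.app ((singleFunctor B 0).obj N)) := by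
  obtain ⟨M, hM, ⟨e⟩⟩ := h2c N hN
  haveI := h3 M hM
  have e' : F.mapDerivedCategory.obj ((singleFunctor A 0).obj M) ≅ (singleFunctor B 0).obj N :=
    (F.mapDerivedCategorySingleFunctor 0).app M ≪≫ (singleFunctor B 0).mapIso e
  rw [← NatTrans.isIso_app_iff_of_iso adj.counit e']
  exact isIso_counit_app_of_isIso_unit_app adj _

include h2c h3 in
theorem counit_part (X : DerivedCategory B) (hX : cohInPlus PB X) : IsIso (adj.counit.app X) := by
  obtain ⟨hc, n₀, hn₀⟩ := hX
  haveI : X.IsGE n₀ := hn₀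
  exact isIso_counit_of_isGE adj X n₀ (fun q => isIso_counit_single adj PB PA h2c h3 _ (hc q))

include h2c h3 in
/-- `R` of a module of `PB` placed in degree zero has cohomology in `PA` -/
lemma cohIn_R_single (N : B) (hN : PB N) : cohIn PA (R.obj ((singleFunctor B 0).obj N)) := by
  obtain ⟨M, hM, ⟨e⟩⟩ := h2c N hN
  haveI := h3 M hM
  have e' : F.mapDerivedCategory.obj ((singleFunctor A 0).obj M) ≅ (singleFunctor B 0).obj N :=
    (F.mapDerivedCategorySingleFunctor 0).app M ≪≫ (singleFunctor B 0).mapIso e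
  have e'' : (singleFunctor A 0).obj M ≅ R.obj ((singleFunctor B 0).obj N) :=
    asIso (adj.unit.app ((singleFunctor A 0).obj M)) ≪≫ R.mapIso e'
  exact (cohIn PA).prop_of_iso e'' (cohIn_single PA M hM 0)

include h2c h3 in
theorem cohIn_R_of_bounded (X : DerivedCategory B) (a b : ℤ) [X.IsGE a] [X.IsLE b]
    (hX : cohIn PB X) : cohIn PA (R.obj X) := by
  letI := adj.rightAdjointCommShift ℤ
  haveI := adj.commShift_of_leftAdjoint ℤ
  haveI : R.IsTriangulated := adj.isTriangulated_rightAdjoint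
  let 𝒯 : ObjectProperty (DerivedCategory B) := fun X => cohIn PA (R.obj X)
  haveI : 𝒯.IsClosedUnderIsomorphisms :=
    ⟨fun e h => (cohIn PA).prop_of_iso (R.mapIso e) h⟩
  refine prop_of_bounded PB 𝒯 ?_ ?_ ?_ (fun Z hZ => PB.prop_of_isZero hZ) X a b hX
  · intro T hT h₁ h₃
    exact cohIn_ext₂ PA _ (R.map_distinguished T hT) h₁ h₃
  · intro N n hN
    have e : ((singleFunctor B 0).obj N)⟦(-n : ℤ)⟧ ≅ (singleFunctor B n).obj N :=
      ((singleFunctors B).shiftIso (-n) n 0 (by omega)).app N
    have e2 : R.obj (((singleFunctor B 0).obj N)⟦(-n : ℤ)⟧) ≅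
        (R.obj ((singleFunctor B 0).obj N))⟦(-n : ℤ)⟧ := (R.commShiftIso (-n)).app _
    exact (cohIn PA).prop_of_iso (e2.symm ≪≫ R.mapIso e)
      (cohIn_shift PA _ _ (cohIn_R_single adj PB PA h2c h3 N hN))
  · intro Z hZ
    haveI : R.Additive := adj.right_adjoint_additive
    exact cohIn_of_isZero PA _ (R.map_isZero hZ)

include h2c h3 in
theorem cohInPlus_R (X : DerivedCategory B) (hX : cohInPlus PB X) : cohInPlus PA (R.obj X) := by
  obtain ⟨hc, n₀, hn₀⟩ := hX
  haveI : X.IsGE n₀ := hn₀
  letI := adj.rightAdjointCommShift ℤ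
  haveI := adj.commShift_of_leftAdjoint ℤ
  haveI : R.IsTriangulated := adj.isTriangulated_rightAdjoint
  refine ⟨fun j => ?_, n₀, isGE_rightAdjoint adj X n₀⟩
  -- compare with the truncation
  let n := j + 1
  have hT := TStructure.t.triangleLTGE_distinguished n X
  have h3' : (R.obj ((TStructure.t.truncGE n).obj X)).IsGE n :=
    isGE_rightAdjoint adj _ n
  have hι : IsIso ((homologyFunctor A j).map (R.map ((TStructure.t.truncLTι n).app X))) :=
    isIso_homologyMap_mor₁ _ (R.map_distinguished _ hT) n h3' j (by omega)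
  have h1 : ((TStructure.t.truncLT n).obj X).IsGE n₀ := inferInstance
  have h2 : ((TStructure.t.truncLT n).obj X).IsLE (n - 1) := inferInstance
  have hb := cohIn_R_of_bounded adj PB PA h2c h3 ((TStructure.t.truncLT n).obj X) n₀ (n - 1)
    (prop_homology_truncLT PB (fun Z hZ => PB.prop_of_isZero hZ) X n hc)
  exact PA.prop_of_iso (asIso ((homologyFunctor A j).map
    (R.map ((TStructure.t.truncLTι n).app X)))) (hb j)

include h2a in
theorem cohInPlus_L (Y : DerivedCategory A) (hY : cohInPlus PA Y) :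
    cohInPlus PB (F.mapDerivedCategory.obj Y) := by
  obtain ⟨hc, n₀, hn₀⟩ := hY
  haveI : Y.IsGE n₀ := hn₀
  exact ⟨cohIn_map PB PA h2a Y hc, n₀, isGE_mapDerivedCategory F Y n₀⟩

end

end Groth.Agent.Lib.Helper17.RAdjEquiv
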