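import Groth.Agent.Lib.Helper17.RGammaZ
import Groth.Agent.Lib.Helper17.HDU6
import Groth.Agent.Lib.Helper17.RpushQC

/-!
# `RΓ_Z` on `D^+`: quasi-coherence and supports
-/

set_option autoImplicit false
universe u

open CategoryTheory Limits Opposite AlgebraicGeometry TopologicalSpace CochainComplex

attribute [local instance] HasDerivedCategory.standard

namespace Groth.Agent.Lib.Helper17.RGammaZPlus

open Groth.Agent.Lib.Helper17.SecFun Groth.Agent.Lib.Helper17.MVAbs
open Groth.Agent.Lib.Helper17.PushCoh Groth.Agent.Lib.Helper17.PushCoh2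
open Groth.Agent.Lib.Helper17.RGammaZ

section general

variable {A B : Type*} [Category A] [Category B] [Abelian A] [Abelian B]
  [HasDerivedCategory A] [HasDerivedCategory B] (F : A ⥤ B) [F.Additive] [EnoughInjectives A]

/-- `H^p(RF(K))` is computed by an injective resolution. -/
lemma exists_injective_model (K : CochainComplex.Plus A) :
    ∃ (I : CochainComplex A ℤ) (i : K.obj ⟶ I), I.IsKInjective ∧ (∀ n, Injective (I.X n)) ∧
      QuasiIso i ∧
      ∀ p : ℤ, Nonempty ((DerivedCategory.Plus.homologyFunctor B p).obj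
        (F.rightDerivedFunctorPlus.obj
          (DerivedCategory.Plus.Qh.obj ((HomotopyCategory.Plus.quotient A).obj K))) ≅
        ((F.mapHomologicalComplex (ComplexShape.up ℤ)).obj I).homology p) := by
  obtain ⟨n, hn⟩ := K.property
  obtain ⟨L, -, i, hi⟩ := CochainComplex.Plus.exists_quasiIso_injective K n
  refine ⟨((InjectiveObject.ι A).mapHomologicalComplex (.up ℤ)).obj L.obj, i.hom, inferInstance,
    fun m => (L.obj.X m).property, hi, fun p => ?_⟩
  have hi' : HomotopyCategory.Plus.quasiIso A ((HomotopyCategory.Plus.quotient A).map i) := by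
    rw [HomotopyCategory.Plus.quasiIso_iff]
    exact (HomotopyCategory.quotient_map_mem_quasiIso_iff i.hom).2 hi
  have hiso : IsIso (DerivedCategory.Plus.Qh.map ((HomotopyCategory.Plus.quotient A).map i)) :=
    Localization.inverts DerivedCategory.Plus.Qh (HomotopyCategory.Plus.quasiIso A) _ hi'
  let e1 := asIso (DerivedCategory.Plus.Qh.map ((HomotopyCategory.Plus.quotient A).map i))
  let e2 := (asIso (F.rightDerivedFunctorPlusUnit.app ((HomotopyCategory.Plus.quotient A).obj
    ((InjectiveObject.ι A).mapCochainComplexPlus.obj L)))).symm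
  let e3 : (DerivedCategory.Plus.homologyFunctor B p).obj (DerivedCategory.Plus.Qh.obj
      (F.mapHomotopyCategoryPlus.obj ((HomotopyCategory.Plus.quotient A).obj
        ((InjectiveObject.ι A).mapCochainComplexPlus.obj L)))) ≅
      ((F.mapHomologicalComplex (ComplexShape.up ℤ)).obj
        (((InjectiveObject.ι A).mapHomologicalComplex (.up ℤ)).obj L.obj)).homology p :=
    (DerivedCategory.homologyFunctorFactorsh B p).app _ ≪≫
      (HomotopyCategory.homologyFunctorFactors B (.up ℤ) p).app _
  exact ⟨(DerivedCategory.Plus.homologyFunctor B p).mapIso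
    (F.rightDerivedFunctorPlus.mapIso e1 ≪≫ e2) ≪≫ e3⟩

end general


variable {X : Scheme.{u}} (W : X.Opens)

/-- restriction to an open preserves `D_QCoh`. -/
lemma isQCohD_restrictD (E : DCoh.D X) (hE : DCoh.IsQCohD E) :
    DCoh.IsQCohD ((DCoh.restrictD W.ι).obj E) := by
  intro i
  haveI : (DCoh.HD E i).IsQuasicoherent := hE i
  exact (SheafOfModules.isQuasicoherent (W : Scheme.{u}).ringCatSheaf).prop_of_iso
    (Groth.Agent.Lib.Helper28.DCohRes.HDresDIso W.ι E i).symm
    (inferInstanceAs ((DCoh.HD E i).restrict W.ι).IsQuasicoherent)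

/-- the support of a module only depends on its isomorphism class. -/
lemma support_congr {M N : X.Modules} (e : M ≅ N) : CohB1.support M = CohB1.support N := by
  ext x
  have e' := (Groth.Agent.Lib.Helper29.QCoh.stalkFunctor X x).mapIso e
  constructor
  · intro h hs
    haveI : Subsingleton ((Groth.Agent.Lib.Helper29.QCoh.stalkFunctor X x).obj N) := hs
    exact h (e'.addCommGroupIsoToAddEquiv.toEquiv.subsingleton)
  · intro h hs
    haveI : Subsingleton ((Groth.Agent.Lib.Helper29.QCoh.stalkFunctor X x).obj M) := hs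
    exact h (e'.symm.addCommGroupIsoToAddEquiv.toEquiv.subsingleton)

/-- the cohomology of `Γ_Z I` is quasi-coherent when that of `I` is and `W ⟶ X` is
quasi-compact. -/
lemma isQuasicoherent_homology_gammaZ [QuasiCompact W.ι] (I : CochainComplex X.Modules ℤ)
    [I.IsKInjective] (hinj : ∀ n, Injective (I.X n))
    (hq : ∀ p, (I.homology p).IsQuasicoherent) (p : ℤ) :
    ((Cx (DCoh.gammaZ W.ι) I).homology p).IsQuasicoherent := by
  have hS := scCx_shortExact W I hinj
  have hE : DCoh.IsQCohD (DerivedCategory.Q.obj I) := fun i =>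
    (SheafOfModules.isQuasicoherent X.ringCatSheaf).prop_of_iso
      ((DerivedCategory.homologyFunctorFactors X.Modules i).app I).symm (hq i)
  have h1 : DCoh.IsQCohD ((DCoh.Rpush W.ι).obj
      ((DCoh.restrictD W.ι).obj (DerivedCategory.Q.obj I))) :=
    Groth.Agent.Lib.Helper17.RpushQC.isQCohD_Rpush W.ι _ (isQCohD_restrictD W _ hE)
  have hr : ∀ q, ((Cx (ZClos.resPush W) I).homology q).IsQuasicoherent := by
    intro q
    let e₃' : Cx (ZClos.resPush W) I ≅ Cx (ZClos.resPush W ⋙ 𝟭 X.Modules) I :=
      HomologicalComplex.Hom.isoOfComponents (fun n => Iso.refl _) (by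
        intro i j _
        exact (Category.id_comp _).trans (Category.comp_id _).symm)
    exact (SheafOfModules.isQuasicoherent X.ringCatSheaf).prop_of_iso
      ((DerivedCategory.homologyFunctor X.Modules q).mapIso
        (Groth.Agent.Lib.Helper17.MVRpush.pieceIso' W (DerivedCategory.Q.obj I) I (Iso.refl _) ≪≫
          DerivedCategory.Q.mapIso e₃'.symm) ≪≫
        (DerivedCategory.homologyFunctorFactors X.Modules q).app _) (h1 q)
  have hp : (ComplexShape.up ℤ).Rel (p - 1) p := by simp
  exact (Groth.Agent.Lib.Helper17.PhiInd.weakSerre_qcoh X).of_five _ _ _ _ _ _ _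
    (hS.homology_exact₃ (p - 1) p hp) (hS.homology_exact₁ (p - 1) p hp) (hS.homology_exact₂ p)
    (hq (p - 1)) (hr (p - 1)) (hq p) (hr p)


/-- **`RΓ_Z` on `D^+` preserves quasi-coherent cohomology, and its values are supported on `Z`.** -/
theorem RgammaZPlus_qcoh_supp [QuasiCompact W.ι] [EnoughInjectives X.Modules]
    (E : DerivedCategory.Plus X.Modules) (hE : DCoh.IsQCohD E.obj) :
    DCoh.IsQCohD ((DCoh.RgammaZPlus W.ι).obj E).obj ∧
    ∀ i : ℤ, CohB1.support (DCoh.HD ((DCoh.RgammaZPlus W.ι).obj E).obj i) ⊆ (W : Set X)ᶜ := by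
  let K₁ := (DerivedCategory.Plus.Qh (C := X.Modules)).objPreimage E
  let K₀ := (HomotopyCategory.Plus.quotient X.Modules).objPreimage K₁
  let e₀ : DerivedCategory.Plus.Qh.obj ((HomotopyCategory.Plus.quotient X.Modules).obj K₀) ≅ E :=
    DerivedCategory.Plus.Qh.mapIso
      ((HomotopyCategory.Plus.quotient X.Modules).objObjPreimageIso K₁) ≪≫
      (DerivedCategory.Plus.Qh (C := X.Modules)).objObjPreimageIso E
  obtain ⟨I, i, hI, hinj, hi, hiso⟩ := exists_injective_model (DCoh.gammaZ W.ι) K₀
  haveI := hI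
  haveI := hi
  -- the cohomology of `I` is that of `E`
  have eK : DerivedCategory.Q.obj K₀.obj ≅ E.obj :=
    (DerivedCategory.Plus.ι (C := X.Modules)).mapIso e₀
  have hq : ∀ p, (I.homology p).IsQuasicoherent := by
    intro p
    exact (SheafOfModules.isQuasicoherent X.ringCatSheaf).prop_of_iso
      ((DerivedCategory.homologyFunctor X.Modules p).mapIso
        (eK.symm ≪≫ asIso (DerivedCategory.Q.map i)) ≪≫
        (DerivedCategory.homologyFunctorFactors X.Modules p).app I) (hE p)
  have key : ∀ p : ℤ, Nonempty (DCoh.HD ((DCoh.RgammaZPlus W.ι).obj E).obj p ≅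
      (Cx (DCoh.gammaZ W.ι) I).homology p) := by
    intro p
    obtain ⟨e⟩ := hiso p
    exact ⟨(DerivedCategory.Plus.homologyFunctor X.Modules p).mapIso
      ((DCoh.RgammaZPlus W.ι).mapIso e₀.symm) ≪≫ e⟩
  refine ⟨fun p => ?_, fun p => ?_⟩
  · obtain ⟨e⟩ := key p
    exact (SheafOfModules.isQuasicoherent X.ringCatSheaf).prop_of_iso e.symm
      (isQuasicoherent_homology_gammaZ W I hinj hq p)
  · obtain ⟨e⟩ := key p
    rw [support_congr e]
    exact support_homology_gammaZ W I p

end Groth.Agent.Lib.Helper17.RGammaZPlus
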