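import Groth.Agent.Lib.Helper17.RL9
import Groth.Agent.Lib.Helper17.DProd

/-!
# `H^q(U, K) = H^q(K)(U)` on an acyclic covering class (Stacks 21.23.7 pattern), sites
-/

set_option autoImplicit false
universe u

open CategoryTheory Limits Opposite Pretriangulated

namespace Groth.Agent.Lib.Helper17.RL10

open Groth.Agent.Lib.Helper17.RL1 Groth.Agent.Lib.Helper17.RL2 Groth.Agent.Lib.Helper17.RL4
open Groth.Agent.Lib.Helper17.RL5 Groth.Agent.Lib.Helper17.RL6 Groth.Agent.Lib.Helper17.RL8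
open Groth.Agent.Lib.Helper17.RL9
open Groth.Agent.Lib.Helper20.FreeSheaf

section gen

variable {A : Type*} [Category A] [Abelian A]

open DerivedCategory

lemma ext_subsingleton_of_iso [HasExt.{u} A] {X Y Y' : A} (e : Y ≅ Y') (k : ℕ)
    (h : Subsingleton (Abelian.Ext.{u} X Y k)) : Subsingleton (Abelian.Ext.{u} X Y' k) := by
  have e' := ((Abelian.extFunctorObj.{u} X k).mapIso e).addCommGroupIsoToAddEquiv
  have h' : Subsingleton ↑((Abelian.extFunctorObj.{u} X k).obj Y) := h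
  exact e'.symm.toEquiv.subsingleton

variable [HasDerivedCategory A]

lemma θ_bijective_of_shift (X : A) (q : ℤ) (K : DerivedCategory A)
    (h : Function.Bijective (θ X 0 (K⟦q⟧))) : Function.Bijective (θ X q K) := by
  let sZ := (shiftFunctorZero (DerivedCategory A) ℤ).app (K⟦q⟧)
  let c : (homologyFunctor A q).obj K ≅ (homologyFunctor A 0).obj (K⟦q⟧) :=
    (ψ q K).symm ≪≫ (homologyFunctor A 0).mapIso sZ.symm ≪≫ ψ 0 (K⟦q⟧)
  have hsq : (fun y : X ⟶ (homologyFunctor A q).obj K => y ≫ c.hom) ∘ (θ X q K) =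
      (θ X 0 (K⟦q⟧) : _ → _) ∘ (fun x : (singleFunctor A 0).obj X ⟶ K⟦q⟧ => x ≫ sZ.inv) := by
    ext x
    simp only [Function.comp_apply, θ_apply, c, Iso.trans_hom, Iso.symm_hom, Functor.mapIso_hom,
      Functor.map_comp, Category.assoc, Iso.hom_inv_id_assoc]
  have h1 : Function.Bijective ((fun y : X ⟶ (homologyFunctor A q).obj K => y ≫ c.hom) ∘
      (θ X q K)) := by
    rw [hsq]
    exact h.comp (rightComp_iso_bijective _)
  exact (Function.Bijective.of_comp_iff' (rightComp_iso_bijective _) _).1 h1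

end gen


section site

variable {C : Type u} [SmallCategory C] {J : GrothendieckTopology C}

/-- every covering sieve contains a covering family by members of a covering class. -/
lemma exists_family_in_sieve (B : Set C)
    (hB : ∀ U : C, ∃ (ι : Type u) (Y : ι → C) (f : ∀ i, Y i ⟶ U),
      Sieve.ofArrows Y f ∈ J U ∧ ∀ i, Y i ∈ B)
    (V : C) (T : Sieve V) (hT : T ∈ J V) :
    ∃ (ι : Type u) (Y : ι → C) (f : ∀ i, Y i ⟶ V), (∀ i, T.arrows (f i)) ∧
      Sieve.ofArrows Y f ∈ J V ∧ ∀ i, Y i ∈ B := by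
  choose ιB YB fB hcov hYB using hB
  let ι : Type u := Σ (g : Σ (W : C), {g : W ⟶ V // T g}), ιB g.1
  let Y : ι → C := fun x => YB x.1.1 x.2
  let f : ∀ i, Y i ⟶ V := fun x => fB x.1.1 x.2 ≫ x.1.2.1
  refine ⟨ι, Y, f, fun x => T.downward_closed x.1.2.2 _, ?_, fun x => hYB _ _⟩
  have h1 : Sieve.bind T.arrows (fun W g _ => Sieve.ofArrows (YB W) (fB W)) ∈ J V :=
    J.bind_covering hT (fun W g _ => hcov W)
  refine J.superset_covering ?_ h1
  intro Z k hk
  obtain ⟨W, k', g, hg, hk', rfl⟩ := hk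
  obtain ⟨_, k'', _, ⟨i⟩, rfl⟩ := hk'
  let x : ι := ⟨⟨W, ⟨g, hg⟩⟩, i⟩
  refine ⟨_, k'', f x, Presieve.ofArrows.mk x, ?_⟩
  simp [f, x]

variable [HasDerivedCategory.{u} (Sheaf J AddCommGrpCat.{u})]

open DerivedCategory

instance : HasProducts.{u} (DerivedCategory (Sheaf J AddCommGrpCat.{u})) :=
  DProd.derivedCategory_hasProducts

instance (K : ℕ → DerivedCategory (Sheaf J AddCommGrpCat.{u})) : HasProduct K :=
  have := hasProductsOfShape_of_small.{u} (DerivedCategory (Sheaf J AddCommGrpCat.{u})) ℕ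
  inferInstance

lemma vanishAbove_shift (K : DerivedCategory (Sheaf J AddCommGrpCat.{u})) (q : ℤ) (U : C)
    (h : ∀ (p : ℕ) (q : ℤ), Subsingleton (CohSite.HU (CohCx.HD K q) (p + 1) U)) :
    VanishAbove.{u} (K⟦q⟧) (ZU J U) 0 := by
  intro m k hk
  obtain ⟨p, rfl⟩ : ∃ p : ℕ, k = p + 1 := ⟨k - 1, by simp at hk; omega⟩
  let e : (homologyFunctor _ (q + (m - ((p + 1 : ℕ) : ℤ)))).obj K ≅
      (homologyFunctor _ (m - ((p + 1 : ℕ) : ℤ))).obj (K⟦q⟧) :=
    (((homologyFunctor (Sheaf J AddCommGrpCat.{u}) 0).shiftIso q (m - ((p + 1 : ℕ) : ℤ))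
      (q + (m - ((p + 1 : ℕ) : ℤ))) rfl).app K).symm
  exact ext_subsingleton_of_iso e (p + 1) (h p _)

/-- **Main**: on members of an acyclic covering class, `θ` is bijective. -/
theorem θ_bijective_site (K : DerivedCategory (Sheaf J AddCommGrpCat.{u})) (B : Set C)
    (hB : ∀ U : C, ∃ (ι : Type u) (Y : ι → C) (f : ∀ i, Y i ⟶ U),
      Sieve.ofArrows Y f ∈ J U ∧ ∀ i, Y i ∈ B)
    (h : ∀ U ∈ B, ∀ (p : ℕ) (q : ℤ), Subsingleton (CohSite.HU (CohCx.HD K q) (p + 1) U))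
    (U : C) (hU : U ∈ B) (q : ℤ) : Function.Bijective (θ (ZU J U) q K) := by
  apply θ_bijective_of_shift
  have hR : CohCx.IsRlimVia (CohCx.truncTower (K⟦q⟧)) (CohCx.truncTowerMap (K⟦q⟧)) (K⟦q⟧)
      (CohCx.toTruncTower (K⟦q⟧)) := by
    apply isRlimVia_truncTower_site (K⟦q⟧) B hB
    intro V hV
    refine ⟨0, fun T hT => ?_⟩
    obtain ⟨ι, Y, f, hfT, hcov, hYB⟩ := exists_family_in_sieve B hB V T hT
    exact ⟨ι, Y, f, hfT, hcov, fun i => vanishAbove_shift K q (Y i) (h (Y i) (hYB i))⟩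
  exact θ_zero_bijective.{u} (K⟦q⟧) hR (ZU J U) (vanishAbove_shift K q U (h U hU))

end site

end Groth.Agent.Lib.Helper17.RL10
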