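import Groth.Agent.Lib.Helper17.RL1

/-!
# Injectivity of `H^m(R lim K_n) → H^m(K_n)` on sections / stalks (Stacks 21.23.5 pattern)
-/

set_option autoImplicit false
universe w v u

open CategoryTheory Limits CochainComplex HomComplex Opposite

namespace Groth.Agent.Lib.Helper17.RL2

open Groth.Agent.Lib.Helper17.HDU1 Groth.Agent.Lib.Helper17.RL1
open Groth.Agent.Lib.Helper20.FreeSheaf

section milnor

variable {T : Type*} [Category T] [Preadditive T] [HasZeroObject T] [HasShift T ℤ]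
  [∀ n : ℤ, (CategoryTheory.shiftFunctor T n).Additive] [Pretriangulated T]
  {K : ℕ → T} {t : ∀ n, K (n + 1) ⟶ K n} [HasProduct K] {L : T} {a : ∀ n, L ⟶ K n}

lemma a_compat (hL : CohCx.IsRlimVia K t L a) (n : ℕ) : a (n + 1) ≫ t n = a n := by
  obtain ⟨c, hT⟩ := hL
  have h : Pi.lift a ≫ Pi.lift (fun n => Pi.π K n - Pi.π K (n + 1) ≫ t n) = 0 :=
    Pretriangulated.comp_distTriang_mor_zero₁₂ _ hT
  have h2 : (Pi.lift a ≫ Pi.lift (fun n => Pi.π K n - Pi.π K (n + 1) ≫ t n)) ≫ Pi.π K n = 0 := by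
    rw [h, zero_comp]
  rw [Category.assoc, Pi.lift_π, Preadditive.comp_sub, Pi.lift_π, Pi.lift_π_assoc,
    sub_eq_zero] at h2
  exact h2.symm

lemma a_transition (hL : CohCx.IsRlimVia K t L a) (n : ℕ) :
    ∀ k : ℕ, a (n + k) ≫ CohCx.transition K t n k = a n
  | 0 => by simp [CohCx.transition]
  | k + 1 => by
    change a (n + k + 1) ≫ t (n + k) ≫ CohCx.transition K t n k = a n
    rw [reassoc_of% (a_compat hL (n + k)), a_transition hL n k]

theorem injAt_of_milnor (hL : CohCx.IsRlimVia K t L a) (M : T) (m : ℤ) (nV : ℕ)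
    (h1 : CohCx.LimOneIsZero (fun n => (M ⟶ (K n)⟦m - 1⟧))
      (fun n => Preadditive.rightComp _ ((t n)⟦m - 1⟧')))
    (h2 : ∀ k : ℕ, Function.Injective
      (Preadditive.rightComp M ((CohCx.transition K t nV k)⟦m⟧')))
    (y : M ⟶ L⟦m⟧) (hy : y ≫ (a nV)⟦m⟧' = 0) : y = 0 := by
  apply (Groth.Agent.Lib.Helper5.Milnor.milnor hL M m).2 h1 y
  intro n
  rcases le_total n nV with h | h
  · obtain ⟨k, rfl⟩ := Nat.exists_eq_add_of_le h
    rw [← a_transition hL n k, Functor.map_comp, reassoc_of% hy, zero_comp]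
  · obtain ⟨k, rfl⟩ := Nat.exists_eq_add_of_le h
    apply h2 k
    change (y ≫ (a (nV + k))⟦m⟧') ≫ (CohCx.transition K t nV k)⟦m⟧' =
      0 ≫ (CohCx.transition K t nV k)⟦m⟧'
    rw [Category.assoc, ← Functor.map_comp, a_transition hL nV k, hy, zero_comp]

end milnor


section C

variable {C : Type u} [SmallCategory C] {J : GrothendieckTopology C}
  [HasDerivedCategory.{u} (Sheaf J AddCommGrpCat.{u})]

/-- `φ` is injective on `H^m(U, -)`. -/
def InjAt {L K : DerivedCategory (Sheaf J AddCommGrpCat.{u})} (φ : L ⟶ K) (m : ℤ) (U : C) : Prop :=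
  ∀ y : CohCx.HDU L m U, y ≫ φ⟦m⟧' = 0 → y = 0

lemma InjAt.of_iso {L K L' K' : DerivedCategory (Sheaf J AddCommGrpCat.{u})} {φ : L ⟶ K}
    {m : ℤ} {U : C} (h : InjAt φ m U) (eL : L ≅ L') (eK : K ≅ K') (φ' : L' ⟶ K')
    (hφ : φ' = eL.inv ≫ φ ≫ eK.hom) : InjAt φ' m U := by
  intro y hy
  have h1 : (y ≫ eL.inv⟦m⟧') ≫ φ⟦m⟧' = 0 := by
    have h2 : eL.inv ≫ φ = φ' ≫ eK.inv := by rw [hφ]; simp
    rw [Category.assoc, ← Functor.map_comp, h2, Functor.map_comp, reassoc_of% hy, zero_comp]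
  have h3 := h _ h1
  have h4 : y = (y ≫ eL.inv⟦m⟧') ≫ eL.hom⟦m⟧' := by
    rw [Category.assoc, ← Functor.map_comp, Iso.inv_hom_id, CategoryTheory.Functor.map_id,
      Category.comp_id]
  rw [h4, h3, zero_comp]

open DerivedCategory in
lemma boundary_of_injAt (IL IK : CochainComplex (Sheaf J AddCommGrpCat.{u}) ℤ) [IL.IsKInjective]
    [IK.IsKInjective] (ψ : IL ⟶ IK) (m : ℤ) (U : C) (hinj : InjAt (Q.map ψ) m U)
    (z : ZU J U ⟶ IL.X m) (hz : z ≫ IL.d m (m + 1) = 0)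
    (w : ZU J U ⟶ IK.X (m - 1)) (hw : w ≫ IK.d (m - 1) m = z ≫ ψ.f m) :
    ∃ g : ZU J U ⟶ IL.X (m - 1), g ≫ IL.d (m - 1) m = z := by
  have h1 : clsD IL m z hz ≫ (Q.map ψ)⟦m⟧' = 0 := by
    rw [clsD_postcomp]
    exact (clsD_eq_zero_iff IK m _ _).2 ⟨w, hw⟩
  have h2 := hinj _ h1
  exact (clsD_eq_zero_iff IL m z hz).1 h2

open DerivedCategory in
/-- **Key local lemma**: a section of `H^m(L)` killed by `φ` vanishes on every member of some
covering sieve on which `φ` is injective on `H^m(-, L)`. -/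
theorem exists_sieve_of_comp_eq_zero {L K : DerivedCategory (Sheaf J AddCommGrpCat.{u})}
    (φ : L ⟶ K) (V : C) (m : ℤ) (σ : ZU J V ⟶ (homologyFunctor _ m).obj L)
    (hσ : σ ≫ (homologyFunctor _ m).map φ = 0) :
    ∃ T ∈ J V, ∀ ⦃Y : C⦄ (g : Y ⟶ V), T g → InjAt φ m Y → Zmap J g ≫ σ = 0 := by
  obtain ⟨IL, hIL, ⟨eL⟩⟩ := HDU3.exists_kInjective_iso J L
  obtain ⟨IK, hIK, ⟨eK⟩⟩ := HDU3.exists_kInjective_iso J K
  have := hIL
  have := hIK
  obtain ⟨ψ, hψ⟩ := DProd.Q_map_surjective_of_isKInjective IL IK (eL.inv ≫ φ ≫ eK.hom)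
  let fac := homologyFunctorFactors (Sheaf J AddCommGrpCat.{u}) m
  let eHL : (homologyFunctor _ m).obj L ≅ IL.homology m :=
    (homologyFunctor _ m).mapIso eL ≪≫ fac.app IL
  let eHK : (homologyFunctor _ m).obj K ≅ IK.homology m :=
    (homologyFunctor _ m).mapIso eK ≪≫ fac.app IK
  have hsq : (homologyFunctor _ m).map φ ≫ eHK.hom =
      eHL.hom ≫ HomologicalComplex.homologyMap ψ m := by
    have h1 : φ ≫ eK.hom = eL.hom ≫ Q.map ψ := by rw [hψ]; simp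
    dsimp only [eHL, eHK, Iso.trans_hom, Functor.mapIso_hom, Iso.app_hom]
    rw [← Category.assoc, ← Functor.map_comp, h1, Functor.map_comp, Category.assoc, Category.assoc]
    exact congrArg (fun x => (homologyFunctor _ m).map eL.hom ≫ x) (fac.hom.naturality ψ)
  let σ' : ZU J V ⟶ IL.homology m := σ ≫ eHL.hom
  have hσ' : σ' ≫ HomologicalComplex.homologyMap ψ m = 0 := by
    rw [Category.assoc, ← hsq, reassoc_of% hσ, zero_comp]
  have hback : ∀ ⦃Y : C⦄ (g : Y ⟶ V), Zmap J g ≫ σ' = 0 → Zmap J g ≫ σ = 0 := by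
    intro Y g hg
    have h1 : σ = σ' ≫ eHL.inv := by simp [σ']
    rw [h1, ← Category.assoc, hg, zero_comp]
  obtain ⟨S1, hS1, h1⟩ := exists_local_hcls J IL m σ'
  choose f1 hf1 hσ1 using h1
  have h2 : ∀ ⦃Y : C⦄ (g : Y ⟶ V) (hg : S1 g), ∃ S ∈ J Y, ∀ ⦃Y' : C⦄ (g' : Y' ⟶ Y), S g' →
      ∃ w : ZU J Y' ⟶ IK.X (m - 1), w ≫ IK.d (m - 1) m = Zmap J g' ≫ f1 g hg ≫ ψ.f m := by
    intro Y g hg
    have hz : hcls IK m (f1 g hg ≫ ψ.f m)
        (by rw [Category.assoc, ψ.comm, reassoc_of% (hf1 g hg), zero_comp]) = 0 := by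
      rw [← hcls_map IL m ψ (f1 g hg) (hf1 g hg), ← hσ1, Category.assoc, hσ', comp_zero]
    exact exists_local_boundary J IK m _ _ hz
  choose S2 hS2 h2' using h2
  refine ⟨Sieve.bind S1 (fun Y g hg => S2 g hg), J.bind_covering hS1 (fun Y g hg => hS2 g hg), ?_⟩
  intro Y k hk hinj
  obtain ⟨Y1, g', g, hg, hg', rfl⟩ := hk
  apply hback
  obtain ⟨w, hw⟩ := h2' g hg g' hg'
  have hinj' : InjAt (Q.map ψ) m Y := hinj.of_iso eL eK _ hψ
  obtain ⟨b, hb⟩ := boundary_of_injAt IL IK ψ m Y hinj' (Zmap J g' ≫ f1 g hg)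
    (by rw [Category.assoc, hf1 g hg, comp_zero]) w (by rw [hw, Category.assoc])
  rw [Zmap_comp, Category.assoc, hσ1 g hg, hcls_precomp]
  exact hcls_eq_zero_of_boundary _ _ _ _ b hb

/-- **Sheaf version** (Stacks 21.23.5 pattern). -/
theorem injective_homology_of_local {L K : DerivedCategory (Sheaf J AddCommGrpCat.{u})}
    (φ : L ⟶ K) (V : C) (m : ℤ)
    (h : ∀ T ∈ J V, ∃ (ι : Type u) (Y : ι → C) (f : ∀ i, Y i ⟶ V), (∀ i, T.arrows (f i)) ∧
      Sieve.ofArrows Y f ∈ J V ∧ ∀ i, InjAt φ m (Y i)) :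
    Function.Injective (((DerivedCategory.homologyFunctor _ m).map φ).hom.app (op V)) := by
  apply injective_app_of J
  intro σ hσ
  obtain ⟨T, hT, hT'⟩ := exists_sieve_of_comp_eq_zero φ V m σ hσ
  obtain ⟨ι, Y, f, hfT, hcov, hinj⟩ := h T hT
  apply eq_zero_of_cover J σ (Sieve.ofArrows Y f) hcov
  intro W k hk
  obtain ⟨_, k', _, ⟨i⟩, rfl⟩ := hk
  rw [Zmap_comp, Category.assoc, hT' (f i) (hfT i) (hinj i), comp_zero]

end C

end Groth.Agent.Lib.Helper17.RL2
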