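import Groth.Agent.Lib.Helper17.RL2
import Groth.Prelude.Def_CohTop

/-!
# Stalk version of the injectivity lemma, for topological spaces
-/

set_option autoImplicit false
universe u

open CategoryTheory Limits Opposite TopologicalSpace

namespace Groth.Agent.Lib.Helper17.RL3

open Groth.Agent.Lib.Helper17.RL1 Groth.Agent.Lib.Helper17.RL2
open Groth.Agent.Lib.Helper20.FreeSheaf

theorem injective_stalk_of_local {X : TopCat.{u}} [HasDerivedCategory.{u} (CohTop.Ab X)]
    {L K : DerivedCategory (CohTop.Ab X)} (φ : L ⟶ K) (x : X) (m : ℤ)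
    (h : ∀ V : Opens X, x ∈ V → ∃ U : Opens X, x ∈ U ∧ U ≤ V ∧ InjAt φ m U) :
    Function.Injective ((TopCat.Presheaf.stalkFunctor AddCommGrpCat.{u} x).map
      ((DerivedCategory.homologyFunctor (CohTop.Ab X) m).map φ).hom) := by
  let J := Opens.grothendieckTopology X
  let F := (DerivedCategory.homologyFunctor (CohTop.Ab X) m).obj L
  let G := (DerivedCategory.homologyFunctor (CohTop.Ab X) m).obj K
  let Φ : F ⟶ G := (DerivedCategory.homologyFunctor (CohTop.Ab X) m).map φ
  change Function.Injective ((TopCat.Presheaf.stalkFunctor AddCommGrpCat.{u} x).map Φ.hom).hom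
  rw [injective_iff_map_eq_zero]
  intro t ht
  obtain ⟨W, hxW, s, rfl⟩ := TopCat.Presheaf.exists_germ_eq F.obj t
  have ht' : TopCat.Presheaf.germ G.obj W x hxW (Φ.hom.app (op W) s) = 0 := by
    rw [← TopCat.Presheaf.stalkFunctor_map_germ_apply]
    exact ht
  have h0 : TopCat.Presheaf.germ G.obj W x hxW (Φ.hom.app (op W) s) =
      TopCat.Presheaf.germ G.obj W x hxW 0 := by
    rw [ht', map_zero]
  obtain ⟨W', hxW', i1, i2, heq⟩ := TopCat.Presheaf.germ_eq G.obj x hxW hxW _ _ h0
  let s' := F.obj.map i1.op s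
  have hs' : Φ.hom.app (op W') s' = 0 := by
    have h1 := ConcreteCategory.congr_hom (Φ.hom.naturality i1.op) s
    rw [ConcreteCategory.comp_apply, ConcreteCategory.comp_apply] at h1
    rw [h1, heq, map_zero]
  let σ : ZU J W' ⟶ F := (a J W' F).symm s'
  have hσ : σ ≫ Φ = 0 := by
    rw [a_symm_nat, hs']
    apply (a J W' G).injective
    rw [Equiv.apply_symm_apply, a_zero]
  obtain ⟨T, hT, hT'⟩ := exists_sieve_of_comp_eq_zero φ W' m σ hσ
  obtain ⟨V', f, hf, hxV'⟩ := hT x hxW'
  obtain ⟨U, hxU, hUV', hinj⟩ := h V' hxV'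
  have h1 : Zmap J (homOfLE hUV' ≫ f) ≫ σ = 0 := hT' _ (T.downward_closed hf _) hinj
  have h2 : F.obj.map (homOfLE hUV' ≫ f).op s' = 0 := by
    have h3 := a_nat_left J (homOfLE hUV' ≫ f) σ
    rw [h1, a_zero, Equiv.apply_symm_apply] at h3
    exact h3.symm
  rw [← TopCat.Presheaf.germ_res_apply F.obj i1 x hxW' s,
    ← TopCat.Presheaf.germ_res_apply F.obj (homOfLE hUV' ≫ f) x hxU (F.obj.map i1.op s)]
  change TopCat.Presheaf.germ F.obj U x hxU (F.obj.map (homOfLE hUV' ≫ f).op s') = 0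
  rw [h2, map_zero]

end Groth.Agent.Lib.Helper17.RL3
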