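import Groth.Agent.Lib.Helper17.RL2

/-!
# t-structure / homology / Hom-sequence lemmas for derived limits of truncation towers
-/

set_option autoImplicit false
universe w' w v u

open CategoryTheory Limits Opposite Pretriangulated

namespace Groth.Agent.Lib.Helper17.RL4

section L

variable {T : Type*} [Category T] [Preadditive T] [HasZeroObject T] [HasShift T ℤ]
  [∀ n : ℤ, (CategoryTheory.shiftFunctor T n).Additive] [Pretriangulated T]

lemma rightComp_injective_of_distTriang (Tr : Triangle T) (hT : Tr ∈ distTriang T) (M : T) (j : ℤ)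
    (h : ∀ f : M ⟶ Tr.obj₁⟦j⟧, f = 0) :
    Function.Injective (Preadditive.rightComp M (Tr.mor₂⟦j⟧')) := by
  let F : T ⥤ AddCommGrpCat := preadditiveCoyoneda.obj (op M)
  letI : F.ShiftSequence ℤ := Functor.ShiftSequence.tautological F ℤ
  rw [injective_iff_map_eq_zero]
  intro x hx
  have hex := F.homologySequence_exact₂ Tr hT j
  rw [ShortComplex.ab_exact_iff] at hex
  obtain ⟨y, hy⟩ := hex x hx
  have hy' : (y : M ⟶ Tr.obj₁⟦j⟧) ≫ Tr.mor₁⟦j⟧' = x := hy
  rw [← hy', h y, zero_comp]

lemma rightComp_surjective_of_distTriang (Tr : Triangle T) (hT : Tr ∈ distTriang T) (M : T)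
    (j j' : ℤ) (hj : j + 1 = j') (h : ∀ f : M ⟶ Tr.obj₁⟦j'⟧, f = 0) :
    Function.Surjective (Preadditive.rightComp M (Tr.mor₂⟦j⟧')) := by
  let F : T ⥤ AddCommGrpCat := preadditiveCoyoneda.obj (op M)
  letI : F.ShiftSequence ℤ := Functor.ShiftSequence.tautological F ℤ
  intro z
  have hex := F.homologySequence_exact₃ Tr hT j j' hj
  rw [ShortComplex.ab_exact_iff] at hex
  obtain ⟨y, hy⟩ := hex z (h _)
  exact ⟨y, hy⟩

end L

section H

variable {A : Type u} [Category.{v} A] [Abelian A] [HasDerivedCategory.{w} A]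

open DerivedCategory DerivedCategory.TStructure

/-- `E ⟶ τ_{≥ b} E` induces isomorphisms on `H^i` for `i ≥ b`. -/
lemma isIso_homology_truncGEπ (X : DerivedCategory A) (b i : ℤ) (hi : b ≤ i) :
    IsIso ((homologyFunctor A i).map ((t.truncGEπ b).app X)) := by
  have hT := t.triangleLTGE_distinguished b X
  have h1 : IsZero ((homologyFunctor A i).obj ((t.truncLT b).obj X)) :=
    isZero_of_isLE _ (b - 1) i (by omega)
  have h2 : IsZero ((homologyFunctor A (i + 1)).obj ((t.truncLT b).obj X)) :=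
    isZero_of_isLE _ (b - 1) (i + 1) (by omega)
  have hm : Mono ((homologyFunctor A i).map ((t.truncGEπ b).app X)) :=
    (HomologySequence.mono_homologyMap_mor₂_iff _ hT i).2 (h1.eq_of_src _ _)
  have he : Epi ((homologyFunctor A i).map ((t.truncGEπ b).app X)) :=
    (HomologySequence.epi_homologyMap_mor₂_iff _ hT i (i + 1) rfl).2 (h2.eq_of_tgt _ _)
  exact isIso_of_mono_of_epi _

/-- `τ_{< b} E ⟶ E` induces isomorphisms on `H^i` for `i < b`. -/
lemma isIso_homology_truncLTι (X : DerivedCategory A) (b i : ℤ) (hi : i < b) :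
    IsIso ((homologyFunctor A i).map ((t.truncLTι b).app X)) := by
  have hT := t.triangleLTGE_distinguished b X
  have h1 : IsZero ((homologyFunctor A i).obj ((t.truncGE b).obj X)) :=
    isZero_of_isGE _ b i hi
  have h2 : IsZero ((homologyFunctor A (i - 1)).obj ((t.truncGE b).obj X)) :=
    isZero_of_isGE _ b (i - 1) (by omega)
  have he : Epi ((homologyFunctor A i).map ((t.truncLTι b).app X)) :=
    (HomologySequence.epi_homologyMap_mor₁_iff _ hT i).2 (h1.eq_of_tgt _ _)
  have hm : Mono ((homologyFunctor A i).map ((t.truncLTι b).app X)) :=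
    (HomologySequence.mono_homologyMap_mor₁_iff _ hT (i - 1) i (by omega)).2 (h2.eq_of_src _ _)
  exact isIso_of_mono_of_epi _

end H

section E

variable {A : Type u} [Category.{v} A] [Abelian A] [HasDerivedCategory.{w} A]

open DerivedCategory DerivedCategory.TStructure

/-- vanishing of maps from a single object into a shift of an object concentrated in one degree. -/
lemma hom_eq_zero_of_ext_subsingleton [HasExt.{w'} A] (F : DerivedCategory A) (a : ℤ)
    [F.IsGE a] [F.IsLE a]
    (Y' : A) (e : (homologyFunctor A a).obj F ≅ Y') (X : A) (j : ℤ) (r : ℕ) (hr : (r : ℤ) = j - a)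
    (hs : Subsingleton (Abelian.Ext.{w'} X Y' r))
    (f : (singleFunctor A 0).obj X ⟶ F⟦j⟧) : f = 0 := by
  obtain ⟨Y, ⟨eF⟩⟩ := exists_iso_singleFunctor_obj_of_isGE_of_isLE F a
  let eY : Y ≅ Y' := ((singleFunctorCompHomologyFunctorIso A a).app Y).symm ≪≫
    (homologyFunctor A a).mapIso eF.symm ≪≫ e
  let e1 : F ≅ (singleFunctor A a).obj Y' := eF ≪≫ (singleFunctor A a).mapIso eY
  let e2 : (singleFunctor A a).obj Y' ≅ ((singleFunctor A 0).obj Y')⟦-a⟧ :=
    ((singleFunctors A).shiftIso (-a) a 0 (by omega)).symm.app Y'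
  let e3 : F⟦j⟧ ≅ ((singleFunctor A 0).obj Y')⟦(r : ℤ)⟧ :=
    (shiftFunctor _ j).mapIso (e1 ≪≫ e2) ≪≫
      ((shiftFunctorAdd' (DerivedCategory A) (-a) j r (by omega)).symm.app _)
  have : Subsingleton ((singleFunctor A 0).obj X ⟶ ((singleFunctor A 0).obj Y')⟦(r : ℤ)⟧) :=
    (Abelian.Ext.homEquiv (X := X) (Y := Y') (n := r)).symm.subsingleton
  have h1 : f ≫ e3.hom = 0 := Subsingleton.elim _ _
  rw [← cancel_mono e3.hom, h1, zero_comp]

end E

section A

variable {A : Type u} [Category.{v} A] [Abelian A] [HasDerivedCategory.{w} A]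

open DerivedCategory DerivedCategory.TStructure

lemma rightComp_bijective_of_isIso {T : Type*} [Category T] [Preadditive T] (M : T) {X Y : T}
    (f : X ⟶ Y) [IsIso f] : Function.Bijective (Preadditive.rightComp M f) := by
  constructor
  · intro x y hxy
    change x ≫ f = y ≫ f at hxy
    exact (cancel_mono f).1 hxy
  · intro z
    refine ⟨z ≫ inv f, ?_⟩
    change (z ≫ inv f) ≫ f = z
    simp

lemma natTransTruncGEOfLE_comp_iso (E : DerivedCategory A) (a b : ℤ) (hab : a ≤ b) :
    (t.natTransTruncGEOfLE a b hab).app E ≫ (t.truncGE b).map ((t.truncGEπ a).app E) =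
      (t.truncGEπ b).app ((t.truncGE a).obj E) := by
  apply t.from_truncGE_obj_ext (n := a)
  have h1 := t.π_natTransTruncGEOfLE_app a b hab E
  have h2 := t.truncGEπ_naturality b ((t.truncGEπ a).app E)
  refine (Category.assoc _ _ _).symm.trans ?_
  refine (congrArg (fun x => x ≫ (t.truncGE b).map ((t.truncGEπ a).app E)) h1).trans ?_
  exact h2

/-- the transition map `τ_{≥ a} E ⟶ τ_{≥ a+1} E` is bijective on `Hom(S_0 X, -[j])` given
Ext-vanishing. -/
lemma natTransTruncGEOfLE_bijective [HasExt.{w'} A] (E : DerivedCategory A) (a b : ℤ)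
    (hab : a + 1 = b) (X : A) (j : ℤ) (r : ℕ) (hr : (r : ℤ) = j - a)
    (h1 : Subsingleton (Abelian.Ext.{w'} X ((homologyFunctor A a).obj E) r))
    (h2 : Subsingleton (Abelian.Ext.{w'} X ((homologyFunctor A a).obj E) (r + 1))) :
    Function.Bijective (Preadditive.rightComp ((singleFunctor A 0).obj X)
      (((t.natTransTruncGEOfLE a b (by omega)).app E)⟦j⟧')) := by
  let Xa := (t.truncGE a).obj E
  let F := (t.truncLT b).obj Xa
  have hT := t.triangleLTGE_distinguished b Xa
  have : F.IsLE a := t.isLE_truncLT_obj Xa b a (by omega)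
  have : F.IsGE a := by dsimp [F, Xa]; infer_instance
  have i1 : IsIso ((homologyFunctor A a).map ((t.truncLTι b).app Xa)) :=
    isIso_homology_truncLTι Xa b a (by omega)
  have i2 : IsIso ((homologyFunctor A a).map ((t.truncGEπ a).app E)) :=
    isIso_homology_truncGEπ E a a le_rfl
  let e : (homologyFunctor A a).obj F ≅ (homologyFunctor A a).obj E :=
    asIso ((homologyFunctor A a).map ((t.truncLTι b).app Xa)) ≪≫
      (asIso ((homologyFunctor A a).map ((t.truncGEπ a).app E))).symm
  have hv1 : ∀ f : (singleFunctor A 0).obj X ⟶ F⟦j⟧, f = 0 :=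
    hom_eq_zero_of_ext_subsingleton F a _ e X j r hr h1
  have hv2 : ∀ f : (singleFunctor A 0).obj X ⟶ F⟦j + 1⟧, f = 0 :=
    hom_eq_zero_of_ext_subsingleton F a _ e X (j + 1) (r + 1) (by push_cast; omega) h2
  have hb : Function.Bijective (Preadditive.rightComp ((singleFunctor A 0).obj X)
      (((t.truncGEπ b).app Xa)⟦j⟧')) :=
    ⟨rightComp_injective_of_distTriang _ hT _ j hv1,
      rightComp_surjective_of_distTriang _ hT _ j (j + 1) rfl hv2⟩
  have hι : IsIso ((t.truncGE b).map ((t.truncGEπ a).app E)) :=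
    t.isIso_truncGE_map_truncGEπ_app b a (by omega) E
  have hfac := natTransTruncGEOfLE_comp_iso E a b (by omega)
  have hfac' : (t.natTransTruncGEOfLE a b (by omega)).app E =
      (t.truncGEπ b).app Xa ≫ inv ((t.truncGE b).map ((t.truncGEπ a).app E)) := by
    rw [← hfac, Category.assoc, IsIso.hom_inv_id, Category.comp_id]
  rw [hfac', Functor.map_comp]
  have hb2 : Function.Bijective (Preadditive.rightComp ((singleFunctor A 0).obj X)
      ((inv ((t.truncGE b).map ((t.truncGEπ a).app E)))⟦j⟧')) :=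
    rightComp_bijective_of_isIso _ _
  have hcomp : (Preadditive.rightComp ((singleFunctor A 0).obj X)
      (((t.truncGEπ b).app Xa)⟦j⟧' ≫ (inv ((t.truncGE b).map ((t.truncGEπ a).app E)))⟦j⟧') :
        _ → _) =
      (Preadditive.rightComp ((singleFunctor A 0).obj X)
        ((inv ((t.truncGE b).map ((t.truncGEπ a).app E)))⟦j⟧')) ∘
      (Preadditive.rightComp ((singleFunctor A 0).obj X) (((t.truncGEπ b).app Xa)⟦j⟧')) := by
    ext x
    change x ≫ _ ≫ _ = (x ≫ _) ≫ _
    rw [Category.assoc]
  rw [hcomp]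
  exact hb2.comp hb

end A

end Groth.Agent.Lib.Helper17.RL4
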