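import Groth.Agent.Lib.Helper17.RL4

/-!
# Inverse systems: eventually surjective ⇒ `R¹lim = 0`; truncation towers
-/

set_option autoImplicit false
universe w' w v u

open CategoryTheory Limits Opposite Pretriangulated

namespace Groth.Agent.Lib.Helper17.RL5

open Groth.Agent.Lib.Helper17.RL4 Groth.Agent.Lib.Helper17.RL2

section LimOne

lemma limOne_of_surjective (A : ℕ → Type u) [∀ n, AddCommGroup (A n)] (t : ∀ n, A (n + 1) →+ A n)
    (h : ∀ n, Function.Surjective (t n)) : CohCx.LimOneIsZero A t := by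
  intro b
  choose s hs using h
  let a : ∀ n, A n := fun n => Nat.rec (motive := fun n => A n) 0 (fun n an => s n (an - b n)) n
  refine ⟨a, ?_⟩
  funext n
  change a n - t n (s n (a n - b n)) = b n
  rw [hs]
  abel

lemma limOne_shift (A : ℕ → Type u) [∀ n, AddCommGroup (A n)] (t : ∀ n, A (n + 1) →+ A n)
    (h : CohCx.LimOneIsZero (fun n => A (n + 1)) (fun n => t (n + 1))) : CohCx.LimOneIsZero A t := by
  intro b
  obtain ⟨a', ha'⟩ := h (fun n => b (n + 1))
  let a : ∀ n, A n := fun n => Nat.casesOn (motive := fun n => A n) n (b 0 + t 0 (a' 0)) (fun n => a' n)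
  refine ⟨a, ?_⟩
  funext n
  cases n with
  | zero =>
    change (b 0 + t 0 (a' 0)) - t 0 (a' 0) = b 0
    abel
  | succ n => exact congrFun ha' n

lemma limOne_of_eventually_surjective : ∀ (N : ℕ) (A : ℕ → Type u) [∀ n, AddCommGroup (A n)]
    (t : ∀ n, A (n + 1) →+ A n) (_ : ∀ n, N ≤ n → Function.Surjective (t n)),
    CohCx.LimOneIsZero A t
  | 0, A, _, t, h => limOne_of_surjective A t (fun n => h n (Nat.zero_le n))
  | N + 1, A, _, t, h =>
    limOne_shift A t (limOne_of_eventually_surjective N (fun n => A (n + 1)) (fun n => t (n + 1))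
      (fun n hn => h (n + 1) (Nat.succ_le_succ hn)))

end LimOne

section Trans

variable {T : Type*} [Category T] [Preadditive T] [HasShift T ℤ]

lemma transition_injective (K : ℕ → T) (t : ∀ n, K (n + 1) ⟶ K n) (M : T) (m : ℤ) (N : ℕ)
    (h : ∀ n, N ≤ n → Function.Injective (Preadditive.rightComp M ((t n)⟦m⟧'))) :
    ∀ k : ℕ, Function.Injective (Preadditive.rightComp M ((CohCx.transition K t N k)⟦m⟧'))
  | 0 => by
    intro x y hxy
    change x ≫ (𝟙 (K N))⟦m⟧' = y ≫ (𝟙 (K N))⟦m⟧' at hxy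
    simpa using hxy
  | k + 1 => by
    intro x y hxy
    change x ≫ (t (N + k) ≫ CohCx.transition K t N k)⟦m⟧' =
      y ≫ (t (N + k) ≫ CohCx.transition K t N k)⟦m⟧' at hxy
    rw [Functor.map_comp, ← Category.assoc, ← Category.assoc] at hxy
    exact h (N + k) (Nat.le_add_right N k) (transition_injective K t M m N h k hxy)

end Trans


section Tower

variable {A : Type (u + 1)} [Category.{u} A] [Abelian A] [HasDerivedCategory.{w} A] [HasExt.{w'} A]

open DerivedCategory DerivedCategory.TStructure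

/-- vanishing hypothesis at `X`: `Ext^k(X, H^{m-k}(E)) = 0` for `k > p m`. -/
def VanishAbove (E : DerivedCategory A) (X : A) (p : ℤ → ℤ) : Prop :=
  ∀ (m : ℤ) (k : ℕ), p m < k →
    Subsingleton (Abelian.Ext.{w'} X ((homologyFunctor A (m - k)).obj E) k)

/-- the index `n(V)`. -/
def Nof (p : ℤ → ℤ) (m : ℤ) : ℕ :=
  (-m).toNat + (p (m - 1) - m + 1).toNat + (p m - m).toNat + (p (m + 1) - m - 1).toNat

lemma Nof_ge (p : ℤ → ℤ) (m : ℤ) : -m ≤ Nof p m := by
  unfold Nof
  omega

lemma truncTowerMap_bijective (E : DerivedCategory A) (X : A) (p : ℤ → ℤ)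
    (hv : VanishAbove.{w'} E X p) (j : ℤ) (n : ℕ) (h0 : 0 ≤ j + n + 1) (h1 : p j < j + n + 1)
    (h2 : p (j + 1) < j + n + 2) :
    Function.Bijective (Preadditive.rightComp ((singleFunctor A 0).obj X)
      ((CohCx.truncTowerMap E n)⟦j⟧')) := by
  obtain ⟨r, hr⟩ : ∃ r : ℕ, (r : ℤ) = j + n + 1 := ⟨(j + n + 1).toNat, by omega⟩
  have ha : j - (r : ℤ) = -((n + 1 : ℕ) : ℤ) := by push_cast; omega
  have ha' : (j + 1) - ((r + 1 : ℕ) : ℤ) = -((n + 1 : ℕ) : ℤ) := by push_cast; omega
  have e1 := hv j r (by omega)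
  have e2 := hv (j + 1) (r + 1) (by push_cast; omega)
  rw [ha] at e1
  rw [ha'] at e2
  exact natTransTruncGEOfLE_bijective.{w'} E (-((n + 1 : ℕ) : ℤ)) (-(n : ℤ)) (by push_cast; omega) X j r
    (by push_cast; omega) e1 e2

theorem injAt_truncTower (E : DerivedCategory A) [HasProduct (CohCx.truncTower E)]
    {L : DerivedCategory A} {a : ∀ n, L ⟶ CohCx.truncTower E n}
    (hL : CohCx.IsRlimVia (CohCx.truncTower E) (CohCx.truncTowerMap E) L a) (X : A) (p : ℤ → ℤ)
    (hv : VanishAbove.{w'} E X p) (m : ℤ)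
    (y : (singleFunctor A 0).obj X ⟶ L⟦m⟧) (hy : y ≫ (a (Nof p m))⟦m⟧' = 0) : y = 0 := by
  have hN : ∀ n : ℕ, Nof p m ≤ n → (-m ≤ n ∧ p (m - 1) - m + 1 ≤ n ∧ p m - m ≤ n ∧
      p (m + 1) - m - 1 ≤ n) := by
    intro n hn
    unfold Nof at hn
    omega
  refine injAt_of_milnor hL _ m (Nof p m) ?_ ?_ y hy
  · apply limOne_of_eventually_surjective (Nof p m)
    intro n hn
    obtain ⟨h1, h2, h3, h4⟩ := hN n hn
    exact (truncTowerMap_bijective.{w'} E X p hv (m - 1) n (by omega) (by omega)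
      (by rw [sub_add_cancel]; omega)).2
  · apply transition_injective
    intro n hn
    obtain ⟨h1, h2, h3, h4⟩ := hN n hn
    exact (truncTowerMap_bijective.{w'} E X p hv m n (by omega) (by omega) (by omega)).1

end Tower

end Groth.Agent.Lib.Helper17.RL5
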