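import Groth.Agent.Lib.Helper17.RL6
import Groth.Agent.Lib.Helper17.RL3

/-!
# `E = R lim τ_{≥ -n} E` on topological spaces, pointwise hypotheses (stalk version)
-/

set_option autoImplicit false
universe u

open CategoryTheory Limits Opposite TopologicalSpace

namespace Groth.Agent.Lib.Helper17.RL7

open Groth.Agent.Lib.Helper17.RL1 Groth.Agent.Lib.Helper17.RL2 Groth.Agent.Lib.Helper17.RL3
open Groth.Agent.Lib.Helper17.RL4 Groth.Agent.Lib.Helper17.RL5 Groth.Agent.Lib.Helper17.RL6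
open Groth.Agent.Lib.Helper20.FreeSheaf

lemma isIso_of_isIso_comp_of_mono {D : Type*} [Category D] {X Y Z : D} (f : X ⟶ Y) (g : Y ⟶ Z)
    [IsIso (f ≫ g)] [Mono g] : IsIso f := by
  have h1 : (inv (f ≫ g) ≫ f) ≫ g = 𝟙 _ := by rw [Category.assoc, IsIso.inv_hom_id]
  have h2 : g ≫ (inv (f ≫ g) ≫ f) = 𝟙 _ := by
    rw [← cancel_mono g, Category.assoc, h1, Category.comp_id, Category.id_comp]
  have hg : IsIso g := ⟨⟨inv (f ≫ g) ≫ f, h2, h1⟩⟩
  have : f = (f ≫ g) ≫ inv g := by rw [Category.assoc, IsIso.hom_inv_id, Category.comp_id]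
  rw [this]
  infer_instance

theorem isIso_of_stalk_retraction {X : TopCat.{u}} {FE FL : CohTop.Ab X} (ε : FE ⟶ FL)
    (h : ∀ x : X, ∃ (Fn : CohTop.Ab X) (α : FL ⟶ Fn), IsIso (ε ≫ α) ∧
      Function.Injective ((TopCat.Presheaf.stalkFunctor AddCommGrpCat.{u} x).map α.hom)) :
    IsIso ε := by
  have : ∀ x : X, IsIso ((TopCat.Presheaf.stalkFunctor AddCommGrpCat.{u} x).map ε.hom) := by
    intro x
    obtain ⟨Fn, α, hiso, hinj⟩ := h x
    have hmono : Mono ((TopCat.Presheaf.stalkFunctor AddCommGrpCat.{u} x).map α.hom) :=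
      (AddCommGrpCat.mono_iff_injective _).2 hinj
    have h1 : IsIso ((sheafToPresheaf _ _).map (ε ≫ α)) := inferInstance
    have h2 : IsIso ((TopCat.Presheaf.stalkFunctor AddCommGrpCat.{u} x).map ε.hom ≫
        (TopCat.Presheaf.stalkFunctor AddCommGrpCat.{u} x).map α.hom) := by
      rw [← Functor.map_comp]
      exact Functor.map_isIso (TopCat.Presheaf.stalkFunctor AddCommGrpCat.{u} x)
        ((sheafToPresheaf _ _).map (ε ≫ α))
    exact isIso_of_isIso_comp_of_mono _ ((TopCat.Presheaf.stalkFunctor AddCommGrpCat.{u} x).map α.hom)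
  exact TopCat.Presheaf.isIso_of_stalkFunctor_map_iso (F := FE) (G := FL) ε

open DerivedCategory in
theorem isRlimVia_truncTower_top {X : TopCat.{u}} [HasDerivedCategory.{u} (CohTop.Ab X)]
    (E : DerivedCategory (CohTop.Ab X)) [HasProduct (CohCx.truncTower E)]
    (h : ∀ x : X, ∃ p : ℤ → ℤ, ∀ V : Opens X, x ∈ V → ∃ U : Opens X, x ∈ U ∧ U ≤ V ∧
      VanishAbove.{u} E (ZU (Opens.grothendieckTopology X) U) p) :
    CohCx.IsRlimVia (CohCx.truncTower E) (CohCx.truncTowerMap E) E (CohCx.toTruncTower E) := by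
  obtain ⟨L, a, hL, e, he, hτ⟩ := exists_comparison E
  suffices IsIso e from isRlimVia_of_iso hL _ e he
  rw [DerivedCategory.isIso_iff]
  intro m
  apply isIso_of_stalk_retraction
  intro x
  obtain ⟨p, hp⟩ := h x
  refine ⟨_, (homologyFunctor _ m).map (a (Nof p m)), hτ m _ (Nof_ge p m), ?_⟩
  apply injective_stalk_of_local
  intro V hV
  obtain ⟨U, hxU, hUV, hv⟩ := hp V hV
  refine ⟨U, hxU, hUV, ?_⟩
  intro y hy
  exact injAt_truncTower.{u} E hL (ZU (Opens.grothendieckTopology X) U) p hv m y hy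

end Groth.Agent.Lib.Helper17.RL7
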