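import Groth.Agent.Lib.Helper17.RL6

/-!
# The comparison map `θ : Hom_D(S_0 X, K[q]) → Hom_A(X, H^q K)`
-/

set_option autoImplicit false
universe w' w v u

open CategoryTheory Limits Opposite Pretriangulated

namespace Groth.Agent.Lib.Helper17.RL8

open Groth.Agent.Lib.Helper17.RL4

section theta

variable {A : Type u} [Category.{v} A] [Abelian A] [HasDerivedCategory.{w} A]

open DerivedCategory DerivedCategory.TStructure

/-- `H^0(S_0 X) ≅ X`. -/
noncomputable def i0 (X : A) : (homologyFunctor A 0).obj ((singleFunctor A 0).obj X) ≅ X :=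
  (singleFunctorCompHomologyFunctorIso A 0).app X

lemma i0_naturality {X X' : A} (f : X' ⟶ X) :
    (homologyFunctor A 0).map ((singleFunctor A 0).map f) ≫ (i0 X).hom = (i0 X').hom ≫ f :=
  (singleFunctorCompHomologyFunctorIso A 0).hom.naturality f

lemma i0_inv_naturality {X X' : A} (f : X' ⟶ X) :
    (i0 X').inv ≫ (homologyFunctor A 0).map ((singleFunctor A 0).map f) = f ≫ (i0 X).inv := by
  rw [Iso.inv_comp_eq, ← Category.assoc, Iso.eq_comp_inv, i0_naturality]

/-- `H^0(K[q]) ≅ H^q(K)`. -/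
noncomputable def ψ (q : ℤ) (K : DerivedCategory A) :
    (homologyFunctor A 0).obj (K⟦q⟧) ≅ (homologyFunctor A q).obj K :=
  ((homologyFunctor A 0).shiftIso q 0 q (add_zero q)).app K

lemma ψ_naturality (q : ℤ) {K K' : DerivedCategory A} (φ : K ⟶ K') :
    (homologyFunctor A 0).map (φ⟦q⟧') ≫ (ψ q K').hom = (ψ q K).hom ≫ (homologyFunctor A q).map φ :=
  ((homologyFunctor A 0).shiftIso q 0 q (add_zero q)).hom.naturality φ

/-- the comparison map. -/
noncomputable def θ (X : A) (q : ℤ) (K : DerivedCategory A) :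
    ((singleFunctor A 0).obj X ⟶ K⟦q⟧) →+ (X ⟶ (homologyFunctor A q).obj K) :=
  AddMonoidHom.mk' (fun x => (i0 X).inv ≫ (homologyFunctor A 0).map x ≫ (ψ q K).hom) (by
    intro x y
    simp only [Functor.map_add, Preadditive.add_comp, Preadditive.comp_add])

lemma θ_apply (X : A) (q : ℤ) (K : DerivedCategory A) (x : (singleFunctor A 0).obj X ⟶ K⟦q⟧) :
    θ X q K x = (i0 X).inv ≫ (homologyFunctor A 0).map x ≫ (ψ q K).hom := rfl

lemma θ_naturality (X : A) (q : ℤ) {K K' : DerivedCategory A} (φ : K ⟶ K')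
    (x : (singleFunctor A 0).obj X ⟶ K⟦q⟧) :
    θ X q K' (x ≫ φ⟦q⟧') = θ X q K x ≫ (homologyFunctor A q).map φ := by
  simp only [θ_apply, Functor.map_comp, Category.assoc, ψ_naturality]

lemma θ_naturality_left {X X' : A} (f : X' ⟶ X) (q : ℤ) (K : DerivedCategory A)
    (x : (singleFunctor A 0).obj X ⟶ K⟦q⟧) :
    θ X' q K ((singleFunctor A 0).map f ≫ x) = f ≫ θ X q K x := by
  simp only [θ_apply, Functor.map_comp, Category.assoc]
  rw [← Category.assoc, i0_inv_naturality, Category.assoc]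

/-- on the heart, `H^0` is fully faithful out of `S_0 X`. -/
lemma homology_map_bijective_of_heart (X : A) (G : DerivedCategory A) [G.IsGE 0] [G.IsLE 0] :
    Function.Bijective
      (fun x : (singleFunctor A 0).obj X ⟶ G => (homologyFunctor A 0).map x) := by
  obtain ⟨Y, ⟨e⟩⟩ := exists_iso_singleFunctor_obj_of_isGE_of_isLE G 0
  have hc : ∀ f : X ⟶ Y, (homologyFunctor A 0).map ((singleFunctor A 0).map f ≫ e.inv) =
      (i0 X).hom ≫ f ≫ (i0 Y).inv ≫ (homologyFunctor A 0).map e.inv := by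
    intro f
    rw [Functor.map_comp, ← Category.assoc, ← Category.assoc, ← i0_naturality, Category.assoc,
      Category.assoc, Iso.hom_inv_id_assoc]
  have hβ : ∀ x : (singleFunctor A 0).obj X ⟶ G, ∃ f : X ⟶ Y,
      x = (singleFunctor A 0).map f ≫ e.inv := by
    intro x
    obtain ⟨f, hf⟩ := (singleFunctor A 0).map_surjective (x ≫ e.hom)
    exact ⟨f, by rw [hf, Category.assoc, Iso.hom_inv_id, Category.comp_id]⟩
  constructor
  · intro x x' hxx'
    obtain ⟨f, rfl⟩ := hβ x
    obtain ⟨f', rfl⟩ := hβ x'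
    have h1 : (homologyFunctor A 0).map ((singleFunctor A 0).map f ≫ e.inv) =
      (homologyFunctor A 0).map ((singleFunctor A 0).map f' ≫ e.inv) := hxx'
    rw [hc, hc] at h1
    have h2 : f = f' := by
      have h3 := (cancel_epi (i0 X).hom).1 h1
      have h4 : IsIso ((i0 Y).inv ≫ (homologyFunctor A 0).map e.inv) := inferInstance
      exact (cancel_mono ((i0 Y).inv ≫ (homologyFunctor A 0).map e.inv)).1 h3
    rw [h2]
  · intro y
    let f : X ⟶ Y := (i0 X).inv ≫ y ≫ (homologyFunctor A 0).map e.hom ≫ (i0 Y).hom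
    refine ⟨(singleFunctor A 0).map f ≫ e.inv, ?_⟩
    change (homologyFunctor A 0).map ((singleFunctor A 0).map f ≫ e.inv) = y
    rw [hc]
    simp only [f, Category.assoc, Iso.hom_inv_id_assoc]
    rw [← Functor.map_comp, Iso.hom_inv_id, CategoryTheory.Functor.map_id, Category.comp_id]

/-- `θ X 0 G` is bijective for `G` in the heart. -/
lemma θ_bijective_of_heart (X : A) (G : DerivedCategory A) [G.IsGE 0] [G.IsLE 0]
    (K : DerivedCategory A) (q : ℤ) (e : K⟦q⟧ ≅ G) : Function.Bijective (θ X q K) := by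
  have h := homology_map_bijective_of_heart X G
  constructor
  · intro x x' hxx'
    have h1 : (homologyFunctor A 0).map x = (homologyFunctor A 0).map x' := by
      have h2 : (i0 X).inv ≫ (homologyFunctor A 0).map x ≫ (ψ q K).hom =
        (i0 X).inv ≫ (homologyFunctor A 0).map x' ≫ (ψ q K).hom := hxx'
      exact (cancel_mono (ψ q K).hom).1 ((cancel_epi (i0 X).inv).1 h2)
    have h3 : x ≫ e.hom = x' ≫ e.hom := by
      apply h.1
      change (homologyFunctor A 0).map (x ≫ e.hom) = (homologyFunctor A 0).map (x' ≫ e.hom)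
      rw [Functor.map_comp, Functor.map_comp, h1]
    exact (cancel_mono e.hom).1 h3
  · intro y
    obtain ⟨x, hx⟩ := h.2 ((i0 X).hom ≫ y ≫ (ψ q K).inv ≫ (homologyFunctor A 0).map e.hom)
    refine ⟨x ≫ e.inv, ?_⟩
    have hx' : (homologyFunctor A 0).map x =
      (i0 X).hom ≫ y ≫ (ψ q K).inv ≫ (homologyFunctor A 0).map e.hom := hx
    rw [θ_apply, Functor.map_comp, hx']
    simp only [Category.assoc, Iso.inv_hom_id_assoc]
    rw [← Functor.map_comp_assoc, Iso.hom_inv_id, CategoryTheory.Functor.map_id, Category.id_comp,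
      Iso.inv_hom_id, Category.comp_id]

end theta

end Groth.Agent.Lib.Helper17.RL8
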