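import Groth.Agent.Lib.Helper17.RL8

/-!
# Bijectivity of `θ` under acyclicity hypotheses (Stacks 21.23.7 pattern)
-/

set_option autoImplicit false
universe w' w v u

open CategoryTheory Limits Opposite Pretriangulated

namespace Groth.Agent.Lib.Helper17.RL9

open Groth.Agent.Lib.Helper17.RL2 Groth.Agent.Lib.Helper17.RL4 Groth.Agent.Lib.Helper17.RL5
open Groth.Agent.Lib.Helper17.RL6 Groth.Agent.Lib.Helper17.RL8

section fam

lemma exists_compatible_family : ∀ (N : ℕ) (A : ℕ → Type u) (f : ∀ n, A (n + 1) → A n)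
    (_ : ∀ n, N ≤ n → Function.Surjective (f n)) (z : A N),
    ∃ x : ∀ n, A n, (∀ n, f n (x (n + 1)) = x n) ∧ x N = z
  | 0, A, f, h, z => by
    choose s hs using fun n => h n (Nat.zero_le n)
    exact ⟨fun n => Nat.rec (motive := fun n => A n) z (fun n xn => s n xn) n,
      fun n => hs n _, rfl⟩
  | N + 1, A, f, h, z => by
    obtain ⟨x', hx', hz⟩ := exists_compatible_family N (fun n => A (n + 1)) (fun n => f (n + 1))
      (fun n hn => h (n + 1) (Nat.succ_le_succ hn)) z
    refine ⟨fun n => Nat.casesOn (motive := fun n => A n) n (f 0 (x' 0)) (fun n => x' n), ?_, hz⟩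
    intro n
    cases n with
    | zero => rfl
    | succ n => exact hx' n

end fam

section M

variable {T : Type*} [Category T] [Preadditive T] [HasZeroObject T] [HasShift T ℤ]
  [∀ n : ℤ, (CategoryTheory.shiftFunctor T n).Additive] [Pretriangulated T]
  {K : ℕ → T} {t : ∀ n, K (n + 1) ⟶ K n} [HasProduct K] {L : T} {a : ∀ n, L ⟶ K n}

theorem rightComp_bijective_of_milnor (hL : CohCx.IsRlimVia K t L a) (M : T) (m : ℤ) (N : ℕ)
    (h1 : CohCx.LimOneIsZero (fun n => (M ⟶ (K n)⟦m - 1⟧))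
      (fun n => Preadditive.rightComp _ ((t n)⟦m - 1⟧')))
    (h2 : ∀ n, N ≤ n → Function.Bijective (Preadditive.rightComp M ((t n)⟦m⟧'))) :
    Function.Bijective (Preadditive.rightComp M ((a N)⟦m⟧')) := by
  constructor
  · rw [injective_iff_map_eq_zero]
    intro y hy
    exact injAt_of_milnor hL M m N h1
      (transition_injective K t M m N (fun n hn => (h2 n hn).1)) y hy
  · intro z
    obtain ⟨x, hx, hz⟩ := exists_compatible_family N (fun n => (M ⟶ (K n)⟦m⟧))
      (fun n x => x ≫ (t n)⟦m⟧') (fun n hn => (h2 n hn).2) z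
    obtain ⟨y, hy⟩ := (Groth.Agent.Lib.Helper5.Milnor.milnor hL M m).1 x hx
    exact ⟨y, (hy N).trans hz⟩

end M


section bij

variable {A : Type (u + 1)} [Category.{u} A] [Abelian A] [HasDerivedCategory.{w} A] [HasExt.{w'} A]

open DerivedCategory DerivedCategory.TStructure

omit [HasExt.{w'} A] in
/-- vanishing of maps `S_0 X ⟶ Y` for `Y ∈ D^{≥ 1}`. -/
lemma hom_eq_zero_of_isGE (X : A) (Y : DerivedCategory A) [Y.IsGE 1]
    (f : (singleFunctor A 0).obj X ⟶ Y) : f = 0 :=
  t.zero f 0 1 (by omega)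

/-- Step (a): `E ⟶ τ_{≥ 0} E` is bijective on `Hom(S_0 X, -[0])`. -/
lemma toTruncTower_zero_bijective (G : DerivedCategory A) [HasProduct (CohCx.truncTower G)]
    (hR : CohCx.IsRlimVia (CohCx.truncTower G) (CohCx.truncTowerMap G) G (CohCx.toTruncTower G))
    (X : A) (hv : VanishAbove.{w'} G X 0) :
    Function.Bijective (Preadditive.rightComp ((singleFunctor A 0).obj X)
      ((CohCx.toTruncTower G 0)⟦(0 : ℤ)⟧')) := by
  have h1 : Function.Bijective (Preadditive.rightComp ((singleFunctor A 0).obj X)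
      ((CohCx.toTruncTower G 1)⟦(0 : ℤ)⟧')) := by
    apply rightComp_bijective_of_milnor hR _ 0 1
    · apply limOne_of_eventually_surjective 1
      intro n hn
      exact (truncTowerMap_bijective.{w'} G X 0 hv (0 - 1) n (by omega)
        (by simp only [Pi.zero_apply]; omega) (by simp only [Pi.zero_apply]; omega)).2
    · intro n hn
      exact truncTowerMap_bijective.{w'} G X 0 hv 0 n (by omega)
        (by simp only [Pi.zero_apply]; omega) (by simp only [Pi.zero_apply]; omega)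
  have h2 : Function.Bijective (Preadditive.rightComp ((singleFunctor A 0).obj X)
      ((CohCx.truncTowerMap G 0)⟦(0 : ℤ)⟧')) :=
    truncTowerMap_bijective.{w'} G X 0 hv 0 0 (by omega)
      (by simp only [Pi.zero_apply]; omega) (by simp only [Pi.zero_apply]; omega)
  have h3 : (Preadditive.rightComp ((singleFunctor A 0).obj X)
      ((CohCx.toTruncTower G 0)⟦(0 : ℤ)⟧') : _ → _) =
      (Preadditive.rightComp ((singleFunctor A 0).obj X) ((CohCx.truncTowerMap G 0)⟦(0 : ℤ)⟧')) ∘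
      (Preadditive.rightComp ((singleFunctor A 0).obj X) ((CohCx.toTruncTower G 1)⟦(0 : ℤ)⟧')) := by
    ext x
    change x ≫ _ = (x ≫ _) ≫ _
    rw [Category.assoc, ← Functor.map_comp, toTruncTower_comp]
  rw [h3]
  exact h2.comp h1

omit [HasExt.{w'} A] in
/-- Step (b): `τ_{<1} G ⟶ G` is bijective on `Hom(S_0 X, -[0])`. -/
lemma truncLTι_one_bijective (G0 : DerivedCategory A) (X : A) :
    Function.Bijective (Preadditive.rightComp ((singleFunctor A 0).obj X)
      (((t.truncLTι 1).app G0)⟦(0 : ℤ)⟧')) := by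
  have hT := inv_rot_of_distTriang _ (t.triangleLTGE_distinguished 1 G0)
  have hGE : ((t.truncGE 1).obj G0).IsGE 1 := inferInstance
  have hv0 : ∀ f : (singleFunctor A 0).obj X ⟶
      (((t.triangleLTGE 1).obj G0).invRotate.obj₁)⟦(0 : ℤ)⟧, f = 0 := by
    intro f
    change (singleFunctor A 0).obj X ⟶ (((t.truncGE 1).obj G0)⟦(-1 : ℤ)⟧)⟦(0 : ℤ)⟧ at f
    have h1 : (((t.truncGE 1).obj G0)⟦(-1 : ℤ)⟧).IsGE 2 :=
      t.isGE_shift _ 1 (-1) 2 (by omega)
    have h2 : ((((t.truncGE 1).obj G0)⟦(-1 : ℤ)⟧)⟦(0 : ℤ)⟧).IsGE 2 :=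
      t.isGE_shift _ 2 0 2 (by omega)
    have h3 : ((((t.truncGE 1).obj G0)⟦(-1 : ℤ)⟧)⟦(0 : ℤ)⟧).IsGE 1 :=
      t.isGE_of_ge _ 1 2 (by omega)
    exact hom_eq_zero_of_isGE X _ f
  have hv1 : ∀ f : (singleFunctor A 0).obj X ⟶
      (((t.triangleLTGE 1).obj G0).invRotate.obj₁)⟦(0 + 1 : ℤ)⟧, f = 0 := by
    intro f
    change (singleFunctor A 0).obj X ⟶ (((t.truncGE 1).obj G0)⟦(-1 : ℤ)⟧)⟦(0 + 1 : ℤ)⟧ at f
    have h1 : (((t.truncGE 1).obj G0)⟦(-1 : ℤ)⟧).IsGE 2 :=
      t.isGE_shift _ 1 (-1) 2 (by omega)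
    have h3 : ((((t.truncGE 1).obj G0)⟦(-1 : ℤ)⟧)⟦(0 + 1 : ℤ)⟧).IsGE 1 :=
      t.isGE_shift _ 2 (0 + 1) 1 (by omega)
    exact hom_eq_zero_of_isGE X _ f
  exact ⟨rightComp_injective_of_distTriang _ hT _ 0 hv0,
    rightComp_surjective_of_distTriang _ hT _ 0 (0 + 1) rfl hv1⟩

lemma rightComp_iso_bijective {D : Type*} [Category D] [Preadditive D] {X Y Z : D} (f : Y ⟶ Z)
    [IsIso f] : Function.Bijective (fun x : X ⟶ Y => x ≫ f) := by
  constructor
  · intro x y hxy
    exact (cancel_mono f).1 hxy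
  · intro z
    exact ⟨z ≫ inv f, by simp⟩

/-- **Main**: `θ X 0 G` is bijective when `G` is the derived limit of its truncations and the
cohomology sheaves of `G` are `Ext(X, -)`-acyclic. -/
theorem θ_zero_bijective (G : DerivedCategory A) [HasProduct (CohCx.truncTower G)]
    (hR : CohCx.IsRlimVia (CohCx.truncTower G) (CohCx.truncTowerMap G) G (CohCx.toTruncTower G))
    (X : A) (hv : VanishAbove.{w'} G X 0) : Function.Bijective (θ X 0 G) := by
  let G0 := CohCx.truncTower G 0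
  let F := (t.truncLT 1).obj G0
  have hF1 : F.IsLE 0 := t.isLE_truncLT_obj G0 1 0 (by omega)
  have hF2 : F.IsGE 0 := by
    have : G0.IsGE 0 := by
      dsimp [G0, CohCx.truncTower]
      exact t.isGE_truncGE_obj G (-((0 : ℕ) : ℤ)) 0 (by simp)
    dsimp [F]
    infer_instance
  -- θ for F
  have hθF : Function.Bijective (θ X 0 F) :=
    θ_bijective_of_heart X F F 0 ((shiftFunctorZero (DerivedCategory A) ℤ).app F)
  -- θ for G0
  have hι : IsIso ((homologyFunctor A 0).map ((t.truncLTι 1).app G0)) :=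
    isIso_homology_truncLTι G0 1 0 (by omega)
  have hθG0 : Function.Bijective (θ X 0 G0) := by
    have hsq : (θ X 0 G0 : _ → _) ∘ (Preadditive.rightComp ((singleFunctor A 0).obj X)
        (((t.truncLTι 1).app G0)⟦(0 : ℤ)⟧')) =
        (fun y => y ≫ (homologyFunctor A 0).map ((t.truncLTι 1).app G0)) ∘ (θ X 0 F) := by
      ext x
      exact θ_naturality X 0 ((t.truncLTι 1).app G0) x
    have h1 : Function.Bijective ((θ X 0 G0 : _ → _) ∘ (Preadditive.rightComp
        ((singleFunctor A 0).obj X) (((t.truncLTι 1).app G0)⟦(0 : ℤ)⟧'))) := by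
      rw [hsq]
      exact (rightComp_iso_bijective _).comp hθF
    exact (Function.Bijective.of_comp_iff _ (truncLTι_one_bijective G0 X)).1 h1
  -- θ for G
  have hπ : IsIso ((homologyFunctor A 0).map (CohCx.toTruncTower G 0)) := by
    dsimp [CohCx.toTruncTower]
    exact isIso_homology_truncGEπ G (-((0 : ℕ) : ℤ)) 0 (by simp)
  have hsq : (θ X 0 G0 : _ → _) ∘ (Preadditive.rightComp ((singleFunctor A 0).obj X)
      ((CohCx.toTruncTower G 0)⟦(0 : ℤ)⟧')) =
      (fun y => y ≫ (homologyFunctor A 0).map (CohCx.toTruncTower G 0)) ∘ (θ X 0 G) := by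
    ext x
    exact θ_naturality X 0 (CohCx.toTruncTower G 0) x
  have h1 : Function.Bijective ((fun y : X ⟶ (homologyFunctor A 0).obj G =>
      y ≫ (homologyFunctor A 0).map (CohCx.toTruncTower G 0)) ∘ (θ X 0 G)) := by
    rw [← hsq]
    exact hθG0.comp (toTruncTower_zero_bijective.{w'} G hR X hv)
  exact (Function.Bijective.of_comp_iff' (rightComp_iso_bijective _) _).1 h1

end bij

end Groth.Agent.Lib.Helper17.RL9
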