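import Mathlib
import Groth.Agent.Lib.Helper17.SheafHomRestr
import Groth.Agent.Lib.Helper17.RpushRes

/-!
# Relative Ext sheaves commute with restriction to opens of the base
-/

set_option autoImplicit false

universe u

open CategoryTheory Limits AlgebraicGeometry

namespace Groth.Agent.Lib.Helper17.SheafHomRestr

noncomputable section

variable {X Y : Scheme.{u}} (f : X ⟶ Y) (W : Y.Opens) (F : X.Modules)

theorem relExtRestrIso (G : X.Modules) (p : ℕ)
    [ModSite.HasSheafHom (O := X.sheaf) F] [HasInjectiveResolutions (ModSite.Mod X.sheaf)]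
    [(ModSite.sheafHom (O := X.sheaf) F ⋙ Scheme.Modules.pushforward f).Additive]
    [ModSite.HasSheafHom (O := (↑(f ⁻¹ᵁ W) : Scheme.{u}).sheaf)
      ((Scheme.Modules.restrictFunctor (f ⁻¹ᵁ W).ι).obj F)]
    [HasInjectiveResolutions (ModSite.Mod (↑(f ⁻¹ᵁ W) : Scheme.{u}).sheaf)]
    [(ModSite.sheafHom (O := (↑(f ⁻¹ᵁ W) : Scheme.{u}).sheaf)
      ((Scheme.Modules.restrictFunctor (f ⁻¹ᵁ W).ι).obj F) ⋙
        Scheme.Modules.pushforward (f ∣_ W)).Additive] :
    Nonempty ((Scheme.Modules.restrictFunctor W.ι).obj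
      (((ModSite.sheafHom (O := X.sheaf) F ⋙ Scheme.Modules.pushforward f).rightDerived p).obj G) ≅
      ((ModSite.sheafHom (O := (↑(f ⁻¹ᵁ W) : Scheme.{u}).sheaf)
        ((Scheme.Modules.restrictFunctor (f ⁻¹ᵁ W).ι).obj F) ⋙
          Scheme.Modules.pushforward (f ∣_ W)).rightDerived p).obj
        ((Scheme.Modules.restrictFunctor (f ⁻¹ᵁ W).ι).obj G)) := by
  let V : X.Opens := f ⁻¹ᵁ W
  let RV : X.Modules ⥤ (V : Scheme.{u}).Modules := Scheme.Modules.restrictFunctor V.ι
  let RW : Y.Modules ⥤ (W : Scheme.{u}).Modules := Scheme.Modules.restrictFunctor W.ι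
  let T : X.Modules ⥤ X.Modules := ModSite.sheafHom (O := X.sheaf) F
  let T' : (V : Scheme.{u}).Modules ⥤ (V : Scheme.{u}).Modules :=
    ModSite.sheafHom (O := (V : Scheme.{u}).sheaf) (RV.obj F)
  let P : X.Modules ⥤ Y.Modules := Scheme.Modules.pushforward f
  let P' : (V : Scheme.{u}).Modules ⥤ (W : Scheme.{u}).Modules :=
    Scheme.Modules.pushforward (f ∣_ W)
  haveI : (T ⋙ P).Additive := ‹_›
  haveI : (T' ⋙ P').Additive := ‹_›
  haveI : RV.Additive := (Scheme.Modules.restrictAdjunction V.ι).left_adjoint_additive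
  haveI : RW.Additive := (Scheme.Modules.restrictAdjunction W.ι).left_adjoint_additive
  haveI : HasInjectiveResolutions X.Modules := ‹HasInjectiveResolutions (ModSite.Mod X.sheaf)›
  haveI : HasInjectiveResolutions (V : Scheme.{u}).Modules :=
    ‹HasInjectiveResolutions (ModSite.Mod (↑(f ⁻¹ᵁ W) : Scheme.{u}).sheaf)›
  haveI : RV.PreservesInjectiveObjects :=
    Functor.preservesInjectiveObjects_of_adjunction_of_preservesMonomorphisms
      (CxOX.extZeroAdj V.ι)
  let e : (T ⋙ P) ⋙ RW ≅ RV ⋙ (T' ⋙ P') :=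
    Functor.associator T P RW ≪≫
      Functor.isoWhiskerLeft T (Groth.Agent.Lib.Helper17.RpushRes.θ f W) ≪≫
      (Functor.associator T RV P').symm ≪≫
      Functor.isoWhiskerRight (sheafHomRestrIso V F) P' ≪≫
      Functor.associator RV T' P'
  exact ⟨((Groth.Agent.Lib.Helper5.RDPost.rightDerivedPostIso (T ⋙ P) RW p).symm.app G) ≪≫
    ((Groth.Agent.Lib.Helper22.DimShift.rightDerivedIsoOfNatIso e p).app G) ≪≫
    ((Groth.Agent.Lib.Helper5.RDComp.rightDerivedCompIso RV (T' ⋙ P') p).app G)⟩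

end

end Groth.Agent.Lib.Helper17.SheafHomRestr
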