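import Groth.Agent.Lib.Helper17.RL6
import Groth.Agent.Lib.Helper17.RL9
import Groth.Agent.Lib.Helper17.DerKInj

/-!
# Abstract "site generators" in an abelian category

`SiteGens J A`: a family of objects `G U` of an abelian category `A` indexed by the objects of a site
`(C, J)`, functorial in `U`, such that morphisms out of `G U` behave like sections over `U` of a sheaf:
they lift locally along epimorphisms, vanish if they vanish on a covering sieve, and the `G U` generate.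

For such a family we prove the local criteria for injectivity/surjectivity of maps on cohomology objects
of the derived category in terms of `Hom(S_0 (G U), -[m])` (Stacks 21.23.5 pattern), abstracting
`RL1`/`RL2`/`RL6`.
-/

set_option autoImplicit false
universe w' w v u v' u'

open CategoryTheory Limits Opposite

namespace Groth.Agent.Lib.Helper17.SG1

open Groth.Agent.Lib.Helper17.HDU1 Groth.Agent.Lib.Helper17.RL1

/-- Site generators. -/
structure SiteGens {C : Type u} [Category.{v} C] (J : GrothendieckTopology C)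
    (A : Type u') [Category.{v'} A] [Abelian A] where
  /-- the generator attached to an object -/
  G : C → A
  /-- functoriality -/
  Gm : ∀ {U V : C}, (V ⟶ U) → (G V ⟶ G U)
  Gm_comp : ∀ {U V W : C} (g : V ⟶ U) (g' : W ⟶ V), Gm (g' ≫ g) = Gm g' ≫ Gm g
  lift : ∀ {F F' : A} (π : F ⟶ F') [Epi π] {U : C} (σ : G U ⟶ F'),
    ∃ S ∈ J U, ∀ ⦃Y : C⦄ (g : Y ⟶ U), S g → ∃ τ : G Y ⟶ F, τ ≫ π = Gm g ≫ σ
  sep : ∀ {F : A} {U : C} (σ : G U ⟶ F) (S : Sieve U), S ∈ J U →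
    (∀ ⦃Y : C⦄ (g : Y ⟶ U), S g → Gm g ≫ σ = 0) → σ = 0
  gen : ∀ {F F' : A} (f : F ⟶ F'), (∀ (U : C) (σ : G U ⟶ F), σ ≫ f = 0) → f = 0

section basic

variable {C : Type u} [Category.{v} C] {J : GrothendieckTopology C}
  {A : Type u'} [Category.{v'} A] [Abelian A] (sg : SiteGens J A)

namespace SiteGens

lemma exists_local_lift_of_exact (S : ShortComplex A) (hS : S.Exact)
    {U : C} (τ : sg.G U ⟶ S.X₂) (hτ : τ ≫ S.g = 0) :
    ∃ T ∈ J U, ∀ ⦃Y : C⦄ (g : Y ⟶ U), T g → ∃ ρ : sg.G Y ⟶ S.X₁, ρ ≫ S.f = sg.Gm g ≫ τ := by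
  have : Epi S.toCycles := (S.exact_iff_epi_toCycles).1 hS
  obtain ⟨T, hT, h⟩ := sg.lift S.toCycles (S.liftCycles τ hτ)
  refine ⟨T, hT, fun Y g hg => ?_⟩
  obtain ⟨ρ, hρ⟩ := h g hg
  refine ⟨ρ, ?_⟩
  have := congrArg (fun x => x ≫ S.iCycles) hρ
  simpa using this

lemma mono_of {F F' : A} (φ : F ⟶ F')
    (h : ∀ (U : C) (σ : sg.G U ⟶ F), σ ≫ φ = 0 → σ = 0) : Mono φ := by
  apply Preadditive.mono_of_cancel_zero
  intro P g hg
  apply sg.gen
  intro U σ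
  apply h
  rw [Category.assoc, hg, comp_zero]

lemma epi_of_local_lift {F F' : A} (φ : F ⟶ F')
    (h : ∀ (U : C) (σ : sg.G U ⟶ F'), ∃ S ∈ J U, ∀ ⦃Y : C⦄ (g : Y ⟶ U), S g →
      ∃ ρ : sg.G Y ⟶ F, ρ ≫ φ = sg.Gm g ≫ σ) : Epi φ := by
  apply Preadditive.epi_of_cancel_zero
  intro P g hg
  apply sg.gen
  intro U σ
  obtain ⟨S, hS, hS'⟩ := h U σ
  apply sg.sep _ S hS
  intro Y k hk
  obtain ⟨ρ, hρ⟩ := hS' k hk
  rw [← Category.assoc, ← hρ, Category.assoc, hg, comp_zero]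

variable (I : CochainComplex A ℤ) (m : ℤ)

lemma exists_local_hcls {U : C} (σ : sg.G U ⟶ I.homology m) :
    ∃ S ∈ J U, ∀ ⦃Y : C⦄ (g : Y ⟶ U), S g →
      ∃ (f : sg.G Y ⟶ I.X m) (hf : f ≫ I.d m (m + 1) = 0), sg.Gm g ≫ σ = hcls I m f hf := by
  obtain ⟨S, hS, h⟩ := sg.lift (I.homologyπ m) σ
  refine ⟨S, hS, fun Y g hg => ?_⟩
  obtain ⟨τ, hτ⟩ := h g hg
  refine ⟨τ ≫ I.iCycles m, by simp, ?_⟩
  rw [← hτ]
  unfold hcls
  congr 1
  rw [← cancel_mono (I.iCycles m)]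
  simp

lemma exists_local_boundary {U : C} (f : sg.G U ⟶ I.X m) (hf : f ≫ I.d m (m + 1) = 0)
    (h : hcls I m f hf = 0) :
    ∃ S ∈ J U, ∀ ⦃Y : C⦄ (g : Y ⟶ U), S g →
      ∃ w : sg.G Y ⟶ I.X (m - 1), w ≫ I.d (m - 1) m = sg.Gm g ≫ f := by
  obtain ⟨S, hS, h'⟩ := sg.exists_local_lift_of_exact _ (exact_toCycles_homologyπ I m)
    (I.liftCycles f (m + 1) (by simp) hf) h
  refine ⟨S, hS, fun Y g hg => ?_⟩
  obtain ⟨ρ, hρ⟩ := h' g hg
  refine ⟨ρ, ?_⟩
  have := congrArg (fun x => x ≫ I.iCycles m) hρ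
  simpa using this

end SiteGens

end basic

section hclsadd

variable {A : Type*} [Category A] [Abelian A] (I : CochainComplex A ℤ) (m : ℤ)

lemma hcls_add {M : A} (f g : M ⟶ I.X m) (hf : f ≫ I.d m (m + 1) = 0)
    (hg : g ≫ I.d m (m + 1) = 0) :
    hcls I m (f + g) (by rw [Preadditive.add_comp, hf, hg, add_zero]) =
      hcls I m f hf + hcls I m g hg := by
  unfold hcls
  have h : I.liftCycles (f + g) (m + 1) (by simp)
      (by rw [Preadditive.add_comp, hf, hg, add_zero]) =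
      I.liftCycles f (m + 1) (by simp) hf + I.liftCycles g (m + 1) (by simp) hg := by
    rw [← cancel_mono (I.iCycles m)]
    simp
  rw [h, Preadditive.add_comp]

lemma hcls_eq_of_boundary {M : A} (x f' : M ⟶ I.X m) (hx : x ≫ I.d m (m + 1) = 0)
    (hf' : f' ≫ I.d m (m + 1) = 0) (w : M ⟶ I.X (m - 1)) (h1 : x = f' + w ≫ I.d (m - 1) m) :
    hcls I m x hx = hcls I m f' hf' := by
  subst h1
  rw [hcls_add I m f' _ hf' (by rw [Category.assoc, I.d_comp_d, comp_zero]),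
    hcls_eq_zero_of_boundary I m _ _ _ rfl, add_zero]

end hclsadd

section derived

variable {A : Type u'} [Category.{v'} A] [Abelian A] [HasDerivedCategory.{w} A]

open DerivedCategory

/-- `φ` is injective on `Hom(S_0 X, -[m])`. -/
def InjAt {L K : DerivedCategory A} (φ : L ⟶ K) (m : ℤ) (X : A) : Prop :=
  ∀ y : (singleFunctor A 0).obj X ⟶ L⟦m⟧, y ≫ φ⟦m⟧' = 0 → y = 0

/-- `φ` is surjective on `Hom(S_0 X, -[m])`. -/
def SurjAt {L K : DerivedCategory A} (φ : L ⟶ K) (m : ℤ) (X : A) : Prop :=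
  ∀ z : (singleFunctor A 0).obj X ⟶ K⟦m⟧, ∃ y : (singleFunctor A 0).obj X ⟶ L⟦m⟧, y ≫ φ⟦m⟧' = z

lemma InjAt.of_iso {L K L' K' : DerivedCategory A} {φ : L ⟶ K}
    {m : ℤ} {X : A} (h : InjAt φ m X) (eL : L ≅ L') (eK : K ≅ K') (φ' : L' ⟶ K')
    (hφ : φ' = eL.inv ≫ φ ≫ eK.hom) : InjAt φ' m X := by
  intro y hy
  have h1 : (y ≫ eL.inv⟦m⟧') ≫ φ⟦m⟧' = 0 := by
    have h2 : eL.inv ≫ φ = φ' ≫ eK.inv := by rw [hφ]; simp
    rw [Category.assoc, ← Functor.map_comp, h2, Functor.map_comp, reassoc_of% hy, zero_comp]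
  have h3 := h _ h1
  have h4 : y = (y ≫ eL.inv⟦m⟧') ≫ eL.hom⟦m⟧' := by
    rw [Category.assoc, ← Functor.map_comp, Iso.inv_hom_id, CategoryTheory.Functor.map_id,
      Category.comp_id]
  rw [h4, h3, zero_comp]

lemma SurjAt.of_iso {L K L' K' : DerivedCategory A} {φ : L ⟶ K}
    {m : ℤ} {X : A} (h : SurjAt φ m X) (eL : L ≅ L') (eK : K ≅ K') (φ' : L' ⟶ K')
    (hφ : φ' = eL.inv ≫ φ ≫ eK.hom) : SurjAt φ' m X := by
  intro z
  obtain ⟨y, hy⟩ := h (z ≫ eK.inv⟦m⟧')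
  refine ⟨y ≫ eL.hom⟦m⟧', ?_⟩
  have h2 : eL.hom ≫ φ' = φ ≫ eK.hom := by rw [hφ]; simp
  rw [Category.assoc, ← Functor.map_comp, h2, Functor.map_comp, reassoc_of% hy,
    ← Functor.map_comp, Iso.inv_hom_id, CategoryTheory.Functor.map_id, Category.comp_id]

lemma injAt_of_bijective {L K : DerivedCategory A} (φ : L ⟶ K) (m : ℤ) (X : A)
    (h : Function.Injective (Preadditive.rightComp ((singleFunctor A 0).obj X) (φ⟦m⟧'))) :
    InjAt φ m X := by
  intro y hy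
  apply h
  change y ≫ φ⟦m⟧' = 0 ≫ φ⟦m⟧'
  rw [hy, zero_comp]

lemma surjAt_of_surjective {L K : DerivedCategory A} (φ : L ⟶ K) (m : ℤ) (X : A)
    (h : Function.Surjective (Preadditive.rightComp ((singleFunctor A 0).obj X) (φ⟦m⟧'))) :
    SurjAt φ m X := fun z => h z

lemma boundary_of_injAt (IL IK : CochainComplex A ℤ) [IL.IsKInjective]
    [IK.IsKInjective] (ψ : IL ⟶ IK) (m : ℤ) (X : A) (hinj : InjAt (Q.map ψ) m X)
    (z : X ⟶ IL.X m) (hz : z ≫ IL.d m (m + 1) = 0)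
    (w : X ⟶ IK.X (m - 1)) (hw : w ≫ IK.d (m - 1) m = z ≫ ψ.f m) :
    ∃ g : X ⟶ IL.X (m - 1), g ≫ IL.d (m - 1) m = z := by
  have h1 : clsD IL m z hz ≫ (Q.map ψ)⟦m⟧' = 0 := by
    rw [clsD_postcomp]
    exact (clsD_eq_zero_iff IK m _ _).2 ⟨w, hw⟩
  have h2 := hinj _ h1
  exact (clsD_eq_zero_iff IL m z hz).1 h2

/-- lifting a cocycle along a morphism surjective on `Hom(S_0 X, -[m])`, up to a coboundary. -/
lemma lift_of_surjAt (IL IK : CochainComplex A ℤ) [IL.IsKInjective]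
    [IK.IsKInjective] (ψ : IL ⟶ IK) (m : ℤ) (X : A) (hsurj : SurjAt (Q.map ψ) m X)
    (z : X ⟶ IK.X m) (hz : z ≫ IK.d m (m + 1) = 0) :
    ∃ (f : X ⟶ IL.X m) (_ : f ≫ IL.d m (m + 1) = 0) (w : X ⟶ IK.X (m - 1)),
      f ≫ ψ.f m = z + w ≫ IK.d (m - 1) m := by
  obtain ⟨y, hy⟩ := hsurj (clsD IK m z hz)
  obtain ⟨f, hf, rfl⟩ := clsD_surjective IL m y
  rw [clsD_postcomp] at hy
  have hz' : (f ≫ ψ.f m - z) ≫ IK.d m (m + 1) = 0 := by
    rw [Preadditive.sub_comp, hz, Category.assoc, ψ.comm, reassoc_of% hf, zero_comp, sub_zero]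
  have h0 : clsD IK m (f ≫ ψ.f m - z) hz' = 0 := by
    have h1 := clsD_add IK m z (f ≫ ψ.f m - z) hz hz'
    have h2 : clsD IK m (z + (f ≫ ψ.f m - z)) (by rw [Preadditive.add_comp, hz, hz', add_zero]) =
        clsD IK m (f ≫ ψ.f m) (by rw [Category.assoc, ψ.comm, reassoc_of% hf, zero_comp]) := by
      congr 1
      abel
    rw [h2, hy] at h1
    exact (add_eq_left.1 h1.symm)
  obtain ⟨w, hw⟩ := (clsD_eq_zero_iff IK m _ hz').1 h0
  refine ⟨f, hf, w, ?_⟩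
  rw [hw]
  abel

end derived

section kinj

variable {A : Type u'} [Category.{v'} A] [Abelian A] [IsGrothendieckAbelian.{v'} A]
  [HasDerivedCategory.{w} A]

open Groth.Agent.Lib.Helper17.DerKInj in
/-- every object of the derived category of a Grothendieck abelian category is represented by a
K-injective complex. -/
lemma exists_kInjective_iso (K : DerivedCategory A) :
    ∃ (I : CochainComplex A ℤ), I.IsKInjective ∧ Nonempty (K ≅ DerivedCategory.Q.obj I) := by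
  let M := DerivedCategory.Q.objPreimage K
  let eM : DerivedCategory.Q.obj M ≅ K := DerivedCategory.Q.objObjPreimageIso K
  obtain ⟨I, f, hI, hf⟩ := (hasKInjRes_of_isGrothendieckAbelian : HasKInjRes A) M
  have := hf
  exact ⟨I, hI, ⟨eM.symm ≪≫ asIso (DerivedCategory.Q.map f)⟩⟩

end kinj

end Groth.Agent.Lib.Helper17.SG1
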