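import Groth.Agent.Lib.Helper17.SG9
import Groth.Agent.Lib.Helper17.LM6
import Groth.Agent.Lib.Helper17.ModSiteColim

/-!
# The Milnor sequence for `H^{p+1}(X, lim G_n)` of a tower of quasi-coherent modules with surjective
transition maps
-/

set_option autoImplicit false
universe u

open CategoryTheory Limits Opposite Abelian AlgebraicGeometry

namespace Groth.Agent.Lib.Helper17.SG10

open Groth.Agent.Lib.Helper17.SG1 Groth.Agent.Lib.Helper17.SG3 Groth.Agent.Lib.Helper17.SG7
open Groth.Agent.Lib.Helper17.SG9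
open Groth.Agent.Lib.Helper20.FreeSheaf

section sections

variable {C : Type u} [SmallCategory C] {J : GrothendieckTopology C} (R : Sheaf J RingCat.{u})

/-- if maps out of `R[h_U]^#` lift along `φ`, then `φ` is surjective on sections over `U`. -/
lemma surjective_sections_of_lift {M N : SheafOfModules.{u} R} (φ : M ⟶ N) (U : C)
    (h : ∀ g : GR R U ⟶ N, ∃ g' : GR R U ⟶ M, g' ≫ φ = g) :
    Function.Surjective (((SheafOfModules.toSheaf R).map φ).hom.app (op U)).hom := by
  intro s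
  obtain ⟨σ, hσ⟩ := (β_bijective R (yoneda.obj U) N).2
    ((a J U ((SheafOfModules.toSheaf R).obj N)).symm s)
  obtain ⟨g', hg'⟩ := h σ
  refine ⟨a J U _ (β R (yoneda.obj U) M g'), ?_⟩
  have h1 := a_nat J U (β R (yoneda.obj U) M g') ((SheafOfModules.toSheaf R).map φ)
  rw [← β_comp, hg', hσ, Equiv.apply_symm_apply] at h1
  exact h1.symm

end sections

section algebra

/-- packaging the Milnor sequence. -/
lemma exists_milnor_maps {G0 : Type u} [AddCommGroup G0] {Gi Gj : ℕ → Type u}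
    [∀ n, AddCommGroup (Gi n)] [∀ n, AddCommGroup (Gj n)]
    (P : ∀ n, G0 →+ Gi n) (Ti : ∀ n, Gi (n + 1) →+ Gi n) (Tj : ∀ n, Gj (n + 1) →+ Gj n)
    (hPT : ∀ n x, Ti n (P (n + 1) x) = P n x)
    (h1 : ∀ ξ : ∀ n, Gi n, (∀ n, Ti n (ξ (n + 1)) = ξ n) → ∃ η : G0, ∀ n, P n η = ξ n)
    (h2 : Nonempty ((AddMonoidHom.pi P).ker ≃+ Formal2.limOne Gj Tj)) :
    ∃ (α : Formal2.limOne Gj Tj →+ G0) (β : G0 →+ Formal2.limZero Gi Ti),
      Function.Injective α ∧ Function.Surjective β ∧ α.range = β.ker ∧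
      ∀ (x : G0) (n : ℕ), (β x : ∀ n, Gi n) n = P n x := by
  obtain ⟨e⟩ := h2
  let β : G0 →+ Formal2.limZero Gi Ti :=
    (AddMonoidHom.pi P).codRestrict (Formal2.limZero Gi Ti) (fun x => by
      rw [AddMonoidHom.mem_ker]
      funext n
      change P n x - Ti n (P (n + 1) x) = 0
      rw [hPT, sub_self])
  have hker : β.ker = (AddMonoidHom.pi P).ker := by
    ext x
    rw [AddMonoidHom.mem_ker, AddMonoidHom.mem_ker]
    constructor
    · intro h
      exact congrArg Subtype.val h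
    · intro h
      exact Subtype.ext h
  refine ⟨(AddMonoidHom.pi P).ker.subtype.comp e.symm.toAddMonoidHom, β, ?_, ?_, ?_,
    fun x n => rfl⟩
  · intro x y hxy
    exact e.symm.injective (Subtype.ext hxy)
  · intro ξ
    obtain ⟨η, hη⟩ := h1 ξ.1 (fun n => by
      have h3 := congrFun (AddMonoidHom.mem_ker.1 ξ.2) n
      change ξ.1 n - Ti n (ξ.1 (n + 1)) = 0 at h3
      exact (sub_eq_zero.1 h3).symm)
    exact ⟨η, Subtype.ext (funext hη)⟩
  · rw [hker]
    ext x
    constructor
    · rintro ⟨y, rfl⟩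
      exact (e.symm y).2
    · intro hx
      exact ⟨e ⟨x, hx⟩, by simp⟩

end algebra

end Groth.Agent.Lib.Helper17.SG10
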