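import Groth.Agent.Lib.Helper17.SG10
import Groth.Agent.Lib.Helper17.LM4
import Groth.Prelude.Def_Formal2

/-!
# The Milnor sequence for the cohomology of a limit of a tower of quasi-coherent modules
-/


set_option autoImplicit false
universe u

open CategoryTheory Limits Opposite Abelian AlgebraicGeometry
open Groth.Agent.Lib.Helper17.SG1 Groth.Agent.Lib.Helper17.SG3 Groth.Agent.Lib.Helper17.SG7
open Groth.Agent.Lib.Helper17.SG9 Groth.Agent.Lib.Helper17.SG10

namespace Groth.Agent.Lib.Helper17.SG11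

section ext

variable {C : Type*} [Category C] [Abelian C] [HasExt C]

/-- `Ext` groups of isomorphic objects. -/
noncomputable def extIsoEquiv (A : C) {X Y : C} (e : X ≅ Y) (n : ℕ) : Ext A X n ≃+ Ext A Y n where
  toFun x := x.comp (Ext.mk₀ e.hom) (add_zero n)
  invFun y := y.comp (Ext.mk₀ e.inv) (add_zero n)
  left_inv x := by
    simp only
    rw [Ext.comp_assoc_of_third_deg_zero, Ext.mk₀_comp_mk₀, e.hom_inv_id, Ext.comp_mk₀_id]
  right_inv x := by
    simp only
    rw [Ext.comp_assoc_of_third_deg_zero, Ext.mk₀_comp_mk₀, e.inv_hom_id, Ext.comp_mk₀_id]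
  map_add' x y := by simp

lemma extIsoEquiv_apply (A : C) {X Y : C} (e : X ≅ Y) (n : ℕ) (x : Ext A X n) :
    extIsoEquiv A e n x = x.comp (Ext.mk₀ e.hom) (add_zero n) := rfl

end ext

section

lemma isoOfEq_hom_π {J C : Type*} [Category J] [Category C] {F G : J ⥤ C} [HasLimit F]
    [HasLimit G] (h : F = G) (j : J) :
    (HasLimit.isoOfNatIso (eqToIso h)).hom ≫ limit.π G j =
      limit.π F j ≫ eqToHom (by rw [h]) := by
  subst h
  simp

lemma preservesLimitIso_isoOfEq_π {J C D : Type*} [Category J] [Category C] [Category D]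
    (Φ : C ⥤ D) (G : J ⥤ C) [HasLimit G] [PreservesLimit G Φ] (G' : J ⥤ D) [HasLimit G']
    (h : G ⋙ Φ = G') (j : J) :
    ((preservesLimitIso Φ G).hom ≫ (HasLimit.isoOfNatIso (eqToIso h)).hom) ≫ limit.π G' j =
      Φ.map (limit.π G j) ≫ eqToHom (by rw [← h]; rfl) := by
  subst h
  simp

end

section sheaf

variable {C : Type u} [SmallCategory C] {J : GrothendieckTopology C}

/-- Milnor sequence for sheaf cohomology of a limit of a tower, for a limit given up to
isomorphism. -/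
theorem milnor_sheaf_tower (F : ℕ → Sheaf J AddCommGrpCat.{u}) (t : ∀ n, F (n + 1) ⟶ F n)
    (B : Set C)
    (hB : ∀ U : C, ∃ (ι : Type u) (Y : ι → C) (f : ∀ i, Y i ⟶ U),
      Sieve.ofArrows Y f ∈ J U ∧ ∀ i, Y i ∈ B)
    (h1 : ∀ U ∈ B, ∀ (p n : ℕ), Subsingleton (CohSite.HU (F n) (p + 1) U))
    (h2 : ∀ U ∈ B, ∀ n, Function.Surjective ((t n).hom.app (op U)).hom)
    (L : Sheaf J AddCommGrpCat.{u}) (π : ∀ n, L ⟶ F n)
    (ψ : L ≅ limit (Functor.ofOpSequence t))
    (hψ : ∀ n, ψ.hom ≫ Groth.Agent.Lib.Helper17.LM2.pr F t n = π n)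
    (i j : ℕ) (hij : j + 1 = i) :
    (∀ ξ : ∀ n, Sheaf.H.{u} (F n) i, (∀ n, Sheaf.H.map (t n) i (ξ (n + 1)) = ξ n) →
      ∃ η : Sheaf.H.{u} L i, ∀ n, Sheaf.H.map (π n) i η = ξ n) ∧
    Nonempty ((AddMonoidHom.pi (fun n => Sheaf.H.map (π n) i)).ker ≃+
      Formal2.limOne (fun n => Sheaf.H.{u} (F n) j) (fun n => Sheaf.H.map (t n) j)) := by
  exact Groth.Agent.Lib.Helper17.LM5.milnor_abstract F t B hB h1 h2
    ((constantSheaf J AddCommGrpCat.{u}).obj (AddCommGrpCat.of (ULift ℤ))) i j hij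
    (Sheaf.H.{u} L i) (fun n => Sheaf.H.{u} (F n) i) (fun n => Sheaf.H.{u} (F n) j)
    ((Groth.Agent.Lib.Helper17.LM6.eH L i).trans (extIsoEquiv _ ψ i))
    (fun n => Groth.Agent.Lib.Helper17.LM6.eH (F n) i)
    (fun n => Groth.Agent.Lib.Helper17.LM6.eH (F n) j)
    (fun n => Sheaf.H.map (π n) i)
    (fun n x => by
      rw [Groth.Agent.Lib.Helper17.LM6.eH_map]
      change _ = (((Groth.Agent.Lib.Helper17.LM6.eH L i) x).comp
        (Ext.mk₀ ψ.hom) (add_zero _)).comp _ _
      rw [Ext.comp_assoc_of_third_deg_zero, Ext.mk₀_comp_mk₀, hψ])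
    (fun n => Sheaf.H.map (t n) i) (fun n x => Groth.Agent.Lib.Helper17.LM6.eH_map _ _ _)
    (fun n => Sheaf.H.map (t n) j) (fun n x => Groth.Agent.Lib.Helper17.LM6.eH_map _ _ _)

end sheaf

section scheme

variable (X : Scheme.{u})

/-- the forgetful functor to abelian sheaves. -/
noncomputable abbrev ΦX : X.Modules ⥤ Sheaf (Opens.grothendieckTopology X) AddCommGrpCat.{u} :=
  SheafOfModules.toSheaf.{u} X.ringCatSheaf

instance : PreservesLimitsOfSize.{u, u} (ΦX X) :=
  Groth.Agent.Lib.Helper17.ModSiteColim.toSheaf_preservesLimits X.ringCatSheaf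

instance : PreservesLimitsOfSize.{0, 0} (ΦX X) :=
  preservesLimitsOfSize_shrink.{0, u, 0, u} (ΦX X)

lemma h1_aux (M : X.Modules) [M.IsQuasicoherent] (U : X.Opens) (hU : IsAffineOpen U) (q : ℕ) :
    Subsingleton (CohSite.HU ((ΦX X).obj M) (q + 1) U) := by
  have hs := subsingleton_ext_schemeGens X M U hU q
  obtain ⟨e0⟩ := nonempty_ext_schemeGens_addEquiv X M U (q + 1)
  exact e0.symm.toEquiv.subsingleton

lemma h2_aux {M N : X.Modules} [M.IsQuasicoherent] [N.IsQuasicoherent] (φ : M ⟶ N) [Epi φ]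
    (U : X.Opens) (hU : IsAffineOpen U) :
    Function.Surjective (((ΦX X).map φ).hom.app (op U)).hom :=
  surjective_sections_of_lift X.ringCatSheaf φ U (fun g => exists_lift_of_epi X U hU φ g)

/-- the comparison isomorphism. -/
noncomputable def ψX (G : ℕᵒᵖ ⥤ X.Modules) :
    (ΦX X).obj (limit G) ≅ limit (Functor.ofOpSequence
      (X := fun n => (ΦX X).obj (G.obj (op n)))
      (fun n => (ΦX X).map (G.map (homOfLE (Nat.le_succ n)).op))) :=
  preservesLimitIso (ΦX X) G ≪≫ HasLimit.isoOfNatIso (eqToIso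
    (Groth.Agent.Lib.Helper17.LM4.eq_ofOpSequence (G ⋙ ΦX X)))

lemma ψX_hom_pr (G : ℕᵒᵖ ⥤ X.Modules) (n : ℕ) :
    (ψX X G).hom ≫ Groth.Agent.Lib.Helper17.LM2.pr (fun n => (ΦX X).obj (G.obj (op n)))
      (fun n => (ΦX X).map (G.map (homOfLE (Nat.le_succ n)).op)) n =
      (ΦX X).map (limit.π G (op n)) := by
  refine (preservesLimitIso_isoOfEq_π (ΦX X) G _
    (Groth.Agent.Lib.Helper17.LM4.eq_ofOpSequence (G ⋙ ΦX X)) (op n)).trans ?_
  exact Category.comp_id _

/-- the Milnor sequence for a tower of quasi-coherent modules with surjective transition maps. -/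
theorem milnor_qcoh_tower (G : ℕᵒᵖ ⥤ X.Modules) (h1 : ∀ n, (G.obj (op n)).IsQuasicoherent)
    (hepi : ∀ n, Epi (G.map (homOfLE (Nat.le_succ n)).op)) (p : ℕ) :
    ∃ (α : Formal2.limOne (fun n => Coh.HH X (G.obj (op n)) p) (Formal2.HHsysMap G p) →+
        Coh.HH X (limit G) (p + 1))
      (β : Coh.HH X (limit G) (p + 1) →+
        Formal2.limZero (fun n => Coh.HH X (G.obj (op n)) (p + 1)) (Formal2.HHsysMap G (p + 1))),
      Function.Injective α ∧ Function.Surjective β ∧ α.range = β.ker ∧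
      ∀ (x : Coh.HH X (limit G) (p + 1)) (n : ℕ),
        (β x : ∀ n, Coh.HH X (G.obj (op n)) (p + 1)) n =
          Sheaf.H.map ((SheafOfModules.toSheaf _).map (limit.π G (op n))) (p + 1) x := by
  have key := milnor_sheaf_tower (J := Opens.grothendieckTopology X)
    (fun n => (ΦX X).obj (G.obj (op n)))
    (fun n => (ΦX X).map (G.map (homOfLE (Nat.le_succ n)).op))
    {V : X.Opens | IsAffineOpen V} (exists_affine_cover X)
    (fun U hU q n => by
      have := h1 n
      exact h1_aux X (G.obj (op n)) U hU q)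
    (fun U hU n => by
      have := h1 n
      have := h1 (n + 1)
      have := hepi n
      exact h2_aux X (G.map (homOfLE (Nat.le_succ n)).op) U hU)
    ((ΦX X).obj (limit G)) (fun n => (ΦX X).map (limit.π G (op n))) (ψX X G) (ψX_hom_pr X G)
    (p + 1) p rfl
  have hPT : ∀ (n : ℕ) (x : Coh.HH X (limit G) (p + 1)),
      Formal2.HHsysMap G (p + 1) n (Sheaf.H.map ((ΦX X).map (limit.π G (op (n + 1)))) (p + 1) x) =
        Sheaf.H.map ((ΦX X).map (limit.π G (op n))) (p + 1) x := by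
    intro n x
    change Sheaf.H.map _ _ (Sheaf.H.map _ _ x) = _
    rw [← Sheaf.H.map_comp_apply, ← Functor.map_comp, limit.w]
  obtain ⟨k1, k2⟩ := key
  have := exists_milnor_maps (G0 := Coh.HH X (limit G) (p + 1))
    (Gi := fun n => Coh.HH X (G.obj (op n)) (p + 1)) (Gj := fun n => Coh.HH X (G.obj (op n)) p)
    (fun n => Sheaf.H.map ((ΦX X).map (limit.π G (op n))) (p + 1))
    (Formal2.HHsysMap G (p + 1)) (Formal2.HHsysMap G p) hPT k1 k2
  obtain ⟨α, β, h⟩ := this
  exact ⟨α, β, h⟩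

end scheme

end Groth.Agent.Lib.Helper17.SG11
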