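import Groth.Agent.Lib.Helper17.SG1
import Groth.Agent.Lib.Helper17.RL10

/-!
# Local criteria on cohomology objects of the derived category, for abstract site generators
-/

set_option autoImplicit false
universe w' w v u v' u'

open CategoryTheory Limits Opposite

namespace Groth.Agent.Lib.Helper17.SG2

open Groth.Agent.Lib.Helper17.HDU1 Groth.Agent.Lib.Helper17.RL1 Groth.Agent.Lib.Helper17.SG1

section C

variable {C : Type u} [Category.{v} C] {J : GrothendieckTopology C}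
  {A : Type u'} [Category.{v'} A] [Abelian A] [IsGrothendieckAbelian.{v'} A]
  [HasDerivedCategory.{w} A] (sg : SiteGens J A)

open DerivedCategory

/-- **Key local lemma (injectivity)**: a map `σ : G V ⟶ H^m(L)` killed by `H^m(φ)` vanishes on every
member of some covering sieve on which `φ` is injective on `Hom(S_0 G(-), -[m])`. -/
theorem exists_sieve_of_comp_eq_zero {L K : DerivedCategory A}
    (φ : L ⟶ K) (V : C) (m : ℤ) (σ : sg.G V ⟶ (homologyFunctor _ m).obj L)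
    (hσ : σ ≫ (homologyFunctor _ m).map φ = 0) :
    ∃ T ∈ J V, ∀ ⦃Y : C⦄ (g : Y ⟶ V), T g → InjAt φ m (sg.G Y) → sg.Gm g ≫ σ = 0 := by
  obtain ⟨IL, hIL, ⟨eL⟩⟩ := exists_kInjective_iso L
  obtain ⟨IK, hIK, ⟨eK⟩⟩ := exists_kInjective_iso K
  have := hIL
  have := hIK
  obtain ⟨ψ, hψ⟩ := DProd.Q_map_surjective_of_isKInjective IL IK (eL.inv ≫ φ ≫ eK.hom)
  let fac := homologyFunctorFactors A m
  let eHL : (homologyFunctor _ m).obj L ≅ IL.homology m :=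
    (homologyFunctor _ m).mapIso eL ≪≫ fac.app IL
  let eHK : (homologyFunctor _ m).obj K ≅ IK.homology m :=
    (homologyFunctor _ m).mapIso eK ≪≫ fac.app IK
  have hsq : (homologyFunctor _ m).map φ ≫ eHK.hom =
      eHL.hom ≫ HomologicalComplex.homologyMap ψ m := by
    have h1 : φ ≫ eK.hom = eL.hom ≫ Q.map ψ := by rw [hψ]; simp
    dsimp only [eHL, eHK, Iso.trans_hom, Functor.mapIso_hom, Iso.app_hom]
    rw [← Category.assoc, ← Functor.map_comp, h1, Functor.map_comp, Category.assoc, Category.assoc]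
    exact congrArg (fun x => (homologyFunctor _ m).map eL.hom ≫ x) (fac.hom.naturality ψ)
  let σ' : sg.G V ⟶ IL.homology m := σ ≫ eHL.hom
  have hσ' : σ' ≫ HomologicalComplex.homologyMap ψ m = 0 := by
    rw [Category.assoc, ← hsq, reassoc_of% hσ, zero_comp]
  have hback : ∀ ⦃Y : C⦄ (g : Y ⟶ V), sg.Gm g ≫ σ' = 0 → sg.Gm g ≫ σ = 0 := by
    intro Y g hg
    have h1 : σ = σ' ≫ eHL.inv := by simp [σ']
    rw [h1, ← Category.assoc, hg, zero_comp]
  obtain ⟨S1, hS1, h1⟩ := sg.exists_local_hcls IL m σ'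
  choose f1 hf1 hσ1 using h1
  have h2 : ∀ ⦃Y : C⦄ (g : Y ⟶ V) (hg : S1 g), ∃ S ∈ J Y, ∀ ⦃Y' : C⦄ (g' : Y' ⟶ Y), S g' →
      ∃ w : sg.G Y' ⟶ IK.X (m - 1), w ≫ IK.d (m - 1) m = sg.Gm g' ≫ f1 g hg ≫ ψ.f m := by
    intro Y g hg
    have hz : hcls IK m (f1 g hg ≫ ψ.f m)
        (by rw [Category.assoc, ψ.comm, reassoc_of% (hf1 g hg), zero_comp]) = 0 := by
      rw [← hcls_map IL m ψ (f1 g hg) (hf1 g hg), ← hσ1, Category.assoc, hσ', comp_zero]
    exact sg.exists_local_boundary IK m _ _ hz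
  choose S2 hS2 h2' using h2
  refine ⟨Sieve.bind S1 (fun Y g hg => S2 g hg), J.bind_covering hS1 (fun Y g hg => hS2 g hg), ?_⟩
  intro Y k hk hinj
  obtain ⟨Y1, g', g, hg, hg', rfl⟩ := hk
  apply hback
  obtain ⟨w, hw⟩ := h2' g hg g' hg'
  have hinj' : InjAt (Q.map ψ) m (sg.G Y) := hinj.of_iso eL eK _ hψ
  obtain ⟨b, hb⟩ := boundary_of_injAt IL IK ψ m (sg.G Y) hinj' (sg.Gm g' ≫ f1 g hg)
    (by rw [Category.assoc, hf1 g hg, comp_zero]) w (by rw [hw, Category.assoc])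
  rw [sg.Gm_comp, Category.assoc, hσ1 g hg, hcls_precomp]
  exact hcls_eq_zero_of_boundary _ _ _ _ b hb

/-- **Injectivity criterion** (Stacks 21.23.5 pattern). -/
theorem comp_eq_zero_of_local {L K : DerivedCategory A}
    (φ : L ⟶ K) (V : C) (m : ℤ)
    (h : ∀ T ∈ J V, ∃ (ι : Type u) (Y : ι → C) (f : ∀ i, Y i ⟶ V), (∀ i, T.arrows (f i)) ∧
      Sieve.ofArrows Y f ∈ J V ∧ ∀ i, InjAt φ m (sg.G (Y i)))
    (σ : sg.G V ⟶ (homologyFunctor _ m).obj L) (hσ : σ ≫ (homologyFunctor _ m).map φ = 0) :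
    σ = 0 := by
  obtain ⟨T, hT, hT'⟩ := exists_sieve_of_comp_eq_zero sg φ V m σ hσ
  obtain ⟨ι, Y, f, hfT, hcov, hinj⟩ := h T hT
  apply sg.sep σ (Sieve.ofArrows Y f) hcov
  intro W k hk
  obtain ⟨_, k', _, ⟨i⟩, rfl⟩ := hk
  rw [sg.Gm_comp, Category.assoc, hT' (f i) (hfT i) (hinj i), comp_zero]

/-- **Key local lemma (surjectivity)**: a map `σ : G V ⟶ H^m(K)` lifts along `H^m(φ)` on every
member of some covering sieve on which `φ` is surjective on `Hom(S_0 G(-), -[m])`. -/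
theorem exists_sieve_lift {L K : DerivedCategory A}
    (φ : L ⟶ K) (V : C) (m : ℤ) (σ : sg.G V ⟶ (homologyFunctor _ m).obj K) :
    ∃ T ∈ J V, ∀ ⦃Y : C⦄ (g : Y ⟶ V), T g → SurjAt φ m (sg.G Y) →
      ∃ ρ : sg.G Y ⟶ (homologyFunctor _ m).obj L,
        ρ ≫ (homologyFunctor _ m).map φ = sg.Gm g ≫ σ := by
  obtain ⟨IL, hIL, ⟨eL⟩⟩ := exists_kInjective_iso L
  obtain ⟨IK, hIK, ⟨eK⟩⟩ := exists_kInjective_iso K
  have := hIL
  have := hIK
  obtain ⟨ψ, hψ⟩ := DProd.Q_map_surjective_of_isKInjective IL IK (eL.inv ≫ φ ≫ eK.hom)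
  let fac := homologyFunctorFactors A m
  let eHL : (homologyFunctor _ m).obj L ≅ IL.homology m :=
    (homologyFunctor _ m).mapIso eL ≪≫ fac.app IL
  let eHK : (homologyFunctor _ m).obj K ≅ IK.homology m :=
    (homologyFunctor _ m).mapIso eK ≪≫ fac.app IK
  have hsq : (homologyFunctor _ m).map φ ≫ eHK.hom =
      eHL.hom ≫ HomologicalComplex.homologyMap ψ m := by
    have h1 : φ ≫ eK.hom = eL.hom ≫ Q.map ψ := by rw [hψ]; simp
    dsimp only [eHL, eHK, Iso.trans_hom, Functor.mapIso_hom, Iso.app_hom]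
    rw [← Category.assoc, ← Functor.map_comp, h1, Functor.map_comp, Category.assoc, Category.assoc]
    exact congrArg (fun x => (homologyFunctor _ m).map eL.hom ≫ x) (fac.hom.naturality ψ)
  let σ' : sg.G V ⟶ IK.homology m := σ ≫ eHK.hom
  obtain ⟨S1, hS1, h1⟩ := sg.exists_local_hcls IK m σ'
  refine ⟨S1, hS1, ?_⟩
  intro Y g hg hsurj
  obtain ⟨f1, hf1, hσ1⟩ := h1 g hg
  have hsurj' : SurjAt (Q.map ψ) m (sg.G Y) := hsurj.of_iso eL eK _ hψ
  obtain ⟨f, hf, w, hw⟩ := lift_of_surjAt IL IK ψ m (sg.G Y) hsurj' f1 hf1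
  refine ⟨hcls IL m f hf ≫ eHL.inv, ?_⟩
  have h3 : hcls IL m f hf ≫ HomologicalComplex.homologyMap ψ m = sg.Gm g ≫ σ' := by
    rw [hcls_map, hσ1]
    exact hcls_eq_of_boundary IK m _ _ _ hf1 w hw
  have h4 : eHL.inv ≫ (homologyFunctor _ m).map φ =
      HomologicalComplex.homologyMap ψ m ≫ eHK.inv := by
    rw [← cancel_mono eHK.hom, Category.assoc, hsq, Iso.inv_hom_id_assoc, Category.assoc,
      Iso.inv_hom_id, Category.comp_id]
  rw [Category.assoc, h4, reassoc_of% h3]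
  simp [σ']

end C

section B

variable {C : Type u} [Category.{v} C] {J : GrothendieckTopology C}
  {A : Type u'} [Category.{v'} A] [Abelian A] (sg : SiteGens J A)

/-- monomorphisms can be tested on a covering class of objects. -/
lemma mono_of_local {F F' : A} (φ : F ⟶ F') (B : Set C)
    (hB : ∀ U : C, ∃ (ι : Type u) (Y : ι → C) (f : ∀ i, Y i ⟶ U),
      Sieve.ofArrows Y f ∈ J U ∧ ∀ i, Y i ∈ B)
    (h : ∀ V ∈ B, ∀ σ : sg.G V ⟶ F, σ ≫ φ = 0 → σ = 0) : Mono φ := by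
  apply sg.mono_of
  intro U σ hσ
  obtain ⟨ι, Yf, f, hcov, hYB⟩ := hB U
  apply sg.sep σ _ hcov
  intro W k hk
  obtain ⟨_, k', _, ⟨i⟩, rfl⟩ := hk
  rw [sg.Gm_comp, Category.assoc, h (Yf i) (hYB i) (sg.Gm (f i) ≫ σ) (by rw [Category.assoc, hσ,
    comp_zero]), comp_zero]

/-- epimorphisms can be tested locally on a covering class of objects. -/
lemma epi_of_local {F F' : A} (φ : F ⟶ F') (B : Set C)
    (hB : ∀ U : C, ∃ (ι : Type u) (Y : ι → C) (f : ∀ i, Y i ⟶ U),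
      Sieve.ofArrows Y f ∈ J U ∧ ∀ i, Y i ∈ B)
    (h : ∀ V ∈ B, ∀ σ : sg.G V ⟶ F', ∃ S ∈ J V, ∀ ⦃Y : C⦄ (g : Y ⟶ V), S g →
      ∃ ρ : sg.G Y ⟶ F, ρ ≫ φ = sg.Gm g ≫ σ) : Epi φ := by
  apply sg.epi_of_local_lift
  intro U σ
  obtain ⟨ι, Yf, f, hcov, hYB⟩ := hB U
  have h' : ∀ ⦃W : C⦄ (g : W ⟶ U), Sieve.ofArrows Yf f g → ∃ S ∈ J W,
      ∀ ⦃Y' : C⦄ (g' : Y' ⟶ W), S g' → ∃ ρ : sg.G Y' ⟶ F, ρ ≫ φ = sg.Gm (g' ≫ g) ≫ σ := by
    intro W g hg
    obtain ⟨_, k, _, ⟨i⟩, rfl⟩ := hg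
    obtain ⟨S, hS, hS'⟩ := h (Yf i) (hYB i) (sg.Gm (f i) ≫ σ)
    refine ⟨S.pullback k, J.pullback_stable k hS, ?_⟩
    intro Y' g' hg'
    obtain ⟨ρ, hρ⟩ := hS' (g' ≫ k) hg'
    refine ⟨ρ, ?_⟩
    rw [hρ, ← Category.assoc, ← sg.Gm_comp, Category.assoc]
  choose S2 hS2 h2 using h'
  refine ⟨Sieve.bind (Sieve.ofArrows Yf f) (fun W g hg => S2 g hg),
    J.bind_covering hcov (fun W g hg => hS2 g hg), ?_⟩
  intro Y' k hk
  obtain ⟨W, g', g, hg, hg', rfl⟩ := hk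
  exact h2 g hg g' hg'

theorem isIso_of_local_retraction {FE FL : A} (ε : FE ⟶ FL) [Mono ε]
    (B : Set C)
    (hB : ∀ U : C, ∃ (ι : Type u) (Y : ι → C) (f : ∀ i, Y i ⟶ U),
      Sieve.ofArrows Y f ∈ J U ∧ ∀ i, Y i ∈ B)
    (h : ∀ V ∈ B, ∃ (Fn : A) (α : FL ⟶ Fn), IsIso (ε ≫ α) ∧
      ∀ σ : sg.G V ⟶ FL, σ ≫ α = 0 → σ = 0) : IsIso ε := by
  have : Epi ε := by
    apply epi_of_local sg ε B hB
    intro V hV σ
    obtain ⟨Fn, α, hiso, hinj⟩ := h V hV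
    refine ⟨⊤, J.top_mem V, ?_⟩
    intro Y g _
    let ρ : sg.G V ⟶ FE := σ ≫ α ≫ inv (ε ≫ α)
    have h1 : ρ ≫ ε = σ := by
      rw [← sub_eq_zero]
      apply hinj
      rw [Preadditive.sub_comp, sub_eq_zero]
      simp only [ρ, Category.assoc]
      rw [IsIso.inv_hom_id, Category.comp_id]
    exact ⟨sg.Gm g ≫ ρ, by rw [Category.assoc, h1]⟩
  exact isIso_of_mono_of_epi ε

end B

section site

open Groth.Agent.Lib.Helper17.RL2 Groth.Agent.Lib.Helper17.RL4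
open Groth.Agent.Lib.Helper17.RL5 Groth.Agent.Lib.Helper17.RL6
open DerivedCategory DerivedCategory.TStructure

variable {C : Type u} [SmallCategory C] {J : GrothendieckTopology C}
  {A : Type (u + 1)} [Category.{u} A] [Abelian A] [IsGrothendieckAbelian.{u} A]
  [HasDerivedCategory.{w} A] [HasExt.{w'} A] (sg : SiteGens J A)

theorem isRlimVia_truncTower_gens (E : DerivedCategory A)
    [HasProduct (CohCx.truncTower E)] (B : Set C)
    (hB : ∀ U : C, ∃ (ι : Type u) (Y : ι → C) (f : ∀ i, Y i ⟶ U),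
      Sieve.ofArrows Y f ∈ J U ∧ ∀ i, Y i ∈ B)
    (h : ∀ V ∈ B, ∃ p : ℤ → ℤ, ∀ T ∈ J V, ∃ (ι : Type u) (Y : ι → C) (f : ∀ i, Y i ⟶ V),
      (∀ i, T.arrows (f i)) ∧ Sieve.ofArrows Y f ∈ J V ∧
      ∀ (i : ι), VanishAbove.{w'} E (sg.G (Y i)) p) :
    CohCx.IsRlimVia (CohCx.truncTower E) (CohCx.truncTowerMap E) E (CohCx.toTruncTower E) := by
  obtain ⟨L, a, hL, e, he, hτ⟩ := exists_comparison E
  suffices IsIso e from isRlimVia_of_iso hL _ e he
  rw [DerivedCategory.isIso_iff]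
  intro m
  have hmono : Mono ((homologyFunctor _ m).map e) := by
    have := hτ m (-m).toNat (by omega)
    exact mono_of_mono _ ((homologyFunctor _ m).map (a (-m).toNat))
  apply isIso_of_local_retraction sg _ B hB
  intro V hV
  obtain ⟨p, hp⟩ := h V hV
  refine ⟨_, (homologyFunctor _ m).map (a (Nof p m)), hτ m _ (Nof_ge p m), ?_⟩
  apply comp_eq_zero_of_local sg
  intro T hT
  obtain ⟨ι, Y, f, hfT, hcov, hv⟩ := hp T hT
  refine ⟨ι, Y, f, hfT, hcov, fun i => ?_⟩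
  intro y hy
  exact injAt_truncTower.{w'} E hL (sg.G (Y i)) p (hv i) m y hy

end site

end Groth.Agent.Lib.Helper17.SG2
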