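import Groth.Agent.Lib.Helper17.SG2
import Groth.Agent.Lib.Helper5.Deg0
import Groth.Agent.Lib.Helper5.PushAcyclic

/-!
# Site generators for sheaves of modules on a small site

`modGens R`: the free sheaves of modules `R[h_U]^#` form a family of site generators of
`SheafOfModules R`; `Ext` out of them computes the cohomology of the underlying abelian sheaf.
-/

set_option autoImplicit false
universe u

open CategoryTheory Limits Opposite Abelian

namespace Groth.Agent.Lib.Helper17.SG3

open Groth.Agent.Lib.Helper17.SG1 Groth.Agent.Lib.Helper17.RL1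
open Groth.Agent.Lib.Helper5.Deg0 Groth.Agent.Lib.Helper5.ModAcyclic
open Groth.Agent.Lib.Helper20.FreeSheaf

variable {C : Type u} [SmallCategory C] {J : GrothendieckTopology C} (R : Sheaf J RingCat.{u})

/-- the generator `R[h_U]^#`. -/
noncomputable abbrev GR (U : C) : SheafOfModules.{u} R := freeR R (yoneda.obj U)

/-- functoriality of `R[L]^#` in the presheaf of sets `L`. -/
noncomputable abbrev freeRmap {L' L : Cᵒᵖ ⥤ Type u} (g : L' ⟶ L) : freeR R L' ⟶ freeR R L :=
  (aR R).map ((PresheafOfModules.free R.obj).map g)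

/-- functoriality of the generators. -/
noncomputable abbrev GRm {U V : C} (g : V ⟶ U) : GR R V ⟶ GR R U := freeRmap R (yoneda.map g)

/-- the comparison `Hom(R[L]^#, F) → Hom(ℤ[L]^#, F)`. -/
noncomputable def β (L : Cᵒᵖ ⥤ Type u) (F : SheafOfModules.{u} R) (f : freeR R L ⟶ F) :
    freeZ (J := J) L ⟶ (SheafOfModules.toSheaf R).obj F :=
  ιL R L ≫ (SheafOfModules.toSheaf R).map f

lemma β_bijective (L : Cᵒᵖ ⥤ Type u) (F : SheafOfModules.{u} R) : Function.Bijective (β R L F) :=
  bij R L F

lemma β_comp (L : Cᵒᵖ ⥤ Type u) {F F' : SheafOfModules.{u} R} (f : freeR R L ⟶ F) (φ : F ⟶ F') :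
    β R L F' (f ≫ φ) = β R L F f ≫ (SheafOfModules.toSheaf R).map φ := by
  unfold β
  rw [Functor.map_comp, Category.assoc]

lemma β_zero (L : Cᵒᵖ ⥤ Type u) (F : SheafOfModules.{u} R) : β R L F 0 = 0 := by
  unfold β
  rw [Functor.map_zero, comp_zero]

lemma β_eq_zero_iff (L : Cᵒᵖ ⥤ Type u) (F : SheafOfModules.{u} R) (f : freeR R L ⟶ F) :
    β R L F f = 0 ↔ f = 0 := by
  constructor
  · intro h
    apply (β_bijective R L F).1
    rw [h, β_zero]
  · rintro rfl
    exact β_zero R L F

lemma β_nat_left {L' L : Cᵒᵖ ⥤ Type u} (g : L' ⟶ L) (F : SheafOfModules.{u} R)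
    (f : freeR R L ⟶ F) :
    β R L' F (freeRmap R g ≫ f) =
      (presheafToSheaf J AddCommGrpCat.{u}).map (Functor.whiskerRight g AddCommGrpCat.free.{u}) ≫
        β R L F f := by
  unfold β
  rw [key R L' (freeRmap R g ≫ f), key R L f]
  rw [← Adjunction.homEquiv_naturality_left_symm]
  congr 1
  unfold freeRmap
  rw [Adjunction.homEquiv_naturality_left]
  unfold Θ
  rw [Functor.map_comp]
  have h := κ_naturality R.obj g
  exact (Category.assoc _ _ _).symm.trans
    ((congrArg (fun x => x ≫ (PresheafOfModules.toPresheaf R.obj).map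
      (((adjR R).homEquiv ((PresheafOfModules.free R.obj).obj L) F) f)) h.symm).trans
      (Category.assoc _ _ _))

instance : (SheafOfModules.toSheaf.{u} R).PreservesEpimorphisms := by
  haveI := Groth.Agent.Lib.Helper17.ModSiteExact.toSheaf_preservesFiniteColimits R
  haveI : PreservesColimitsOfShape WalkingSpan (SheafOfModules.toSheaf.{u} R) := inferInstance
  exact preservesEpimorphisms_of_preservesColimitsOfShape _

lemma βU_nat_left {U V : C} (g : V ⟶ U) (F : SheafOfModules.{u} R) (f : GR R U ⟶ F) :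
    β R (yoneda.obj V) F (GRm R g ≫ f) = Zmap J g ≫ β R (yoneda.obj U) F f :=
  β_nat_left R (yoneda.map g) F f

/-- a morphism of abelian sheaves killing all sections is zero. -/
lemma eq_zero_of_ZU {F F' : Sheaf J AddCommGrpCat.{u}} (φ : F ⟶ F')
    (h : ∀ (V : C) (σ : ZU J V ⟶ F), σ ≫ φ = 0) : φ = 0 := by
  apply Sheaf.hom_ext
  ext V s
  obtain ⟨V⟩ := V
  have h1 := a_nat J V ((a J V F).symm s) φ
  rw [h _ _, a_zero, Equiv.apply_symm_apply] at h1
  exact h1.symm

/-- **The free sheaves of modules `R[h_U]^#` are site generators of `SheafOfModules R`.** -/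
noncomputable def modGens : SiteGens J (SheafOfModules.{u} R) where
  G U := GR R U
  Gm g := GRm R g
  Gm_comp g g' := by
    dsimp only [GRm, freeRmap]
    rw [← Functor.map_comp, ← Functor.map_comp, ← Functor.map_comp]
  lift := by
    intro F F' π _ U σ
    have : Epi ((SheafOfModules.toSheaf R).map π) := inferInstance
    obtain ⟨S, hS, h⟩ := exists_local_lift J ((SheafOfModules.toSheaf R).map π)
      (β R (yoneda.obj U) F' σ)
    refine ⟨S, hS, fun Y g hg => ?_⟩
    obtain ⟨τ', hτ'⟩ := h g hg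
    obtain ⟨τ, rfl⟩ := (β_bijective R (yoneda.obj Y) F).2 τ'
    refine ⟨τ, ?_⟩
    apply (β_bijective R (yoneda.obj Y) F').1
    rw [β_comp, hτ', βU_nat_left]
  sep := by
    intro F U σ S hS h
    rw [← β_eq_zero_iff]
    apply eq_zero_of_cover J _ S hS
    intro Y g hg
    rw [← βU_nat_left, h g hg, β_zero]
  gen := by
    intro F F' f h
    apply (SheafOfModules.toSheaf R).map_injective
    rw [Functor.map_zero]
    apply eq_zero_of_ZU
    intro V σ'
    obtain ⟨σ, rfl⟩ := (β_bijective R (yoneda.obj V) F).2 σ'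
    rw [← β_comp, h V σ, β_zero]

end Groth.Agent.Lib.Helper17.SG3
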