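import Groth.Agent.Lib.Helper17.SG3
import Groth.Agent.S0484
import Groth.Prelude.Def_ModSite

/-!
# `E = R lim τ_{≥ -n} E` in `D(O)` on a ringed site under bounded vanishing hypotheses
-/

set_option autoImplicit false
universe u

open CategoryTheory Limits Opposite Abelian

namespace Groth.Agent.Lib.Helper17.SG4

open Groth.Agent.Lib.Helper17.SG1 Groth.Agent.Lib.Helper17.SG2 Groth.Agent.Lib.Helper17.SG3
open Groth.Agent.Lib.Helper17.RL5
open Groth.Agent.Lib.Helper5.Deg0 Groth.Agent.Lib.Helper5.ModAcyclic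

variable {C : Type u} [SmallCategory C] {J : GrothendieckTopology C}

section R

variable (R : Sheaf J RingCat.{u}) [HasExt.{u} (SheafOfModules.{u} R)]

/-- `Ext^k_R(R[h_U]^#, M)` vanishes as soon as `H^k(U, M)` (cohomology of the underlying abelian
sheaf) does. -/
lemma subsingleton_ext_GR (U : C) (M : SheafOfModules.{u} R) (k : ℕ)
    (h : Subsingleton (CohSite.HU ((SheafOfModules.toSheaf R).obj M) k U)) :
    Subsingleton (Ext.{u} (GR R U) M k) := by
  obtain ⟨e⟩ := nonempty_ext_free_addEquiv R (yoneda.obj U)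
    (fun I _ n => Groth.Agent.Lib.Helper5.PushAcyclic.subsingleton_ext_freeSheaf J _
      (isTotallyAcyclic_toSheaf R I) U n) M k
  have h' : Subsingleton (Ext.{u} (freeZ (J := J) (yoneda.obj U))
      ((SheafOfModules.toSheaf R).obj M) k) := h
  exact e.toEquiv.subsingleton

end R

section O

variable (O : Sheaf J CommRingCat.{u}) [HasDerivedCategory.{u} (ModSite.Mod O)]

/-- **Stacks 21.23.6 pattern for `D(O)`**: `E` is the derived limit of its truncations under locally
bounded vanishing of the cohomology of its cohomology sheaves. -/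
theorem isRlimVia_truncTower_mod (E : DerivedCategory (ModSite.Mod O))
    [HasProduct (CohCx.truncTower E)] (B : Set C)
    (hB : ∀ U : C, ∃ (ι : Type u) (Y : ι → C) (f : ∀ i, Y i ⟶ U),
      Sieve.ofArrows Y f ∈ J U ∧ ∀ i, Y i ∈ B)
    (h : ∀ V ∈ B, ∃ p : ℤ → ℤ, ∀ T ∈ J V, ∃ (ι : Type u) (Y : ι → C) (f : ∀ i, Y i ⟶ V),
      (∀ i, T.arrows (f i)) ∧ Sieve.ofArrows Y f ∈ J V ∧
      ∀ (i : ι) (m : ℤ) (k : ℕ), p m < k → Subsingleton
        (ModSite.HU O ((DerivedCategory.homologyFunctor (ModSite.Mod O) (m - k)).obj E) k (Y i))) :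
    CohCx.IsRlimVia (CohCx.truncTower E) (CohCx.truncTowerMap E) E (CohCx.toTruncTower E) := by
  haveI : IsGrothendieckAbelian.{u} (ModSite.Mod O) := Groth.Agent.S0484.result J (ModSite.ringSh O)
  haveI : HasExt.{u} (ModSite.Mod O) := hasExt_of_hasDerivedCategory _
  apply isRlimVia_truncTower_gens.{u, u, u} (modGens (ModSite.ringSh O)) E B hB
  intro V hV
  obtain ⟨p, hp⟩ := h V hV
  refine ⟨p, fun T hT => ?_⟩
  obtain ⟨ι, Y, f, hfT, hcov, hv⟩ := hp T hT
  refine ⟨ι, Y, f, hfT, hcov, fun i => ?_⟩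
  intro m k hk
  exact subsingleton_ext_GR (ModSite.ringSh O) (Y i) _ k (hv i m k hk)

end O

end Groth.Agent.Lib.Helper17.SG4
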