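import Mathlib
import Groth.Agent.Lib.Helper25.IdealConn
import Groth.Agent.Lib.Helper12.Fin14
import Groth.Agent.Lib.Helper12.Fin1
import Groth.Agent.Lib.Lead.Pn.TwistSeq
import Groth.Agent.Lib.Lead.TwistExact
import Groth.Agent.Lib.Lead.SD.LowVanish
import Groth.Agent.Lib.Helper29.TensorIso
import Groth.Agent.Lib.Helper16.ReducedSub
import Groth.Agent.S0458

/-!
# `H^1(B, E ⊗ I_p) = 0` for a globally generated coherent module on a curve with `H^1(O_B) = 0`
-/

set_option autoImplicit false
set_option maxHeartbeats 4000000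
set_option synthInstance.maxHeartbeats 400000
set_option backward.isDefEq.respectTransparency.types false

universe u

open CategoryTheory Limits AlgebraicGeometry TopologicalSpace Opposite

namespace Groth.Agent.Lib.Helper17.SkyVanish

open Groth.Agent.Lib.Helper29.QCoh Groth.Agent.Lib.Lead.TwistExact

attribute [local instance] CategoryTheory.Abelian.hasFiniteBiproducts

variable {X : Scheme.{u}}

/-- restriction of global functions to a closed point is surjective, over an algebraically
closed field -/
theorem appTop_surjective_point (k : Type u) [Field k] [IsAlgClosed k]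
    (f : X ⟶ Spec (CommRingCat.of k)) [IsProper f] (p : X) (hp : IsClosed ({p} : Set X)) :
    Function.Surjective
      (Scheme.IdealSheafData.vanishingIdeal (⟨{p}, hp⟩ : Closeds X)).subschemeι.appTop.hom := by
  set P := Scheme.IdealSheafData.vanishingIdeal (⟨{p}, hp⟩ : Closeds X) with hP
  haveI : IsReduced P.subscheme :=
    Groth.Agent.Lib.Helper16.isReduced_subscheme_vanishingIdeal _
  have hrange : Set.range P.subschemeι = {p} := by
    rw [Scheme.IdealSheafData.range_subschemeι, hP,
      Scheme.IdealSheafData.coe_support_vanishingIdeal]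
    rfl
  haveI : Nonempty P.subscheme := by
    have : p ∈ Set.range P.subschemeι := by rw [hrange]; rfl
    obtain ⟨z, -⟩ := this
    exact ⟨z⟩
  haveI : Subsingleton P.subscheme := by
    refine ⟨fun a b => ?_⟩
    apply P.subschemeι.isEmbedding.injective
    have ha : P.subschemeι a ∈ ({p} : Set X) := by rw [← hrange]; exact ⟨a, rfl⟩
    have hb : P.subschemeι b ∈ ({p} : Set X) := by rw [← hrange]; exact ⟨b, rfl⟩
    exact ha.trans hb.symm
  haveI : IrreducibleSpace P.subscheme := { toNonempty := inferInstance }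
  haveI : IsIntegral P.subscheme := isIntegral_of_irreducibleSpace_of_isReduced _
  haveI : IsProper (P.subschemeι ≫ f) := inferInstance
  have hfin := finite_appTop_of_universallyClosed k (P.subschemeι ≫ f)
  let ρ : k →+* Γ(P.subscheme, ⊤) :=
    ((Scheme.ΓSpecIso (CommRingCat.of k)).inv ≫ (P.subschemeι ≫ f).appTop).hom
  have hρfin : ρ.Finite := by
    have h1 : ((Scheme.ΓSpecIso (CommRingCat.of k)).inv).hom.Finite :=
      RingHom.Finite.of_surjective _
        ((ConcreteCategory.bijective_of_isIso (Scheme.ΓSpecIso (CommRingCat.of k)).inv).2)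
    exact hfin.comp h1
  algebraize [ρ]
  haveI : Algebra.IsIntegral k Γ(P.subscheme, ⊤) := Algebra.IsIntegral.of_finite k _
  have hbij := IsAlgClosed.algebraMap_bijective_of_isIntegral (k := k) (K := Γ(P.subscheme, ⊤))
  have h2 : ρ = P.subschemeι.appTop.hom.comp
      ((Scheme.ΓSpecIso (CommRingCat.of k)).inv ≫ f.appTop).hom := by
    change ((Scheme.ΓSpecIso (CommRingCat.of k)).inv ≫ (P.subschemeι ≫ f).appTop).hom = _
    rw [Scheme.Hom.comp_appTop]
    rfl
  have h3 : Function.Surjective ρ := hbij.2
  rw [h2, RingHom.coe_comp] at h3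
  exact Function.Surjective.of_comp h3

theorem main (k : Type u) [Field k] [IsAlgClosed k]
    [X.Over (Spec (CommRingCat.of k))] [IsProper (X ↘ Spec (CommRingCat.of k))]
    (hdim : topologicalKrullDim ↥X ≤ 1)
    (hg : Subsingleton (Coh.HH X (Coh.structureModule X) 1))
    (E : X.Modules) (hE : Coh.IsCoh E) (hgg : Curv2.IsGloballyGenerated E)
    (p : ↥X) (hp : IsClosed ({p} : Set ↥X)) :
    Subsingleton (Coh.HH X (CohB1.tensorMod E
      (ClSub.idealMod (Scheme.IdealSheafData.vanishingIdeal (⟨{p}, hp⟩ : Closeds ↥X)))) 1) := by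
  set P := Scheme.IdealSheafData.vanishingIdeal (⟨{p}, hp⟩ : Closeds X) with hP
  haveI : CompactSpace X :=
    QuasiCompact.compactSpace_of_compactSpace (X ↘ Spec (CommRingCat.of k))
  haveI : IsLocallyNoetherian X :=
    LocallyOfFiniteType.isLocallyNoetherian (X ↘ Spec (CommRingCat.of k))
  haveI : IsNoetherian X := {}
  -- `H^1(I_p) = 0`
  have hI : Subsingleton (Coh.HH X (ClSub.idealMod P) 1) :=
    Groth.Agent.Lib.Helper25.HypTwist.subsingleton_HH_one_idealMod P
      (appTop_surjective_point k (X ↘ Spec (CommRingCat.of k)) p hp) hg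
  obtain ⟨r, φ, hφ⟩ :=
    Groth.Agent.Lib.Helper12.H12Fin.exists_epi_biproduct_unit_of_isGloballyGenerated E hE hgg
  haveI : Epi ((tensorRight (ClSub.idealMod P)).map φ) := inferInstance
  let S : ShortComplex X.Modules := ShortComplex.mk
    (kernel.ι ((tensorRight (ClSub.idealMod P)).map φ))
    ((tensorRight (ClSub.idealMod P)).map φ) (kernel.condition _)
  have hS : S.ShortExact := by
    haveI : Mono S.f := inferInstanceAs (Mono (kernel.ι _))
    haveI : Epi S.g := inferInstanceAs (Epi ((tensorRight (ClSub.idealMod P)).map φ))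
    exact ShortComplex.ShortExact.mk (ShortComplex.exact_of_f_is_kernel _ (kernelIsKernel _))
  -- middle term
  have h₂ : Subsingleton (Coh.HH X S.X₂ 1) := by
    let e : (tensorRight (ClSub.idealMod P)).obj (⨁ fun _ : Fin r => unitM X) ≅
        ⨁ fun _ : Fin r => (tensorRight (ClSub.idealMod P)).obj (unitM X) :=
      (tensorRight (ClSub.idealMod P)).mapBiproduct (fun _ : Fin r => unitM X)
    have h3 : Subsingleton (Coh.HH X
        (⨁ fun _ : Fin r => (tensorRight (ClSub.idealMod P)).obj (unitM X)) 1) := by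
      refine Groth.Agent.Lib.Helper12.H12Fin.subsingleton_HH_biproduct k _ 1 (fun j => ?_)
      exact Groth.Agent.Lib.Lead.Pn.subsingleton_HH_of_iso
        (tensorUnitL (ClSub.idealMod P)).symm 1 hI
    exact Groth.Agent.Lib.Lead.Pn.subsingleton_HH_of_iso e.symm 1 h3
  -- kernel: Grothendieck vanishing
  haveI : NoetherianSpace ↑X.toTopCat := (inferInstance : NoetherianSpace X)
  have h₁ : Subsingleton (Coh.HH X S.X₁ (1 + 1)) :=
    Groth.Agent.S0458.result (X := X.toTopCat) 1 hdim (Coh.toAb S.X₁) 2 (by norm_num)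
  exact Groth.Agent.Lib.Lead.Pn.subsingleton_HH_X₃ S hS 1 h₂ h₁

end Groth.Agent.Lib.Helper17.SkyVanish
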