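import Mathlib
import Groth.Agent.Lib.Helper17.SK1

/-!
# `H^1(B, E) = 0` for a globally generated coherent module on a curve with `H^1(O_B) = 0`
-/

set_option autoImplicit false
set_option maxHeartbeats 4000000
set_option synthInstance.maxHeartbeats 400000
set_option backward.isDefEq.respectTransparency.types false

universe u

open CategoryTheory Limits AlgebraicGeometry TopologicalSpace Opposite

namespace Groth.Agent.Lib.Helper17.SkyVanish

open Groth.Agent.Lib.Helper29.QCoh Groth.Agent.Lib.Lead.TwistExact

attribute [local instance] CategoryTheory.Abelian.hasFiniteBiproducts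

variable {X : Scheme.{u}}

theorem main_gg (k : Type u) [Field k]
    [X.Over (Spec (CommRingCat.of k))] [IsProper (X ↘ Spec (CommRingCat.of k))]
    (hdim : topologicalKrullDim ↥X ≤ 1)
    (hg : Subsingleton (Coh.HH X (Coh.structureModule X) 1))
    (E : X.Modules) (hE : Coh.IsCoh E) (hgg : Curv2.IsGloballyGenerated E) :
    Subsingleton (Coh.HH X E 1) := by
  haveI : CompactSpace X :=
    QuasiCompact.compactSpace_of_compactSpace (X ↘ Spec (CommRingCat.of k))
  haveI : IsLocallyNoetherian X :=
    LocallyOfFiniteType.isLocallyNoetherian (X ↘ Spec (CommRingCat.of k))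
  haveI : IsNoetherian X := {}
  obtain ⟨r, φ, hφ⟩ :=
    Groth.Agent.Lib.Helper12.H12Fin.exists_epi_biproduct_unit_of_isGloballyGenerated E hE hgg
  let S : ShortComplex X.Modules := ShortComplex.mk (kernel.ι φ) φ (kernel.condition _)
  have hS : S.ShortExact := by
    haveI : Mono S.f := inferInstanceAs (Mono (kernel.ι _))
    haveI : Epi S.g := inferInstanceAs (Epi φ)
    exact ShortComplex.ShortExact.mk (ShortComplex.exact_of_f_is_kernel _ (kernelIsKernel _))
  have h₂ : Subsingleton (Coh.HH X S.X₂ 1) :=
    Groth.Agent.Lib.Helper12.H12Fin.subsingleton_HH_biproduct k _ 1 (fun _ => hg)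
  haveI : NoetherianSpace ↑X.toTopCat := (inferInstance : NoetherianSpace X)
  have h₁ : Subsingleton (Coh.HH X S.X₁ (1 + 1)) :=
    Groth.Agent.S0458.result (X := X.toTopCat) 1 hdim (Coh.toAb S.X₁) 2 (by norm_num)
  exact Groth.Agent.Lib.Lead.Pn.subsingleton_HH_X₃ S hS 1 h₂ h₁

end Groth.Agent.Lib.Helper17.SkyVanish
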