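import Mathlib
import Groth.Agent.Lib.Helper17.SK2
import Groth.Agent.Lib.Helper25.SuppTensor
import Groth.Agent.Lib.Helper29.ZeroDim
import Groth.Agent.Lib.Helper29.SerreA
import Groth.Agent.Lib.Helper29.SH1
import Groth.Agent.Lib.Helper12.Dev2
import Groth.Agent.Lib.Lead.Koszul.HHBasic

/-!
# Deformation ampleness along maps with torsion cokernel on a curve with `H^1(O) = 0`
-/

set_option autoImplicit false
set_option maxHeartbeats 4000000
set_option synthInstance.maxHeartbeats 400000
set_option backward.isDefEq.respectTransparency.types false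

universe u

open CategoryTheory Limits AlgebraicGeometry TopologicalSpace Opposite

namespace Groth.Agent.Lib.Helper17.SkyVanish

open Groth.Agent.Lib.Helper29.QCoh Groth.Agent.Lib.Lead.TwistExact

variable {X : Scheme.{u}}

/-- a quotient of a globally generated module is globally generated -/
theorem isGloballyGenerated_of_epi {M N : X.Modules} (q : M ⟶ N) [hq : Epi q]
    (h : Curv2.IsGloballyGenerated M) : Curv2.IsGloballyGenerated N := by
  obtain ⟨ι, p, hp⟩ := h
  haveI : Epi p := hp
  exact ⟨ι, p ≫ q, epi_comp' hp hq⟩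

/-- on a Noetherian scheme of dimension `≤ 1`, `H^1` of a quotient of `M` vanishes if `H^1(M)`
does -/
theorem subsingleton_HH_one_of_epi [IsNoetherian X] (hdim : topologicalKrullDim ↥X ≤ 1)
    {M N : X.Modules} (q : M ⟶ N) [hq : Epi q] (h : Subsingleton (Coh.HH X M 1)) :
    Subsingleton (Coh.HH X N 1) := by
  let S : ShortComplex X.Modules := ShortComplex.mk (kernel.ι q) q (kernel.condition _)
  have hS : S.ShortExact := by
    haveI : Mono S.f := inferInstanceAs (Mono (kernel.ι _))
    haveI : Epi S.g := inferInstanceAs (Epi q)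
    exact ShortComplex.ShortExact.mk (ShortComplex.exact_of_f_is_kernel _ (kernelIsKernel _))
  haveI : NoetherianSpace ↑X.toTopCat := (inferInstance : NoetherianSpace X)
  have h₁ : Subsingleton (Coh.HH X S.X₁ (1 + 1)) :=
    Groth.Agent.S0458.result (X := X.toTopCat) 1 hdim (Coh.toAb S.X₁) 2 (by norm_num)
  exact Groth.Agent.Lib.Lead.Pn.subsingleton_HH_X₃ S hS 1 h h₁

theorem main_defAmple (k : Type u) [Field k]
    [X.Over (Spec (CommRingCat.of k))] [IsProper (X ↘ Spec (CommRingCat.of k))]
    (hdim : topologicalKrullDim ↥X ≤ 1)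
    (hg : Subsingleton (Coh.HH X (Coh.structureModule X) 1)) (ω : X.Modules)
    (E₁ E₂ : X.Modules) (hE₁ : Coh.IsCoh E₁) (hE₂ : Coh.IsCoh E₂) (φ : E₁ ⟶ E₂)
    (htors : ∀ x ∈ CohB1.support (cokernel φ), IsClosed ({x} : Set ↥X))
    (h₁ : Curv2.IsGloballyGenerated E₁ ∧ Subsingleton (Coh.HH X (CohB1.tensorMod E₁ ω) 1)) :
    Curv2.IsGloballyGenerated E₂ ∧ Subsingleton (Coh.HH X (CohB1.tensorMod E₂ ω) 1) := by
  haveI : CompactSpace X :=
    QuasiCompact.compactSpace_of_compactSpace (X ↘ Spec (CommRingCat.of k))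
  haveI : IsLocallyNoetherian X :=
    LocallyOfFiniteType.isLocallyNoetherian (X ↘ Spec (CommRingCat.of k))
  haveI : IsNoetherian X := {}
  have hQc : Coh.IsCoh (cokernel φ) := Groth.Agent.Lib.Helper12.H12Dev.isCoh_cokernel φ hE₁ hE₂
  haveI := hQc.2
  have hQh : ∀ T : Set X, T ⊆ CohB1.support (cokernel φ) → IsClosed T :=
    support_hereditarily_closed (cokernel φ) htors
  let S : ShortComplex X.Modules := ShortComplex.mk (kernel.ι (cokernel.π φ)) (cokernel.π φ)
    (kernel.condition _)
  have hS : S.ShortExact := by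
    haveI : Mono S.f := inferInstanceAs (Mono (kernel.ι _))
    haveI : Epi S.g := inferInstanceAs (Epi (cokernel.π φ))
    exact ShortComplex.ShortExact.mk (ShortComplex.exact_of_f_is_kernel _ (kernelIsKernel _))
  -- the image
  have hIgg : Curv2.IsGloballyGenerated (kernel (cokernel.π φ)) :=
    isGloballyGenerated_of_epi (Abelian.factorThruImage φ) h₁.1
  have hIc : Coh.IsCoh (kernel (cokernel.π φ)) :=
    Groth.Agent.Lib.Helper12.H12Dev.isCoh_kernel (cokernel.π φ) hE₂ hQc
  have hI1 : Subsingleton (Coh.HH X (kernel (cokernel.π φ)) 1) :=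
    main_gg k hdim hg _ hIc hIgg
  constructor
  · haveI : Subsingleton (Coh.HH X S.X₁ 1) := hI1
    have hsurj := app_top_surjective_of_subsingleton_HH_one S hS
    exact isGloballyGenerated_of_shortExact S hS hsurj hIgg
      (isGloballyGenerated_of_support_hereditarily_closed (cokernel φ) hQh)
  · -- tensor with `ω`
    haveI : PreservesFiniteColimits (tensorRight ω) :=
      Groth.Agent.Lib.Helper17.Tensor.flip_obj_preservesFiniteColimits (O := X.sheaf) ω
    haveI : Epi S.g := inferInstanceAs (Epi (cokernel.π φ))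
    have hS'ex : (S.map (tensorRight ω)).Exact :=
      hS.exact.map_of_epi_of_preservesCokernel (tensorRight ω) inferInstance inferInstance
    haveI : Epi (S.map (tensorRight ω)).g :=
      inferInstanceAs (Epi ((tensorRight ω).map S.g))
    let T : ShortComplex X.Modules := ShortComplex.mk (S.map (tensorRight ω)).iCycles
      (S.map (tensorRight ω)).g (S.map (tensorRight ω)).iCycles_g
    have hT : T.ShortExact := by
      haveI : Mono T.f := inferInstanceAs (Mono (S.map (tensorRight ω)).iCycles)
      haveI : Epi T.g := inferInstanceAs (Epi (S.map (tensorRight ω)).g)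
      exact ShortComplex.ShortExact.mk
        (ShortComplex.exact_of_f_is_kernel _ (S.map (tensorRight ω)).cyclesIsKernel)
    -- `H^1(I ⊗ ω) = 0`
    haveI : Epi ((tensorRight ω).map (Abelian.factorThruImage φ)) := inferInstance
    have hIω : Subsingleton (Coh.HH X ((tensorRight ω).obj (kernel (cokernel.π φ))) 1) :=
      subsingleton_HH_one_of_epi hdim ((tensorRight ω).map (Abelian.factorThruImage φ)) h₁.2
    haveI : Epi (S.map (tensorRight ω)).toCycles :=
      (S.map (tensorRight ω)).exact_iff_epi_toCycles.mp hS'ex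
    have hT₁ : Subsingleton (Coh.HH X T.X₁ (0 + 1)) :=
      subsingleton_HH_one_of_epi hdim (S.map (tensorRight ω)).toCycles hIω
    have hT₃ : Subsingleton (Coh.HH X T.X₃ (0 + 1)) :=
      subsingleton_HH_succ_of_support_hereditarily_closed (CohB1.tensorMod (cokernel φ) ω)
        (fun T' hT' => hQh T' (hT'.trans
          (Groth.Agent.Lib.Helper25.SuppTensor.support_tensorMod_subset (cokernel φ) ω))) 0
    exact Groth.Agent.Lib.Lead.Koszul.subsingleton_HH_X₂ T hT (0 + 1) hT₁ hT₃

end Groth.Agent.Lib.Helper17.SkyVanish
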