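import Mathlib
import Groth.Agent.Lib.Helper17.SK3

/-!
# Deformation ampleness is closed under extensions (curve with `H^1(O) = 0`)
-/

set_option autoImplicit false
set_option maxHeartbeats 4000000
set_option synthInstance.maxHeartbeats 400000
set_option backward.isDefEq.respectTransparency.types false

universe u

open CategoryTheory Limits AlgebraicGeometry TopologicalSpace Opposite

namespace Groth.Agent.Lib.Helper17.SkyVanish

open Groth.Agent.Lib.Helper29.QCoh Groth.Agent.Lib.Lead.TwistExact

variable {X : Scheme.{u}}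

/-- on a Noetherian scheme of dimension `≤ 1`: for a short exact sequence `S` and any module `ω`,
`H^1(S.X₂ ⊗ ω)` vanishes if `H^1(S.X₁ ⊗ ω)` and `H^1(S.X₃ ⊗ ω)` do (only right exactness of the
tensor product is used) -/
theorem subsingleton_HH_one_tensor_middle [IsNoetherian X] (hdim : topologicalKrullDim ↥X ≤ 1)
    (S : ShortComplex X.Modules) (hS : S.ShortExact) (ω : X.Modules)
    (h1 : Subsingleton (Coh.HH X (CohB1.tensorMod S.X₁ ω) 1))
    (h3 : Subsingleton (Coh.HH X (CohB1.tensorMod S.X₃ ω) 1)) :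
    Subsingleton (Coh.HH X (CohB1.tensorMod S.X₂ ω) 1) := by
  haveI : PreservesFiniteColimits (tensorRight ω) :=
    Groth.Agent.Lib.Helper17.Tensor.flip_obj_preservesFiniteColimits (O := X.sheaf) ω
  haveI : Epi S.g := hS.epi_g
  have hS'ex : (S.map (tensorRight ω)).Exact :=
    hS.exact.map_of_epi_of_preservesCokernel (tensorRight ω) inferInstance inferInstance
  haveI : Epi (S.map (tensorRight ω)).g :=
    inferInstanceAs (Epi ((tensorRight ω).map S.g))
  let T : ShortComplex X.Modules := ShortComplex.mk (S.map (tensorRight ω)).iCycles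
    (S.map (tensorRight ω)).g (S.map (tensorRight ω)).iCycles_g
  have hT : T.ShortExact := by
    haveI : Mono T.f := inferInstanceAs (Mono (S.map (tensorRight ω)).iCycles)
    haveI : Epi T.g := inferInstanceAs (Epi (S.map (tensorRight ω)).g)
    exact ShortComplex.ShortExact.mk
      (ShortComplex.exact_of_f_is_kernel _ (S.map (tensorRight ω)).cyclesIsKernel)
  haveI : Epi (S.map (tensorRight ω)).toCycles :=
    (S.map (tensorRight ω)).exact_iff_epi_toCycles.mp hS'ex
  have hT₁ : Subsingleton (Coh.HH X T.X₁ (0 + 1)) :=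
    subsingleton_HH_one_of_epi hdim (S.map (tensorRight ω)).toCycles h1
  have hT₃ : Subsingleton (Coh.HH X T.X₃ (0 + 1)) := h3
  exact Groth.Agent.Lib.Lead.Koszul.subsingleton_HH_X₂ T hT (0 + 1) hT₁ hT₃

theorem main_ses (k : Type u) [Field k]
    [X.Over (Spec (CommRingCat.of k))] [IsProper (X ↘ Spec (CommRingCat.of k))]
    (hdim : topologicalKrullDim ↥X ≤ 1)
    (hg : Subsingleton (Coh.HH X (Coh.structureModule X) 1)) (ω : X.Modules)
    (S : ShortComplex X.Modules) (hS : S.ShortExact) (hE₁ : Coh.IsCoh S.X₁)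
    (h₁ : Curv2.IsGloballyGenerated S.X₁ ∧ Subsingleton (Coh.HH X (CohB1.tensorMod S.X₁ ω) 1))
    (h₃ : Curv2.IsGloballyGenerated S.X₃ ∧ Subsingleton (Coh.HH X (CohB1.tensorMod S.X₃ ω) 1)) :
    Curv2.IsGloballyGenerated S.X₂ ∧ Subsingleton (Coh.HH X (CohB1.tensorMod S.X₂ ω) 1) := by
  haveI : CompactSpace X :=
    QuasiCompact.compactSpace_of_compactSpace (X ↘ Spec (CommRingCat.of k))
  haveI : IsLocallyNoetherian X :=
    LocallyOfFiniteType.isLocallyNoetherian (X ↘ Spec (CommRingCat.of k))
  haveI : IsNoetherian X := {}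
  constructor
  · haveI : Subsingleton (Coh.HH X S.X₁ 1) := main_gg k hdim hg _ hE₁ h₁.1
    have hsurj := app_top_surjective_of_subsingleton_HH_one S hS
    exact isGloballyGenerated_of_shortExact S hS hsurj h₁.1 h₃.1
  · exact subsingleton_HH_one_tensor_middle hdim S hS ω h₁.2 h₃.2

end Groth.Agent.Lib.Helper17.SkyVanish
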