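import Mathlib
import Groth.Agent.Lib.Helper17.SK4
import Groth.Agent.Lib.Helper12.Fin13

/-!
# Deformation ampleness is closed under tensor powers (curve with `H^1(O) = 0`)
-/

set_option autoImplicit false
set_option maxHeartbeats 4000000
set_option synthInstance.maxHeartbeats 400000
set_option backward.isDefEq.respectTransparency.types false

universe u

open CategoryTheory Limits AlgebraicGeometry TopologicalSpace Opposite

namespace Groth.Agent.Lib.Helper17.SkyVanish

open Groth.Agent.Lib.Helper29.QCoh Groth.Agent.Lib.Lead.TwistExact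

attribute [local instance] CategoryTheory.Abelian.hasFiniteBiproducts

variable {X : Scheme.{u}}

/-- a finite direct sum of copies of a globally generated module is globally generated -/
theorem isGloballyGenerated_biproduct (r : ℕ) (E : X.Modules)
    (h : Curv2.IsGloballyGenerated E) :
    Curv2.IsGloballyGenerated (⨁ fun _ : Fin r => E) := by
  obtain ⟨ι, p, hp⟩ := h
  let q : (SheafOfModules.free (Fin r × ι) : X.Modules) ⟶ ⨁ fun _ : Fin r => E :=
    Cofan.IsColimit.desc (SheafOfModules.isColimitFreeCofan (R := X.ringCatSheaf) (Fin r × ι))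
      (fun ji => SheafOfModules.ιFree ji.2 ≫ p ≫ biproduct.ι (fun _ : Fin r => E) ji.1)
  have hq : ∀ (j : Fin r) (i : ι), SheafOfModules.ιFree (R := X.ringCatSheaf) (j, i) ≫ q =
      SheafOfModules.ιFree i ≫ p ≫ biproduct.ι (fun _ : Fin r => E) j := fun j i =>
    Cofan.IsColimit.fac (SheafOfModules.isColimitFreeCofan (R := X.ringCatSheaf) (Fin r × ι)) _ (j, i)
  refine ⟨Fin r × ι, q, ⟨fun {C} a b hab => ?_⟩⟩
  refine biproduct.hom_ext' (f := fun _ : Fin r => E) a b (fun j => ?_)
  haveI : Epi p := hp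
  apply (cancel_epi p).mp
  apply Cofan.IsColimit.hom_ext (SheafOfModules.isColimitFreeCofan (R := X.ringCatSheaf) ι)
  intro i
  change SheafOfModules.ιFree i ≫ p ≫ biproduct.ι (fun _ : Fin r => E) j ≫ a =
    SheafOfModules.ιFree i ≫ p ≫ biproduct.ι (fun _ : Fin r => E) j ≫ b
  have h1 : SheafOfModules.ιFree (R := X.ringCatSheaf) (j, i) ≫ q ≫ a =
      SheafOfModules.ιFree (R := X.ringCatSheaf) (j, i) ≫ q ≫ b :=
    congrArg (fun t => SheafOfModules.ιFree (R := X.ringCatSheaf) (j, i) ≫ t) hab
  have h2 : SheafOfModules.ιFree (R := X.ringCatSheaf) (j, i) ≫ q ≫ a =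
      SheafOfModules.ιFree i ≫ p ≫ biproduct.ι (fun _ : Fin r => E) j ≫ a :=
    (Category.assoc _ _ _).symm.trans ((congrArg (fun t => t ≫ a) (hq j i)).trans
      ((Category.assoc _ _ _).trans (congrArg (fun t => SheafOfModules.ιFree i ≫ t)
        (Category.assoc _ _ _))))
  have h3 : SheafOfModules.ιFree (R := X.ringCatSheaf) (j, i) ≫ q ≫ b =
      SheafOfModules.ιFree i ≫ p ≫ biproduct.ι (fun _ : Fin r => E) j ≫ b :=
    (Category.assoc _ _ _).symm.trans ((congrArg (fun t => t ≫ b) (hq j i)).trans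
      ((Category.assoc _ _ _).trans (congrArg (fun t => SheafOfModules.ιFree i ≫ t)
        (Category.assoc _ _ _))))
  exact h2.symm.trans (h1.trans h3)

theorem defAmple_tensor (k : Type u) [Field k]
    [X.Over (Spec (CommRingCat.of k))] [IsProper (X ↘ Spec (CommRingCat.of k))]
    (hdim : topologicalKrullDim ↥X ≤ 1) (ω A E : X.Modules) (hA : Coh.IsCoh A)
    (hAgg : Curv2.IsGloballyGenerated A)
    (hE : Curv2.IsGloballyGenerated E ∧ Subsingleton (Coh.HH X (CohB1.tensorMod E ω) 1)) :
    Curv2.IsGloballyGenerated (CohB1.tensorMod A E) ∧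
      Subsingleton (Coh.HH X (CohB1.tensorMod (CohB1.tensorMod A E) ω) 1) := by
  haveI : CompactSpace X :=
    QuasiCompact.compactSpace_of_compactSpace (X ↘ Spec (CommRingCat.of k))
  haveI : IsLocallyNoetherian X :=
    LocallyOfFiniteType.isLocallyNoetherian (X ↘ Spec (CommRingCat.of k))
  haveI : IsNoetherian X := {}
  obtain ⟨r, φ, hφ⟩ :=
    Groth.Agent.Lib.Helper12.H12Fin.exists_epi_biproduct_unit_of_isGloballyGenerated A hA hAgg
  have hepi1 : Epi ((tensorRight E).map φ) := inferInstance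
  let e := Groth.Agent.Lib.Helper12.H12Fin.biproductUnitTensorIso r E
  constructor
  · have h1 := isGloballyGenerated_biproduct r E hE.1
    have h2 := isGloballyGenerated_of_iso e.symm h1
    exact isGloballyGenerated_of_epi (hq := hepi1) ((tensorRight E).map φ) h2
  · have hepi2 : Epi ((tensorRight ω).map ((tensorRight E).map φ)) := inferInstance
    refine subsingleton_HH_one_of_epi (hq := hepi2) hdim
      ((tensorRight ω).map ((tensorRight E).map φ)) ?_
    let e2 : CohB1.tensorMod (CohB1.tensorMod (⨁ fun _ : Fin r => unitM X) E) ω ≅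
        CohB1.tensorMod (⨁ fun _ : Fin r => E) ω := tensorCongr e (Iso.refl ω)
    let e3 : CohB1.tensorMod (⨁ fun _ : Fin r => E) ω ≅
        ⨁ fun _ : Fin r => (tensorRight ω).obj E :=
      (tensorRight ω).mapBiproduct (fun _ : Fin r => E)
    have h3 : Subsingleton (Coh.HH X (⨁ fun _ : Fin r => (tensorRight ω).obj E) 1) :=
      Groth.Agent.Lib.Helper12.H12Fin.subsingleton_HH_biproduct k _ 1 (fun _ => hE.2)
    exact Groth.Agent.Lib.Lead.Pn.subsingleton_HH_of_iso (e2 ≪≫ e3).symm 1 h3

theorem main_tensorPow (k : Type u) [Field k]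
    [X.Over (Spec (CommRingCat.of k))] [IsProper (X ↘ Spec (CommRingCat.of k))]
    (hdim : topologicalKrullDim ↥X ≤ 1) (ω E : X.Modules) (hEc : Coh.IsCoh E)
    (hE : Curv2.IsGloballyGenerated E ∧ Subsingleton (Coh.HH X (CohB1.tensorMod E ω) 1))
    (n : ℕ) (hn : 1 ≤ n) :
    Curv2.IsGloballyGenerated (CohB1.tensorPow E n) ∧
      Subsingleton (Coh.HH X (CohB1.tensorMod (CohB1.tensorPow E n) ω) 1) := by
  have key : ∀ m : ℕ, 1 ≤ m → Coh.IsCoh (CohB1.tensorPow E m) ∧
      (Curv2.IsGloballyGenerated (CohB1.tensorPow E m) ∧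
        Subsingleton (Coh.HH X (CohB1.tensorMod (CohB1.tensorPow E m) ω) 1)) := by
    intro m hm
    induction m, hm using Nat.le_induction with
    | base =>
      have e : CohB1.tensorPow E 1 ≅ E := tensorPowOne E
      have hOc : Coh.IsCoh (unitM X) := ⟨isQuasicoherent_of_isInvertible (isInvertible_unit X),
        isFiniteType_of_isInvertible (isInvertible_unit X)⟩
      refine ⟨Groth.Agent.Lib.Helper12.H12Fin.isCoh_tensorMod' hOc hEc, ?_, ?_⟩
      · exact isGloballyGenerated_of_iso e.symm hE.1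
      · exact Groth.Agent.Lib.Lead.Pn.subsingleton_HH_of_iso
          (tensorCongr e.symm (Iso.refl ω)) 1 hE.2
    | succ m hm ih =>
      refine ⟨Groth.Agent.Lib.Helper12.H12Fin.isCoh_tensorMod' ih.1 hEc, ?_⟩
      exact defAmple_tensor k hdim ω (CohB1.tensorPow E m) E ih.1 ih.2.1 hE
  exact (key n hn).2

end Groth.Agent.Lib.Helper17.SkyVanish
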