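import Groth.Agent.Lib.Helper17.SecGlue
import Groth.Agent.Lib.Helper17.PushCoh
import Groth.Agent.Lib.Helper17.MVAbs

/-!
# Functors between module categories given by sections over other opens
-/

set_option autoImplicit false
universe u

open CategoryTheory Limits Opposite AlgebraicGeometry TopologicalSpace CochainComplex

namespace Groth.Agent.Lib.Helper17.SecFun

open Groth.Agent.Lib.Helper17.SG1 Groth.Agent.Lib.Helper17.SG2 Groth.Agent.Lib.Helper17.SG7
open Groth.Agent.Lib.Helper17.QcSec Groth.Agent.Lib.Helper17.SecGlue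
open Groth.Agent.Lib.Helper17.PushCoh Groth.Agent.Lib.Helper17.RL1
open Groth.Agent.Lib.Helper17.RL10 Groth.Agent.Lib.Helper17.MVAbs

variable {X S : Scheme.{u}}

/-- the sections of `Φ M` over `V` are the sections of `M` over `u V`. -/
structure SecData (Φ : X.Modules ⥤ S.Modules) where
  u : S.Opens → X.Opens
  mono : ∀ {V' V : S.Opens}, V' ≤ V → u V' ≤ u V
  e : ∀ (V : S.Opens) (M : X.Modules),
    ((schemeGens S).G V ⟶ Φ.obj M) ≃ ((schemeGens X).G (u V) ⟶ M)
  he : ∀ (V : S.Opens) {M N : X.Modules} (σ : (schemeGens S).G V ⟶ Φ.obj M) (φ : M ⟶ N),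
    e V N (σ ≫ Φ.map φ) = e V M σ ≫ φ
  hadd : ∀ (V : S.Opens) (M : X.Modules) (σ τ : (schemeGens S).G V ⟶ Φ.obj M),
    e V M (σ + τ) = e V M σ + e V M τ

namespace SecData

variable {Φ Φ' : X.Modules ⥤ S.Modules}

lemma e_zero (d : SecData Φ) (V : S.Opens) (M : X.Modules) : d.e V M 0 = 0 := by
  have h := d.hadd V M 0 0
  rw [add_zero] at h
  exact left_eq_add.mp h

lemma e_neg (d : SecData Φ) (V : S.Opens) (M : X.Modules) (σ : (schemeGens S).G V ⟶ Φ.obj M) :
    d.e V M (-σ) = -d.e V M σ := by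
  have h := d.hadd V M σ (-σ)
  rw [add_neg_cancel, d.e_zero] at h
  exact (neg_eq_of_add_eq_zero_right h.symm).symm

/-- a natural transformation which is restriction on sections. -/
structure Res (d : SecData Φ) (d' : SecData Φ') (r : Φ ⟶ Φ') : Prop where
  le : ∀ V, d'.u V ≤ d.u V
  comm : ∀ (V : S.Opens) (M : X.Modules) (σ : (schemeGens S).G V ⟶ Φ.obj M),
    d'.e V M (σ ≫ r.app M) = (schemeGens X).Gm (homOfLE (le V)) ≫ d.e V M σ

end SecData

section base

variable {Φ : X.Modules ⥤ S.Modules} [Φ.Additive] [PreservesFiniteLimits Φ] (d : SecData Φ)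

/-- **`H^i(Φ I) ≅ Φ H^i(I)`** for `I` K-injective with quasi-coherent cohomology if the sections of
`Φ` over affines are sections over affines. -/
theorem isIso_cmp (hu : ∀ V : S.Opens, IsAffineOpen V → IsAffineOpen (d.u V))
    (I : CochainComplex X.Modules ℤ) [I.IsKInjective]
    (hI : ∀ i : ℤ, (I.homology i).IsQuasicoherent) (i : ℤ) :
    IsIso (cmp Φ I i) := by
  have he : ∀ (V : S.Opens) {M N : X.Modules}
      (σ : (schemeGens S).G V ⟶ Φ.obj M) (φ : M ⟶ N),
      d.e V N (σ ≫ Φ.map φ) = d.e V M σ ≫ φ :=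
    fun V _ _ σ φ => d.he V σ φ
  have hadd : ∀ (V : S.Opens) (M : X.Modules)
      (σ τ : (schemeGens S).G V ⟶ Φ.obj M),
      d.e V M (σ + τ) = d.e V M σ + d.e V M τ :=
    fun V M σ τ => d.hadd V M σ τ
  have hB := exists_affine_cover S
  haveI : Mono (cmp Φ I i) := by
    apply mono_of_local (schemeGens S) _ {V : S.Opens | IsAffineOpen V} hB
    intro V hV σ hσ
    obtain ⟨T, hT, hloc⟩ := (schemeGens S).exists_local_hcls (ΦC Φ I) i σ
    obtain ⟨ι, Yf, gf, hgT, hcov, hYB⟩ := exists_family_in_sieve _ hB V T hT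
    apply (schemeGens S).sep σ _ hcov
    intro W k hk
    obtain ⟨_, k', _, ⟨j⟩, rfl⟩ := hk
    obtain ⟨y, hy, hσy⟩ := hloc (gf j) (hgT j)
    have h0 : hcls (ΦC Φ I) i y hy = 0 := by
      have h1 : hcls (ΦC Φ I) i y hy ≫ cmp Φ I i = 0 := by
        rw [← hσy, Category.assoc, hσ, comp_zero]
      have h2 := hcls_cmp Φ _ _ (d.e (Yf j)) (he (Yf j)) (hadd (Yf j)) I i y hy
      rw [h1, Groth.Agent.Lib.Helper17.SecQis.e_zero Φ _ _ (d.e (Yf j)) (hadd (Yf j))] at h2
      obtain ⟨w', hw'⟩ := boundary_of_hcls_eq_zero (d.u (Yf j)) (hu _ (hYB j))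
        I hI i _ _ h2.symm
      apply hcls_eq_zero_of_boundary _ i y hy ((d.e (Yf j) _).symm w')
      apply (d.e (Yf j) _).injective
      have h3 := he (Yf j) ((d.e (Yf j) _).symm w') (I.d (i - 1) i)
      rw [Equiv.apply_symm_apply] at h3
      exact h3.trans hw'
    rw [(schemeGens S).Gm_comp, Category.assoc, hσy, h0, comp_zero]
  haveI : Epi (cmp Φ I i) := by
    apply epi_of_local (schemeGens S) _ {V : S.Opens | IsAffineOpen V} hB
    intro V hV σ
    refine ⟨⊤, (Opens.grothendieckTopology S).top_mem V, fun Y' g _ => ?_⟩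
    obtain ⟨y', hy', hσ'⟩ := exists_hcls_eq (d.u V) (hu V hV) I hI i (d.e V _ σ)
    have hy := e_symm_cycle Φ _ _ (d.e V) (he V) (hadd V) I i y' hy'
    refine ⟨(schemeGens S).Gm g ≫ hcls (ΦC Φ I) i _ hy, ?_⟩
    rw [Category.assoc]
    congr 1
    apply (d.e V _).injective
    rw [hcls_cmp Φ _ _ (d.e V) (he V) (hadd V) I i _ hy, ← hσ']
    congr 1
    exact Equiv.apply_symm_apply _ _
  exact isIso_of_mono_of_epi _

end base

section gens

variable {C : Type u} [SmallCategory C] {J : GrothendieckTopology C}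
  {A : Type (u + 1)} [Category.{u} A] [Abelian A] (sg : SiteGens J A)

/-- a short complex is exact if generator-valued cycles lift. -/
lemma exact_of_lift (T : ShortComplex A)
    (h : ∀ (V : C) (c : sg.G V ⟶ T.X₂), c ≫ T.g = 0 → ∃ b : sg.G V ⟶ T.X₁, b ≫ T.f = c) :
    T.Exact := by
  rw [ShortComplex.exact_iff_epi_toCycles]
  apply sg.epi_of_local_lift
  intro V σ
  refine ⟨⊤, J.top_mem V, fun Y g _ => ?_⟩
  obtain ⟨b, hb⟩ := h V (σ ≫ T.iCycles) (by rw [Category.assoc, T.iCycles_g, comp_zero])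
  refine ⟨sg.Gm g ≫ b, ?_⟩
  rw [Category.assoc]
  congr 1
  rw [← cancel_mono T.iCycles, Category.assoc, T.toCycles_i, hb]

end gens

section mv

variable {Φ Φ1 Φ2 Φ12 : X.Modules ⥤ S.Modules}
  (d : SecData Φ) (d1 : SecData Φ1) (d2 : SecData Φ2) (d12 : SecData Φ12)
  {r1 : Φ ⟶ Φ1} {r2 : Φ ⟶ Φ2} {s1 : Φ1 ⟶ Φ12} {s2 : Φ2 ⟶ Φ12}
  (hr1 : d.Res d1 r1) (hr2 : d.Res d2 r2) (hs1 : d1.Res d12 s1) (hs2 : d2.Res d12 s2)
  (w : r1 ≫ s1 = r2 ≫ s2)
  (hc : ∀ V, d.u V ≤ d1.u V ⊔ d2.u V) (hi : ∀ V, d1.u V ⊓ d2.u V ≤ d12.u V)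

include hr1 hr2 hc in
lemma mono_lift (M : X.Modules) : Mono (biprod.lift (r1.app M) (r2.app M)) := by
  apply (schemeGens S).mono_of
  intro V σ hσ
  have h1 : σ ≫ r1.app M = 0 := by
    have := congrArg (fun t => t ≫ biprod.fst) hσ
    simpa only [Category.assoc, biprod.lift_fst, zero_comp] using this
  have h2 : σ ≫ r2.app M = 0 := by
    have := congrArg (fun t => t ≫ biprod.snd) hσ
    simpa only [Category.assoc, biprod.lift_snd, zero_comp] using this
  have e1 := hr1.comm V M σ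
  have e2 := hr2.comm V M σ
  have e1' : (schemeGens X).Gm (homOfLE (hr1.le V)) ≫ d.e V M σ = 0 := by
    rw [← e1]
    exact (congrArg (d1.e V M) h1).trans (d1.e_zero V M)
  have e2' : (schemeGens X).Gm (homOfLE (hr2.le V)) ≫ d.e V M σ = 0 := by
    rw [← e2]
    exact (congrArg (d2.e V M) h2).trans (d2.e_zero V M)
  have h3 : d.e V M σ = 0 := by
    apply gen_sep₂ X M (hr1.le V) (hr2.le V) (hc V)
    · rw [e1', comp_zero]
    · rw [e2', comp_zero]
  apply (d.e V M).injective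
  rw [h3, d.e_zero]

include hs1 in
lemma epi_desc (M : X.Modules) [Injective M] : Epi (biprod.desc (s1.app M) (-(s2.app M))) := by
  apply (schemeGens S).epi_of_local_lift
  intro V σ
  refine ⟨⊤, (Opens.grothendieckTopology S).top_mem V, fun Y' g _ => ?_⟩
  obtain ⟨τ', hτ'⟩ := exists_extension_of_injective X M (homOfLE (hs1.le V)) (d12.e V M σ)
  refine ⟨(schemeGens S).Gm g ≫ (d1.e V M).symm τ' ≫ biprod.inl, ?_⟩
  rw [Category.assoc]
  congr 1
  rw [Category.assoc, biprod.inl_desc]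
  apply (d12.e V M).injective
  rw [hs1.comm, Equiv.apply_symm_apply, hτ']

include hr1 hr2 hs1 hs2 hc hi in
lemma exists_lift (M : X.Modules) (V : S.Opens) (c : (schemeGens S).G V ⟶ Φ1.obj M ⊞ Φ2.obj M)
    (hcz : c ≫ biprod.desc (s1.app M) (-(s2.app M)) = 0) :
    ∃ b : (schemeGens S).G V ⟶ Φ.obj M, b ≫ biprod.lift (r1.app M) (r2.app M) = c := by
  have h1 : (c ≫ biprod.fst) ≫ s1.app M = (c ≫ biprod.snd) ≫ s2.app M := by
    have h3 : biprod.desc (s1.app M) (-(s2.app M)) =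
        biprod.fst ≫ s1.app M - biprod.snd ≫ s2.app M := by
      apply biprod.hom_ext' <;> simp
    rw [h3, Preadditive.comp_sub, ← Category.assoc, ← Category.assoc] at hcz
    exact sub_eq_zero.mp hcz
  have h4 : (schemeGens X).Gm (homOfLE (hs1.le V)) ≫ d1.e V M (c ≫ biprod.fst) =
      (schemeGens X).Gm (homOfLE (hs2.le V)) ≫ d2.e V M (c ≫ biprod.snd) := by
    rw [← hs1.comm, ← hs2.comm, h1]
  obtain ⟨τ, hτ1, hτ2⟩ := gen_glue₂ X M (hr1.le V) (hr2.le V) (hs1.le V) (hs2.le V) (hc V) (hi V)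
    _ _ h4
  refine ⟨(d.e V M).symm τ, ?_⟩
  apply biprod.hom_ext
  · rw [Category.assoc, biprod.lift_fst]
    apply (d1.e V M).injective
    rw [hr1.comm, Equiv.apply_symm_apply, hτ1]
  · rw [Category.assoc, biprod.lift_snd]
    apply (d2.e V M).injective
    rw [hr2.comm, Equiv.apply_symm_apply, hτ2]

include hr1 hr2 hs1 hs2 hc hi in
/-- **Mayer–Vietoris** for an injective module. -/
theorem mvObj_shortExact (M : X.Modules) [Injective M] : (mvObj r1 r2 s1 s2 w M).ShortExact := by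
  haveI : Mono (mvObj r1 r2 s1 s2 w M).f := mono_lift d d1 d2 hr1 hr2 hc M
  haveI : Epi (mvObj r1 r2 s1 s2 w M).g := epi_desc d1 d12 hs1 M
  refine { exact := ?_, mono_f := inferInstance, epi_g := inferInstance }
  apply exact_of_lift (schemeGens S)
  intro V c hcz
  exact exists_lift d d1 d2 d12 hr1 hr2 hs1 hs2 hc hi M V c hcz

end mv

end Groth.Agent.Lib.Helper17.SecFun
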