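import Groth.Agent.Lib.Helper17.QcSec

/-!
# Sections of modules via generators: restriction, flasqueness of injectives, gluing
-/

set_option autoImplicit false
universe u

open CategoryTheory Limits Opposite AlgebraicGeometry TopologicalSpace

namespace Groth.Agent.Lib.Helper17.SecGlue

open Groth.Agent.Lib.Helper17.SG1 Groth.Agent.Lib.Helper17.SG3 Groth.Agent.Lib.Helper17.SG7
open Groth.Agent.Lib.Helper17.QcSec Groth.Agent.Lib.Helper20.FreeSheaf

section general

variable {C : Type u} [SmallCategory C] {J : GrothendieckTopology C} (R : Sheaf J RingCat.{u})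

/-- the free presheaf of modules functor preserves monomorphisms. -/
lemma mono_free_map {L' L : Cᵒᵖ ⥤ Type u} (g : L' ⟶ L) (hg : ∀ X, Function.Injective (g.app X)) :
    Mono ((PresheafOfModules.free R.obj).map g) := by
  haveI : Mono ((PresheafOfModules.toPresheaf R.obj).map ((PresheafOfModules.free R.obj).map g)) := by
    apply (config := { allowSynthFailures := true }) NatTrans.mono_of_mono_app
    intro X
    rw [AddCommGrpCat.mono_iff_injective]
    exact Finsupp.mapDomain_injective (hg X)
  exact (PresheafOfModules.toPresheaf R.obj).mono_of_mono_map inferInstance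

/-- the transition maps between the generators are monomorphisms when the site is a preorder. -/
lemma mono_GRm [Quiver.IsThin C] {U V : C} (g : V ⟶ U) : Mono (GRm R g) := by
  haveI := mono_free_map R (yoneda.map g) (fun X a b _ => Subsingleton.elim _ _)
  exact inferInstanceAs (Mono ((Groth.Agent.Lib.Helper5.Deg0.aR R).map
    ((PresheafOfModules.free R.obj).map (yoneda.map g))))

end general

variable (X : Scheme.{u})

instance mono_Gm {U V : X.Opens} (g : V ⟶ U) : Mono ((schemeGens X).Gm g) :=
  mono_GRm X.ringCatSheaf g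

/-- injective modules are flasque. -/
lemma exists_extension_of_injective (M : X.Modules) [Injective M] {U V : X.Opens} (g : V ⟶ U)
    (τ : (schemeGens X).G V ⟶ M) : ∃ σ : (schemeGens X).G U ⟶ M, (schemeGens X).Gm g ≫ σ = τ :=
  ⟨Injective.factorThru τ ((schemeGens X).Gm g), Injective.comp_factorThru _ _⟩

/-- restriction of sections in terms of generators. -/
lemma sec_res (M : X.Modules) {U V : X.Opens} (g : V ⟶ U) (σ : (schemeGens X).G U ⟶ M) :
    sec X V M ((schemeGens X).Gm g ≫ σ) =
      ((SheafOfModules.toSheaf X.ringCatSheaf).obj M).obj.map g.op (sec X U M σ) := by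
  have h1 : sec X V M ((schemeGens X).Gm g ≫ σ) = a (Opens.grothendieckTopology X) V _
    (β X.ringCatSheaf (yoneda.obj V) M ((schemeGens X).Gm g ≫ σ)) := rfl
  have h2 := βU_nat_left X.ringCatSheaf g M σ
  have h3 := a_nat_left (Opens.grothendieckTopology X) g (β X.ringCatSheaf (yoneda.obj U) M σ)
  exact h1.trans ((congrArg _ h2).trans h3)

/-- separation for a binary cover, in terms of generators. -/
lemma gen_sep₂ (M : X.Modules) {A A1 A2 : X.Opens} (h1 : A1 ≤ A) (h2 : A2 ≤ A)
    (hc : A ≤ A1 ⊔ A2) (σ τ : (schemeGens X).G A ⟶ M)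
    (hσ1 : (schemeGens X).Gm (homOfLE h1) ≫ σ = (schemeGens X).Gm (homOfLE h1) ≫ τ)
    (hσ2 : (schemeGens X).Gm (homOfLE h2) ≫ σ = (schemeGens X).Gm (homOfLE h2) ≫ τ) : σ = τ := by
  apply (sec X A M).injective
  let F : TopCat.Sheaf AddCommGrpCat X := (SheafOfModules.toSheaf X.ringCatSheaf).obj M
  refine TopCat.Sheaf.eq_of_locally_eq₂ F (homOfLE h1) (homOfLE h2) hc _ _ ?_ ?_
  · have e1 := sec_res X M (homOfLE h1) σ
    have e2 := sec_res X M (homOfLE h1) τ
    exact e1.symm.trans ((congrArg _ hσ1).trans e2)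
  · have e1 := sec_res X M (homOfLE h2) σ
    have e2 := sec_res X M (homOfLE h2) τ
    exact e1.symm.trans ((congrArg _ hσ2).trans e2)

/-- gluing for a binary cover, in terms of generators. -/
lemma gen_glue₂ (M : X.Modules) {A A1 A2 A12 : X.Opens} (h1 : A1 ≤ A) (h2 : A2 ≤ A)
    (h121 : A12 ≤ A1) (h122 : A12 ≤ A2) (hc : A ≤ A1 ⊔ A2) (hi : A1 ⊓ A2 ≤ A12)
    (σ1 : (schemeGens X).G A1 ⟶ M) (σ2 : (schemeGens X).G A2 ⟶ M)
    (hσ : (schemeGens X).Gm (homOfLE h121) ≫ σ1 = (schemeGens X).Gm (homOfLE h122) ≫ σ2) :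
    ∃ σ : (schemeGens X).G A ⟶ M, (schemeGens X).Gm (homOfLE h1) ≫ σ = σ1 ∧
      (schemeGens X).Gm (homOfLE h2) ≫ σ = σ2 := by
  let F : TopCat.Sheaf AddCommGrpCat X := (SheafOfModules.toSheaf X.ringCatSheaf).obj M
  let U : Bool → Opens X := fun t => cond t A1 A2
  let sf : ∀ t : Bool, ToType (F.1.obj (op (U t))) := fun t =>
    match t with
    | true => sec X A1 M σ1
    | false => sec X A2 M σ2
  have key : ∀ (B : X.Opens) (hB1 : B ≤ A1) (hB2 : B ≤ A2),
      F.1.map (homOfLE hB1).op (sec X A1 M σ1) = F.1.map (homOfLE hB2).op (sec X A2 M σ2) := by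
    intro B hB1 hB2
    have e1 := sec_res X M (homOfLE h121) σ1
    have e2 := sec_res X M (homOfLE h122) σ2
    have e3 : F.1.map (homOfLE h121).op (sec X A1 M σ1) =
        F.1.map (homOfLE h122).op (sec X A2 M σ2) := e1.symm.trans ((congrArg _ hσ).trans e2)
    have e4 := congrArg (F.1.map (homOfLE ((le_inf hB1 hB2).trans hi)).op) e3
    rw [← ConcreteCategory.comp_apply, ← ConcreteCategory.comp_apply, ← F.1.map_comp,
      ← F.1.map_comp] at e4
    exact e4
  have hcomp : TopCat.Presheaf.IsCompatible F.1 U sf := by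
    rintro (_ | _) (_ | _)
    · rfl
    · exact (key _ inf_le_right inf_le_left).symm
    · exact key _ inf_le_left inf_le_right
    · rfl
  obtain ⟨s, hs, -⟩ := F.existsUnique_gluing' U A
    (fun t => match t with
      | true => homOfLE h1
      | false => homOfLE h2)
    (by
      refine le_trans hc ?_
      rw [sup_le_iff]
      exact ⟨le_iSup U true, le_iSup U false⟩) sf hcomp
  refine ⟨(sec X A M).symm s, ?_, ?_⟩
  · apply (sec X A1 M).injective
    rw [sec_res, Equiv.apply_symm_apply]
    exact hs true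
  · apply (sec X A2 M).injective
    rw [sec_res, Equiv.apply_symm_apply]
    exact hs false

end Groth.Agent.Lib.Helper17.SecGlue
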