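/-
helper17: full faithfulness of the functor `A'/J' ⥤ A/J` between Serre quotients
induced by a full exact subcategory `A' ⊆ A` satisfying a subquotient condition.
-/
import Mathlib

universe v u v' u' v'' u''

open CategoryTheory CategoryTheory.Limits

namespace Groth.Agent.Lib.Helper17.SerreFF

variable {A A' : Type u} [Category.{v} A] [Abelian A] [Category.{v} A'] [Abelian A']
  (i : A' ⥤ A) [i.Full] [i.Faithful] [PreservesFiniteLimits i] [PreservesFiniteColimits i]
  (J : ObjectProperty A) [J.IsSerreClass] [(J.inverseImage i).IsSerreClass]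

omit [i.Full] [i.Faithful] in
lemma map_isoModSerre {M N : A'} (f : M ⟶ N) (hf : (J.inverseImage i).isoModSerre f) :
    J.isoModSerre (i.map f) := by
  haveI : i.PreservesZeroMorphisms := inferInstance
  exact ⟨J.prop_of_iso (PreservesKernel.iso i f) hf.1,
    J.prop_of_iso (PreservesCokernel.iso i f) hf.2⟩

omit [i.Full] [i.Faithful] in
/-- core of faithfulness -/
lemma exists_postcomp {M N : A'} (f₁ f₂ : M ⟶ N) {Z : A} (t : i.obj N ⟶ Z)
    (ht : J.isoModSerre t) (h : i.map f₁ ≫ t = i.map f₂ ≫ t) :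
    ∃ (N₁ : A') (s : N ⟶ N₁), (J.inverseImage i).isoModSerre s ∧ f₁ ≫ s = f₂ ≫ s := by
  haveI : i.Additive := Functor.additive_of_preserves_binary_products _
  let g := f₁ - f₂
  refine ⟨cokernel g, cokernel.π g, ?_, ?_⟩
  · rw [ObjectProperty.isoModSerre_iff_of_epi]
    change J (i.obj (Abelian.image g))
    have h0 : i.map (Abelian.image.ι g) ≫ t = 0 := by
      rw [← cancel_epi (i.map (Abelian.factorThruImage g)), ← Category.assoc, ← i.map_comp,
        Abelian.image.fac, comp_zero]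
      dsimp only [g]
      rw [i.map_sub, Preadditive.sub_comp, h, sub_self]
    haveI : Mono (kernel.lift t (i.map (Abelian.image.ι g)) h0) :=
      mono_of_mono_fac (kernel.lift_ι _ _ _)
    exact J.prop_of_mono (kernel.lift t (i.map (Abelian.image.ι g)) h0) ht.1
  · have := cokernel.condition g
    dsimp only [g] at this
    rwa [Preadditive.sub_comp, sub_eq_zero] at this

omit [i.Faithful] in
/-- subobjects of `i M` with cokernel in `J` come from `A'`. -/
lemma exists_sub
    (hquot : ∀ (M : A') (N : A) (p : i.obj M ⟶ N), Epi p → J N → i.essImage N)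
    {M : A'} {I : A} (μ : I ⟶ i.obj M) [Mono μ] (hμ : J (cokernel μ)) :
    ∃ (M₀ : A') (m : M₀ ⟶ M) (α : i.obj M₀ ≅ I),
      (J.inverseImage i).isoModSerre m ∧ α.hom ≫ μ = i.map m := by
  haveI : i.PreservesZeroMorphisms := inferInstance
  have hC := hquot M _ (cokernel.π μ) inferInstance hμ
  let C₀ := hC.witness
  let β : i.obj C₀ ≅ cokernel μ := hC.getIso
  let p₀ : M ⟶ C₀ := i.preimage (cokernel.π μ ≫ β.inv)
  have hp₀ : i.map p₀ = cokernel.π μ ≫ β.inv := i.map_preimage _
  let m : kernel p₀ ⟶ M := kernel.ι p₀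
  have hm0 : i.map m ≫ cokernel.π μ = 0 := by
    rw [← cancel_mono β.inv, Category.assoc, ← hp₀, ← i.map_comp, zero_comp]
    dsimp only [m]
    rw [kernel.condition, i.map_zero]
  let v : i.obj (kernel p₀) ⟶ I := Abelian.monoLift μ (i.map m) hm0
  have hv : v ≫ μ = i.map m := Abelian.monoLift_comp _ _ _
  have hμ0 : μ ≫ i.map p₀ = 0 := by
    rw [hp₀, ← Category.assoc, cokernel.condition, zero_comp]
  let u : I ⟶ i.obj (kernel p₀) := kernel.lift (i.map p₀) μ hμ0 ≫ (PreservesKernel.iso i p₀).inv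
  have hu : u ≫ i.map m = μ := by
    dsimp only [u, m]
    rw [Category.assoc, PreservesKernel.iso_inv_ι, kernel.lift_ι]
  haveI : Mono (i.map m) := inferInstance
  refine ⟨kernel p₀, m, ⟨v, u, ?_, ?_⟩, ?_, hv⟩
  · rw [← cancel_mono (i.map m), Category.assoc, hu, hv, Category.id_comp]
  · rw [← cancel_mono μ, Category.assoc, hv, hu, Category.id_comp]
  · rw [ObjectProperty.isoModSerre_iff_of_mono]
    change J (i.obj (Abelian.coimage p₀))
    exact J.prop_of_mono (i.map (Abelian.factorThruCoimage p₀)) (J.prop_of_iso β.symm hμ)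

omit [i.Faithful] in
/-- pushing a map along an epi with kernel in `J`. -/
lemma exists_desc
    (hsub : ∀ (M : A') (N : A) (f : N ⟶ i.obj M), Mono f → J N → i.essImage N)
    {N : A'} {Z I : A} (e : Z ⟶ I) [Epi e] (he : J (kernel e)) (f : Z ⟶ i.obj N) :
    ∃ (N₁ : A') (n : N ⟶ N₁) (f' : I ⟶ i.obj N₁),
      (J.inverseImage i).isoModSerre n ∧ e ≫ f' = f ≫ i.map n := by
  haveI : i.PreservesZeroMorphisms := inferInstance
  let k : kernel e ⟶ i.obj N := kernel.ι e ≫ f
  have hIm : J (Abelian.image k) := J.prop_of_epi (Abelian.factorThruImage k) he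
  have hN₀ := hsub N _ (Abelian.image.ι k) inferInstance hIm
  let N₀ := hN₀.witness
  let γ : i.obj N₀ ≅ Abelian.image k := hN₀.getIso
  let j : N₀ ⟶ N := i.preimage (γ.hom ≫ Abelian.image.ι k)
  have hj : i.map j = γ.hom ≫ Abelian.image.ι k := i.map_preimage _
  have h0 : kernel.ι e ≫ (f ≫ i.map (cokernel.π j)) = 0 := by
    rw [← Category.assoc]
    change k ≫ _ = 0
    rw [← Abelian.image.fac k, Category.assoc]
    have : Abelian.image.ι k = γ.inv ≫ i.map j := by rw [hj, Iso.inv_hom_id_assoc]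
    rw [this, Category.assoc, ← i.map_comp, cokernel.condition, i.map_zero, comp_zero, comp_zero]
  refine ⟨cokernel j, cokernel.π j, Abelian.epiDesc e _ h0, ?_, Abelian.comp_epiDesc _ _ _⟩
  rw [ObjectProperty.isoModSerre_iff_of_epi]
  change J (i.obj (Abelian.image j))
  haveI : Epi (i.map (Abelian.factorThruImage j)) := inferInstance
  exact J.prop_of_epi (i.map (Abelian.factorThruImage j)) (J.prop_of_iso γ.symm hIm)

omit [i.Faithful] in
/-- core of fullness -/
lemma exists_fraction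
    (hsub : ∀ (M : A') (N : A) (f : N ⟶ i.obj M), Mono f → J N → i.essImage N)
    (hquot : ∀ (M : A') (N : A) (p : i.obj M ⟶ N), Epi p → J N → i.essImage N)
    {M N : A'} {Z : A} (s : Z ⟶ i.obj M) (hs : J.isoModSerre s) (f : Z ⟶ i.obj N) :
    ∃ (M₀ N₁ : A') (m : M₀ ⟶ M) (n : N ⟶ N₁) (h : M₀ ⟶ N₁) (c : Z ⟶ i.obj M₀),
      (J.inverseImage i).isoModSerre m ∧ (J.inverseImage i).isoModSerre n ∧
      s = c ≫ i.map m ∧ f ≫ i.map n = c ≫ i.map h := by
  obtain ⟨M₀, m, α, hm, hα⟩ := exists_sub i J hquot (Abelian.image.ι s)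
    (ObjectProperty.epiModSerre.isoModSerre_image_ι hs.2).2
  obtain ⟨N₁, n, f', hn, hf'⟩ := exists_desc i J hsub (Abelian.factorThruImage s)
    (ObjectProperty.monoModSerre.isoModSerre_factorThruImage hs.1).1 f
  refine ⟨M₀, N₁, m, n, i.preimage (α.hom ≫ f'), Abelian.factorThruImage s ≫ α.inv, hm, hn, ?_, ?_⟩
  · rw [Category.assoc, ← hα, Iso.inv_hom_id_assoc, Abelian.image.fac]
  · rw [i.map_preimage, Category.assoc, Iso.inv_hom_id_assoc, hf']

section Main

variable {Q : Type u'} [Category.{v'} Q] (L : A ⥤ Q) [L.IsLocalization J.isoModSerre]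
  {Q' : Type u''} [Category.{v''} Q'] (L' : A' ⥤ Q')
  [L'.IsLocalization (J.inverseImage i).isoModSerre]
  (Φ : Q' ⥤ Q) (e : L' ⋙ Φ ≅ i ⋙ L)

omit [i.Full] [i.Faithful] [PreservesFiniteLimits i] [PreservesFiniteColimits i]
  [L.IsLocalization J.isoModSerre] [L'.IsLocalization (J.inverseImage i).isoModSerre]
  [(J.inverseImage i).IsSerreClass] [J.IsSerreClass] [Abelian A] [Abelian A'] in
lemma map_L'_eq {M N : A'} (f : M ⟶ N) :
    Φ.map (L'.map f) = e.hom.app M ≫ L.map (i.map f) ≫ e.inv.app N := by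
  have := e.hom.naturality f
  dsimp at this
  rw [← Category.assoc, ← this, Category.assoc, Iso.hom_inv_id_app]
  dsimp
  rw [Category.comp_id]

omit [i.Full] [i.Faithful] [PreservesFiniteLimits i] [PreservesFiniteColimits i]
  [L.IsLocalization J.isoModSerre] [L'.IsLocalization (J.inverseImage i).isoModSerre]
  [(J.inverseImage i).IsSerreClass] [J.IsSerreClass] [Abelian A] [Abelian A'] in
lemma map_L_eq {M N : A'} (f : M ⟶ N) :
    L.map (i.map f) = e.inv.app M ≫ Φ.map (L'.map f) ≫ e.hom.app N := by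
  rw [map_L'_eq i L L' Φ e]
  simp

include J L L' e in
omit [i.Full] [i.Faithful] in
theorem faithful : Φ.Faithful := by
  let W := J.isoModSerre
  let W' := (J.inverseImage i).isoModSerre
  haveI := Localization.essSurj L' W'
  refine ⟨fun {X' Y'} a b hab => ?_⟩
  let eX := L'.objObjPreimageIso X'
  let eY := L'.objObjPreimageIso Y'
  suffices h : eX.hom ≫ a ≫ eY.inv = eX.hom ≫ b ≫ eY.inv by
    rwa [cancel_epi, cancel_mono] at h
  obtain ⟨φ, ha, hb⟩ := Localization.exists_leftFraction₂ L' W' (eX.hom ≫ a ≫ eY.inv)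
    (eX.hom ≫ b ≫ eY.inv)
  rw [ha, hb]
  haveI : IsIso (L'.map φ.s) := Localization.inverts L' W' _ φ.hs
  change L'.map φ.f ≫ inv (L'.map φ.s) = L'.map φ.f' ≫ inv (L'.map φ.s)
  rw [cancel_mono]
  have h1 : Φ.map (L'.map φ.f ≫ inv (L'.map φ.s)) = Φ.map (L'.map φ.f' ≫ inv (L'.map φ.s)) := by
    have ha' : L'.map φ.f ≫ inv (L'.map φ.s) = eX.hom ≫ a ≫ eY.inv := ha.symm
    have hb' : L'.map φ.f' ≫ inv (L'.map φ.s) = eX.hom ≫ b ≫ eY.inv := hb.symm
    rw [ha', hb']
    simp only [Functor.map_comp, hab]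
  rw [Φ.map_comp, Φ.map_comp, cancel_mono] at h1
  have h2 : L.map (i.map φ.f) = L.map (i.map φ.f') := by
    rw [map_L_eq i L L' Φ e, map_L_eq i L L' Φ e, h1]
  obtain ⟨Z, t, ht, h3⟩ := (MorphismProperty.map_eq_iff_postcomp L W _ _).1 h2
  obtain ⟨N₁, s, hs, h4⟩ := exists_postcomp i J φ.f φ.f' t ht h3
  exact (MorphismProperty.map_eq_iff_postcomp L' W' _ _).2 ⟨N₁, s, hs, h4⟩

include J L L' e in
omit [i.Faithful] in
theorem full
    (hsub : ∀ (M : A') (N : A) (f : N ⟶ i.obj M), Mono f → J N → i.essImage N)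
    (hquot : ∀ (M : A') (N : A) (p : i.obj M ⟶ N), Epi p → J N → i.essImage N) :
    Φ.Full := by
  let W := J.isoModSerre
  let W' := (J.inverseImage i).isoModSerre
  haveI := Localization.essSurj L' W'
  refine ⟨fun {X' Y'} φ => ?_⟩
  let eX := L'.objObjPreimageIso X'
  let eY := L'.objObjPreimageIso Y'
  let M := L'.objPreimage X'
  let N := L'.objPreimage Y'
  let φ' : Φ.obj (L'.obj M) ⟶ Φ.obj (L'.obj N) := Φ.map eX.hom ≫ φ ≫ Φ.map eY.inv
  let φ'' : L.obj (i.obj M) ⟶ L.obj (i.obj N) := e.inv.app M ≫ φ' ≫ e.hom.app N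
  obtain ⟨ρ, hρ⟩ := Localization.exists_rightFraction L W φ''
  obtain ⟨M₀, N₁, m, n, h, c, hm, hn, hs, hf⟩ := exists_fraction i J hsub hquot ρ.s ρ.hs ρ.f
  haveI : IsIso (L'.map m) := Localization.inverts L' W' _ hm
  haveI : IsIso (L'.map n) := Localization.inverts L' W' _ hn
  haveI : IsIso (L.map (i.map m)) := Localization.inverts L W _ (map_isoModSerre i J m hm)
  haveI : IsIso (L.map (i.map n)) := Localization.inverts L W _ (map_isoModSerre i J n hn)
  haveI : IsIso (L.map ρ.s) := Localization.inverts L W _ ρ.hs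
  let ψ : L'.obj M ⟶ L'.obj N := inv (L'.map m) ≫ L'.map h ≫ inv (L'.map n)
  have key : L.map (i.map m) ≫ φ'' ≫ L.map (i.map n) = L.map (i.map h) := by
    have h1 : L.map ρ.s ≫ φ'' = L.map ρ.f := by
      rw [hρ]
      exact MorphismProperty.RightFraction.map_s_comp_map ρ L (Localization.inverts L W)
    have h2 : L.map ρ.s = L.map c ≫ L.map (i.map m) := by rw [← L.map_comp, ← hs]
    have h3 : L.map ρ.f ≫ L.map (i.map n) = L.map c ≫ L.map (i.map h) := by
      rw [← L.map_comp, ← L.map_comp, hf]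
    haveI : IsIso (L.map c) := by
      have : L.map c = L.map ρ.s ≫ inv (L.map (i.map m)) := by
        rw [h2, Category.assoc, IsIso.hom_inv_id, Category.comp_id]
      rw [this]
      infer_instance
    apply (cancel_epi (L.map c)).1
    rw [← h3, ← h1, h2]
    simp only [Category.assoc]
  have hψ : Φ.map ψ = φ' := by
    haveI : IsIso (Φ.map (L'.map m)) := inferInstance
    haveI : IsIso (Φ.map (L'.map n)) := inferInstance
    apply (cancel_epi (Φ.map (L'.map m))).1
    apply (cancel_mono (Φ.map (L'.map n))).1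
    have lhs : (Φ.map (L'.map m) ≫ Φ.map ψ) ≫ Φ.map (L'.map n) = Φ.map (L'.map h) := by
      rw [← Φ.map_comp, ← Φ.map_comp]
      congr 1
      dsimp only [ψ]
      simp
    have rhs : (Φ.map (L'.map m) ≫ φ') ≫ Φ.map (L'.map n) = Φ.map (L'.map h) := by
      rw [map_L'_eq i L L' Φ e m, map_L'_eq i L L' Φ e n, map_L'_eq i L L' Φ e h, ← key]
      dsimp only [φ'']
      simp
    rw [lhs, rhs]
  refine ⟨eX.inv ≫ ψ ≫ eY.hom, ?_⟩
  rw [Φ.map_comp, Φ.map_comp, hψ]
  dsimp only [φ']
  simp only [Category.assoc, ← Φ.map_comp, Iso.inv_hom_id, Φ.map_id, Category.comp_id]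
  rw [← Category.assoc, ← Φ.map_comp, Iso.inv_hom_id, Φ.map_id, Category.id_comp]

end Main

end Groth.Agent.Lib.Helper17.SerreFF
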