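import Groth.Agent.Lib.Helper17.RpushQC
import Groth.Agent.Lib.Helper17.RpushQC2
import Groth.Agent.Lib.Helper17.PushCoh2
import Groth.Prelude.Def_DCoh3

/-!
# The right adjoint of `R f_*` on `D_QCoh` is bounded below
-/

set_option autoImplicit false
universe u

open CategoryTheory Limits Opposite AlgebraicGeometry TopologicalSpace CochainComplex

attribute [local instance] HasDerivedCategory.standard

namespace Groth.Agent.Lib.Helper17.ShriekBound

open Groth.Agent.Lib.Helper17.PushCoh Groth.Agent.Lib.Helper17.PushCoh2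
open Groth.Agent.Lib.Helper17.RFTri Groth.Agent.Lib.Helper17.MVAbs

variable {X Y : Scheme.{u}} (f : X ⟶ Y)

/-- `R f_*` commutes with shifts (objectwise). -/
lemma nonempty_Rpush_shift_iso [DCoh.HasRpush f] (E : DCoh.D X) (n : ℤ) :
    Nonempty ((DCoh.Rpush f).obj (E⟦n⟧) ≅ ((DCoh.Rpush f).obj E)⟦n⟧) := by
  obtain ⟨I, hI, ⟨e⟩⟩ := exists_kInjective_iso (hA X) E
  haveI := hI
  exact ⟨(DCoh.Rpush f).mapIso ((CategoryTheory.shiftFunctor (DCoh.D X) n).mapIso e ≪≫
      ((DerivedCategory.Q.commShiftIso n).app I).symm) ≪≫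
    RpushIso f (I⟦n⟧) ≪≫
    DerivedCategory.Q.mapIso ((((Scheme.Modules.pushforward f).mapHomologicalComplex
      (ComplexShape.up ℤ)).commShiftIso n).app I) ≪≫
    (DerivedCategory.Q.commShiftIso n).app _ ≪≫
    (CategoryTheory.shiftFunctor (DCoh.D Y) n).mapIso
      ((RpushIso f I).symm ≪≫ (DCoh.Rpush f).mapIso e.symm)⟩

/-- the cohomology of a shift. -/
noncomputable def HDShiftIso (E : DCoh.D X) (n i : ℤ) :
    DCoh.HD (E⟦n⟧) i ≅ DCoh.HD E (n + i) :=
  ((DerivedCategory.homologyFunctor X.Modules 0).shiftIso n i (n + i) rfl).app E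

lemma isQCohD_shift (E : DCoh.D X) (hE : DCoh.IsQCohD E) (n : ℤ) : DCoh.IsQCohD (E⟦n⟧) := fun i =>
  (SheafOfModules.isQuasicoherent X.ringCatSheaf).prop_of_iso (HDShiftIso E n i).symm (hE (n + i))

/-- **finite cohomological dimension of `Rf_*` on `D_QCoh`**, in terms of the t-structure. -/
theorem exists_bound_isLE [QuasiCompact f] [QuasiSeparated f] [DCoh.HasRpush f] [CompactSpace Y] :
    ∃ N : ℕ, ∀ (E : DCoh.D X), DCoh.IsQCohD E → ∀ n : ℤ, E.IsLE n →
      ((DCoh.Rpush f).obj E).IsLE (n + N) := by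
  obtain ⟨N₀, hN₀⟩ := Groth.Agent.Lib.Helper17.RpushQC.exists_bound f
  refine ⟨N₀.toNat, fun E hE n hn => ?_⟩
  haveI := hn
  haveI : (E⟦n⟧).IsLE 0 := DerivedCategory.TStructure.t.isLE_shift E n n 0 (add_zero n)
  have h1 := hN₀ (E⟦n⟧) (isQCohD_shift E hE n) inferInstance
  have h2 : ((DCoh.Rpush f).obj (E⟦n⟧)).IsLE (N₀.toNat : ℤ) := by
    rw [DerivedCategory.isLE_iff]
    intro i hi
    exact h1 i (by
      have := Int.self_le_toNat N₀
      omega)
  obtain ⟨e⟩ := nonempty_Rpush_shift_iso f E n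
  have h3 : (((DCoh.Rpush f).obj E)⟦n⟧).IsLE (N₀.toNat : ℤ) :=
    DerivedCategory.TStructure.t.isLE_of_iso e _
  exact (DerivedCategory.TStructure.t.isLE_shift_iff ((DCoh.Rpush f).obj E) (n + N₀.toNat) n
    (N₀.toNat : ℤ) rfl).1 h3

section adj

variable [DCoh.HasRpush f]
  (h : ∀ K : DCoh.D X, DCoh.IsQCohD K → DCoh.IsQCohD ((DCoh.Rpush f).obj K))
  (a : DCoh.DQCoh Y ⥤ DCoh.DQCoh X)
  (adj : (ObjectProperty.lift DCoh.IsQCohD (ObjectProperty.ι DCoh.IsQCohD ⋙ DCoh.Rpush f)
    (fun K => h K.obj K.property)) ⊣ a)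

include adj in
/-- morphisms into `a K` from sufficiently negative objects are unique. -/
lemma hom_subsingleton (M : DCoh.DQCoh X) (K : DCoh.DQCoh Y) (c : ℤ)
    (hM : ((DCoh.Rpush f).obj M.obj).IsLE c) (hK : K.obj.IsGE (c + 1))
    (φ₁ φ₂ : M ⟶ a.obj K) : φ₁ = φ₂ := by
  apply (adj.homEquiv M K).symm.injective
  apply ObjectProperty.hom_ext
  haveI := hM
  haveI := hK
  have h0 : ∀ ψ : (DCoh.Rpush f).obj M.obj ⟶ K.obj, ψ = 0 := fun ψ =>
    DerivedCategory.TStructure.t.zero ψ c (c + 1) (by omega)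
  exact (h0 _).trans (h0 _).symm

include adj in
/-- vanishing of the low cohomology of `a K`. -/
theorem isZero_HD_of_bound (N : ℕ)
    (hN : ∀ (E : DCoh.D X), DCoh.IsQCohD E → ∀ n : ℤ, E.IsLE n →
      ((DCoh.Rpush f).obj E).IsLE (n + N))
    (K : DCoh.DQCoh Y) (c : ℤ) (hK : ∀ i : ℤ, i ≤ c → IsZero (DCoh.HD K.obj i))
    (i : ℤ) (hi : i ≤ c - N) : IsZero (DCoh.HD (a.obj K).obj i) := by
  have hKge : K.obj.IsGE (c + 1) := by
    rw [DerivedCategory.isGE_iff]
    intro j hj
    exact hK j (by omega)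
  set A := (a.obj K).obj with hA'
  have hAq : DCoh.IsQCohD A := (a.obj K).property
  let L := (DerivedCategory.Q (C := X.Modules)).objPreimage A
  let e : DerivedCategory.Q.obj L ≅ A := (DerivedCategory.Q (C := X.Modules)).objObjPreimageIso A
  let n := c - N
  let T : DCoh.D X := DerivedCategory.Q.obj (L.truncLE n)
  let ι : T ⟶ A := DerivedCategory.Q.map (L.ιTruncLE n) ≫ e.hom
  haveI hTle : T.IsLE n := by
    show (DerivedCategory.Q.obj (L.truncLE n)).IsLE n
    infer_instance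
  -- the map `ι` is an isomorphism on `H^j` for `j ≤ n`
  have hιiso : ∀ j : ℤ, j ≤ n → IsIso ((DerivedCategory.homologyFunctor X.Modules j).map ι) := by
    intro j hj
    have h1 : IsIso ((DerivedCategory.homologyFunctor X.Modules j).map
        (DerivedCategory.Q.map (L.ιTruncLE n))) := by
      haveI : QuasiIsoAt (L.ιTruncLE n) j := L.quasiIsoAt_ιTruncLE n j hj
      have h2 : IsIso ((HomologicalComplex.homologyFunctor X.Modules (ComplexShape.up ℤ) j).map
          (L.ιTruncLE n)) := by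
        show IsIso (HomologicalComplex.homologyMap (L.ιTruncLE n) j)
        rw [← quasiIsoAt_iff_isIso_homologyMap]
        infer_instance
      exact (NatIso.isIso_map_iff (DerivedCategory.homologyFunctorFactors X.Modules j)
        (L.ιTruncLE n)).2 h2
    show IsIso ((DerivedCategory.homologyFunctor X.Modules j).map
      (DerivedCategory.Q.map (L.ιTruncLE n) ≫ e.hom))
    rw [Functor.map_comp]
    infer_instance
  -- `T` has quasi-coherent cohomology
  have hTq : DCoh.IsQCohD T := by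
    intro j
    by_cases hj : j ≤ n
    · haveI := hιiso j hj
      exact (SheafOfModules.isQuasicoherent X.ringCatSheaf).prop_of_iso
        (asIso ((DerivedCategory.homologyFunctor X.Modules j).map ι)).symm (hAq j)
    · haveI : (DCoh.HD A 0).IsQuasicoherent := hAq 0
      exact Groth.Agent.Lib.Helper17.RpushQC.isQuasicoherent_of_isZero (DCoh.HD A 0) _
        (DerivedCategory.isZero_of_isLE T n j (by omega))
  -- hence `ι = 0`
  let T' : DCoh.DQCoh X := ⟨T, hTq⟩
  have hRT : ((DCoh.Rpush f).obj T'.obj).IsLE c := by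
    have := hN T hTq n hTle
    have hn : n + (N : ℤ) = c := by
      show c - (N : ℤ) + N = c
      omega
    rwa [hn] at this
  have hι0 : ι = 0 := by
    have := hom_subsingleton f h a adj T' K c hRT hKge (ObjectProperty.homMk ι)
      (ObjectProperty.homMk 0)
    exact congrArg (fun t => t.hom) this
  haveI := hιiso i hi
  have hz : (DerivedCategory.homologyFunctor X.Modules i).map ι = 0 := by
    rw [hι0, Functor.map_zero]
  rw [IsZero.iff_id_eq_zero]
  have h5 := IsIso.inv_hom_id ((DerivedCategory.homologyFunctor X.Modules i).map ι)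
  have h6 := congrArg (fun t => inv ((DerivedCategory.homologyFunctor X.Modules i).map ι) ≫ t) hz
  simp only [comp_zero] at h6
  exact h5.symm.trans h6

end adj

/-- **the right adjoint of `Rf_*` on `D_QCoh` is bounded below.** -/
theorem exists_bound_shriek [CompactSpace X] [QuasiSeparatedSpace X] [CompactSpace Y]
    [QuasiSeparatedSpace Y] [DCoh.HasRpush f]
    (h : ∀ K : DCoh.D X, DCoh.IsQCohD K → DCoh.IsQCohD ((DCoh.Rpush f).obj K))
    (a : DCoh.DQCoh Y ⥤ DCoh.DQCoh X)
    (adj : (ObjectProperty.lift DCoh.IsQCohD (ObjectProperty.ι DCoh.IsQCohD ⋙ DCoh.Rpush f)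
      (fun K => h K.obj K.property)) ⊣ a) :
    ∃ N : ℕ, ∀ (K : DCoh.DQCoh Y) (c : ℤ), (∀ i : ℤ, i ≤ c → IsZero (DCoh.HD K.obj i)) →
      ∀ i : ℤ, i ≤ c - N → IsZero (DCoh.HD (a.obj K).obj i) := by
  haveI : QuasiCompact f := inferInstance
  haveI : QuasiSeparated f := inferInstance
  obtain ⟨N, hN⟩ := exists_bound_isLE f
  exact ⟨N, fun K c hK i hi => isZero_HD_of_bound f h a adj N hN K c hK i hi⟩

end Groth.Agent.Lib.Helper17.ShriekBound
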