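import Mathlib
import Groth.Prelude.Def_CxOX
import Groth.Prelude.Def_DCoh4
import Groth.Agent.Lib.Helper17.ShriekPF2
import Groth.Agent.Lib.Helper17.ShriekPF3
import Groth.Agent.Lib.Helper28.LpullPerfect

/-!
# Extension by zero preserves K-flat complexes; `j_!N ⊗^L K` is in the essential image of `j_!`
(helper17)
-/

set_option autoImplicit false

universe u

open CategoryTheory Limits AlgebraicGeometry HomologicalComplex

attribute [local instance] HasDerivedCategory.standard

namespace Groth.Agent.Lib.Helper17.ShriekPF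

noncomputable section

variable {X : Scheme.{u}} (V : X.Opens)

/-- extension by zero of complexes -/
abbrev eCx : CochainComplex (V : Scheme.{u}).Modules ℤ ⥤ CochainComplex X.Modules ℤ :=
  (CxOX.extZero V.ι).mapHomologicalComplex (ComplexShape.up ℤ)

/-- the adjunction `j_! ⊣ j^*` on complexes -/
abbrev adjCx : eCx V ⊣ rCx V.ι := mapHomologicalComplexAdj (CxOX.extZeroAdj V.ι) (ComplexShape.up ℤ)

instance isIso_adjCx_unit_app (A : CochainComplex (V : Scheme.{u}).Modules ℤ) :
    IsIso ((adjCx V).unit.app A) := by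
  have : ∀ i, IsIso (((adjCx V).unit.app A).f i) := by
    intro i
    rw [mapHomologicalComplexAdj_unit_app_f]
    exact NatIso.isIso_app_of_isIso (CxOX.extZeroAdj V.ι).unit (A.X i)
  exact HomologicalComplex.Hom.isIso_of_components _

lemma isIso_adjCx_counit_app (M : CochainComplex X.Modules ℤ)
    (h : ∀ n, IsIso ((CxOX.extZeroAdj V.ι).counit.app (M.X n))) :
    IsIso ((adjCx V).counit.app M) := by
  have : ∀ i, IsIso (((adjCx V).counit.app M).f i) := by
    intro i
    rw [mapHomologicalComplexAdj_counit_app_f]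
    exact h i
  exact HomologicalComplex.Hom.isIso_of_components _

instance preservesColimit_re {J : Type} (M : J → X.Modules) :
    PreservesColimit (Discrete.functor M)
      (Scheme.Modules.restrictFunctor V.ι ⋙ CxOX.extZero V.ι) := by
  have : PreservesColimitsOfSize.{0, 0} (Scheme.Modules.restrictFunctor V.ι ⋙ CxOX.extZero V.ι) :=
    ((Scheme.Modules.restrictAdjunction V.ι).comp
      (CxOX.extZeroAdj V.ι)).leftAdjoint_preservesColimits
  infer_instance

lemma isIso_adjCx_counit_tensor (A : CochainComplex (V : Scheme.{u}).Modules ℤ)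
    (K : CochainComplex X.Modules ℤ) :
    IsIso ((adjCx V).counit.app ((DCoh.tensorCx.obj ((eCx V).obj A)).obj K)) := by
  apply isIso_adjCx_counit_app
  intro n
  exact isIso_counit_app_sigma (CxOX.extZeroAdj V.ι) _
    (fun i => isIso_counit_tensor_extZero V (A.X i.1.1) (K.X i.1.2))

lemma isIso_adjCx_counit_tensor' (K : CochainComplex X.Modules ℤ)
    (A : CochainComplex (V : Scheme.{u}).Modules ℤ) :
    IsIso ((adjCx V).counit.app ((DCoh.tensorCx.obj K).obj ((eCx V).obj A))) := by
  apply isIso_adjCx_counit_app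
  intro n
  exact isIso_counit_app_sigma (CxOX.extZeroAdj V.ι) _
    (fun i => isIso_counit_tensor_extZero' V (K.X i.1.1) (A.X i.1.2))

open Groth.Agent.Lib.Helper17.RestrKInj

lemma isZero_homology_map {A B : Type*} [Category A] [Category B] [Abelian A] [Abelian B]
    (G : A ⥤ B) [G.Additive] [PreservesFiniteLimits G] [PreservesFiniteColimits G]
    (L : CochainComplex A ℤ) (hL : ∀ i : ℤ, IsZero (L.homology i)) (i : ℤ) :
    IsZero (((G.mapHomologicalComplex (ComplexShape.up ℤ)).obj L).homology i) := by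
  have h := hL i
  rw [← HomologicalComplex.exactAt_iff_isZero_homology,
    HomologicalComplex.exactAt_iff' _ (i - 1) i (i + 1) (by simp) (by simp)] at h ⊢
  exact h.map G

/-- **extension by zero preserves K-flat complexes** -/
theorem isKFlat_eCx (A : CochainComplex (V : Scheme.{u}).Modules ℤ) (hA : DCoh.IsKFlat A) :
    DCoh.IsKFlat ((eCx V).obj A) := by
  intro L hL i
  have h1 : IsIso ((adjCx V).counit.app ((DCoh.tensorCx.obj L).obj ((eCx V).obj A))) :=
    isIso_adjCx_counit_tensor' V L A
  let i1 : (rCx V.ι).obj ((DCoh.tensorCx.obj L).obj ((eCx V).obj A)) ≅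
      (DCoh.tensorCx.obj ((rCx V.ι).obj L)).obj ((rCx V.ι).obj ((eCx V).obj A)) :=
    resTensorCxIso V.ι L _
  let i2 : (DCoh.tensorCx.obj ((rCx V.ι).obj L)).obj ((rCx V.ι).obj ((eCx V).obj A)) ≅
      (DCoh.tensorCx.obj ((rCx V.ι).obj L)).obj A :=
    (DCoh.tensorCx.obj ((rCx V.ι).obj L)).mapIso (asIso ((adjCx V).unit.app A)).symm
  have hrL : ∀ i, IsZero (((rCx V.ι).obj L).homology i) :=
    isZero_homology_map (Scheme.Modules.restrictFunctor V.ι) L hL
  have h2 : ∀ i, IsZero
      (((rCx V.ι).obj ((DCoh.tensorCx.obj L).obj ((eCx V).obj A))).homology i) := fun i =>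
    (hA _ hrL i).of_iso ((HomologicalComplex.homologyFunctor _ _ i).mapIso (i1 ≪≫ i2))
  have h3 := isZero_homology_map (CxOX.extZero V.ι) _ h2 i
  exact h3.of_iso ((HomologicalComplex.homologyFunctor _ _ i).mapIso
    (asIso ((adjCx V).counit.app ((DCoh.tensorCx.obj L).obj ((eCx V).obj A)))).symm)

end

end Groth.Agent.Lib.Helper17.ShriekPF
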