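import Mathlib
import Groth.Prelude.Def_CxOX
import Groth.Prelude.Def_DCoh4
import Groth.Agent.Lib.Helper17.ShriekPF4
import Groth.Agent.Lib.Helper28.PullTensor6

/-!
# The projection formula `j_!(N ⊗^L K|_V) ≅ j_!N ⊗^L K` on derived categories (helper17)
-/

set_option autoImplicit false

universe u

open CategoryTheory Limits AlgebraicGeometry HomologicalComplex

attribute [local instance] HasDerivedCategory.standard

namespace Groth.Agent.Lib.Helper17.ShriekPF

noncomputable section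

open Groth.Agent.Lib.Helper17.RestrKInj

variable {X : Scheme.{u}} (V : X.Opens)

/-- `j_!` on derived categories -/
abbrev jShriek : DCoh.D (V : Scheme.{u}) ⥤ DCoh.D X := CxOX.extZeroD V.ι

/-- `j^*` on derived categories -/
abbrev jStar : DCoh.D X ⥤ DCoh.D (V : Scheme.{u}) := DCoh.restrictD V.ι

/-- the adjunction `j_! ⊣ j^*` on derived categories -/
def adjD : jShriek V ⊣ jStar V :=
  mapDerivedCategoryAdj (CxOX.extZero V.ι) (Scheme.Modules.restrictFunctor V.ι)
    (CxOX.extZeroAdj V.ι)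

instance isIso_adjD_unit : IsIso (adjD V).unit :=
  isIso_mapDerivedCategoryAdj_unit _ _ (CxOX.extZeroAdj V.ι)

/-- `Q ⋙ j_! ≅ j_! ⋙ Q` -/
abbrev facE : DerivedCategory.Q ⋙ jShriek V ≅ eCx V ⋙ DerivedCategory.Q :=
  (CxOX.extZero V.ι).mapDerivedCategoryFactors

/-- `Q ⋙ j^* ≅ j^* ⋙ Q` -/
abbrev facR : DerivedCategory.Q ⋙ jStar V ≅ rCx V.ι ⋙ DerivedCategory.Q :=
  (Scheme.Modules.restrictFunctor V.ι).mapDerivedCategoryFactors

variable (K : CochainComplex X.Modules ℤ) [DCoh.HasLTensorCx K]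

/-- the counit of the left derived functor `- ⊗^L K` -/
abbrev cT : DerivedCategory.Q ⋙ DCoh.LTensorCx K ⟶ DCoh.tensorCxQ K :=
  (DCoh.tensorCxQ K).totalLeftDerivedCounit DerivedCategory.Q
    (HomologicalComplex.quasiIso X.Modules (ComplexShape.up ℤ))

theorem isIso_adjD_counit_LTensor (N : DCoh.D (V : Scheme.{u})) :
    IsIso ((adjD V).counit.app ((DCoh.LTensorCx K).obj ((jShriek V).obj N))) := by
  obtain ⟨P, hP, ⟨eP⟩⟩ := Groth.Agent.Lib.Helper28.Lpull.exists_kflat_rep N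
  have hK := isKFlat_eCx V P hP
  let i : (DCoh.LTensorCx K).obj ((jShriek V).obj N) ≅
      DerivedCategory.Q.obj ((DCoh.tensorCx.obj ((eCx V).obj P)).obj K) :=
    (DCoh.LTensorCx K).mapIso ((jShriek V).mapIso eP.symm ≪≫ (facE V).app P) ≪≫
      Groth.Agent.Lib.Helper28.Lpull.LTensorCxIsoLeft' K _ hK
  refine (NatTrans.isIso_app_iff_of_iso (adjD V).counit i).2 ?_
  unfold adjD
  rw [mapDerivedCategoryAdj_counit_app]
  have := isIso_adjCx_counit_tensor V P K
  infer_instance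

/-- `K|_V` -/
abbrev KV : CochainComplex (V : Scheme.{u}).Modules ℤ := (rCx V.ι).obj K

/-- the functor `j_! ⋙ (- ⊗^L K) ⋙ j^*` -/
abbrev GFun : DCoh.D (V : Scheme.{u}) ⥤ DCoh.D (V : Scheme.{u}) :=
  jShriek V ⋙ DCoh.LTensorCx K ⋙ jStar V

instance isIso_adjCx_unit : IsIso (adjCx V).unit := NatIso.isIso_of_isIso_app _

section beta

variable (A A' : CochainComplex (V : Scheme.{u}).Modules ℤ) (f : A ⟶ A')

/-- step 1 -/
def b1 : (jStar V).obj ((DCoh.LTensorCx K).obj ((jShriek V).obj (DerivedCategory.Q.obj A))) ⟶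
    (jStar V).obj ((DCoh.LTensorCx K).obj (DerivedCategory.Q.obj ((eCx V).obj A))) :=
  (jStar V).map ((DCoh.LTensorCx K).map ((facE V).hom.app A))

/-- step 2 -/
def b2 : (jStar V).obj ((DCoh.LTensorCx K).obj (DerivedCategory.Q.obj ((eCx V).obj A))) ⟶
    (jStar V).obj (DerivedCategory.Q.obj ((DCoh.tensorCx.obj ((eCx V).obj A)).obj K)) :=
  (jStar V).map ((cT K).app ((eCx V).obj A))

/-- step 3 -/
def b3 : (jStar V).obj (DerivedCategory.Q.obj ((DCoh.tensorCx.obj ((eCx V).obj A)).obj K)) ⟶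
    DerivedCategory.Q.obj ((rCx V.ι).obj ((DCoh.tensorCx.obj ((eCx V).obj A)).obj K)) :=
  (facR V).hom.app ((DCoh.tensorCx.obj ((eCx V).obj A)).obj K)

/-- step 4 -/
def b4 : DerivedCategory.Q.obj ((rCx V.ι).obj ((DCoh.tensorCx.obj ((eCx V).obj A)).obj K)) ⟶
    DerivedCategory.Q.obj
      ((DCoh.tensorCx.obj ((rCx V.ι).obj ((eCx V).obj A))).obj (KV V K)) :=
  DerivedCategory.Q.map ((resTensorCxNatIso V.ι K).hom.app ((eCx V).obj A))

/-- step 5 -/
def b5 : DerivedCategory.Q.obj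
      ((DCoh.tensorCx.obj ((rCx V.ι).obj ((eCx V).obj A))).obj (KV V K)) ⟶
    DerivedCategory.Q.obj ((DCoh.tensorCx.obj A).obj (KV V K)) :=
  DerivedCategory.Q.map (((DCoh.tensorCx (X := (V : Scheme.{u}))).map
    (inv ((adjCx V).unit.app A))).app (KV V K))

variable {A A'}

lemma b1_nat : (jStar V).map ((DCoh.LTensorCx K).map ((jShriek V).map (DerivedCategory.Q.map f))) ≫
      b1 V K A' =
    b1 V K A ≫ (jStar V).map ((DCoh.LTensorCx K).map (DerivedCategory.Q.map ((eCx V).map f))) := by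
  unfold b1
  rw [← Functor.map_comp, ← Functor.map_comp, ← Functor.map_comp, ← Functor.map_comp]
  congr 2
  exact (facE V).hom.naturality f

lemma b2_nat : (jStar V).map ((DCoh.LTensorCx K).map (DerivedCategory.Q.map ((eCx V).map f))) ≫
      b2 V K A' =
    b2 V K A ≫ (jStar V).map (DerivedCategory.Q.map
      (((DCoh.tensorCx (X := X)).map ((eCx V).map f)).app K)) := by
  unfold b2
  rw [← Functor.map_comp, ← Functor.map_comp]
  congr 1
  exact (cT K).naturality ((eCx V).map f)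

lemma b3_nat : (jStar V).map (DerivedCategory.Q.map
      (((DCoh.tensorCx (X := X)).map ((eCx V).map f)).app K)) ≫ b3 V K A' =
    b3 V K A ≫ DerivedCategory.Q.map ((rCx V.ι).map
      (((DCoh.tensorCx (X := X)).map ((eCx V).map f)).app K)) :=
  (facR V).hom.naturality (((DCoh.tensorCx (X := X)).map ((eCx V).map f)).app K)

lemma b4_nat : DerivedCategory.Q.map ((rCx V.ι).map
      (((DCoh.tensorCx (X := X)).map ((eCx V).map f)).app K)) ≫ b4 V K A' =
    b4 V K A ≫ DerivedCategory.Q.map (((DCoh.tensorCx (X := (V : Scheme.{u}))).map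
      ((rCx V.ι).map ((eCx V).map f))).app (KV V K)) := by
  unfold b4
  rw [← Functor.map_comp, ← Functor.map_comp]
  congr 1
  exact (resTensorCxNatIso V.ι K).hom.naturality ((eCx V).map f)

lemma b5_nat : DerivedCategory.Q.map (((DCoh.tensorCx (X := (V : Scheme.{u}))).map
      ((rCx V.ι).map ((eCx V).map f))).app (KV V K)) ≫ b5 V K A' =
    b5 V K A ≫ DerivedCategory.Q.map
      (((DCoh.tensorCx (X := (V : Scheme.{u}))).map f).app (KV V K)) := by
  have h : (rCx V.ι).map ((eCx V).map f) ≫ inv ((adjCx V).unit.app A') =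
      inv ((adjCx V).unit.app A) ≫ f := by
    rw [IsIso.comp_inv_eq, Category.assoc, IsIso.eq_inv_comp]
    exact ((adjCx V).unit.naturality f).symm
  have h2 := congrArg (fun g => (DCoh.tensorCxQ (KV V K)).map g) h
  simp only [Functor.map_comp] at h2
  exact h2

end beta

/-- the comparison `Q ⋙ j_! ⋙ (- ⊗^L K) ⋙ j^* ⟶ Q(- ⊗ K|_V)` -/
def βNat : DerivedCategory.Q ⋙ GFun V K ⟶ DCoh.tensorCxQ (KV V K) where
  app A := b1 V K A ≫ b2 V K A ≫ b3 V K A ≫ b4 V K A ≫ b5 V K A
  naturality A A' f := by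
    change (jStar V).map ((DCoh.LTensorCx K).map ((jShriek V).map (DerivedCategory.Q.map f))) ≫
      b1 V K A' ≫ b2 V K A' ≫ b3 V K A' ≫ b4 V K A' ≫ b5 V K A' =
      (b1 V K A ≫ b2 V K A ≫ b3 V K A ≫ b4 V K A ≫ b5 V K A) ≫ DerivedCategory.Q.map
        (((DCoh.tensorCx (X := (V : Scheme.{u}))).map f).app (KV V K))
    rw [reassoc_of% (b1_nat V K f), reassoc_of% (b2_nat V K f), reassoc_of% (b3_nat V K f),
      reassoc_of% (b4_nat V K f), b5_nat V K f]
    simp only [Category.assoc]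

end

end Groth.Agent.Lib.Helper17.ShriekPF
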