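import Mathlib
import Groth.Prelude.Def_CxOX
import Groth.Prelude.Def_DCoh4
import Groth.Agent.Lib.Helper17.ShriekPF5

/-!
# The projection formula `j_!(N ⊗^L K|_V) ≅ j_!N ⊗^L K` and `RHom(K, M)|_V ≅ RHom(K|_V, M|_V)`
(helper17)
-/

set_option autoImplicit false

universe u

open CategoryTheory Limits AlgebraicGeometry HomologicalComplex

attribute [local instance] HasDerivedCategory.standard

namespace Groth.Agent.Lib.Helper17.ShriekPF

noncomputable section

open Groth.Agent.Lib.Helper17.RestrKInj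

variable {X : Scheme.{u}} (V : X.Opens)
variable (K : CochainComplex X.Modules ℤ) [DCoh.HasLTensorCx K]

theorem isIso_cT_app_of_isKFlat (A : CochainComplex X.Modules ℤ) (hA : DCoh.IsKFlat A) :
    IsIso ((cT K).app A) := by
  haveI i1 : ModSite.HasLTensorCx (O := X.sheaf) K := ‹DCoh.HasLTensorCx K›
  exact Groth.Agent.Lib.Helper28.KFlatSite.isIso_counit_app_of_isKFlat_left (O := X.sheaf) K A hA

theorem isIso_βNat_app (A : CochainComplex (V : Scheme.{u}).Modules ℤ) (hA : DCoh.IsKFlat A) :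
    IsIso ((βNat V K).app A) := by
  have h1 : IsIso (b1 V K A) := by unfold b1; infer_instance
  have h2 : IsIso (b2 V K A) := by
    have := isIso_cT_app_of_isKFlat K _ (isKFlat_eCx V A hA)
    unfold b2
    infer_instance
  have h3 : IsIso (b3 V K A) := by unfold b3; infer_instance
  have h4 : IsIso (b4 V K A) := by unfold b4; infer_instance
  have h5 : IsIso (b5 V K A) := by unfold b5; infer_instance
  change IsIso (b1 V K A ≫ b2 V K A ≫ b3 V K A ≫ b4 V K A ≫ b5 V K A)
  infer_instance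

variable [DCoh.HasLTensorCx (KV V K)]

/-- the comparison `j_! ⋙ (- ⊗^L K) ⋙ j^* ⟶ - ⊗^L K|_V` -/
def γNat : GFun V K ⟶ DCoh.LTensorCx (KV V K) :=
  (DCoh.LTensorCx (KV V K)).leftDerivedLift (cT (KV V K))
    (HomologicalComplex.quasiIso (V : Scheme.{u}).Modules (ComplexShape.up ℤ)) (GFun V K) (βNat V K)

lemma γNat_fac (A : CochainComplex (V : Scheme.{u}).Modules ℤ) :
    (γNat V K).app (DerivedCategory.Q.obj A) ≫ (cT (KV V K)).app A = (βNat V K).app A :=
  Functor.leftDerived_fac_app _ _ _ _ _ _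

instance isIso_γNat : IsIso (γNat V K) := by
  have key : ∀ (A : CochainComplex (V : Scheme.{u}).Modules ℤ), DCoh.IsKFlat A →
      IsIso ((γNat V K).app (DerivedCategory.Q.obj A)) := by
    intro A hA
    have h1 := isIso_βNat_app V K A hA
    have h2 := isIso_cT_app_of_isKFlat (KV V K) A hA
    have h3 : IsIso ((γNat V K).app (DerivedCategory.Q.obj A) ≫ (cT (KV V K)).app A) := by
      rw [γNat_fac]
      exact h1
    exact IsIso.of_isIso_comp_right _ ((cT (KV V K)).app A)
  have : ∀ N : DCoh.D (V : Scheme.{u}), IsIso ((γNat V K).app N) := by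
    intro N
    obtain ⟨P, hP, ⟨eP⟩⟩ := Groth.Agent.Lib.Helper28.Lpull.exists_kflat_rep N
    exact (NatTrans.isIso_app_iff_of_iso (γNat V K) eP).1 (key P hP)
  exact NatIso.isIso_of_isIso_app _

/-- `j_! ⋙ (- ⊗^L K) ⋙ j^* ≅ - ⊗^L K|_V` -/
def γIso : GFun V K ≅ DCoh.LTensorCx (KV V K) := asIso (γNat V K)

/-- **the projection formula** `j_!N ⊗^L K ≅ j_!(N ⊗^L K|_V)`, naturally in `N` -/
def pfIso : jShriek V ⋙ DCoh.LTensorCx K ≅ DCoh.LTensorCx (KV V K) ⋙ jShriek V :=
  NatIso.ofComponents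
    (fun N =>
      haveI := isIso_adjD_counit_LTensor V K N
      (asIso ((adjD V).counit.app ((DCoh.LTensorCx K).obj ((jShriek V).obj N)))).symm ≪≫
        (jShriek V).mapIso ((γIso V K).app N))
    (by
      intro N N' g
      haveI := isIso_adjD_counit_LTensor V K N
      haveI := isIso_adjD_counit_LTensor V K N'
      have h1 := (adjD V).counit.naturality ((DCoh.LTensorCx K).map ((jShriek V).map g))
      have h2 := (γIso V K).hom.naturality g
      simp only [Functor.comp_map, Iso.trans_hom, Iso.symm_hom, asIso_inv, Functor.mapIso_hom,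
        Iso.app_hom, Category.assoc]
      rw [← (jShriek V).map_comp, ← h2, (jShriek V).map_comp, ← Category.assoc, ← Category.assoc]
      congr 1
      rw [IsIso.comp_inv_eq, Category.assoc, IsIso.eq_inv_comp]
      exact h1.symm)

variable [DCoh.HasRSheafHom K] [DCoh.HasRSheafHom (KV V K)]

/-- **`RHom(K, -)|_V ≅ RHom(K|_V, (-)|_V)`** -/
def RSheafHomRestrictIso :
    DCoh.RSheafHom K ⋙ jStar V ≅ jStar V ⋙ DCoh.RSheafHom (KV V K) :=
  Adjunction.rightAdjointUniq
    (((adjD V).comp (DCoh.RSheafHomAdj K)).ofNatIsoLeft (pfIso V K))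
    ((DCoh.RSheafHomAdj (KV V K)).comp (adjD V))

end

end Groth.Agent.Lib.Helper17.ShriekPF
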