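import Mathlib

/-!
# Sibling functors: abstract form of the uniqueness theorem

`C` a pretriangulated category with a "bounded t-structure with enough negative objects", encoded by
`RangeData`.  `F, F' : C ⥤ D` triangulated, `F` fully faithful, isomorphic on the heart and on
objects.  Then `F ≅ F'`.
-/

set_option linter.style.haveILetI false
set_option linter.unusedSectionVars false

universe v₁ v₂ v₃ u₁ u₂ u₃

open CategoryTheory Limits Pretriangulated ZeroObject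

namespace Groth.Agent.Lib.Helper17.Sib

variable {C : Type u₁} [Category.{v₁} C] [Preadditive C] [HasZeroObject C] [HasShift C ℤ]
  [∀ n : ℤ, (shiftFunctor C n).Additive] [Pretriangulated C]
  {D : Type u₂} [Category.{v₂} D] [Preadditive D] [HasZeroObject D] [HasShift D ℤ]
  [∀ n : ℤ, (shiftFunctor D n).Additive] [Pretriangulated D]
  {A : Type u₃} [Category.{v₃} A]

/-- the data of ranges `D^{[a,b]}` w.r.t. a bounded t-structure with heart `S : A ⥤ C` and enough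
negative objects -/
structure RangeData (S : A ⥤ C) where
  R : ℤ → ℤ → C → Prop
  of_iso : ∀ {a b : ℤ} {X X' : C}, R a b X → (X ≅ X') → R a b X'
  mono : ∀ {a b a' b' : ℤ} {X : C}, a' ≤ a → b ≤ b' → R a b X → R a' b' X
  exists_range : ∀ X : C, ∃ a b : ℤ, R a b X
  zero : ∀ (a b : ℤ) {X : C}, IsZero X → R a b X
  heart : ∀ (i : ℤ) (M : A), R i i ((S.obj M)⟦-i⟧)
  of_heart : ∀ {a : ℤ} {X : C}, R a a X → ∃ M : A, Nonempty (X ≅ (S.obj M)⟦-a⟧)
  orth : ∀ {a b a' b' : ℤ} {X X' : C}, R a b X → R a' b' X' → b < a' → ∀ f : X ⟶ X', f = 0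
  full : ∀ (n : ℤ) (M N : A) (f : (S.obj M)⟦n⟧ ⟶ (S.obj N)⟦n⟧), ∃ ν : M ⟶ N, f = (S.map ν)⟦n⟧'
  pres : ∀ {a b : ℤ} {X X' Z₁ Z₂ : C}, a < b → R a b X → R a b X' → R a (b - 1) Z₁ →
    R a (b - 1) Z₂ → ∀ (g₁ : X ⟶ Z₁) (g₂ : X ⟶ Z₂),
    ∃ (N : A) (x : (S.obj N)⟦-b⟧ ⟶ X) (Y : C) (y : X ⟶ Y) (z : Y ⟶ ((S.obj N)⟦-b⟧)⟦(1 : ℤ)⟧),
      Triangle.mk x y z ∈ distTriang C ∧ R a (b - 1) Y ∧ (∀ f : X ⟶ (S.obj N)⟦-b⟧, f = 0) ∧
      (∀ f : X' ⟶ (S.obj N)⟦-b⟧, f = 0) ∧ x ≫ g₁ = 0 ∧ x ≫ g₂ = 0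

variable {S : A ⥤ C} (F F' : C ⥤ D) [F.CommShift ℤ] [F'.CommShift ℤ] (φ : S ⋙ F ≅ S ⋙ F')

section Psi

/-- the isomorphism on shifted heart objects induced by `φ` -/
noncomputable def ψ (n : ℤ) (M : A) : F.obj ((S.obj M)⟦n⟧) ≅ F'.obj ((S.obj M)⟦n⟧) :=
  (F.commShiftIso n).app (S.obj M) ≪≫ (shiftFunctor D n).mapIso (φ.app M) ≪≫
    ((F'.commShiftIso n).app (S.obj M)).symm

lemma ψ_hom (n : ℤ) (M : A) : (ψ F F' φ n M).hom =
    (F.commShiftIso n).hom.app (S.obj M) ≫ (φ.hom.app M)⟦n⟧' ≫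
      (F'.commShiftIso n).inv.app (S.obj M) := rfl

lemma ψ_natural (n : ℤ) {M N : A} (ν : M ⟶ N) :
    F.map ((S.map ν)⟦n⟧') ≫ (ψ F F' φ n N).hom =
      (ψ F F' φ n M).hom ≫ F'.map ((S.map ν)⟦n⟧') := by
  have h1 : F.map ((S.map ν)⟦n⟧') ≫ (F.commShiftIso n).hom.app (S.obj N) =
      (F.commShiftIso n).hom.app (S.obj M) ≫ (F.map (S.map ν))⟦n⟧' :=
    (F.commShiftIso n).hom.naturality (S.map ν)
  have h2 : (F.map (S.map ν))⟦n⟧' ≫ (φ.hom.app N)⟦n⟧' =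
      (φ.hom.app M)⟦n⟧' ≫ (F'.map (S.map ν))⟦n⟧' := by
    rw [← Functor.map_comp, ← Functor.map_comp]
    congr 1
    exact φ.hom.naturality ν
  have h3 : (F'.map (S.map ν))⟦n⟧' ≫ (F'.commShiftIso n).inv.app (S.obj N) =
      (F'.commShiftIso n).inv.app (S.obj M) ≫ F'.map ((S.map ν)⟦n⟧') :=
    (F'.commShiftIso n).inv.naturality (S.map ν)
  rw [ψ_hom, ψ_hom, reassoc_of% h1, reassoc_of% h2, h3, Category.assoc, Category.assoc]

lemma ψ_shift (n m : ℤ) (h : n + 1 = m) (M : A) :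
    F.map ((shiftFunctorAdd' C n 1 m h).hom.app (S.obj M)) ≫
      (F.commShiftIso (1 : ℤ)).hom.app ((S.obj M)⟦n⟧) ≫ ((ψ F F' φ n M).hom)⟦(1 : ℤ)⟧' ≫
      (F'.commShiftIso (1 : ℤ)).inv.app ((S.obj M)⟦n⟧) =
    (ψ F F' φ m M).hom ≫ F'.map ((shiftFunctorAdd' C n 1 m h).hom.app (S.obj M)) := by
  have eF := NatTrans.congr_app (congr_arg Iso.hom (F.commShiftIso_add' h)) (S.obj M)
  have eF' := NatTrans.congr_app (congr_arg Iso.inv (F'.commShiftIso_add' h)) (S.obj M)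
  rw [Functor.CommShift.isoAdd'_hom_app] at eF
  rw [Functor.CommShift.isoAdd'_inv_app] at eF'
  rw [ψ_hom F F' φ m, eF, eF', ψ_hom F F' φ n]
  simp only [Functor.map_comp, Category.assoc]
  have hnat : (shiftFunctorAdd' D n 1 m h).inv.app (F.obj (S.obj M)) ≫ (φ.hom.app M)⟦m⟧' ≫
      (shiftFunctorAdd' D n 1 m h).hom.app (F'.obj (S.obj M)) =
      ((φ.hom.app M)⟦n⟧')⟦(1 : ℤ)⟧' := by
    have := (shiftFunctorAdd' D n 1 m h).hom.naturality (φ.hom.app M)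
    dsimp at this
    rw [this, Iso.inv_hom_id_app_assoc]
  rw [reassoc_of% hnat]
  simp only [← Functor.map_comp, Iso.inv_hom_id_app, Category.comp_id, Category.assoc]
  simp

end Psi

section Main

variable (rd : RangeData S) [F.IsTriangulated] [F'.IsTriangulated] [F.Full] [F.Faithful]
  (h2 : ∀ X : C, Nonempty (F.obj X ≅ F'.obj X))

include h2 in
/-- transfer of vanishing of morphism groups -/
lemma hom_eq_zero {X L : C} (h : ∀ f : X ⟶ L, f = 0) (g : F.obj X ⟶ F'.obj L) : g = 0 := by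
  obtain ⟨e⟩ := h2 L
  have : g ≫ e.inv = 0 := by
    obtain ⟨g', hg'⟩ := F.map_surjective (g ≫ e.inv)
    rw [← hg', h g', F.map_zero]
  rw [← cancel_mono e.inv, this, zero_comp]

/-- a presentation of `X ∈ D^{[a,b]}` by a negative object in degree `b` -/
structure Pres (a b : ℤ) (X : C) where
  N : A
  x : (S.obj N)⟦-b⟧ ⟶ X
  Y : C
  y : X ⟶ Y
  z : Y ⟶ ((S.obj N)⟦-b⟧)⟦(1 : ℤ)⟧
  dist : Triangle.mk x y z ∈ distTriang C
  rY : rd.R a (b - 1) Y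
  neg : ∀ f : X ⟶ (S.obj N)⟦-b⟧, f = 0

/-- a good family of comparison isomorphisms on `D^{[a,b]}` -/
structure Good (a b : ℤ) (c : ∀ X : C, F.obj X ⟶ F'.obj X) : Prop where
  nat : ∀ {X X' : C} (f : X ⟶ X'), rd.R a b X → rd.R a b X' →
    c X ≫ F'.map f = F.map f ≫ c X'
  ext : ∀ (M : A) (i : ℤ), a ≤ i → i ≤ b → c ((S.obj M)⟦-i⟧) = (ψ F F' φ (-i) M).hom
  iso : ∀ {X : C}, rd.R a b X → IsIso (c X)

variable {rd F F' φ}

include h2 in
lemma uniq_of_pres {a b : ℤ} {X : C} (P : Pres rd a b X) (δ : F.obj X ⟶ F'.obj X)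
    (hδ : δ ≫ F'.map P.y = 0) : δ = 0 := by
  have hT := F'.map_distinguished _ P.dist
  obtain ⟨θ, hθ⟩ := Triangle.coyoneda_exact₂ _ hT δ hδ
  have h0 : θ = 0 := hom_eq_zero F F' h2 P.neg θ
  rw [hθ, h0]
  exact zero_comp

include h2 in
lemma exists_of_pres {a b : ℤ} (hab : a < b) {c' : ∀ X : C, F.obj X ⟶ F'.obj X}
    (hc' : Good F F' φ rd a (b - 1) c') {X : C} (P : Pres rd a b X) :
    ∃ γ : F.obj X ⟶ F'.obj X, γ ≫ F'.map P.y = F.map P.y ≫ c' P.Y ∧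
      F.map P.x ≫ γ = (ψ F F' φ (-b) P.N).hom ≫ F'.map P.x ∧ IsIso γ := by
  have hT₁ := F.map_distinguished _ P.dist
  have hT₂ := F'.map_distinguished _ P.dist
  -- the object `((S.obj N)⟦-b⟧)⟦1⟧` is a shifted heart object of degree `b - 1`
  have hm : -b + 1 = -(b - 1) := by ring
  let e : ((S.obj P.N)⟦-b⟧)⟦(1 : ℤ)⟧ ≅ (S.obj P.N)⟦-(b - 1)⟧ :=
    ((shiftFunctorAdd' C (-b) 1 (-(b - 1)) hm).app (S.obj P.N)).symm
  have r1 : rd.R a (b - 1) ((S.obj P.N)⟦-(b - 1)⟧) :=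
    rd.mono (by omega) le_rfl (rd.heart (b - 1) P.N)
  have r2 : rd.R a (b - 1) (((S.obj P.N)⟦-b⟧)⟦(1 : ℤ)⟧) := rd.of_iso r1 e.symm
  have hc1 : c' (((S.obj P.N)⟦-b⟧)⟦(1 : ℤ)⟧) =
      (F.commShiftIso (1 : ℤ)).hom.app ((S.obj P.N)⟦-b⟧) ≫
        ((ψ F F' φ (-b) P.N).hom)⟦(1 : ℤ)⟧' ≫
        (F'.commShiftIso (1 : ℤ)).inv.app ((S.obj P.N)⟦-b⟧) := by
    have n1 := hc'.nat e.inv r1 r2
    rw [hc'.ext P.N (b - 1) (by omega) le_rfl] at n1
    have n2 := ψ_shift F F' φ (-b) (-(b - 1)) hm P.N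
    -- `e.inv` is the `shiftFunctorAdd'` map
    change (ψ F F' φ (-(b - 1)) P.N).hom ≫
      F'.map ((shiftFunctorAdd' C (-b) 1 (-(b - 1)) hm).hom.app (S.obj P.N)) =
      F.map ((shiftFunctorAdd' C (-b) 1 (-(b - 1)) hm).hom.app (S.obj P.N)) ≫ _ at n1
    rw [← n2] at n1
    have hmono : IsIso (F.map ((shiftFunctorAdd' C (-b) 1 (-(b - 1)) hm).hom.app (S.obj P.N))) :=
      inferInstance
    exact ((cancel_epi _).mp n1).symm
  have comm : (F.mapTriangle.obj (Triangle.mk P.x P.y P.z)).mor₃ ≫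
      ((ψ F F' φ (-b) P.N).hom)⟦(1 : ℤ)⟧' =
      c' P.Y ≫ (F'.mapTriangle.obj (Triangle.mk P.x P.y P.z)).mor₃ := by
    have n3 := hc'.nat P.z P.rY r2
    change (F.map P.z ≫ (F.commShiftIso (1 : ℤ)).hom.app _) ≫ _ =
      c' P.Y ≫ (F'.map P.z ≫ (F'.commShiftIso (1 : ℤ)).hom.app _)
    rw [reassoc_of% n3, hc1]
    simp only [Category.assoc, Iso.inv_hom_id_app]
    erw [Category.comp_id]
    rfl
  obtain ⟨γ, hγ₁, hγ₂⟩ := complete_distinguished_triangle_morphism₂ _ _ hT₁ hT₂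
    (ψ F F' φ (-b) P.N).hom (c' P.Y) comm
  refine ⟨γ, hγ₂.symm, hγ₁, ?_⟩
  have hiso : IsIso (c' P.Y) := hc'.iso P.rY
  let Φ : F.mapTriangle.obj (Triangle.mk P.x P.y P.z) ⟶
      F'.mapTriangle.obj (Triangle.mk P.x P.y P.z) :=
    { hom₁ := (ψ F F' φ (-b) P.N).hom
      hom₂ := γ
      hom₃ := c' P.Y
      comm₁ := hγ₁
      comm₂ := hγ₂
      comm₃ := comm }
  exact isIso₂_of_isIso₁₃ Φ hT₁ hT₂ (by dsimp [Φ]; infer_instance) hiso

lemma Good.mono {a b a' b' : ℤ} {c : ∀ X : C, F.obj X ⟶ F'.obj X} (h : Good F F' φ rd a b c)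
    (ha : a ≤ a') (hb : b' ≤ b) : Good F F' φ rd a' b' c where
  nat f hX hX' := h.nat f (rd.mono ha hb hX) (rd.mono ha hb hX')
  ext M i h1 h2 := h.ext M i (by omega) (by omega)
  iso hX := h.iso (rd.mono ha hb hX)

variable (rd) in
lemma exists_pres {a b : ℤ} (hab : a < b) {X X' Z₁ Z₂ : C} (hX : rd.R a b X) (hX' : rd.R a b X')
    (hZ₁ : rd.R a (b - 1) Z₁) (hZ₂ : rd.R a (b - 1) Z₂) (g₁ : X ⟶ Z₁) (g₂ : X ⟶ Z₂) :
    ∃ P : Pres rd a b X, (∀ f : X' ⟶ (S.obj P.N)⟦-b⟧, f = 0) ∧ P.x ≫ g₁ = 0 ∧ P.x ≫ g₂ = 0 := by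
  obtain ⟨N, x, Y, y, z, dist, rY, neg, neg', h₁, h₂⟩ := rd.pres hab hX hX' hZ₁ hZ₂ g₁ g₂
  exact ⟨⟨N, x, Y, y, z, dist, rY, neg⟩, neg', h₁, h₂⟩

variable (rd) in
lemma exists_pres' {a b : ℤ} (hab : a < b) {X : C} (hX : rd.R a b X) :
    Nonempty (Pres rd a b X) := by
  obtain ⟨P, -⟩ := exists_pres rd hab hX hX (rd.zero a (b - 1) (isZero_zero C))
    (rd.zero a (b - 1) (isZero_zero C)) (0 : X ⟶ (0 : C)) (0 : X ⟶ (0 : C))
  exact ⟨P⟩

/-! ### Uniqueness of good families -/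

include h2 in
lemma good_unique_base {a : ℤ} {c₁ c₂ : ∀ X : C, F.obj X ⟶ F'.obj X}
    (h₁ : Good F F' φ rd a a c₁) (h₂ : Good F F' φ rd a a c₂) {X : C} (hX : rd.R a a X) :
    c₁ X = c₂ X := by
  obtain ⟨M, ⟨e⟩⟩ := rd.of_heart hX
  have hM : rd.R a a ((S.obj M)⟦-a⟧) := rd.heart a M
  have k : ∀ c : ∀ X : C, F.obj X ⟶ F'.obj X, Good F F' φ rd a a c →
      c X = F.map e.hom ≫ (ψ F F' φ (-a) M).hom ≫ F'.map e.inv := by
    intro c hc
    have n1 := hc.nat e.hom hX hM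
    rw [hc.ext M a le_rfl le_rfl] at n1
    rw [← reassoc_of% n1, ← F'.map_comp, e.hom_inv_id, F'.map_id, Category.comp_id]
  rw [k c₁ h₁, k c₂ h₂]

include h2 in
lemma good_unique (a : ℤ) : ∀ (b : ℤ) (_ : a ≤ b) {c₁ c₂ : ∀ X : C, F.obj X ⟶ F'.obj X},
    Good F F' φ rd a b c₁ → Good F F' φ rd a b c₂ → ∀ {X : C}, rd.R a b X → c₁ X = c₂ X := by
  intro b hab
  induction b, hab using Int.leInduction with
  | base =>
    intro c₁ c₂ h₁ h₂ X hX
    exact good_unique_base h2 h₁ h₂ hX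
  | succ b hab ih =>
    intro c₁ c₂ h₁ h₂ X hX
    have hab' : a < b + 1 := by omega
    obtain ⟨P⟩ := exists_pres' rd hab' hX
    have hbb : b + 1 - 1 = b := by ring
    have rY : rd.R a b P.Y := by
      have := P.rY
      rwa [hbb] at this
    have rY' : rd.R a (b + 1) P.Y := rd.mono le_rfl (by omega) rY
    have e : c₁ P.Y = c₂ P.Y :=
      ih (h₁.mono le_rfl (by omega)) (h₂.mono le_rfl (by omega)) rY
    rw [← sub_eq_zero]
    apply uniq_of_pres h2 P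
    rw [Preadditive.sub_comp, sub_eq_zero, h₁.nat P.y hX rY', h₂.nat P.y hX rY', e]

/-! ### Existence: the base case -/

include rd in
lemma base_nat {a : ℤ} {X X' : C} {M M' : A} (e : X ≅ (S.obj M)⟦-a⟧) (e' : X' ≅ (S.obj M')⟦-a⟧)
    (f : X ⟶ X') :
    (F.map e.hom ≫ (ψ F F' φ (-a) M).hom ≫ F'.map e.inv) ≫ F'.map f =
      F.map f ≫ (F.map e'.hom ≫ (ψ F F' φ (-a) M').hom ≫ F'.map e'.inv) := by
  obtain ⟨ν, hν⟩ := rd.full (-a) M M' (e.inv ≫ f ≫ e'.hom)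
  have h1 : e.inv ≫ f = (S.map ν)⟦-a⟧' ≫ e'.inv := by
    rw [← hν]
    simp
  have h2' : f ≫ e'.hom = e.hom ≫ (S.map ν)⟦-a⟧' := by
    rw [← hν]
    simp
  simp only [Category.assoc]
  rw [← F'.map_comp, h1, F'.map_comp, ← reassoc_of% (ψ_natural F F' φ (-a) ν),
    ← F.map_comp_assoc, ← F.map_comp_assoc, h2']

include h2 in
lemma exists_good_base (a : ℤ) : ∃ c : ∀ X : C, F.obj X ⟶ F'.obj X, Good F F' φ rd a a c := by
  classical
  have h : ∀ X : C, rd.R a a X → ∃ M : A, Nonempty (X ≅ (S.obj M)⟦-a⟧) :=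
    fun X hX => rd.of_heart hX
  choose M e using h
  let ε : ∀ (X : C) (hX : rd.R a a X), X ≅ (S.obj (M X hX))⟦-a⟧ := fun X hX => (e X hX).some
  let c : ∀ X : C, F.obj X ⟶ F'.obj X := fun X =>
    if hX : rd.R a a X then
      F.map (ε X hX).hom ≫ (ψ F F' φ (-a) (M X hX)).hom ≫ F'.map (ε X hX).inv else 0
  have hc : ∀ (X : C) (hX : rd.R a a X), c X =
      F.map (ε X hX).hom ≫ (ψ F F' φ (-a) (M X hX)).hom ≫ F'.map (ε X hX).inv :=
    fun X hX => dif_pos hX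
  refine ⟨c, ?_, ?_, ?_⟩
  · intro X X' f hX hX'
    rw [hc X hX, hc X' hX']
    exact base_nat (rd := rd) _ _ f
  · intro M₀ i h1 h2'
    obtain rfl : i = a := le_antisymm h2' h1
    have hX := rd.heart i M₀
    rw [hc _ hX]
    have := base_nat (rd := rd) (F := F) (F' := F') (φ := φ) (ε _ hX)
      (Iso.refl ((S.obj M₀)⟦-i⟧)) (𝟙 _)
    simpa using this
  · intro X hX
    rw [hc X hX]
    infer_instance

/-! ### Existence: the inductive step -/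

/-- the data produced in the inductive step -/
structure StepData (a b : ℤ) (c' : ∀ X : C, F.obj X ⟶ F'.obj X) where
  P₀ : ∀ X : C, rd.R a b X → Pres rd a b X
  c : ∀ X : C, F.obj X ⟶ F'.obj X
  c_y : ∀ (X : C) (hX : rd.R a b X),
    c X ≫ F'.map (P₀ X hX).y = F.map (P₀ X hX).y ≫ c' (P₀ X hX).Y
  c_x : ∀ (X : C) (hX : rd.R a b X),
    F.map (P₀ X hX).x ≫ c X = (ψ F F' φ (-b) (P₀ X hX).N).hom ≫ F'.map (P₀ X hX).x
  c_iso : ∀ (X : C), rd.R a b X → IsIso (c X)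

include h2 in
lemma exists_stepData {a b : ℤ} (hab : a < b) {c' : ∀ X : C, F.obj X ⟶ F'.obj X}
    (hc' : Good F F' φ rd a (b - 1) c') : Nonempty (StepData (rd := rd) (F := F) (F' := F')
      (φ := φ) a b c') := by
  classical
  have hP : ∀ X : C, rd.R a b X → Nonempty (Pres rd a b X) := fun X hX => exists_pres' rd hab hX
  let P₀ : ∀ X : C, rd.R a b X → Pres rd a b X := fun X hX => (hP X hX).some
  have hγ : ∀ (X : C) (hX : rd.R a b X), ∃ γ : F.obj X ⟶ F'.obj X,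
      γ ≫ F'.map (P₀ X hX).y = F.map (P₀ X hX).y ≫ c' (P₀ X hX).Y ∧
      F.map (P₀ X hX).x ≫ γ = (ψ F F' φ (-b) (P₀ X hX).N).hom ≫ F'.map (P₀ X hX).x ∧ IsIso γ :=
    fun X hX => exists_of_pres h2 hab hc' (P₀ X hX)
  choose γ hγ₁ hγ₂ hγ₃ using hγ
  let c : ∀ X : C, F.obj X ⟶ F'.obj X := fun X => if hX : rd.R a b X then γ X hX else 0
  have hc : ∀ (X : C) (hX : rd.R a b X), c X = γ X hX := fun X hX => dif_pos hX
  exact ⟨{
    P₀ := P₀
    c := c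
    c_y := fun X hX => by rw [hc X hX]; exact hγ₁ X hX
    c_x := fun X hX => by rw [hc X hX]; exact hγ₂ X hX
    c_iso := fun X hX => by rw [hc X hX]; exact hγ₃ X hX }⟩

section Step

variable {a b : ℤ} (hab : a < b) {c' : ∀ X : C, F.obj X ⟶ F'.obj X}
  (hc' : Good F F' φ rd a (b - 1) c')
  (sd : StepData (rd := rd) (F := F) (F' := F') (φ := φ) a b c')

include h2 hab hc' in
lemma StepData.KL {X : C} (hX : rd.R a b X) (P : Pres rd a b X)
    (hP : P.x ≫ (sd.P₀ X hX).y = 0) :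
    sd.c X ≫ F'.map P.y = F.map P.y ≫ c' P.Y := by
  obtain ⟨(h : P.Y ⟶ (sd.P₀ X hX).Y), hh⟩ := Triangle.yoneda_exact₂ _ P.dist (sd.P₀ X hX).y hP
  obtain ⟨γ, hγ₁, -, -⟩ := exists_of_pres h2 hab hc' P
  have e : γ = sd.c X := by
    rw [← sub_eq_zero]
    apply uniq_of_pres h2 (sd.P₀ X hX)
    rw [Preadditive.sub_comp, sub_eq_zero, sd.c_y X hX]
    change (sd.P₀ X hX).y = P.y ≫ h at hh
    rw [hh, F'.map_comp, reassoc_of% hγ₁, F.map_comp, Category.assoc]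
    congr 1
    exact hc'.nat h P.rY (sd.P₀ X hX).rY
  rw [← e, hγ₁]

include h2 hab hc' in
lemma StepData.NL1 {X Z : C} (hX : rd.R a b X) (hZ : rd.R a (b - 1) Z) (g : X ⟶ Z) :
    sd.c X ≫ F'.map g = F.map g ≫ c' Z := by
  obtain ⟨P, -, hP₁, hP₂⟩ := exists_pres rd hab hX hX hZ (sd.P₀ X hX).rY g (sd.P₀ X hX).y
  obtain ⟨(h : P.Y ⟶ Z), hh⟩ := Triangle.yoneda_exact₂ _ P.dist g hP₁
  change g = P.y ≫ h at hh
  have k := sd.KL h2 hab hc' hX P hP₂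
  rw [hh, F'.map_comp, reassoc_of% k, F.map_comp, Category.assoc, hc'.nat h P.rY hZ]

include h2 hab hc' in
lemma StepData.NL0 {X : C} (hX : rd.R a (b - 1) X) : sd.c X = c' X := by
  have := sd.NL1 h2 hab hc' (rd.mono le_rfl (by omega) hX) hX (𝟙 X)
  simpa using this

include h2 hab hc' in
lemma StepData.NL {X X' : C} (hX : rd.R a b X) (hX' : rd.R a b X') (f : X ⟶ X') :
    sd.c X ≫ F'.map f = F.map f ≫ sd.c X' := by
  obtain ⟨P', hneg, hP'₁, -⟩ := exists_pres rd hab hX' hX (sd.P₀ X' hX').rY (sd.P₀ X' hX').rY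
    (sd.P₀ X' hX').y (sd.P₀ X' hX').y
  rw [← sub_eq_zero]
  have hT := F'.map_distinguished _ P'.dist
  have hΔ : (sd.c X ≫ F'.map f - F.map f ≫ sd.c X') ≫ F'.map P'.y = 0 := by
    rw [Preadditive.sub_comp, sub_eq_zero, Category.assoc, Category.assoc, ← F'.map_comp,
      sd.NL1 h2 hab hc' hX P'.rY (f ≫ P'.y), sd.KL h2 hab hc' hX' P' hP'₁, F.map_comp,
      Category.assoc]
  obtain ⟨θ, hθ⟩ := Triangle.coyoneda_exact₂ _ hT _ hΔ
  rw [hθ, hom_eq_zero F F' h2 hneg θ]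
  exact zero_comp

include h2 hab in
lemma StepData.ext_top (M : A) : sd.c ((S.obj M)⟦-b⟧) = (ψ F F' φ (-b) M).hom := by
  have hX : rd.R a b ((S.obj M)⟦-b⟧) := rd.mono hab.le le_rfl (rd.heart b M)
  obtain ⟨ν, hν⟩ := rd.full (-b) (sd.P₀ _ hX).N M (sd.P₀ _ hX).x
  have k := sd.c_x _ hX
  rw [hν, ← ψ_natural] at k
  rw [← sub_eq_zero]
  have hT := F.map_distinguished _ (sd.P₀ _ hX).dist
  have h0 : F.map (sd.P₀ _ hX).x ≫ (sd.c ((S.obj M)⟦-b⟧) - (ψ F F' φ (-b) M).hom) = 0 := by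
    rw [Preadditive.comp_sub, sub_eq_zero, hν, k]
  obtain ⟨θ, hθ⟩ := Triangle.yoneda_exact₂ _ hT _ h0
  rw [hθ, hom_eq_zero F F' h2 (rd.orth (sd.P₀ _ hX).rY (rd.heart b M) (by omega)) θ]
  exact comp_zero

include h2 hab hc' in
lemma StepData.good : Good F F' φ rd a b sd.c where
  nat f hX hX' := sd.NL h2 hab hc' hX hX' f
  ext M i h1 h2' := by
    by_cases hi : i = b
    · subst hi
      exact sd.ext_top h2 hab M
    · have hX : rd.R a (b - 1) ((S.obj M)⟦-i⟧) :=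
        rd.mono h1 (by omega) (rd.heart i M)
      rw [sd.NL0 h2 hab hc' hX]
      exact hc'.ext M i h1 (by omega)
  iso hX := sd.c_iso _ hX

end Step

include h2 in
lemma exists_good (a : ℤ) : ∀ (b : ℤ) (_ : a ≤ b),
    ∃ c : ∀ X : C, F.obj X ⟶ F'.obj X, Good F F' φ rd a b c := by
  intro b hab
  induction b, hab using Int.leInduction with
  | base => exact exists_good_base h2 a
  | succ b hab ih =>
    obtain ⟨c', hc'⟩ := ih
    have hab' : a < b + 1 := by omega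
    have hbb : b + 1 - 1 = b := by ring
    have hc'' : Good F F' φ rd a (b + 1 - 1) c' := by rwa [hbb]
    obtain ⟨sd⟩ := exists_stepData h2 hab' hc''
    exact ⟨sd.c, sd.good h2 hab' hc''⟩

/-! ### The global isomorphism -/

variable (rd F F' φ) in
include rd φ h2 in
theorem nonempty_iso : Nonempty (F ≅ F') := by
  classical
  have hE : ∀ (a b : ℤ) (_ : a ≤ b), ∃ c : ∀ X : C, F.obj X ⟶ F'.obj X, Good F F' φ rd a b c :=
    fun a b hab => exists_good h2 a b hab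
  choose c hc using hE
  have hR : ∀ X : C, ∃ (a b : ℤ) (_ : a ≤ b), rd.R a b X := by
    intro X
    obtain ⟨a, b, h⟩ := rd.exists_range X
    exact ⟨min a b, max a b, le_trans (min_le_left _ _) (le_max_left _ _),
      rd.mono (min_le_left _ _) (le_max_right _ _) h⟩
  choose ra rb rab hr using hR
  let γ : ∀ X : C, F.obj X ⟶ F'.obj X := fun X => c (ra X) (rb X) (rab X) X
  have key : ∀ (X : C) (a b : ℤ) (hab : a ≤ b), rd.R a b X → c a b hab X = γ X := by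
    intro X a b hab hX
    have h0 : min a (ra X) ≤ max b (rb X) :=
      le_trans (min_le_left _ _) (le_trans hab (le_max_left _ _))
    have g0 := hc _ _ h0
    have e1 : c _ _ h0 X = c a b hab X :=
      good_unique h2 a b hab (g0.mono (min_le_left _ _) (le_max_left _ _)) (hc a b hab) hX
    have e2 : c _ _ h0 X = c (ra X) (rb X) (rab X) X :=
      good_unique h2 _ _ (rab X) (g0.mono (min_le_right _ _) (le_max_right _ _)) (hc _ _ _) (hr X)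
    rw [← e1, e2]
  refine ⟨NatIso.ofComponents (fun X => @asIso _ _ _ _ (γ X) ((hc _ _ _).iso (hr X))) ?_⟩
  intro X Y f
  have h0 : min (ra X) (ra Y) ≤ max (rb X) (rb Y) :=
    le_trans (min_le_left _ _) (le_trans (rab X) (le_max_left _ _))
  have hX : rd.R _ _ X := rd.mono (min_le_left (ra X) (ra Y)) (le_max_left (rb X) (rb Y)) (hr X)
  have hY : rd.R _ _ Y := rd.mono (min_le_right (ra X) (ra Y)) (le_max_right (rb X) (rb Y)) (hr Y)
  have := (hc _ _ h0).nat f hX hY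
  rw [key X _ _ h0 hX, key Y _ _ h0 hY] at this
  exact this.symm

end Main

end Groth.Agent.Lib.Helper17.Sib
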