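import Mathlib
import Groth.Agent.Lib.Helper17.SibAbs
import Groth.Agent.Lib.Helper17.FFDev

/-!
# Sibling functors, abstract form II: dévissage, existence of object isomorphisms
-/

set_option linter.style.haveILetI false
set_option linter.unusedSectionVars false

universe v₁ v₂ v₃ u₁ u₂ u₃

open CategoryTheory Limits Pretriangulated ZeroObject

namespace Groth.Agent.Lib.Helper17.Sib

variable {C : Type u₁} [Category.{v₁} C] [Preadditive C] [HasZeroObject C] [HasShift C ℤ]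
  [∀ n : ℤ, (shiftFunctor C n).Additive] [Pretriangulated C]
  {D : Type u₂} [Category.{v₂} D] [Preadditive D] [HasZeroObject D] [HasShift D ℤ]
  [∀ n : ℤ, (shiftFunctor D n).Additive] [Pretriangulated D]
  {A : Type u₃} [Category.{v₃} A]

/-- ranges `D^{[a,b]}` for a bounded t-structure with heart `S : A ⥤ C` (no negativity) -/
structure RangeData₀ (S : A ⥤ C) where
  R : ℤ → ℤ → C → Prop
  of_iso : ∀ {a b : ℤ} {X X' : C}, R a b X → (X ≅ X') → R a b X'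
  mono : ∀ {a b a' b' : ℤ} {X : C}, a' ≤ a → b ≤ b' → R a b X → R a' b' X
  exists_range : ∀ X : C, ∃ a b : ℤ, R a b X
  heart : ∀ (i : ℤ) (M : A), R i i ((S.obj M)⟦-i⟧)
  of_heart : ∀ {a : ℤ} {X : C}, R a a X → ∃ M : A, Nonempty (X ≅ (S.obj M)⟦-a⟧)
  orth : ∀ {a b a' b' : ℤ} {X X' : C}, R a b X → R a' b' X' → b < a' → ∀ f : X ⟶ X', f = 0
  full : ∀ (n : ℤ) (M N : A) (f : (S.obj M)⟦n⟧ ⟶ (S.obj N)⟦n⟧), ∃ ν : M ⟶ N, f = (S.map ν)⟦n⟧'
  pres₀ : ∀ {a b : ℤ} {X : C}, a < b → R a b X →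
    ∃ (N : A) (x : (S.obj N)⟦-b⟧ ⟶ X) (Y : C) (y : X ⟶ Y) (z : Y ⟶ ((S.obj N)⟦-b⟧)⟦(1 : ℤ)⟧),
      Triangle.mk x y z ∈ distTriang C ∧ R a (b - 1) Y

variable {S : A ⥤ C}

lemma RangeData₀.exists_range' (rd : RangeData₀ S) (X : C) :
    ∃ (a b : ℤ) (_ : a ≤ b), rd.R a b X := by
  obtain ⟨a, b, h⟩ := rd.exists_range X
  exact ⟨min a b, max a b, le_trans (min_le_left _ _) (le_max_left _ _),
    rd.mono (min_le_left _ _) (le_max_right _ _) h⟩

/-- dévissage: a class of objects closed under isomorphisms and extensions and containing the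
shifted heart objects is everything -/
theorem RangeData₀.devissage (rd : RangeData₀ S) (𝒢 : C → Prop)
    (hiso : ∀ {X X' : C}, (X ≅ X') → 𝒢 X → 𝒢 X')
    (hext : ∀ T ∈ distTriang C, 𝒢 T.obj₁ → 𝒢 T.obj₃ → 𝒢 T.obj₂)
    (hS : ∀ (M : A) (n : ℤ), 𝒢 ((S.obj M)⟦n⟧)) (X : C) : 𝒢 X := by
  have key : ∀ (a b : ℤ) (_ : a ≤ b) (X : C), rd.R a b X → 𝒢 X := by
    intro a b hab
    induction b, hab using Int.leInduction with
    | base =>
      intro X hX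
      obtain ⟨M, ⟨e⟩⟩ := rd.of_heart hX
      exact hiso e.symm (hS M (-a))
    | succ b hab ih =>
      intro X hX
      obtain ⟨N, x, Y, y, z, dist, rY⟩ := rd.pres₀ (by omega : a < b + 1) hX
      rw [show b + 1 - 1 = b by ring] at rY
      exact hext _ dist (hS N _) (ih Y rY)
  obtain ⟨a, b, hab, h⟩ := rd.exists_range' X
  exact key a b hab X h

section Obj

variable (F F' : C ⥤ D) [F.CommShift ℤ] [F'.CommShift ℤ] (φ : S ⋙ F ≅ S ⋙ F')
  (rd : RangeData₀ S) [F.IsTriangulated] [F'.IsTriangulated]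
  (hv : ∀ (X Y : A) (q : ℤ), q < 0 → ∀ f : F.obj (S.obj X) ⟶ (F.obj (S.obj Y))⟦q⟧, f = 0)

lemma eq_zero_of_conj {E : Type*} [Category E] [HasZeroMorphisms E] {X X' Y Y' : E} (e : X ≅ X')
    (e' : Y ≅ Y') (g : X ⟶ Y) (h : e.inv ≫ g ≫ e'.hom = 0) : g = 0 := by
  rw [← cancel_epi e.inv, ← cancel_mono e'.hom, Category.assoc, h, comp_zero, zero_comp]

include hv in
lemma hv0 (X Y : A) (i j : ℤ) (hij : j < i) (g : (F.obj (S.obj X))⟦i⟧ ⟶ (F.obj (S.obj Y))⟦j⟧) :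
    g = 0 := by
  apply (shiftFunctor D (-i)).map_injective
  rw [Functor.map_zero]
  let e₁ : ((F.obj (S.obj X))⟦i⟧)⟦-i⟧ ≅ F.obj (S.obj X) :=
    (shiftFunctorCompIsoId D i (-i) (by omega)).app (F.obj (S.obj X))
  let e₂ : ((F.obj (S.obj Y))⟦j⟧)⟦-i⟧ ≅ (F.obj (S.obj Y))⟦j - i⟧ :=
    ((shiftFunctorAdd' D j (-i) (j - i) (by omega)).app (F.obj (S.obj Y))).symm
  refine eq_zero_of_conj e₁ e₂ _ ?_
  exact hv X Y (j - i) (by omega) _

include φ hv in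
lemma hv1 (X Y : A) (i j : ℤ) (hij : i < j) (g : F.obj ((S.obj X)⟦-i⟧) ⟶ F'.obj ((S.obj Y)⟦-j⟧)) :
    g = 0 := by
  refine eq_zero_of_conj ((F.commShiftIso (-i)).app (S.obj X))
    ((ψ F F' φ (-j) Y).symm ≪≫ (F.commShiftIso (-j)).app (S.obj Y)) g ?_
  exact hv0 F hv X Y (-i) (-j) (by omega) _

include φ hv in
lemma vanish (j : ℤ) (N₀ : A) (a : ℤ) : ∀ (b : ℤ) (_ : a ≤ b), b < j → ∀ X : C, rd.R a b X →
    ∀ g : F.obj X ⟶ F'.obj ((S.obj N₀)⟦-j⟧), g = 0 := by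
  intro b hab
  induction b, hab using Int.leInduction with
  | base =>
    intro haj X hX g
    obtain ⟨M, ⟨e⟩⟩ := rd.of_heart hX
    have h0 : F.map e.inv ≫ g = 0 := hv1 F F' φ hv M N₀ a j haj _
    have : g = F.map e.hom ≫ F.map e.inv ≫ g := by
      rw [← F.map_comp_assoc, e.hom_inv_id, F.map_id, Category.id_comp]
    rw [this, h0, comp_zero]
  | succ b hab ih =>
    intro hbj X hX g
    obtain ⟨N, x, Y, y, z, dist, rY⟩ := rd.pres₀ (by omega : a < b + 1) hX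
    rw [show b + 1 - 1 = b by ring] at rY
    have h0 : F.map x ≫ g = 0 := hv1 F F' φ hv N N₀ (b + 1) j hbj _
    have hT := F.map_distinguished _ dist
    obtain ⟨(g' : F.obj Y ⟶ F'.obj ((S.obj N₀)⟦-j⟧)), hg'⟩ := Triangle.yoneda_exact₂ _ hT g h0
    change g = F.map y ≫ g' at hg'
    rw [hg', ih (by omega) Y rY g', comp_zero]

/-- the comparison map on `((S N)⟦-b⟧)⟦1⟧` -/
noncomputable def Ψ₁ (b : ℤ) (N : A) :
    F.obj (((S.obj N)⟦-b⟧)⟦(1 : ℤ)⟧) ⟶ F'.obj (((S.obj N)⟦-b⟧)⟦(1 : ℤ)⟧) :=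
  (F.commShiftIso (1 : ℤ)).hom.app ((S.obj N)⟦-b⟧) ≫ ((ψ F F' φ (-b) N).hom)⟦(1 : ℤ)⟧' ≫
    (F'.commShiftIso (1 : ℤ)).inv.app ((S.obj N)⟦-b⟧)

lemma Ψ₁_eq (b b' : ℤ) (hm : -b + 1 = -b') (N : A) :
    Ψ₁ F F' φ b N = F.map ((shiftFunctorAdd' C (-b) 1 (-b') hm).inv.app (S.obj N)) ≫
      (ψ F F' φ (-b') N).hom ≫ F'.map ((shiftFunctorAdd' C (-b) 1 (-b') hm).hom.app (S.obj N)) := by
  have n2 := ψ_shift F F' φ (-b) (-b') hm N
  rw [← n2, ← F.map_comp_assoc, Iso.inv_hom_id_app, F.map_id, Category.id_comp]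
  rfl

/-- extension of a comparison isomorphism over a triangle `N⟦-b⟧ ⟶ X ⟶ Y ⟶` -/
lemma exists_of_comm {b : ℤ} {N : A} {X Y : C} (x : (S.obj N)⟦-b⟧ ⟶ X) (y : X ⟶ Y)
    (z : Y ⟶ ((S.obj N)⟦-b⟧)⟦(1 : ℤ)⟧) (dist : Triangle.mk x y z ∈ distTriang C)
    (α : F.obj Y ≅ F'.obj Y) (hα : F.map z ≫ Ψ₁ F F' φ b N = α.hom ≫ F'.map z) :
    ∃ γ : F.obj X ≅ F'.obj X, F.map x ≫ γ.hom = (ψ F F' φ (-b) N).hom ≫ F'.map x := by
  have hT₁ := F.map_distinguished _ dist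
  have hT₂ := F'.map_distinguished _ dist
  have comm : (F.mapTriangle.obj (Triangle.mk x y z)).mor₃ ≫
      ((ψ F F' φ (-b) N).hom)⟦(1 : ℤ)⟧' =
      α.hom ≫ (F'.mapTriangle.obj (Triangle.mk x y z)).mor₃ := by
    change (F.map z ≫ (F.commShiftIso (1 : ℤ)).hom.app _) ≫ _ =
      α.hom ≫ (F'.map z ≫ (F'.commShiftIso (1 : ℤ)).hom.app _)
    rw [← reassoc_of% hα]
    dsimp only [Ψ₁]
    simp only [Category.assoc, Iso.inv_hom_id_app]
    erw [Category.comp_id]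
    rfl
  obtain ⟨(γ : F.obj X ⟶ F'.obj X), hγ₁, hγ₂⟩ :=
    complete_distinguished_triangle_morphism₂ _ _ hT₁ hT₂ (ψ F F' φ (-b) N).hom α.hom comm
  have hiso : IsIso α.hom := inferInstance
  let Φ : F.mapTriangle.obj (Triangle.mk x y z) ⟶ F'.mapTriangle.obj (Triangle.mk x y z) :=
    { hom₁ := (ψ F F' φ (-b) N).hom
      hom₂ := γ
      hom₃ := α.hom
      comm₁ := hγ₁
      comm₂ := hγ₂
      comm₃ := comm }
  have hγ : IsIso γ :=
    isIso₂_of_isIso₁₃ Φ hT₁ hT₂ (by dsimp [Φ]; infer_instance) hiso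
  exact ⟨@asIso _ _ _ _ γ hγ, hγ₁⟩

include hv in
lemma claim (a : ℤ) : ∀ (b : ℤ) (_ : a ≤ b) (X : C), rd.R a b X →
    ∃ (N : A) (x : (S.obj N)⟦-b⟧ ⟶ X) (Y : C) (y : X ⟶ Y)
      (z : Y ⟶ ((S.obj N)⟦-b⟧)⟦(1 : ℤ)⟧), Triangle.mk x y z ∈ distTriang C ∧
      (∀ (N₀ : A) (g : F.obj Y ⟶ F'.obj ((S.obj N₀)⟦-b⟧)), g = 0) ∧
      ∃ α : F.obj X ≅ F'.obj X, F.map x ≫ α.hom = (ψ F F' φ (-b) N).hom ≫ F'.map x := by
  intro b hab
  induction b, hab using Int.leInduction with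
  | base =>
    intro X hX
    obtain ⟨M, ⟨e⟩⟩ := rd.of_heart hX
    refine ⟨M, e.inv, 0, 0, 0, ?_, ?_, ?_⟩
    · refine isomorphic_distinguished _ (contractible_distinguished ((S.obj M)⟦-a⟧)) _ ?_
      refine Triangle.isoMk _ _ (Iso.refl _) e (Iso.refl _) ?_ ?_ ?_
      · change e.inv ≫ e.hom = 𝟙 _ ≫ 𝟙 _
        rw [e.inv_hom_id, Category.comp_id]
      · exact zero_comp.trans comp_zero.symm
      · exact zero_comp.trans comp_zero.symm
    · intro N₀ g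
      exact (F.map_isZero (isZero_zero C)).eq_of_src _ _
    · refine ⟨F.mapIso e ≪≫ ψ F F' φ (-a) M ≪≫ F'.mapIso e.symm, ?_⟩
      simp only [Iso.trans_hom, Functor.mapIso_hom, Iso.symm_hom]
      rw [← F.map_comp_assoc, e.inv_hom_id, F.map_id, Category.id_comp]
  | succ b hab ih =>
    intro X hX
    obtain ⟨N, x, Y, y, z, dist, rY⟩ := rd.pres₀ (by omega : a < b + 1) hX
    have hbb : b + 1 - 1 = b := by ring
    rw [hbb] at rY
    refine ⟨N, x, Y, y, z, dist, ?_, ?_⟩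
    · intro N₀ g
      exact vanish F F' φ rd hv (b + 1) N₀ a b hab (by omega) Y rY g
    · obtain ⟨N', x', Y', y', z', dist', van', α, hα⟩ := ih Y rY
      refine exists_of_comm F F' φ x y z dist α ?_
      have hm : -(b + 1) + 1 = -b := by ring
      rw [← sub_eq_zero]
      -- the difference vanishes after precomposition with `F.map x'`
      have h1 : F.map x' ≫ (F.map z ≫ Ψ₁ F F' φ (b + 1) N - α.hom ≫ F'.map z) = 0 := by
        rw [Preadditive.comp_sub, sub_eq_zero, reassoc_of% hα, ← F'.map_comp, ← F.map_comp_assoc,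
          Ψ₁_eq F F' φ (b + 1) b hm N]
        obtain ⟨ν, hν⟩ := rd.full (-b) N' N
          ((x' ≫ z) ≫ (shiftFunctorAdd' C (-(b + 1)) 1 (-b) hm).inv.app (S.obj N))
        rw [← F.map_comp_assoc, hν, reassoc_of% (ψ_natural F F' φ (-b) ν), ← F'.map_comp, ← hν,
          Category.assoc, Iso.inv_hom_id_app]
        erw [Category.comp_id]
      have hT := F.map_distinguished _ dist'
      obtain ⟨(Δ' : F.obj Y' ⟶ F'.obj (((S.obj N)⟦-(b + 1)⟧)⟦(1 : ℤ)⟧)), hΔ'⟩ :=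
        Triangle.yoneda_exact₂ _ hT _ h1
      change _ = F.map y' ≫ Δ' at hΔ'
      have h2 : Δ' = 0 := by
        refine eq_zero_of_conj (Iso.refl _)
          (F'.mapIso ((shiftFunctorAdd' C (-(b + 1)) 1 (-b) hm).app (S.obj N)).symm) Δ' ?_
        exact van' N _
      rw [hΔ', h2, comp_zero]

include rd φ hv in
/-- existence of the objectwise isomorphisms -/
theorem nonempty_iso_obj (K : C) : Nonempty (F.obj K ≅ F'.obj K) := by
  obtain ⟨a, b, hab, h⟩ := rd.exists_range' K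
  obtain ⟨N, x, Y, y, z, -, -, α, -⟩ := claim F F' φ rd hv a b hab K h
  exact ⟨α⟩

end Obj

/-- range data with effaceability of positive extension classes -/
structure RangeData₁ (S : A ⥤ C) extends RangeData₀ S where
  eff : ∀ (X Y : A) (q : ℤ), 0 < q → ∀ ξ : S.obj X ⟶ (S.obj Y)⟦q⟧,
    ∃ (X'' X' : A) (k : X'' ⟶ X') (p : X' ⟶ X) (δ : S.obj X ⟶ (S.obj X'')⟦(1 : ℤ)⟧),
      Triangle.mk (S.map k) (S.map p) δ ∈ distTriang C ∧ S.map p ≫ ξ = 0

section FF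

open FFDev

variable (F F' : C ⥤ D) [F.CommShift ℤ] [F'.CommShift ℤ] (φ : S ⋙ F ≅ S ⋙ F')
  (rd : RangeData₁ S) [F.IsTriangulated] [F'.IsTriangulated] [F.Full] [F.Faithful]
  (h2 : ∀ X : C, Nonempty (F.obj X ≅ F'.obj X))

include rd φ in
lemma heartBij_zero (X Y : A) : Bij F' (S.obj X) (S.obj Y) := by
  have hfull : ∀ g : S.obj X ⟶ S.obj Y, ∃ ν : X ⟶ Y, g = S.map ν := by
    intro g
    obtain ⟨ν, hν⟩ := rd.full 0 X Y ((shiftFunctor C (0 : ℤ)).map g)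
    exact ⟨ν, (shiftFunctor C (0 : ℤ)).map_injective hν⟩
  have hnat : ∀ ν : X ⟶ Y, F'.map (S.map ν) = φ.inv.app X ≫ F.map (S.map ν) ≫ φ.hom.app Y := by
    intro ν
    have := φ.hom.naturality ν
    dsimp at this
    rw [this, Iso.inv_hom_id_app_assoc]
  constructor
  · intro g g' hgg'
    dsimp only at hgg'
    obtain ⟨ν, rfl⟩ := hfull g
    obtain ⟨ν', rfl⟩ := hfull g'
    rw [hnat, hnat, cancel_epi, cancel_mono] at hgg'
    exact F.map_injective hgg'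
  · intro θ
    obtain ⟨g, hg⟩ := F.map_surjective (φ.hom.app X ≫ θ ≫ φ.inv.app Y)
    obtain ⟨ν, rfl⟩ := hfull g
    refine ⟨S.map ν, ?_⟩
    dsimp only
    rw [hnat, hg]
    simp

include rd h2 in
lemma heartBij_neg (X Y : A) (q : ℤ) (hq : q < 0) : Bij F' (S.obj X) ((S.obj Y)⟦q⟧) := by
  have r1 : rd.R 0 0 (S.obj X) :=
    rd.of_iso (rd.heart 0 X) ((shiftFunctorZero' C (-0 : ℤ) (by simp)).app (S.obj X))
  have r2 : rd.R (-q) (-q) ((S.obj Y)⟦q⟧) := by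
    have := rd.heart (-q) Y
    rwa [neg_neg] at this
  have h0 : ∀ g : S.obj X ⟶ (S.obj Y)⟦q⟧, g = 0 := rd.orth r1 r2 (by omega)
  constructor
  · intro g g' _
    rw [h0 g, h0 g']
  · intro θ
    refine ⟨0, ?_⟩
    dsimp only
    rw [F'.map_zero]
    obtain ⟨e₁⟩ := h2 (S.obj X)
    exact (eq_zero_of_conj e₁.symm (Iso.refl _) θ (hom_eq_zero F F' h2 h0 _)).symm

include rd φ h2 in
lemma heartBij_nat : ∀ (n : ℕ) (X Y : A), Bij F' (S.obj X) ((S.obj Y)⟦(n : ℤ)⟧) := by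
  intro n
  induction n with
  | zero =>
    intro X Y
    exact (heartBij_zero F F' φ rd X Y).of_iso (Iso.refl _)
      ((shiftFunctorZero' C ((0 : ℕ) : ℤ) (by simp)).app (S.obj Y)).symm
  | succ n ih =>
    intro X Y
    have hq : (n : ℤ) + 1 = ((n + 1 : ℕ) : ℤ) := by push_cast; ring
    -- bijectivity one step down, shifted
    have ih' : ∀ X₀ : A, Bij F' ((S.obj X₀)⟦(1 : ℤ)⟧) ((S.obj Y)⟦((n + 1 : ℕ) : ℤ)⟧) := fun X₀ =>
      ((ih X₀ Y).shift 1).of_iso (Iso.refl _)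
        ((shiftFunctorAdd' C (n : ℤ) 1 _ hq).app (S.obj Y)).symm
    constructor
    · intro f f' hff'
      dsimp only at hff'
      rw [← sub_eq_zero] at hff' ⊢
      rw [← F'.map_sub] at hff'
      generalize f - f' = ξ at hff'
      obtain ⟨X'', X', k, p, δ, dist, hp⟩ := rd.eff X Y _ (by omega) ξ
      obtain ⟨(η : (S.obj X'')⟦(1 : ℤ)⟧ ⟶ (S.obj Y)⟦((n + 1 : ℕ) : ℤ)⟧), hη⟩ :=
        Triangle.yoneda_exact₃ _ dist ξ hp
      change ξ = δ ≫ η at hη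
      have dist₂ := rot_of_distTriang _ (rot_of_distTriang _ dist)
      have hG := F'.map_distinguished _ dist₂
      have h1 : F'.map δ ≫ F'.map η = 0 := by rw [← F'.map_comp, ← hη, hff']
      obtain ⟨(ζ : F'.obj ((S.obj X')⟦(1 : ℤ)⟧) ⟶ F'.obj ((S.obj Y)⟦((n + 1 : ℕ) : ℤ)⟧)), hζ⟩ :=
        Triangle.yoneda_exact₂ _ hG (F'.map η) h1
      change F'.map η = F'.map (-(S.map k)⟦(1 : ℤ)⟧') ≫ ζ at hζ
      obtain ⟨ζ₀, hζ₀⟩ := (ih' X').2 ζ
      dsimp only at hζ₀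
      have h2' : η = (-(S.map k)⟦(1 : ℤ)⟧') ≫ ζ₀ := by
        apply (ih' X'').1
        dsimp only
        rw [hζ, F'.map_comp, hζ₀]
      have h3 : δ ≫ (S.map k)⟦(1 : ℤ)⟧' = 0 := comp_distTriang_mor_zero₃₁ _ dist
      rw [hη, h2', Preadditive.neg_comp, Preadditive.comp_neg, reassoc_of% h3, zero_comp,
        neg_zero]
    · intro θ
      obtain ⟨e₂⟩ := h2 ((S.obj Y)⟦((n + 1 : ℕ) : ℤ)⟧)
      obtain ⟨ξ, hξ⟩ := F.map_surjective (φ.hom.app X ≫ θ ≫ e₂.inv)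
      obtain ⟨X'', X', k, p, δ, dist, hp⟩ := rd.eff X Y _ (by omega) ξ
      have h1 : F'.map (S.map p) ≫ θ = 0 := by
        have n1 := φ.hom.naturality p
        dsimp at n1
        have : F'.map (S.map p) = φ.inv.app X' ≫ F.map (S.map p) ≫ φ.hom.app X := by
          rw [n1, Iso.inv_hom_id_app_assoc]
        have e : φ.hom.app X ≫ θ = F.map ξ ≫ e₂.hom := by
          rw [hξ]
          simp
        rw [this, Category.assoc, Category.assoc, e, ← F.map_comp_assoc, hp, F.map_zero, zero_comp,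
          comp_zero]
      have hG := F'.map_distinguished _ dist
      obtain ⟨θ'', hθ''⟩ := Triangle.yoneda_exact₃ _ hG θ h1
      change θ = (F'.map δ ≫ (F'.commShiftIso (1 : ℤ)).hom.app (S.obj X'')) ≫ θ'' at hθ''
      obtain ⟨η, hη⟩ := (ih' X'').2 ((F'.commShiftIso (1 : ℤ)).hom.app (S.obj X'') ≫ θ'')
      dsimp only at hη
      refine ⟨δ ≫ η, ?_⟩
      dsimp only
      rw [F'.map_comp, hη, hθ'', Category.assoc]

include rd φ h2 in
lemma heartBij (X Y : A) (q : ℤ) : Bij F' (S.obj X) ((S.obj Y)⟦q⟧) := by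
  by_cases hq : q < 0
  · exact heartBij_neg F F' rd h2 X Y q hq
  · obtain ⟨n, rfl⟩ := Int.eq_ofNat_of_zero_le (by omega : 0 ≤ q)
    exact heartBij_nat F F' φ rd h2 n X Y

include rd φ h2 in
lemma heartBij' (X Y : A) (m n : ℤ) : Bij F' ((S.obj X)⟦m⟧) ((S.obj Y)⟦n⟧) :=
  ((heartBij F F' φ rd h2 X Y (n - m)).shift m).of_iso (Iso.refl _)
    ((shiftFunctorAdd' C (n - m) m n (by omega)).app (S.obj Y)).symm

include rd φ h2 in
lemma bij_heart_left (X : A) (m : ℤ) (L : C) : Bij F' ((S.obj X)⟦m⟧) L := by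
  suffices h : ∀ (X : A) (m : ℤ), Bij F' ((S.obj X)⟦m⟧) L from h X m
  refine rd.devissage (fun L => ∀ (X : A) (m : ℤ), Bij F' ((S.obj X)⟦m⟧) L) ?_ ?_ ?_ L
  · intro L L' e h X m
    exact (h X m).of_iso (Iso.refl _) e
  · intro T hT h₁ h₃ X m
    refine Bij.mid_cov T hT _ (h₁ X m) (h₃ X m) ?_ ?_
    · exact (((h₁ X (m - 1)).shift 1).of_iso
        ((shiftFunctorAdd' C (m - 1) 1 m (by omega)).app (S.obj X)).symm (Iso.refl _)).1
    · exact (((h₃ X (m + 1)).shift (-1)).of_iso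
        ((shiftFunctorAdd' C (m + 1) (-1) m (by omega)).app (S.obj X)).symm (Iso.refl _)).2
  · intro Y n X m
    exact heartBij' F F' φ rd h2 X Y m n

include rd φ h2 in
lemma bij_all (K L : C) : Bij F' K L := by
  suffices h : ∀ L : C, Bij F' K L from h L
  refine rd.devissage (fun K => ∀ L : C, Bij F' K L) ?_ ?_ ?_ K
  · intro K K' e h L
    exact (h L).of_iso e (Iso.refl _)
  · intro T hT h₁ h₃ L
    refine Bij.mid_contra T hT _ (h₁ L) (h₃ L) ?_ ?_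
    · exact (((h₁ (L⟦(-1 : ℤ)⟧)).shift 1).of_iso (Iso.refl _)
        ((shiftFunctorCompIsoId C (-1 : ℤ) 1 (by omega)).app L)).2
    · exact (((h₃ (L⟦(1 : ℤ)⟧)).shift (-1)).of_iso (Iso.refl _)
        ((shiftFunctorCompIsoId C (1 : ℤ) (-1) (by omega)).app L)).1
  · intro X m L
    exact bij_heart_left F F' φ rd h2 X m L

include rd φ h2 in
/-- a sibling of a fully faithful functor is fully faithful -/
theorem full_faithful : F'.Full ∧ F'.Faithful :=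
  ⟨⟨fun {K L} => (bij_all F F' φ rd h2 K L).2⟩, ⟨fun {K L} => (bij_all F F' φ rd h2 K L).1⟩⟩

end FF

end Groth.Agent.Lib.Helper17.Sib
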