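import Mathlib

set_option autoImplicit false
set_option linter.style.haveILetI false

open CategoryTheory CategoryTheory.Limits DerivedCategory Pretriangulated

namespace Groth.Agent.Lib.Helper17.SibDA

universe w v u

variable {C : Type u} [Category.{v} C] [Abelian C] [HasDerivedCategory.{w} C]

/-- a morphism `L[-b] ⟶ Y` in the derived category, with `Y` a complex that is zero in degree `b`,
is killed by an epimorphism `L' ⟶ L` -/
theorem exists_epi_comp_eq_zero_Q {L : C} (b : ℤ) (Y : CochainComplex C ℤ) (hY : IsZero (Y.X b))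
    (f : Q.obj ((CochainComplex.singleFunctor C b).obj L) ⟶ Q.obj Y) :
    ∃ (L' : C) (p : L' ⟶ L), Epi p ∧ Q.map ((CochainComplex.singleFunctor C b).map p) ≫ f = 0 := by
  obtain ⟨X', hX', s, hs, g, rfl⟩ := right_fac_of_isStrictlyLE f b
  have hd : X'.d b (b + 1) = 0 := (X'.isZero_of_isStrictlyLE b (b + 1) (by omega)).eq_of_tgt _ _
  let i : (CochainComplex.singleFunctor C b).obj (X'.X b) ⟶ X' :=
    HomologicalComplex.mkHomFromSingle (𝟙 _) (fun k hk => by
      obtain rfl : b + 1 = k := hk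
      rw [Category.id_comp]
      exact hd)
  let s' : X' ⟶ (HomologicalComplex.single C (ComplexShape.up ℤ) b).obj L := s
  obtain ⟨p, hpdef⟩ : ∃ p : X'.X b ⟶ L,
      p = s'.f b ≫ (HomologicalComplex.singleObjXSelf (ComplexShape.up ℤ) b L).hom := ⟨_, rfl⟩
  have hp : i ≫ s = (CochainComplex.singleFunctor C b).map p := by
    apply HomologicalComplex.from_single_hom_ext
    change (HomologicalComplex.mkHomFromSingle (𝟙 (X'.X b)) _).f b ≫ s'.f b =
      ((HomologicalComplex.single C (ComplexShape.up ℤ) b).map p).f b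
    rw [HomologicalComplex.mkHomFromSingle_f, HomologicalComplex.single_map_f_self, hpdef]
    simp
  have hig : i ≫ g = 0 := by
    apply HomologicalComplex.from_single_hom_ext
    exact hY.eq_of_tgt _ _
  refine ⟨X'.X b, p, ?_, ?_⟩
  · apply Preadditive.epi_of_cokernel_zero
    have h1 : s ≫ (CochainComplex.singleFunctor C b).map (cokernel.π p) = 0 := by
      apply HomologicalComplex.to_single_hom_ext
      change s'.f b ≫ ((HomologicalComplex.single C (ComplexShape.up ℤ) b).map (cokernel.π p)).f b =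
        (0 : X' ⟶ _).f b
      rw [HomologicalComplex.single_map_f_self, HomologicalComplex.zero_f]
      have := cokernel.condition p
      rw [hpdef, Category.assoc] at this
      rw [← hpdef] at this
      rw [reassoc_of% this, zero_comp]
    have h2 : Q.map ((CochainComplex.singleFunctor C b).map (cokernel.π p)) = 0 := by
      rw [← cancel_epi (Q.map s), ← Q.map_comp, h1, Q.map_zero, comp_zero]
    apply (DerivedCategory.singleFunctor C b).map_injective
    rw [Functor.map_zero]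
    exact h2
  · rw [← hp, Q.map_comp, Category.assoc, IsIso.hom_inv_id_assoc, ← Q.map_comp, hig, Q.map_zero]

/-- effaceability of morphisms from `L[-b]` to `D^{≤ b-1}` -/
theorem exists_epi_comp_eq_zero {L : C} (b : ℤ) {Z : DerivedCategory C} [Z.IsLE (b - 1)]
    (f : (singleFunctor C b).obj L ⟶ Z) :
    ∃ (L' : C) (p : L' ⟶ L), Epi p ∧ (singleFunctor C b).map p ≫ f = 0 := by
  obtain ⟨Y, hY, ⟨e⟩⟩ := exists_iso_Q_obj_of_isLE Z (b - 1)
  have hYb : IsZero (Y.X b) := Y.isZero_of_isStrictlyLE (b - 1) b (by omega)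
  obtain ⟨L', p, hp, h⟩ := exists_epi_comp_eq_zero_Q b Y hYb (f ≫ e.hom)
  refine ⟨L', p, hp, ?_⟩
  rw [← cancel_mono e.hom, zero_comp, Category.assoc]
  exact h

/-- the top truncation triangle of an object of `D^{≤ b}` -/
lemma exists_top_triangle (X : DerivedCategory C) (b : ℤ) [X.IsLE b] :
    ∃ (T : DerivedCategory C) (H : C) (i : T ⟶ X) (π : X ⟶ (singleFunctor C b).obj H)
      (δ : (singleFunctor C b).obj H ⟶ T⟦(1 : ℤ)⟧), T.IsLE (b - 1) ∧
      Triangle.mk i π δ ∈ distTriang (DerivedCategory C) := by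
  obtain ⟨T, Y, hT, hY, f, g, h, mem⟩ := TStructure.t.exists_triangle X (b - 1) b (by ring)
  haveI : T.IsLE (b - 1) := ⟨hT⟩
  haveI : Y.IsGE b := ⟨hY⟩
  haveI : Y.IsLE b := by
    rw [isLE_iff]
    intro i hi
    have he : Epi ((homologyFunctor C i).map g) :=
      (HomologySequence.epi_homologyMap_mor₂_iff (Triangle.mk f g h) mem i (i + 1) rfl).2
        ((isZero_of_isLE T (b - 1) (i + 1) (by omega)).eq_of_tgt _ _)
    exact IsZero.of_epi ((homologyFunctor C i).map g) (isZero_of_isLE X b i hi)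
  obtain ⟨H, ⟨e⟩⟩ := exists_iso_singleFunctor_obj_of_isGE_of_isLE Y b
  refine ⟨T, H, f, g ≫ e.hom, e.inv ≫ h, inferInstance, ?_⟩
  refine isomorphic_distinguished _ mem _ ?_
  refine Triangle.isoMk _ _ (Iso.refl _) (Iso.refl _) e.symm ?_ ?_ ?_
  · exact (Category.comp_id _).trans (Category.id_comp _).symm
  · change (g ≫ e.hom) ≫ e.inv = 𝟙 _ ≫ g
    rw [Category.assoc, e.hom_inv_id, Category.comp_id, Category.id_comp]
  · change (e.inv ≫ h) ≫ (𝟙 T)⟦(1 : ℤ)⟧' = e.inv ≫ h
    rw [CategoryTheory.Functor.map_id, Category.comp_id]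

lemma isIso_homologyMap_top {X T : DerivedCategory C} {b : ℤ} {H : C} [T.IsLE (b - 1)]
    {i : T ⟶ X} {π : X ⟶ (singleFunctor C b).obj H}
    {δ : (singleFunctor C b).obj H ⟶ T⟦(1 : ℤ)⟧}
    (mem : Triangle.mk i π δ ∈ distTriang (DerivedCategory C)) :
    IsIso ((homologyFunctor C b).map π) := by
  have hm : Mono ((homologyFunctor C b).map π) :=
    (HomologySequence.mono_homologyMap_mor₂_iff _ mem b).2
      ((isZero_of_isLE T (b - 1) b (by omega)).eq_of_src _ _)
  have he : Epi ((homologyFunctor C b).map π) :=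
    (HomologySequence.epi_homologyMap_mor₂_iff _ mem b (b + 1) rfl).2
      ((isZero_of_isLE T (b - 1) (b + 1) (by omega)).eq_of_tgt _ _)
  exact isIso_of_mono_of_epi _

lemma epi_homologyMap_single (b : ℤ) {L L' : C} (p : L' ⟶ L) [Epi p] :
    Epi ((homologyFunctor C b).map ((singleFunctor C b).map p)) := by
  have e : (homologyFunctor C b).map ((singleFunctor C b).map p) =
      (singleFunctorCompHomologyFunctorIso C b).hom.app L' ≫ p ≫
        (singleFunctorCompHomologyFunctorIso C b).inv.app L :=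
    (NatIso.naturality_2 (singleFunctorCompHomologyFunctorIso C b) p).symm
  rw [e]
  infer_instance

/-- a cover of the top cohomology -/
lemma exists_cover_top (X : DerivedCategory C) (b : ℤ) [X.IsLE b] :
    ∃ (L : C) (u : (singleFunctor C b).obj L ⟶ X), Epi ((homologyFunctor C b).map u) := by
  obtain ⟨T, H, i, π, δ, hT, mem⟩ := exists_top_triangle X b
  haveI : (T⟦(1 : ℤ)⟧).IsLE (b - 1 - 1) := TStructure.t.isLE_shift T (b - 1) 1 (b - 1 - 1) (by omega)
  haveI : (T⟦(1 : ℤ)⟧).IsLE (b - 1) :=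
    TStructure.t.isLE_of_le _ (b - 1 - 1) (b - 1) (by omega)
  obtain ⟨L, p, hp, h⟩ := exists_epi_comp_eq_zero b δ
  obtain ⟨(u : (singleFunctor C b).obj L ⟶ X), hu⟩ :=
    Triangle.coyoneda_exact₃ _ mem ((singleFunctor C b).map p) h
  change (singleFunctor C b).map p = u ≫ π at hu
  refine ⟨L, u, ?_⟩
  haveI := isIso_homologyMap_top mem
  haveI := epi_homologyMap_single (C := C) b p
  have h1 : Epi ((homologyFunctor C b).map u ≫ (homologyFunctor C b).map π) := by
    rw [← Functor.map_comp, ← hu]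
    infer_instance
  have h2 := epi_comp ((homologyFunctor C b).map u ≫ (homologyFunctor C b).map π)
    (inv ((homologyFunctor C b).map π))
  simpa using h2

/-- negative covers of the top cohomology, killing two maps to `D^{≤ b-1}` -/
theorem exists_neg_cover (hneg : ∀ X : C, ∃ (N : C) (p : N ⟶ X), Epi p ∧ ∀ f : X ⟶ N, f = 0)
    (X : DerivedCategory C) (b : ℤ) [X.IsLE b] (W : C) {Z₁ Z₂ : DerivedCategory C}
    [Z₁.IsLE (b - 1)] [Z₂.IsLE (b - 1)] (g₁ : X ⟶ Z₁) (g₂ : X ⟶ Z₂) :
    ∃ (N : C) (x : (singleFunctor C b).obj N ⟶ X), Epi ((homologyFunctor C b).map x) ∧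
      (∀ φ : (homologyFunctor C b).obj X ⟶ N, φ = 0) ∧ (∀ φ : W ⟶ N, φ = 0) ∧
      x ≫ g₁ = 0 ∧ x ≫ g₂ = 0 := by
  obtain ⟨L, u, hu⟩ := exists_cover_top X b
  obtain ⟨L₁, p₁, hp₁, h₁⟩ := exists_epi_comp_eq_zero b (u ≫ g₁)
  obtain ⟨L₂, p₂, hp₂, h₂⟩ := exists_epi_comp_eq_zero b ((singleFunctor C b).map p₁ ≫ u ≫ g₂)
  let HX := (homologyFunctor C b).obj X
  let V := L₂ ⊞ (HX ⊞ W)
  let ιH : HX ⟶ V := (biprod.inl : HX ⟶ HX ⊞ W) ≫ (biprod.inr : HX ⊞ W ⟶ L₂ ⊞ (HX ⊞ W))
  let πH : V ⟶ HX := (biprod.snd : L₂ ⊞ (HX ⊞ W) ⟶ HX ⊞ W) ≫ (biprod.fst : HX ⊞ W ⟶ HX)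
  let ιW : W ⟶ V := (biprod.inr : W ⟶ HX ⊞ W) ≫ (biprod.inr : HX ⊞ W ⟶ L₂ ⊞ (HX ⊞ W))
  let πW : V ⟶ W := (biprod.snd : L₂ ⊞ (HX ⊞ W) ⟶ HX ⊞ W) ≫ (biprod.snd : HX ⊞ W ⟶ W)
  have hH : ιH ≫ πH = 𝟙 HX := by simp [ιH, πH]
  have hW : ιW ≫ πW = 𝟙 W := by simp [ιW, πW]
  obtain ⟨N, q, hq, hN⟩ := hneg V
  let π₂ : V ⟶ L₂ := biprod.fst
  let p : N ⟶ L := q ≫ π₂ ≫ p₂ ≫ p₁
  haveI : Epi p := epi_comp _ _
  refine ⟨N, (singleFunctor C b).map p ≫ u, ?_, ?_, ?_, ?_, ?_⟩
  · rw [Functor.map_comp]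
    haveI := epi_homologyMap_single (C := C) b p
    exact epi_comp _ _
  · intro φ
    have := hN (πH ≫ φ)
    have e : φ = ιH ≫ (πH ≫ φ) := by rw [reassoc_of% hH]
    rw [e, this, comp_zero]
  · intro φ
    have := hN (πW ≫ φ)
    have e : φ = ιW ≫ (πW ≫ φ) := by rw [reassoc_of% hW]
    rw [e, this, comp_zero]
  · dsimp only [p]
    simp only [Functor.map_comp, Category.assoc]
    rw [h₁, comp_zero, comp_zero, comp_zero]
  · dsimp only [p]
    simp only [Functor.map_comp, Category.assoc]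
    rw [h₂, comp_zero, comp_zero]

/-- morphisms from `D^{≤ b}` to a single object in degree `b` are controlled by `H^b` -/
theorem hom_single_eq_zero (X : DerivedCategory C) (b : ℤ) [X.IsLE b] (N : C)
    (hN : ∀ φ : (homologyFunctor C b).obj X ⟶ N, φ = 0) (f : X ⟶ (singleFunctor C b).obj N) :
    f = 0 := by
  obtain ⟨T, H, i, π, δ, hT, mem⟩ := exists_top_triangle X b
  have h0 : i ≫ f = 0 := TStructure.t.zero_of_isLE_of_isGE (i ≫ f) (b - 1) b (by omega) hT
    inferInstance
  obtain ⟨(f' : (singleFunctor C b).obj H ⟶ (singleFunctor C b).obj N), hf'⟩ :=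
    Triangle.yoneda_exact₂ _ mem f h0
  change f = π ≫ f' at hf'
  obtain ⟨ν, rfl⟩ := (singleFunctor C b).map_surjective f'
  haveI := isIso_homologyMap_top mem
  have hν : ν = 0 := by
    have := hN ((homologyFunctor C b).map π ≫
      (singleFunctorCompHomologyFunctorIso C b).hom.app H ≫ ν)
    rw [← Category.assoc] at this
    exact (cancel_epi _).1 (this.trans comp_zero.symm)
  rw [hf', hν, Functor.map_zero, comp_zero]

/-- the range of the cone of a cover of the top cohomology -/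
theorem cone_range (T : Triangle (DerivedCategory C)) (hT : T ∈ distTriang _) (a b : ℤ)
    (hab : a < b) [T.obj₂.IsGE a] [T.obj₂.IsLE b]
    (h₁ : ∀ i : ℤ, i ≠ b → IsZero ((homologyFunctor C i).obj T.obj₁))
    (hepi : Epi ((homologyFunctor C b).map T.mor₁)) :
    T.obj₃.IsGE a ∧ T.obj₃.IsLE (b - 1) := by
  have key : ∀ i : ℤ, i + 1 ≠ b → Epi ((homologyFunctor C i).map T.mor₂) := fun i hi =>
    (HomologySequence.epi_homologyMap_mor₂_iff T hT i (i + 1) rfl).2
      ((h₁ (i + 1) hi).eq_of_tgt _ _)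
  constructor
  · rw [isGE_iff]
    intro i hi
    haveI := key i (by omega)
    exact IsZero.of_epi ((homologyFunctor C i).map T.mor₂) (isZero_of_isGE T.obj₂ a i hi)
  · rw [isLE_iff]
    intro i hi
    haveI := key i (by omega)
    by_cases hib : i = b
    · subst hib
      have h0 : (homologyFunctor C i).map T.mor₂ = 0 := by
        have := (ShortComplex.mk _ _ (show (homologyFunctor C i).map T.mor₁ ≫
          (homologyFunctor C i).map T.mor₂ = 0 by
            rw [← Functor.map_comp, comp_distTriang_mor_zero₁₂ _ hT, Functor.map_zero])).zero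
        dsimp at this
        exact (cancel_epi _).1 (this.trans comp_zero.symm)
      rw [IsZero.iff_id_eq_zero, ← cancel_epi ((homologyFunctor C i).map T.mor₂), h0, zero_comp,
        zero_comp]
    · exact IsZero.of_epi ((homologyFunctor C i).map T.mor₂)
        (isZero_of_isLE T.obj₂ b i (by omega))

end Groth.Agent.Lib.Helper17.SibDA
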