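import Mathlib
import Groth.Prelude.Def_W4stkfunctorsequivSib
import Groth.Agent.Lib.Helper17.SibAbs
import Groth.Agent.Lib.Helper17.SibDA

/-!
# Sibling functors on `D^b(A)`: the range data of the bounded derived category
-/

set_option autoImplicit false
set_option linter.style.haveILetI false

open CategoryTheory CategoryTheory.Limits DerivedCategory Pretriangulated

namespace Groth.Agent.Lib.Helper17.SibDb

universe w v u

variable {A : Type u} [Category.{v} A] [Abelian A] [HasDerivedCategory.{w} A]

variable (A) in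
/-- the inclusion of the bounded derived category -/
noncomputable abbrev iD : DerivedCategory.Bounded A ⥤ DerivedCategory A :=
  (TStructure.t (C := A)).bounded.ι

instance : (DEquiv.singleB A).Full := by
  unfold DEquiv.singleB
  infer_instance

instance : (DEquiv.singleB A).Faithful := by
  unfold DEquiv.singleB
  infer_instance

/-- the comparison of shifted heart objects of `D^b(A)` with single complexes -/
noncomputable def σ (N : A) (n b : ℤ) (h : n + b = 0) :
    (iD A).obj (((DEquiv.singleB A).obj N)⟦n⟧) ≅ (singleFunctor A b).obj N :=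
  ((iD A).commShiftIso n).app ((DEquiv.singleB A).obj N) ≪≫
    ((singleFunctors A).shiftIso n b 0 h).app N

lemma isZero_homology_single (N : A) (b i : ℤ) (hi : i ≠ b) :
    IsZero ((homologyFunctor A i).obj ((singleFunctor A b).obj N)) := by
  rcases lt_or_gt_of_ne hi with h | h
  · exact isZero_of_isGE _ b i h
  · exact isZero_of_isLE _ b i h

variable (A) in
/-- the range data of `D^b(A)` -/
noncomputable def rangeData
    (hneg : ∀ X : A, ∃ (N : A) (p : N ⟶ X), Epi p ∧ ∀ f : X ⟶ N, f = 0) :
    Sib.RangeData (DEquiv.singleB A) where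
  R a b X := X.obj.IsGE a ∧ X.obj.IsLE b
  of_iso := by
    rintro a b X X' ⟨h1, h2⟩ e
    haveI : ((iD A).obj X).IsGE a := h1
    haveI : ((iD A).obj X).IsLE b := h2
    exact ⟨TStructure.t.isGE_of_iso ((iD A).mapIso e) a, TStructure.t.isLE_of_iso ((iD A).mapIso e) b⟩
  mono := by
    rintro a b a' b' X ha hb ⟨h1, h2⟩
    exact ⟨TStructure.t.isGE_of_ge _ a' a ha, TStructure.t.isLE_of_le _ b b' hb⟩
  exists_range X := by
    obtain ⟨⟨a, ha⟩, ⟨b, hb⟩⟩ := X.property
    exact ⟨a, b, ha, hb⟩
  zero a b X hX := by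
    have hz : IsZero ((iD A).obj X) := (iD A).map_isZero hX
    constructor
    · change ((iD A).obj X).IsGE a
      rw [isGE_iff]
      intro i _
      exact (homologyFunctor A i).map_isZero hz
    · change ((iD A).obj X).IsLE b
      rw [isLE_iff]
      intro i _
      exact (homologyFunctor A i).map_isZero hz
  heart i M :=
    ⟨TStructure.t.isGE_of_iso (σ M (-i) i (by omega)).symm i,
      TStructure.t.isLE_of_iso (σ M (-i) i (by omega)).symm i⟩
  of_heart := by
    rintro a X ⟨h1, h2⟩
    obtain ⟨M, ⟨e⟩⟩ := exists_iso_singleFunctor_obj_of_isGE_of_isLE X.obj a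
    exact ⟨M, ⟨(TStructure.t (C := A)).bounded.fullyFaithfulι.preimageIso
      (e ≪≫ (σ M (-a) a (by omega)).symm)⟩⟩
  orth := by
    rintro a b a' b' X X' ⟨-, h⟩ ⟨h', -⟩ hlt f
    apply (iD A).map_injective
    rw [Functor.map_zero]
    exact TStructure.t.zero_of_isLE_of_isGE ((iD A).map f) b a' hlt h h'
  full n M N f := by
    obtain ⟨g, rfl⟩ := (shiftFunctor (DerivedCategory.Bounded A) n).map_surjective f
    obtain ⟨ν, rfl⟩ := (DEquiv.singleB A).map_surjective g
    exact ⟨ν, rfl⟩
  pres := by
    rintro a b X X' Z₁ Z₂ hab ⟨hXa, hXb⟩ ⟨hX'a, hX'b⟩ ⟨-, hZ₁⟩ ⟨-, hZ₂⟩ g₁ g₂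
    haveI : ((iD A).obj X).IsLE b := hXb
    haveI : ((iD A).obj X').IsLE b := hX'b
    haveI : ((iD A).obj Z₁).IsLE (b - 1) := hZ₁
    haveI : ((iD A).obj Z₂).IsLE (b - 1) := hZ₂
    obtain ⟨N, x', hepi, hnegX, hnegX', hg₁, hg₂⟩ := SibDA.exists_neg_cover hneg ((iD A).obj X) b
      ((homologyFunctor A b).obj ((iD A).obj X')) ((iD A).map g₁) ((iD A).map g₂)
    let s := σ N (-b) b (by omega)
    let x : ((DEquiv.singleB A).obj N)⟦-b⟧ ⟶ X :=
      (TStructure.t (C := A)).bounded.fullyFaithfulι.preimage (s.hom ≫ x')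
    have hx : (iD A).map x = s.hom ≫ x' := Functor.FullyFaithful.map_preimage _ _
    obtain ⟨Y, y, z, dist⟩ := distinguished_cocone_triangle x
    have dist' := (iD A).map_distinguished _ dist
    refine ⟨N, x, Y, y, z, dist, ?_, ?_, ?_, ?_, ?_⟩
    · haveI : ((iD A).mapTriangle.obj (Triangle.mk x y z)).obj₂.IsGE a := hXa
      haveI : ((iD A).mapTriangle.obj (Triangle.mk x y z)).obj₂.IsLE b := hXb
      refine SibDA.cone_range _ dist' a b hab ?_ ?_
      · intro i hi
        exact IsZero.of_iso (isZero_homology_single N b i hi) ((homologyFunctor A i).mapIso s)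
      · change Epi ((homologyFunctor A b).map ((iD A).map x))
        rw [hx, Functor.map_comp]
        exact epi_comp _ _
    · intro f
      apply (iD A).map_injective
      rw [Functor.map_zero, ← cancel_mono s.hom, zero_comp]
      exact SibDA.hom_single_eq_zero _ b N hnegX _
    · intro f
      apply (iD A).map_injective
      rw [Functor.map_zero, ← cancel_mono s.hom, zero_comp]
      exact SibDA.hom_single_eq_zero _ b N hnegX' _
    · apply (iD A).map_injective
      rw [Functor.map_comp, hx, Category.assoc, hg₁, comp_zero, Functor.map_zero]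
    · apply (iD A).map_injective
      rw [Functor.map_comp, hx, Category.assoc, hg₂, comp_zero, Functor.map_zero]

end Groth.Agent.Lib.Helper17.SibDb
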