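import Mathlib
import Groth.Prelude.Def_W4stkfunctorsequivSib
import Groth.Agent.Lib.Helper17.SibAbs2
import Groth.Agent.Lib.Helper17.SibDb

/-!
# Sibling functors on `D^b(A)`: range data without negativity
-/

set_option autoImplicit false
set_option linter.style.haveILetI false

open CategoryTheory CategoryTheory.Limits DerivedCategory Pretriangulated

namespace Groth.Agent.Lib.Helper17.SibDb

universe w v u

variable {A : Type u} [Category.{v} A] [Abelian A] [HasDerivedCategory.{w} A]

variable (A) in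
/-- the range data of `D^b(A)`, without negative objects -/
noncomputable def rangeData₁ : Sib.RangeData₁ (DEquiv.singleB A) where
  R a b X := X.obj.IsGE a ∧ X.obj.IsLE b
  of_iso := by
    rintro a b X X' ⟨h1, h2⟩ e
    haveI : ((iD A).obj X).IsGE a := h1
    haveI : ((iD A).obj X).IsLE b := h2
    exact ⟨TStructure.t.isGE_of_iso ((iD A).mapIso e) a, TStructure.t.isLE_of_iso ((iD A).mapIso e) b⟩
  mono := by
    rintro a b a' b' X ha hb ⟨h1, h2⟩
    exact ⟨TStructure.t.isGE_of_ge _ a' a ha, TStructure.t.isLE_of_le _ b b' hb⟩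
  exists_range X := by
    obtain ⟨⟨a, ha⟩, ⟨b, hb⟩⟩ := X.property
    exact ⟨a, b, ha, hb⟩
  heart i M :=
    ⟨TStructure.t.isGE_of_iso (σ M (-i) i (by omega)).symm i,
      TStructure.t.isLE_of_iso (σ M (-i) i (by omega)).symm i⟩
  of_heart := by
    rintro a X ⟨h1, h2⟩
    obtain ⟨M, ⟨e⟩⟩ := exists_iso_singleFunctor_obj_of_isGE_of_isLE X.obj a
    exact ⟨M, ⟨(TStructure.t (C := A)).bounded.fullyFaithfulι.preimageIso
      (e ≪≫ (σ M (-a) a (by omega)).symm)⟩⟩
  orth := by
    rintro a b a' b' X X' ⟨-, h⟩ ⟨h', -⟩ hlt f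
    apply (iD A).map_injective
    rw [Functor.map_zero]
    exact TStructure.t.zero_of_isLE_of_isGE ((iD A).map f) b a' hlt h h'
  full n M N f := by
    obtain ⟨g, rfl⟩ := (shiftFunctor (DerivedCategory.Bounded A) n).map_surjective f
    obtain ⟨ν, rfl⟩ := (DEquiv.singleB A).map_surjective g
    exact ⟨ν, rfl⟩
  pres₀ := by
    rintro a b X hab ⟨hXa, hXb⟩
    haveI : ((iD A).obj X).IsLE b := hXb
    obtain ⟨N, x', hepi⟩ := SibDA.exists_cover_top ((iD A).obj X) b
    let s := σ N (-b) b (by omega)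
    let x : ((DEquiv.singleB A).obj N)⟦-b⟧ ⟶ X :=
      (TStructure.t (C := A)).bounded.fullyFaithfulι.preimage (s.hom ≫ x')
    have hx : (iD A).map x = s.hom ≫ x' := Functor.FullyFaithful.map_preimage _ _
    obtain ⟨Y, y, z, dist⟩ := distinguished_cocone_triangle x
    have dist' := (iD A).map_distinguished _ dist
    refine ⟨N, x, Y, y, z, dist, ?_⟩
    haveI : ((iD A).mapTriangle.obj (Triangle.mk x y z)).obj₂.IsGE a := hXa
    haveI : ((iD A).mapTriangle.obj (Triangle.mk x y z)).obj₂.IsLE b := hXb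
    refine SibDA.cone_range _ dist' a b hab ?_ ?_
    · intro i hi
      exact IsZero.of_iso (isZero_homology_single N b i hi) ((homologyFunctor A i).mapIso s)
    · change Epi ((homologyFunctor A b).map ((iD A).map x))
      rw [hx, Functor.map_comp]
      exact epi_comp _ _
  eff := by
    intro X Y q hq ξ
    let c := ((iD A).commShiftIso q).app ((DEquiv.singleB A).obj Y)
    haveI : (((singleFunctor A 0).obj Y)⟦q⟧).IsLE (0 - q) :=
      TStructure.t.isLE_shift _ 0 q (0 - q) (by omega)
    haveI : (((singleFunctor A 0).obj Y)⟦q⟧).IsLE (0 - 1) :=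
      TStructure.t.isLE_of_le _ (0 - q) (0 - 1) (by omega)
    obtain ⟨X', p, hp, h⟩ := SibDA.exists_epi_comp_eq_zero (C := A) (L := X) 0
      (Z := ((singleFunctor A 0).obj Y)⟦q⟧) ((iD A).map ξ ≫ c.hom)
    let Sc : ShortComplex A := ShortComplex.mk (kernel.ι p) p (kernel.condition p)
    have hSc : Sc.ShortExact :=
      { exact := ShortComplex.exact_of_f_is_kernel _ (kernelIsKernel p)
        mono_f := inferInstanceAs (Mono (kernel.ι p))
        epi_g := hp }
    let d : (singleFunctor A 0).obj X ⟶ ((singleFunctor A 0).obj (kernel p))⟦(1 : ℤ)⟧ :=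
      hSc.singleδ
    let c1 : (iD A).obj (((DEquiv.singleB A).obj (kernel p))⟦(1 : ℤ)⟧) ≅
        ((singleFunctor A 0).obj (kernel p))⟦(1 : ℤ)⟧ :=
      ((iD A).commShiftIso (1 : ℤ)).app ((DEquiv.singleB A).obj (kernel p))
    let δ' : (DEquiv.singleB A).obj X ⟶ ((DEquiv.singleB A).obj (kernel p))⟦(1 : ℤ)⟧ :=
      (TStructure.t (C := A)).bounded.fullyFaithfulι.preimage (d ≫ c1.inv)
    have hδ' : (iD A).map δ' = d ≫ c1.inv := Functor.FullyFaithful.map_preimage _ _
    refine ⟨kernel p, X', kernel.ι p, p, δ', ?_, ?_⟩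
    · change (iD A).mapTriangle.obj _ ∈ distTriang _
      refine isomorphic_distinguished _ hSc.singleTriangle_distinguished _ ?_
      refine Triangle.isoMk _ _ (Iso.refl _) (Iso.refl _) (Iso.refl _) ?_ ?_ ?_
      · exact (Category.comp_id _).trans (Category.id_comp _).symm
      · exact (Category.comp_id _).trans (Category.id_comp _).symm
      · have e : (d ≫ c1.inv) ≫ c1.hom = d := by
          rw [Category.assoc, Iso.inv_hom_id, Category.comp_id]
        change ((iD A).map δ' ≫ c1.hom) ≫ (𝟙 ((singleFunctor A 0).obj (kernel p)))⟦(1 : ℤ)⟧' =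
          𝟙 _ ≫ d
        rw [hδ', CategoryTheory.Functor.map_id, Category.comp_id, Category.id_comp]
        exact e
    · apply (iD A).map_injective
      rw [Functor.map_zero, Functor.map_comp, ← cancel_mono c.hom, zero_comp, Category.assoc]
      exact h

end Groth.Agent.Lib.Helper17.SibDb
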