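import Mathlib

namespace Groth.Agent.Lib.Helper17.SigmaQuad

open Module

set_option linter.unusedSectionVars false

variable {W H : Type} [AddCommGroup W] [Module ℂ W] [AddCommGroup H] [Module ℂ H]
  [FiniteDimensional ℂ H]
variable (q : H →ₗ[ℂ] H →ₗ[ℂ] W)

/-- the orthogonal `{x | q x y = 0 for all y ∈ V}` -/
def perp (V : Submodule ℂ H) : Submodule ℂ H :=
  ⨅ (y : H) (_ : y ∈ V), LinearMap.ker (q.flip y)

lemma mem_perp {V : Submodule ℂ H} {x : H} : x ∈ perp q V ↔ ∀ y ∈ V, q x y = 0 := by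
  simp [perp, Submodule.mem_iInf]

lemma layer (μ : ℤ) (M : ℕ) :
    ∑ l ∈ Finset.range M, ((1:ℤ) - (if μ ≤ (l:ℤ) then 1 else 0) - (if μ ≤ -(l:ℤ)-1 then 1 else 0))
      = max (min μ (M:ℤ)) (-(M:ℤ)) := by
  induction M with
  | zero => simp
  | succ M ih =>
    rw [Finset.sum_range_succ, ih]
    push_cast
    split_ifs <;> omega

section basis
variable {T : Type} [Fintype T] [DecidableEq T] (b : Basis T ℂ H) (μ : T → ℤ)

/-- the count `#{t | μ t ≤ l}` -/
def cnt (l : ℤ) : ℕ := (Finset.univ.filter (fun t => μ t ≤ l)).card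

/-- the filtration step `F_l = span {b t | μ t ≤ l}` -/
def F (l : ℤ) : Submodule ℂ H :=
  Submodule.span ℂ (Set.range (fun t : {t // μ t ≤ l} => b t))

lemma finrank_F (l : ℤ) : finrank ℂ (F b μ l) = cnt μ l := by
  have hli : LinearIndependent ℂ (fun t : {t // μ t ≤ l} => b t) :=
    b.linearIndependent.comp _ Subtype.val_injective
  rw [F, finrank_span_eq_card hli, cnt, Fintype.card_subtype]

lemma cnt_le (l : ℤ) : cnt μ l ≤ Fintype.card T := Finset.card_le_univ _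

lemma cnt_mono {l l' : ℤ} (h : l ≤ l') : cnt μ l ≤ cnt μ l' := by
  apply Finset.card_le_card
  intro t
  simp only [Finset.mem_filter, Finset.mem_univ, true_and]
  intro ht; omega

lemma F_le_perp (l l' : ℤ) (h : ∀ t u, μ t ≤ l → μ u ≤ l' → q (b t) (b u) = 0) :
    F b μ l ≤ perp q (F b μ l') := by
  rw [F, Submodule.span_le]
  rintro _ ⟨⟨t, ht⟩, rfl⟩
  rw [SetLike.mem_coe, mem_perp]
  intro y hy
  have : F b μ l' ≤ LinearMap.ker (q (b t)) := by
    rw [F, Submodule.span_le]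
    rintro _ ⟨⟨u, hu⟩, rfl⟩
    exact h t u ht hu
  exact this hy

/-- the layer-cake identity for the total weight -/
lemma sum_weights (M : ℕ) (hM : ∀ t, |μ t| ≤ M) :
    ∑ t, μ t = ∑ l ∈ Finset.range M,
      ((Fintype.card T : ℤ) - (cnt μ (l : ℤ) : ℤ) - (cnt μ (-(l:ℤ) - 1) : ℤ)) := by
  have h1 : ∀ t, μ t = ∑ l ∈ Finset.range M,
      ((1:ℤ) - (if μ t ≤ (l:ℤ) then 1 else 0) - (if μ t ≤ -(l:ℤ)-1 then 1 else 0)) := by
    intro t
    rw [layer]
    have := hM t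
    rw [abs_le] at this
    omega
  calc ∑ t, μ t = ∑ t, ∑ l ∈ Finset.range M,
      ((1:ℤ) - (if μ t ≤ (l:ℤ) then 1 else 0) - (if μ t ≤ -(l:ℤ)-1 then 1 else 0)) :=
        Finset.sum_congr rfl fun t _ => h1 t
    _ = ∑ l ∈ Finset.range M, ∑ t,
      ((1:ℤ) - (if μ t ≤ (l:ℤ) then 1 else 0) - (if μ t ≤ -(l:ℤ)-1 then 1 else 0)) :=
        Finset.sum_comm
    _ = _ := by
      refine Finset.sum_congr rfl fun l _ => ?_
      rw [Finset.sum_sub_distrib, Finset.sum_sub_distrib, Finset.sum_boole, Finset.sum_boole]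
      simp [cnt]

end basis

end Groth.Agent.Lib.Helper17.SigmaQuad
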