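import Mathlib
import Groth.Agent.Lib.Helper17.SigmaQuad

namespace Groth.Agent.Lib.Helper17.SigmaQuad

open Module

set_option linter.unusedSectionVars false

variable {W H : Type} [AddCommGroup W] [Module ℂ W] [AddCommGroup H] [Module ℂ H]
  [FiniteDimensional ℂ H]
variable (q : H →ₗ[ℂ] H →ₗ[ℂ] W)

section basis
variable {T : Type} [Fintype T] [DecidableEq T] (b : Basis T ℂ H) (μ : T → ℤ)

lemma exists_bound : ∃ M : ℕ, 0 < M ∧ (∀ t, |μ t| ≤ M) ∧ (∀ t, |μ t| < M) := by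
  refine ⟨(∑ t, |μ t|).toNat + 1, Nat.succ_pos _, ?_, ?_⟩
  all_goals
    intro t
    have h1 : |μ t| ≤ ∑ t, |μ t| :=
      Finset.single_le_sum (f := fun t => |μ t|) (fun i _ => abs_nonneg _) (Finset.mem_univ t)
    have h2 : 0 ≤ ∑ t, |μ t| := Finset.sum_nonneg fun i _ => abs_nonneg _
    push_cast
    omega

lemma cnt_eq_zero_of_lt (l : ℤ) (h : ∀ t, l < μ t) : cnt μ l = 0 := by
  rw [cnt, Finset.card_eq_zero, Finset.filter_eq_empty_iff]
  intro t _
  have := h t
  omega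

/-- semistable case: a weighted basis violating the numerical criterion cannot exist -/
lemma X_ss (hq0 : q ≠ 0)
    (hA : ∀ V : Submodule ℂ H, V ≠ ⊥ → (∀ x ∈ V, ∀ y ∈ V, q x y = 0) →
      finrank ℂ V + finrank ℂ (perp q V) ≤ finrank ℂ H)
    (hsum : ∑ t, μ t = 0)
    (hq : ∀ t u, μ t + μ u ≤ 0 → q (b t) (b u) = 0) : False := by
  have hh : finrank ℂ H = Fintype.card T := finrank_eq_card_basis b
  have hineq : ∀ l : ℕ, cnt μ (l : ℤ) + cnt μ (-(l : ℤ)) ≤ Fintype.card T := by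
    intro l
    have hperp : F b μ (l : ℤ) ≤ perp q (F b μ (-(l : ℤ))) :=
      F_le_perp q b μ _ _ fun t u ht hu => hq t u (by omega)
    by_cases hV : F b μ (-(l : ℤ)) = ⊥
    · have h0 : cnt μ (-(l : ℤ)) = 0 := by rw [← finrank_F b, hV, finrank_bot]
      rw [h0, add_zero]
      exact cnt_le μ _
    · have hiso : ∀ x ∈ F b μ (-(l : ℤ)), ∀ y ∈ F b μ (-(l : ℤ)), q x y = 0 := by
        intro x hx y hy
        have : F b μ (-(l : ℤ)) ≤ perp q (F b μ (-(l : ℤ))) :=
          F_le_perp q b μ _ _ fun t u ht hu => hq t u (by omega)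
        exact (mem_perp q).mp (this hx) y hy
      have h1 := hA _ hV hiso
      have h2 := Submodule.finrank_mono hperp
      rw [finrank_F] at h1 h2
      omega
  obtain ⟨M, hM0, hM, hM'⟩ := exists_bound μ
  have hS := sum_weights μ M hM
  rw [hsum] at hS
  -- all terms vanish
  have hterm : ∀ l ∈ Finset.range M,
      (0:ℤ) ≤ (Fintype.card T : ℤ) - (cnt μ (l : ℤ) : ℤ) - (cnt μ (-(l:ℤ) - 1) : ℤ) := by
    intro l _
    have h1 := hineq l
    have h2 := cnt_mono μ (by omega : -(l:ℤ) - 1 ≤ -(l:ℤ))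
    omega
  have hz := (Finset.sum_eq_zero_iff_of_nonneg hterm).mp hS.symm
  have hchain : ∀ l : ℕ, l ≤ M → cnt μ (-(l:ℤ)) = cnt μ 0 := by
    intro l
    induction l with
    | zero => intro _; simp
    | succ l ih =>
      intro hl
      have h1 := hz l (Finset.mem_range.mpr (by omega))
      have h2 := hineq l
      have h3 := cnt_mono μ (by omega : -(l:ℤ) - 1 ≤ -(l:ℤ))
      have h4 := ih (by omega)
      have h5 : -((l + 1 : ℕ) : ℤ) = -(l:ℤ) - 1 := by push_cast; ring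
      rw [h5]
      omega
  have hcM : cnt μ (-(M:ℤ)) = 0 := cnt_eq_zero_of_lt μ _ fun t => by
    have := hM' t
    rw [abs_lt] at this
    omega
  have hc0 : cnt μ 0 = 0 := by rw [← hchain M le_rfl, hcM]
  have h1 := hz 0 (Finset.mem_range.mpr hM0)
  have h3 := cnt_mono μ (by omega : (-1 : ℤ) ≤ 0)
  have hcard : Fintype.card T = 0 := by
    simp only [Nat.cast_zero, neg_zero, zero_sub] at h1
    omega
  apply hq0
  have : Subsingleton H := by
    rw [← finrank_zero_iff (R := ℂ), hh, hcard]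
  ext x y
  rw [Subsingleton.elim x 0]
  simp

/-- stable case -/
lemma X_s
    (hA : ∀ V : Submodule ℂ H, V ≠ ⊥ → (∀ x ∈ V, ∀ y ∈ V, q x y = 0) →
      finrank ℂ V + finrank ℂ (perp q V) < finrank ℂ H)
    (hsum : ∑ t, μ t = 0) (hne : ∃ t, μ t ≠ 0)
    (hq : ∀ t u, μ t + μ u < 0 → q (b t) (b u) = 0) : False := by
  have hh : finrank ℂ H = Fintype.card T := finrank_eq_card_basis b
  have hineq : ∀ l : ℕ, cnt μ (l : ℤ) + cnt μ (-(l : ℤ) - 1) ≤ Fintype.card T ∧
      (0 < cnt μ (-(l : ℤ) - 1) → cnt μ (l : ℤ) + cnt μ (-(l : ℤ) - 1) < Fintype.card T) := by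
    intro l
    have hperp : F b μ (l : ℤ) ≤ perp q (F b μ (-(l : ℤ) - 1)) :=
      F_le_perp q b μ _ _ fun t u ht hu => hq t u (by omega)
    by_cases hV : F b μ (-(l : ℤ) - 1) = ⊥
    · have h0 : cnt μ (-(l : ℤ) - 1) = 0 := by rw [← finrank_F b, hV, finrank_bot]
      rw [h0, add_zero]
      exact ⟨cnt_le μ _, fun h => absurd h (lt_irrefl _)⟩
    · have hiso : ∀ x ∈ F b μ (-(l : ℤ) - 1), ∀ y ∈ F b μ (-(l : ℤ) - 1), q x y = 0 := by
        intro x hx y hy
        have : F b μ (-(l : ℤ) - 1) ≤ perp q (F b μ (-(l : ℤ) - 1)) :=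
          F_le_perp q b μ _ _ fun t u ht hu => hq t u (by omega)
        exact (mem_perp q).mp (this hx) y hy
      have h1 := hA _ hV hiso
      have h2 := Submodule.finrank_mono hperp
      rw [finrank_F] at h1 h2
      exact ⟨by omega, fun _ => by omega⟩
  obtain ⟨M, hM0, hM, hM'⟩ := exists_bound μ
  have hS := sum_weights μ M hM
  rw [hsum] at hS
  have hterm : ∀ l ∈ Finset.range M,
      (0:ℤ) ≤ (Fintype.card T : ℤ) - (cnt μ (l : ℤ) : ℤ) - (cnt μ (-(l:ℤ) - 1) : ℤ) := by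
    intro l _
    have h1 := (hineq l).1
    omega
  have hz := (Finset.sum_eq_zero_iff_of_nonneg hterm).mp hS.symm
  have h1 := hz 0 (Finset.mem_range.mpr hM0)
  have h2 := hineq 0
  simp only [Nat.cast_zero, neg_zero, zero_sub] at h1 h2
  have hc1 : cnt μ (-1) = 0 := by
    by_contra hc
    have := h2.2 (Nat.pos_of_ne_zero hc)
    omega
  have hc0 : cnt μ 0 = Fintype.card T := by omega
  obtain ⟨t, ht⟩ := hne
  have hle : μ t ≤ 0 := by
    rw [cnt, ← Finset.card_univ, Finset.card_filter_eq_iff] at hc0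
    exact hc0 t (Finset.mem_univ t)
  have hge : ¬ μ t ≤ -1 := by
    rw [cnt, Finset.card_eq_zero, Finset.filter_eq_empty_iff] at hc1
    exact hc1 (Finset.mem_univ t)
  omega

end basis

end Groth.Agent.Lib.Helper17.SigmaQuad
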