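import Mathlib
import Groth.Agent.Lib.Helper17.SigmaQuad2

namespace Groth.Agent.Lib.Helper17.SigmaQuad

open Module

set_option linter.unusedSectionVars false

variable {W H : Type} [AddCommGroup W] [Module ℂ W] [AddCommGroup H] [Module ℂ H]
  [FiniteDimensional ℂ H]
variable (q : H →ₗ[ℂ] H →ₗ[ℂ] W)

/-- a three-step decomposition adapted to `V ≤ V^⊥` -/
lemma exists_decomp (V : Submodule ℂ H) (hiso : ∀ x ∈ V, ∀ y ∈ V, q x y = 0) :
    ∃ V' V'' : Submodule ℂ H, DirectSum.IsInternal ![V, V', V''] ∧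
      finrank ℂ V + finrank ℂ V' = finrank ℂ (perp q V) ∧
      finrank ℂ (perp q V) + finrank ℂ V'' = finrank ℂ H ∧ V' ≤ perp q V := by
  have hVP : V ≤ perp q V := fun x hx => (mem_perp q).mpr fun y hy => hiso x hx y hy
  obtain ⟨C, hC⟩ := Submodule.exists_isCompl V
  obtain ⟨V'', hV''⟩ := Submodule.exists_isCompl (perp q V)
  set V' := C ⊓ perp q V with hV'
  have hsup : V ⊔ V' = perp q V := by
    rw [hV', ← sup_inf_assoc_of_le C hVP, hC.sup_eq_top, top_inf_eq]
  have hdisj : Disjoint V V' := hC.disjoint.mono_right inf_le_left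
  have hdisj2 : Disjoint (V ⊔ V') V'' := by rw [hsup]; exact hV''.disjoint
  refine ⟨V', V'', ?_, ?_, ?_, inf_le_right⟩
  · apply DirectSum.isInternal_submodule_of_iSupIndep_of_iSup_eq_top
    · rw [iSupIndep_fin_three]
      simp only [Matrix.cons_val_zero, Matrix.cons_val_one, Matrix.cons_val]
      refine ⟨hdisj.disjoint_sup_right_of_disjoint_sup_left hdisj2, ?_, ?_⟩
      · rw [sup_comm V'' V]
        exact hdisj.symm.disjoint_sup_right_of_disjoint_sup_left (by rwa [sup_comm])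
      · exact hdisj2.symm
    · rw [iSup_fin_three]
      simp only [Matrix.cons_val_zero, Matrix.cons_val_one, Matrix.cons_val]
      rw [hsup, hV''.sup_eq_top]
  · have := Submodule.finrank_sup_add_finrank_inf_eq V V'
    rw [hsup, hdisj.eq_bot, finrank_bot, add_zero] at this
    exact this.symm
  · exact Submodule.finrank_add_eq_of_isCompl hV''

lemma core_AB (s : W →ₗ[ℂ] W) (hq : ∀ x y : H, q x y = s (q y x)) (hq0 : q ≠ 0)
    (V : Submodule ℂ H) (hV : V ≠ ⊥) (hiso : ∀ x ∈ V, ∀ y ∈ V, q x y = 0)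
    (V' V'' : Submodule ℂ H) (_hint : DirectSum.IsInternal ![V, V', V''])
    (h1 : finrank ℂ V + finrank ℂ V' = finrank ℂ (perp q V))
    (h2 : finrank ℂ (perp q V) + finrank ℂ V'' = finrank ℂ H) (hV' : V' ≤ perp q V) :
    ∃ m : Fin 3 → ℤ,
      (∑ i, m i * (finrank ℂ ((![V, V', V''] : Fin 3 → Submodule ℂ H) i) : ℤ)) = 0 ∧
      (∃ i, m i ≠ 0 ∧ (![V, V', V''] : Fin 3 → Submodule ℂ H) i ≠ ⊥) ∧
      ∀ i j, (∃ x ∈ (![V, V', V''] : Fin 3 → Submodule ℂ H) i,
          ∃ y ∈ (![V, V', V''] : Fin 3 → Submodule ℂ H) j, q x y ≠ 0) →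
        0 ≤ (finrank ℂ V : ℤ) + finrank ℂ (perp q V) - finrank ℂ H →
        (finrank ℂ V : ℤ) + finrank ℂ (perp q V) - finrank ℂ H ≤ m i + m j := by
  have hsym : ∀ x y : H, q y x = 0 → q x y = 0 := fun x y h => by rw [hq, h, map_zero]
  have hv1 : 1 ≤ finrank ℂ V := by
    rw [Nat.succ_le_iff, finrank_pos_iff_exists_ne_zero]
    obtain ⟨x, hx, hx0⟩ := (Submodule.ne_bot_iff V).mp hV
    exact ⟨⟨x, hx⟩, fun h => hx0 (congrArg Subtype.val h)⟩
  have hvh : finrank ℂ V ≠ finrank ℂ H := by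
    intro heq
    have htop : V = ⊤ := Submodule.eq_top_of_finrank_eq heq
    apply hq0
    ext x y
    exact hiso x (htop ▸ Submodule.mem_top) y (htop ▸ Submodule.mem_top)
  set v := finrank ℂ V
  set p := finrank ℂ (perp q V)
  set h := finrank ℂ H
  refine ⟨![(v : ℤ) - h, (v : ℤ) + p - h, (p : ℤ)], ?_, ⟨0, ?_, ?_⟩, ?_⟩
  · rw [Fin.sum_univ_three]
    show ((v : ℤ) - h) * (finrank ℂ V : ℤ) + ((v : ℤ) + p - h) * (finrank ℂ V' : ℤ)
      + (p : ℤ) * (finrank ℂ V'' : ℤ) = 0
    have e1 : (finrank ℂ V' : ℤ) = (p : ℤ) - v := by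
      have := congrArg (Nat.cast : ℕ → ℤ) h1; push_cast at this; linarith
    have e2 : (finrank ℂ V'' : ℤ) = (h : ℤ) - p := by
      have := congrArg (Nat.cast : ℕ → ℤ) h2; push_cast at this; linarith
    rw [e1, e2]
    ring
  · simp only [Matrix.cons_val_zero]
    intro h0
    apply hvh
    have : (v : ℤ) = h := by linarith
    exact_mod_cast this
  · simpa using hV
  · intro i j hij hN
    obtain ⟨x, hx, y, hy, hxy⟩ := hij
    have hvp : v ≤ p := by omega
    have hph : p ≤ h := by omega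
    fin_cases i <;> fin_cases j <;>
      simp only [Fin.zero_eta, Fin.mk_one, Fin.reduceFinMk, Matrix.cons_val_zero,
        Matrix.cons_val_one, Matrix.cons_val] at hx hy ⊢
    · exact absurd (hiso x hx y hy) hxy
    · exact absurd (hsym x y ((mem_perp q).mp (hV' hy) x hx)) hxy
    · omega
    · exact absurd ((mem_perp q).mp (hV' hx) y hy) hxy
    · omega
    · omega
    · omega
    · omega
    · omega

end Groth.Agent.Lib.Helper17.SigmaQuad
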