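import Mathlib
import Groth.Agent.Lib.Helper17.SigmaQuad3

namespace Groth.Agent.Lib.Helper17.SigmaQuad

open Module

set_option linter.unusedSectionVars false

variable {W H : Type} [AddCommGroup W] [Module ℂ W] [AddCommGroup H] [Module ℂ H]
  [FiniteDimensional ℂ H]
variable (q : H →ₗ[ℂ] H →ₗ[ℂ] W)

/-- data of a weighted basis from a weighted decomposition -/
lemma exists_weighted_basis (ι : Type) [Fintype ι] [DecidableEq ι] (Hs : ι → Submodule ℂ H)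
    (m : ι → ℤ) (hint : DirectSum.IsInternal Hs) :
    ∃ (T : Type) (_ : Fintype T) (_ : DecidableEq T) (b : Basis T ℂ H) (μ : T → ℤ) (ix : T → ι),
      (∀ t, b t ∈ Hs (ix t)) ∧ (∀ t, μ t = m (ix t)) ∧
      ∑ t, μ t = ∑ i, m i * (finrank ℂ (Hs i) : ℤ) ∧
      ((∃ i, m i ≠ 0 ∧ Hs i ≠ ⊥) → ∃ t, μ t ≠ 0) := by
  classical
  let bi : ∀ i, Basis (Fin (finrank ℂ (Hs i))) ℂ (Hs i) := fun i => Module.finBasis ℂ (Hs i)
  refine ⟨Σ i, Fin (finrank ℂ (Hs i)), inferInstance, inferInstance, hint.collectedBasis bi,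
    fun t => m t.1, fun t => t.1, ?_, fun _ => rfl, ?_, ?_⟩
  · intro t
    exact hint.collectedBasis_mem bi t
  · rw [Fintype.sum_sigma]
    refine Finset.sum_congr rfl fun i _ => ?_
    simp [mul_comm]
  · rintro ⟨i, hmi, hHi⟩
    have hpos : 0 < finrank ℂ (Hs i) := by
      rw [finrank_pos_iff_exists_ne_zero]
      obtain ⟨x, hx, hx0⟩ := (Submodule.ne_bot_iff _).mp hHi
      exact ⟨⟨x, hx⟩, fun h => hx0 (congrArg Subtype.val h)⟩
    exact ⟨⟨i, ⟨0, hpos⟩⟩, hmi⟩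

theorem main_ss (s : W →ₗ[ℂ] W) (hq : ∀ x y : H, q x y = s (q y x)) (hq0 : q ≠ 0) :
    (∀ V : Submodule ℂ H, V ≠ ⊥ → (∀ x ∈ V, ∀ y ∈ V, q x y = 0) →
        finrank ℂ V + finrank ℂ ↥(⨅ (y : H) (_ : y ∈ V), LinearMap.ker (q.flip y) : Submodule ℂ H)
          ≤ finrank ℂ H) ↔
      (∀ (ι : Type) [Fintype ι] [DecidableEq ι] (Hs : ι → Submodule ℂ H) (m : ι → ℤ),
        DirectSum.IsInternal Hs → (∑ i, m i * (finrank ℂ (Hs i) : ℤ)) = 0 →
        (∃ i, m i ≠ 0 ∧ Hs i ≠ ⊥) →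
        ∃ i j, (∃ x ∈ Hs i, ∃ y ∈ Hs j, q x y ≠ 0) ∧ m i + m j ≤ 0) := by
  constructor
  · intro hA ι _ _ Hs m hint hsum hne
    by_contra hcon
    push Not at hcon
    obtain ⟨T, _, _, b, μ, ix, hb, hμ, hμsum, _⟩ := exists_weighted_basis ι Hs m hint
    refine X_ss q b μ hq0 (fun V hV hiso => hA V hV hiso) (by rw [hμsum, hsum]) ?_
    intro t u htu
    by_contra hne0
    have := hcon (ix t) (ix u) ⟨b t, hb t, b u, hb u, hne0⟩
    rw [hμ, hμ] at htu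
    omega
  · intro hB V hV hiso
    by_contra hcon
    push Not at hcon
    obtain ⟨V', V'', hint, h1, h2, hV'⟩ := exists_decomp q V hiso
    obtain ⟨m, hsum, hne, hpair⟩ := core_AB q s hq hq0 V hV hiso V' V'' hint h1 h2 hV'
    obtain ⟨i, j, hij, hm⟩ := hB (Fin 3) ![V, V', V''] m hint hsum hne
    have hcon' : finrank ℂ H < finrank ℂ V + finrank ℂ (perp q V) := hcon
    have := hpair i j hij (by omega)
    omega

theorem main_s (s : W →ₗ[ℂ] W) (hq : ∀ x y : H, q x y = s (q y x)) (hq0 : q ≠ 0) :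
    (∀ V : Submodule ℂ H, V ≠ ⊥ → (∀ x ∈ V, ∀ y ∈ V, q x y = 0) →
        finrank ℂ V + finrank ℂ ↥(⨅ (y : H) (_ : y ∈ V), LinearMap.ker (q.flip y) : Submodule ℂ H)
          < finrank ℂ H) ↔
      (∀ (ι : Type) [Fintype ι] [DecidableEq ι] (Hs : ι → Submodule ℂ H) (m : ι → ℤ),
        DirectSum.IsInternal Hs → (∑ i, m i * (finrank ℂ (Hs i) : ℤ)) = 0 →
        (∃ i, m i ≠ 0 ∧ Hs i ≠ ⊥) →
        ∃ i j, (∃ x ∈ Hs i, ∃ y ∈ Hs j, q x y ≠ 0) ∧ m i + m j < 0) := by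
  constructor
  · intro hA ι _ _ Hs m hint hsum hne
    by_contra hcon
    push Not at hcon
    obtain ⟨T, _, _, b, μ, ix, hb, hμ, hμsum, hne'⟩ := exists_weighted_basis ι Hs m hint
    refine X_s q b μ (fun V hV hiso => hA V hV hiso) (by rw [hμsum, hsum]) (hne' hne) ?_
    intro t u htu
    by_contra hne0
    have := hcon (ix t) (ix u) ⟨b t, hb t, b u, hb u, hne0⟩
    rw [hμ, hμ] at htu
    omega
  · intro hB V hV hiso
    by_contra hcon
    push Not at hcon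
    obtain ⟨V', V'', hint, h1, h2, hV'⟩ := exists_decomp q V hiso
    obtain ⟨m, hsum, hne, hpair⟩ := core_AB q s hq hq0 V hV hiso V' V'' hint h1 h2 hV'
    obtain ⟨i, j, hij, hm⟩ := hB (Fin 3) ![V, V', V''] m hint hsum hne
    have hcon' : finrank ℂ H ≤ finrank ℂ V + finrank ℂ (perp q V) := hcon
    have := hpair i j hij (by omega)
    omega

end Groth.Agent.Lib.Helper17.SigmaQuad
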