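import Mathlib
import Groth.Agent.Lib.Helper17.TildeInj3
import Groth.Agent.Lib.Helper28.FlatPull2
import Groth.Agent.Lib.Helper29.QCohQcqs

/-!
# Direct images of injective hulls along `Spec O_{X,x} ⟶ X` (helper17)
-/

set_option autoImplicit false

universe u

open CategoryTheory Limits AlgebraicGeometry TopologicalSpace Opposite

namespace Groth.Agent.Lib.Helper17.SpecStalkInj

/-- The canonical morphism `Spec O_{X,x} ⟶ X` is flat. -/
theorem flat_fromSpecStalk (X : Scheme.{u}) (x : X) : Flat (X.fromSpecStalk x) := by
  obtain ⟨U, hU, hxU, -⟩ := exists_isAffineOpen_mem_and_subset (x := x) (U := (⊤ : X.Opens)) trivial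
  rw [← hU.fromSpecStalk_eq_fromSpecStalk hxU, IsAffineOpen.fromSpecStalk]
  have : Flat (Spec.map (X.presheaf.germ U x hxU)) := by
    rw [Flat.SpecMap_iff]
    let _ : Algebra Γ(X, U) (X.presheaf.stalk x) :=
      TopCat.Presheaf.algebra_section_stalk X.presheaf ⟨x, hxU⟩
    have hloc := hU.isLocalization_stalk ⟨x, hxU⟩
    exact IsLocalization.flat (X.presheaf.stalk x) (hU.primeIdealOf ⟨x, hxU⟩).asIdeal.primeCompl
  infer_instance

theorem main {X : Scheme.{u}} [IsLocallyNoetherian X]
    (x : X) (E : Type u) [AddCommGroup E] [Module (X.presheaf.stalk x) E]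
    [Module.Injective (X.presheaf.stalk x) E] :
    Injective ((Scheme.Modules.pushforward (X.fromSpecStalk x)).obj
        (tilde (ModuleCat.of (X.presheaf.stalk x) E))) ∧
      ((Scheme.Modules.pushforward (X.fromSpecStalk x)).obj
        (tilde (ModuleCat.of (X.presheaf.stalk x) E))).IsQuasicoherent := by
  haveI : IsNoetherianRing (X.presheaf.stalk x) := inferInstance
  haveI h1 : Injective (tilde (ModuleCat.of (X.presheaf.stalk x) E)) :=
    TildeInj.injective_tilde (X.presheaf.stalk x) (ModuleCat.of (X.presheaf.stalk x) E)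
  constructor
  · haveI : Flat (X.fromSpecStalk x) := flat_fromSpecStalk X x
    haveI : (Scheme.Modules.pullback (X.fromSpecStalk x)).PreservesMonomorphisms := inferInstance
    exact Injective.injective_of_adjoint
      (Scheme.Modules.pullbackPushforwardAdjunction (X.fromSpecStalk x)) _
  · haveI : QuasiCompact (X.fromSpecStalk x) := inferInstance
    haveI : QuasiSeparated (X.fromSpecStalk x) := inferInstance
    exact Groth.Agent.Lib.Helper29.QCoh.isQuasicoherent_pushforward_of_qcqs _ _

end Groth.Agent.Lib.Helper17.SpecStalkInj
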