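/-
helper17: splitting of bounded objects of the derived category (Ext^{≥2}-vanishing), helper lemmas.
-/
import Mathlib

universe w v u

open CategoryTheory CategoryTheory.Limits CategoryTheory.Pretriangulated

namespace Groth.Agent.Lib.Helper17.SplitExt

section Biprod

variable {D : Type u} [Category.{v} D] [Preadditive D] [HasFiniteBiproducts D] [HasBinaryBiproducts D]

/-- biproduct over `Option J` as a binary biproduct -/
noncomputable def optIso {J : Type} [Finite J] (f : Option J → D) :
    (⨁ fun j : J => f (some j)) ⊞ f none ≅ ⨁ f where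
  hom := biprod.desc (biproduct.desc fun j => biproduct.ι f (some j)) (biproduct.ι f none)
  inv := biproduct.desc (fun o => match o with
    | some j => biproduct.ι (fun j : J => f (some j)) j ≫ biprod.inl
    | none => biprod.inr)
  hom_inv_id := by
    apply biprod.hom_ext'
    · apply biproduct.hom_ext'
      intro j
      simp
    · simp
  inv_hom_id := by
    apply biproduct.hom_ext'
    intro o
    cases o <;> simp

/-- the equivalence `Option (Icc a (b-1)) ≃ Icc a b` -/
def optEquiv (a b : ℤ) (hab : a ≤ b) :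
    Option (Finset.Icc a (b - 1)) ≃ Finset.Icc a b where
  toFun o := match o with
    | some j => ⟨j.1, by
        have := Finset.mem_Icc.1 j.2
        exact Finset.mem_Icc.2 ⟨this.1, by lia⟩⟩
    | none => ⟨b, Finset.mem_Icc.2 ⟨hab, le_refl b⟩⟩
  invFun i := if h : i.1 = b then none else some ⟨i.1, by
    have := Finset.mem_Icc.1 i.2
    exact Finset.mem_Icc.2 ⟨this.1, by lia⟩⟩
  left_inv o := by
    cases o with
    | none => simp
    | some j =>
      have := Finset.mem_Icc.1 j.2
      have hne : j.1 ≠ b := by lia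
      simp [hne]
  right_inv i := by
    by_cases h : i.1 = b
    · simp only [h, dite_true]
      exact Subtype.ext h.symm
    · simp [h]

end Biprod

section Derived

open DerivedCategory

variable {A : Type u} [Category.{v} A] [Abelian A] [HasDerivedCategory.{w} A]

/-- `τ_{≤ n₀} K ⟶ K` is an isomorphism on `H^i` for `i ≤ n₀` -/
lemma isIso_homology_truncLEι (K : DerivedCategory A) (n₀ i : ℤ) (hi : i ≤ n₀) :
    IsIso ((homologyFunctor A i).map ((TStructure.t.truncLEι n₀).app K)) := by
  let T := (TStructure.t.triangleLEGE n₀ (n₀ + 1) rfl).obj K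
  have hT : T ∈ distTriang _ := TStructure.t.triangleLEGE_distinguished n₀ (n₀ + 1) rfl K
  haveI : T.obj₃.IsGE (n₀ + 1) :=
    (inferInstance : TStructure.t.IsGE ((TStructure.t.truncGE (n₀ + 1)).obj K) (n₀ + 1))
  have hm : Mono ((homologyFunctor A i).map T.mor₁) := by
    rw [HomologySequence.mono_homologyMap_mor₁_iff T hT (i - 1) i (by lia)]
    exact (isZero_of_isGE T.obj₃ (n₀ + 1) (i - 1) (by lia)).eq_of_src _ _
  have he : Epi ((homologyFunctor A i).map T.mor₁) := by
    rw [HomologySequence.epi_homologyMap_mor₁_iff T hT i]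
    exact (isZero_of_isGE T.obj₃ (n₀ + 1) i (by lia)).eq_of_tgt _ _
  exact isIso_of_mono_of_epi ((homologyFunctor A i).map T.mor₁)

/-- `K ⟶ τ_{≥ n₁} K` is an isomorphism on `H^{n₁}` -/
lemma isIso_homology_truncGEπ (K : DerivedCategory A) (n₁ : ℤ) :
    IsIso ((homologyFunctor A n₁).map ((TStructure.t.truncGEπ n₁).app K)) := by
  let T := (TStructure.t.triangleLEGE (n₁ - 1) n₁ (by lia)).obj K
  have hT : T ∈ distTriang _ := TStructure.t.triangleLEGE_distinguished (n₁ - 1) n₁ (by lia) K
  haveI : T.obj₁.IsLE (n₁ - 1) :=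
    (inferInstance : TStructure.t.IsLE ((TStructure.t.truncLE (n₁ - 1)).obj K) (n₁ - 1))
  have hm : Mono ((homologyFunctor A n₁).map T.mor₂) := by
    rw [HomologySequence.mono_homologyMap_mor₂_iff T hT n₁]
    exact (isZero_of_isLE T.obj₁ (n₁ - 1) n₁ (by lia)).eq_of_src _ _
  have he : Epi ((homologyFunctor A n₁).map T.mor₂) := by
    rw [HomologySequence.epi_homologyMap_mor₂_iff T hT n₁ (n₁ + 1) rfl]
    exact (isZero_of_isLE T.obj₁ (n₁ - 1) (n₁ + 1) (by lia)).eq_of_tgt _ _
  exact isIso_of_mono_of_epi ((homologyFunctor A n₁).map T.mor₂)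

/-- reindexing `Ext`-vanishing -/
lemma eq_zero_of_ext_vanishing (X Y : A) (b i : ℤ) (p : ℕ) (hp : i + (p : ℤ) = 1 + b)
    (h0 : ∀ f : (singleFunctor A 0).obj X ⟶ ((singleFunctor A 0).obj Y)⟦(p : ℤ)⟧, f = 0)
    (g : (singleFunctor A b).obj X ⟶ ((singleFunctor A i).obj Y)⟦(1 : ℤ)⟧) : g = 0 := by
  let αX : (singleFunctor A 0).obj X ≅ ((singleFunctor A b).obj X)⟦b⟧ :=
    (((singleFunctors A).shiftIso b 0 b (add_zero b)).app X).symm
  let βY : (((singleFunctor A i).obj Y)⟦(1 : ℤ)⟧)⟦b⟧ ≅ ((singleFunctor A 0).obj Y)⟦(p : ℤ)⟧ :=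
    ((shiftFunctorAdd' (DerivedCategory A) 1 b (1 + b) rfl).app _).symm ≪≫
      (shiftFunctorAdd' (DerivedCategory A) i (p : ℤ) (1 + b) hp).app _ ≪≫
      (shiftFunctor (DerivedCategory A) (p : ℤ)).mapIso
        (((singleFunctors A).shiftIso i 0 i (add_zero i)).app Y)
  have h1 := h0 (αX.hom ≫ g⟦b⟧' ≫ βY.hom)
  have h2 : g⟦b⟧' = 0 := by
    have h3 := congrArg (fun t => αX.inv ≫ t ≫ βY.inv) h1
    simpa using h3
  exact (shiftFunctor (DerivedCategory A) b).map_injective (by rw [h2, Functor.map_zero])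

/-- a map into a shifted finite biproduct with zero components is zero -/
lemma eq_zero_of_components {J : Type} [Finite J] (f : J → DerivedCategory A)
    (W : DerivedCategory A) (h0 : ∀ (j : J) (g : W ⟶ (f j)⟦(1 : ℤ)⟧), g = 0)
    (g : W ⟶ (⨁ f)⟦(1 : ℤ)⟧) : g = 0 := by
  let e := (shiftFunctor (DerivedCategory A) (1 : ℤ)).mapBiproduct f
  have : g ≫ e.hom = 0 := by
    apply biproduct.hom_ext
    intro j
    rw [zero_comp]
    exact h0 j _
  have h3 := congrArg (fun t => t ≫ e.inv) this
  simpa using h3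

lemma eq_zero_of_conj {X X' Y Y' : DerivedCategory A} (α : X ≅ X') (β : Y ≅ Y') (g : X ⟶ Y)
    (h : α.inv ≫ g ≫ β.hom = 0) : g = 0 := by
  have := congrArg (fun t => α.hom ≫ t ≫ β.inv) h
  simpa using this

/-- the empty case -/
lemma nonempty_iso_of_lt (K : DerivedCategory A) (a b : ℤ) (hba : b < a) [K.IsGE a] [K.IsLE b]
    (f : Finset.Icc a b → DerivedCategory A) : Nonempty (K ≅ ⨁ f) := by
  have hK : IsZero K := TStructure.t.isZero K b a hba
  have hB : IsZero (⨁ f) := by
    rw [IsZero.iff_id_eq_zero]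
    apply biproduct.hom_ext
    intro j
    have := Finset.mem_Icc.1 j.2
    lia
  exact ⟨hK.iso hB⟩

/-- **Splitting**: a bounded object all of whose higher `Ext`s between cohomology objects vanish is
the direct sum of its shifted cohomology objects. -/
theorem exists_iso_biproduct (n : ℕ) : ∀ (K : DerivedCategory A) (a b : ℤ) (H : ℤ → A),
    b + 1 - a ≤ n → K.IsGE a → K.IsLE b →
    (∀ i, a ≤ i → i ≤ b → Nonempty ((homologyFunctor A i).obj K ≅ H i)) →
    (∀ (i j : ℤ) (p : ℕ), j < i → 2 ≤ p →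
      ∀ f : (singleFunctor A 0).obj (H i) ⟶ ((singleFunctor A 0).obj (H j))⟦(p : ℤ)⟧, f = 0) →
    Nonempty (K ≅ ⨁ fun i : Finset.Icc a b => (singleFunctor A (i : ℤ)).obj (H i)) := by
  induction n with
  | zero =>
    intro K a b H hn hKa hKb _ _
    exact nonempty_iso_of_lt K a b (by lia) _
  | succ n ih =>
    intro K a b H hn hKa hKb hH hExt
    by_cases hba : b < a
    · exact nonempty_iso_of_lt K a b hba _
    have hab : a ≤ b := not_lt.1 hba
    -- truncations
    let K' := (TStructure.t.truncLE (b - 1)).obj K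
    let K'' := (TStructure.t.truncGE b).obj K
    haveI : K'.IsGE a := by dsimp only [K']; infer_instance
    haveI : K'.IsLE (b - 1) := by dsimp only [K']; infer_instance
    haveI : K''.IsGE b := by dsimp only [K'']; infer_instance
    haveI : K''.IsLE b := by dsimp only [K'']; infer_instance
    obtain ⟨e'⟩ := ih K' a (b - 1) H (by lia) inferInstance inferInstance (fun i hi₁ hi₂ => by
      obtain ⟨e⟩ := hH i hi₁ (by lia)
      haveI := isIso_homology_truncLEι K (b - 1) i hi₂
      exact ⟨asIso ((homologyFunctor A i).map ((TStructure.t.truncLEι (b - 1)).app K)) ≪≫ e⟩) hExt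
    obtain ⟨Y, ⟨eY⟩⟩ := exists_iso_singleFunctor_obj_of_isGE_of_isLE K'' b
    obtain ⟨eb⟩ := hH b hab le_rfl
    haveI := isIso_homology_truncGEπ K b
    let eYH : Y ≅ H b :=
      ((singleFunctorCompHomologyFunctorIso A b).app Y).symm ≪≫
        (homologyFunctor A b).mapIso eY.symm ≪≫
        (asIso ((homologyFunctor A b).map ((TStructure.t.truncGEπ b).app K))).symm ≪≫ eb
    let e'' : K'' ≅ (singleFunctor A b).obj (H b) := eY ≪≫ (singleFunctor A b).mapIso eYH
    -- the triangle
    let T := (TStructure.t.triangleLEGE (b - 1) b (by lia)).obj K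
    have hT : T ∈ distTriang _ := TStructure.t.triangleLEGE_distinguished (b - 1) b (by lia) K
    have hδ : T.mor₃ = 0 := by
      have h1 : e''.inv ≫ T.mor₃ ≫ e'.hom⟦(1 : ℤ)⟧' = 0 := by
        apply eq_zero_of_components
        intro j g
        have hj := Finset.mem_Icc.1 j.2
        refine eq_zero_of_ext_vanishing (H b) (H j.1) b j.1 (b - j.1 + 1).toNat ?_ ?_ g
        · rw [Int.toNat_of_nonneg (by lia)]
          lia
        · intro f
          exact hExt b j.1 _ (by lia) (by lia) f
      exact eq_zero_of_conj e'' ((shiftFunctor (DerivedCategory A) (1 : ℤ)).mapIso e') T.mor₃ h1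
    obtain ⟨e, -, -⟩ := exists_iso_binaryBiproduct_of_distTriang T hT hδ
    -- reindexing
    let fOpt : Option (Finset.Icc a (b - 1)) → DerivedCategory A := fun o =>
      (singleFunctor A ((optEquiv a b hab o : Finset.Icc a b) : ℤ)).obj
        (H ((optEquiv a b hab o : Finset.Icc a b) : ℤ))
    let e₁ : T.obj₁ ⊞ T.obj₃ ≅ (⨁ fun j : Finset.Icc a (b - 1) => fOpt (some j)) ⊞ fOpt none :=
      biprod.mapIso e' e''
    exact ⟨e ≪≫ e₁ ≪≫ optIso fOpt ≪≫
      biproduct.whiskerEquiv (f := fOpt)
        (g := fun i : Finset.Icc a b => (singleFunctor A (i : ℤ)).obj (H i))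
        (optEquiv a b hab) (fun _ => Iso.refl _)⟩

end Derived

end Groth.Agent.Lib.Helper17.SplitExt
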