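import Mathlib

/-!
# Spreading out algebra maps from localizations at a submonoid to principal localizations

For a ring `T`, a submonoid `M` and `L` a localization of `T` at `M`:
* `exists_lift`: an `R`-algebra map from a finitely presented `R`-algebra `X` to `L` lifts to
  `Localization.Away t` for some `t ∈ M`;
* `exists_eq`: two maps from a finite type algebra to `Localization.Away t` which agree in `L`
  agree in `Localization.Away (t * u)` for some `u ∈ M`;
* `exists_isUnit`: an element of `Localization.Away t` which becomes a unit in `L` becomes a unit in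
  `Localization.Away (t * u)` for some `u ∈ M`.
-/

set_option linter.unusedSectionVars false
set_option linter.style.haveILetI false

namespace Groth.Agent.Lib.Helper17.SpreadOut

open IsLocalization

variable {R T L : Type*} [CommRing R] [CommRing T] [CommRing L] [Algebra R T] [Algebra T L]
  [Algebra R L] [IsScalarTower R T L]

/-- ext for algebra maps out of `Localization.Away t`. -/
theorem away_algHom_ext {P : Type*} [CommRing P] [Algebra R P] {t : T}
    {f g : Localization.Away t →ₐ[R] P}
    (h : ∀ x : T, f (algebraMap T _ x) = g (algebraMap T _ x)) : f = g :=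
  AlgHom.coe_ringHom_injective
    (IsLocalization.ringHom_ext (Submonoid.powers t) (RingHom.ext h))

variable (M : Submonoid T) [IsLocalization M L]

/-- `T_t → L` for `t ∈ M`. -/
noncomputable def toL (t : T) (ht : t ∈ M) : Localization.Away t →ₐ[R] L :=
  IsLocalization.Away.liftAlgHom t (f := IsScalarTower.toAlgHom R T L)
    (IsLocalization.map_units L ⟨t, ht⟩)

@[simp] theorem toL_algebraMap (t : T) (ht : t ∈ M) (x : T) :
    toL (R := R) (L := L) M t ht (algebraMap T _ x) = algebraMap T L x := by
  simp [toL]

/-- `T_t → T_{tu}`. -/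
noncomputable def incl (t u : T) : Localization.Away t →ₐ[R] Localization.Away (t * u) :=
  IsLocalization.Away.liftAlgHom t (f := IsScalarTower.toAlgHom R T (Localization.Away (t * u)))
    (IsLocalization.Away.isUnit_of_dvd (t * u) (dvd_mul_right t u))

@[simp] theorem incl_algebraMap (t u : T) (x : T) :
    incl (R := R) t u (algebraMap T _ x) = algebraMap T _ x := by
  simp [incl]

theorem toL_incl (t u : T) (ht : t ∈ M) (hu : u ∈ M) (y : Localization.Away t) :
    toL (R := R) (L := L) M (t * u) (mul_mem ht hu) (incl (R := R) t u y) = toL (R := R) M t ht y := by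
  have : (toL (R := R) (L := L) M (t * u) (mul_mem ht hu)).comp (incl (R := R) t u) =
      toL (R := R) M t ht := away_algHom_ext (fun x => by simp)
  exact DFunLike.congr_fun this y

/-- One-level equalizing lemma. -/
theorem exists_eq₀ {X : Type*} [CommRing X] [Algebra R X] [Algebra.FiniteType R X]
    (f g : X →ₐ[R] T) (h : ∀ x, algebraMap T L (f x) = algebraMap T L (g x)) :
    ∃ u ∈ M, ∀ x, algebraMap T (Localization.Away u) (f x) =
      algebraMap T (Localization.Away u) (g x) := by
  classical
  obtain ⟨s, hs⟩ := Algebra.FiniteType.out (R := R) (A := X)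
  have h1 : ∀ x : X, ∃ c : M, (c : T) * f x = (c : T) * g x := fun x =>
    IsLocalization.exists_of_eq (M := M) (S := L) (h x)
  choose m hm using h1
  refine ⟨∏ x ∈ s, (m x : T), prod_mem (fun x _ => (m x).2), ?_⟩
  have key : (IsScalarTower.toAlgHom R T (Localization.Away (∏ x ∈ s, (m x : T)))).comp f =
      (IsScalarTower.toAlgHom R T (Localization.Away (∏ x ∈ s, (m x : T)))).comp g := by
    refine AlgHom.ext_of_adjoin_eq_top hs (fun x hx => ?_)
    simp only [AlgHom.comp_apply, IsScalarTower.coe_toAlgHom']
    rw [IsLocalization.eq_iff_exists (Submonoid.powers (∏ x ∈ s, (m x : T)))]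
    refine ⟨⟨_, Submonoid.mem_powers _⟩, ?_⟩
    simp only
    rw [← Finset.mul_prod_erase s _ hx]
    rw [mul_comm (m x : T), mul_assoc, mul_assoc, hm x]
  intro x
  exact DFunLike.congr_fun key x

/-- One-level unit lemma. -/
theorem exists_isUnit₀ (y : T) (h : IsUnit (algebraMap T L y)) :
    ∃ u ∈ M, IsUnit (algebraMap T (Localization.Away u) y) := by
  obtain ⟨m, hm, hd⟩ := (IsLocalization.algebraMap_isUnit_iff M).mp h
  exact ⟨m, hm, isUnit_of_dvd_unit (map_dvd _ hd) (IsLocalization.Away.algebraMap_isUnit m)⟩

/-- Lifting maps out of a polynomial ring. -/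
theorem exists_lift_mvPoly {n : ℕ} (φ : MvPolynomial (Fin n) R →ₐ[R] L) :
    ∃ (b : T) (hb : b ∈ M) (ψ : MvPolynomial (Fin n) R →ₐ[R] Localization.Away b),
      ∀ p, toL (R := R) (L := L) M b hb (ψ p) = φ p := by
  obtain ⟨b, hb⟩ := IsLocalization.exist_integer_multiples M (Finset.univ : Finset (Fin n))
    (fun i => φ (MvPolynomial.X i))
  have h1 : ∀ i, ∃ c : T, algebraMap T L c = (b : T) • φ (MvPolynomial.X i) :=
    fun i => hb i (Finset.mem_univ i)
  choose c hc using h1
  refine ⟨b, b.2, MvPolynomial.aeval (fun i => algebraMap T _ (c i) *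
    IsLocalization.Away.invSelf (b : T)), ?_⟩
  have key : (toL (R := R) (L := L) M b b.2).comp (MvPolynomial.aeval (fun i =>
      algebraMap T (Localization.Away (b : T)) (c i) * IsLocalization.Away.invSelf (b : T))) = φ := by
    refine MvPolynomial.algHom_ext (fun i => ?_)
    simp only [AlgHom.comp_apply, MvPolynomial.aeval_X, map_mul, toL_algebraMap]
    have h2 : algebraMap T L (b : T) *
        toL (R := R) (L := L) M b b.2 (IsLocalization.Away.invSelf (b : T)) = 1 := by
      rw [← toL_algebraMap (R := R) M (b : T) b.2, ← map_mul,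
        IsLocalization.Away.mul_invSelf, map_one]
    rw [hc i, Algebra.smul_def, mul_comm (algebraMap T L (b : T)), mul_assoc, h2, mul_one]
  exact fun p => DFunLike.congr_fun key p

/-- Descending along a surjection with finitely generated kernel, one level. -/
theorem exists_descend₀ {X Y : Type*} [CommRing X] [CommRing Y] [Algebra R X] [Algebra R Y]
    (π : Y →ₐ[R] X) (hπ : Function.Surjective π) (hk : (RingHom.ker π.toRingHom).FG)
    (ψ₀ : Y →ₐ[R] T) (φ : X →ₐ[R] L) (h : ∀ y, algebraMap T L (ψ₀ y) = φ (π y)) :
    ∃ (m : T) (_ : m ∈ M) (ψ : X →ₐ[R] Localization.Away m),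
      ∀ y, ψ (π y) = algebraMap T (Localization.Away m) (ψ₀ y) := by
  classical
  obtain ⟨G, hG⟩ := hk
  have h1 : ∀ p : Y, p ∈ G → ∃ c : M, (c : T) * ψ₀ p = 0 := by
    intro p hp
    have hp' : π p = 0 := by
      have : p ∈ RingHom.ker π.toRingHom := hG ▸ Ideal.subset_span hp
      exact this
    have : algebraMap T L (ψ₀ p) = 0 := by rw [h, hp', map_zero]
    exact (IsLocalization.map_eq_zero_iff M L _).mp this
  have h1' : ∀ p : Y, ∃ c : M, p ∈ G → (c : T) * ψ₀ p = 0 := by
    intro p
    by_cases hp : p ∈ G
    · obtain ⟨c, hc⟩ := h1 p hp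
      exact ⟨c, fun _ => hc⟩
    · exact ⟨1, fun h => absurd h hp⟩
  choose m hm using h1'
  set μ : T := ∏ p ∈ G, (m p : T) with hμ
  have hμM : μ ∈ M := prod_mem (fun p _ => (m p).2)
  have hker : RingHom.ker π.toRingHom ≤
      RingHom.ker ((IsScalarTower.toAlgHom R T (Localization.Away μ)).comp ψ₀).toRingHom := by
    rw [← hG, Ideal.span_le]
    intro p hp
    show algebraMap T (Localization.Away μ) (ψ₀ p) = 0
    rw [IsLocalization.map_eq_zero_iff (Submonoid.powers μ)]
    refine ⟨⟨μ, Submonoid.mem_powers _⟩, ?_⟩
    show μ * ψ₀ p = 0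
    rw [hμ, ← Finset.mul_prod_erase G _ hp, mul_comm (m p : T), mul_assoc, hm p hp, mul_zero]
  refine ⟨μ, hμM, AlgHom.liftOfSurjective π hπ _ hker, fun y => ?_⟩
  rw [AlgHom.liftOfSurjective_apply]
  rfl

section Transport

variable (t u : T)

/-- The identification of the iterated localization `(T_t)_u` with `T_{tu}`. -/
noncomputable def eps : Localization.Away (algebraMap T (Localization.Away t) u) ≃ₐ[T]
    Localization.Away (t * u) :=
  IsLocalization.algEquiv (Submonoid.powers (t * u)) _ _

theorem eps_algebraMap (y : Localization.Away t) :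
    eps t u (algebraMap (Localization.Away t) _ y) = incl (R := T) t u y := by
  have : (eps t u).toAlgHom.comp (IsScalarTower.toAlgHom T (Localization.Away t)
      (Localization.Away (algebraMap T (Localization.Away t) u))) = incl (R := T) t u :=
    (IsLocalization.algHom_subsingleton (Submonoid.powers t)).elim _ _
  exact DFunLike.congr_fun this y

theorem incl_eq (y : Localization.Away t) : incl (R := R) t u y = incl (R := T) t u y := rfl

end Transport

section Rebase

variable (t : T) (ht : t ∈ M)

/-- `L` as an algebra over `T_t`. -/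
noncomputable abbrev algL : Algebra (Localization.Away t) L :=
  (toL (R := T) (L := L) M t ht).toRingHom.toAlgebra

theorem toL_eq (y : Localization.Away t) :
    toL (R := R) (L := L) M t ht y = toL (R := T) (L := L) M t ht y := rfl

theorem rebase_tower :
    letI := algL (L := L) M t ht
    IsScalarTower T (Localization.Away t) L :=
  letI := algL (L := L) M t ht
  IsScalarTower.of_algebraMap_eq (fun x => (toL_algebraMap (R := T) M t ht x).symm)

theorem rebase_tower' :
    letI := algL (L := L) M t ht
    IsScalarTower R (Localization.Away t) L :=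
  letI := algL (L := L) M t ht
  IsScalarTower.of_algebraMap_eq (fun x => ((toL (R := R) (L := L) M t ht).commutes x).symm)

theorem rebase_isLocalization :
    letI := algL (L := L) M t ht
    IsLocalization (M.map (algebraMap T (Localization.Away t))) L :=
  letI := algL (L := L) M t ht
  haveI := rebase_tower (L := L) M t ht
  IsLocalization.isLocalization_of_submonoid_le (Localization.Away t) L (Submonoid.powers t) M
    (by rwa [Submonoid.powers_le])

end Rebase

/-- Two maps from a finite type algebra to `T_t` agreeing in `L` agree in some `T_{tu}`. -/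
theorem exists_eq {X : Type*} [CommRing X] [Algebra R X] [Algebra.FiniteType R X]
    (t : T) (ht : t ∈ M) (f g : X →ₐ[R] Localization.Away t)
    (h : ∀ x, toL (R := R) (L := L) M t ht (f x) = toL (R := R) (L := L) M t ht (g x)) :
    ∃ u ∈ M, ∀ x, incl (R := R) t u (f x) = incl (R := R) t u (g x) := by
  letI := algL (L := L) M t ht
  haveI := rebase_tower (L := L) M t ht
  haveI := rebase_tower' (R := R) (L := L) M t ht
  haveI := rebase_isLocalization (L := L) M t ht
  obtain ⟨u', ⟨u, hu, rfl⟩, hu'⟩ := exists_eq₀ (R := R) (L := L)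
    (M.map (algebraMap T (Localization.Away t))) f g h
  refine ⟨u, hu, fun x => ?_⟩
  have e1 : ∀ y, incl (R := R) t u y = eps t u (algebraMap _ _ y) :=
    fun y => (eps_algebraMap t u y).symm
  rw [e1, e1, hu' x]

/-- An element of `T_t` that becomes a unit in `L` becomes a unit in some `T_{tu}`. -/
theorem exists_isUnit (t : T) (ht : t ∈ M) (y : Localization.Away t)
    (h : IsUnit (toL (R := R) (L := L) M t ht y)) :
    ∃ u ∈ M, IsUnit (incl (R := R) t u y) := by
  letI := algL (L := L) M t ht
  haveI := rebase_tower (L := L) M t ht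
  haveI := rebase_isLocalization (L := L) M t ht
  obtain ⟨u', ⟨u, hu, rfl⟩, hu'⟩ := exists_isUnit₀ (L := L)
    (M.map (algebraMap T (Localization.Away t))) y h
  refine ⟨u, hu, ?_⟩
  have e1 : ∀ y, incl (R := R) t u y = eps t u (algebraMap _ _ y) :=
    fun y => (eps_algebraMap t u y).symm
  rw [e1]
  exact hu'.map (eps t u)

/-- An algebra map from a finitely presented algebra to `L` lifts to some `T_t`. -/
theorem exists_lift {X : Type*} [CommRing X] [Algebra R X] [Algebra.FinitePresentation R X]
    (φ : X →ₐ[R] L) :
    ∃ (t : T) (ht : t ∈ M) (ψ : X →ₐ[R] Localization.Away t),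
      ∀ x, toL (R := R) (L := L) M t ht (ψ x) = φ x := by
  obtain ⟨n, π, hπ, hk⟩ := Algebra.FinitePresentation.out (R := R) (A := X)
  obtain ⟨b, hb, ψ₀, hψ₀⟩ := exists_lift_mvPoly (R := R) (L := L) M (φ.comp π)
  letI := algL (L := L) M b hb
  haveI := rebase_tower (L := L) M b hb
  haveI := rebase_tower' (R := R) (L := L) M b hb
  haveI := rebase_isLocalization (L := L) M b hb
  obtain ⟨m', ⟨m, hm, rfl⟩, ψ, hψ⟩ := exists_descend₀ (R := R) (L := L)
    (M.map (algebraMap T (Localization.Away b))) π hπ hk ψ₀ φ hψ₀
  refine ⟨b * m, mul_mem hb hm, ((eps b m).restrictScalars R).toAlgHom.comp ψ, fun x => ?_⟩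
  obtain ⟨y, rfl⟩ := hπ x
  have h1 : ((eps b m).restrictScalars R).toAlgHom.comp ψ (π y) = incl (R := R) b m (ψ₀ y) := by
    show eps b m (ψ (π y)) = _
    rw [hψ, eps_algebraMap]
    rfl
  rw [h1, toL_incl M b m hb hm]
  exact hψ₀ y

end Groth.Agent.Lib.Helper17.SpreadOut
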