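import Mathlib
import Groth.Agent.Lib.Helper17.SpreadOut

/-!
# Spreading out an isomorphism of local rings of finitely presented algebras
-/

set_option linter.unusedSectionVars false
set_option linter.style.haveILetI false

namespace Groth.Agent.Lib.Helper17.SpreadOut

open IsLocalization

theorem exists_away_algEquiv {R A B : Type*} [CommRing R] [CommRing A] [CommRing B]
    [Algebra R A] [Algebra R B]
    [Algebra.FinitePresentation R A] [Algebra.FinitePresentation R B]
    (q : Ideal A) [q.IsPrime] (q' : Ideal B) [q'.IsPrime]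
    (e : Localization.AtPrime q ≃ₐ[R] Localization.AtPrime q') :
    ∃ (g : A) (g' : B) (hg : g ∈ q.primeCompl) (hg' : g' ∈ q'.primeCompl)
      (ε : Localization.Away g ≃ₐ[R] Localization.Away g'),
      ∀ y, toL (R := R) (L := Localization.AtPrime q') q'.primeCompl g' hg' (ε y) =
        e (toL (R := R) (L := Localization.AtPrime q) q.primeCompl g hg y) := by
  -- step 1
  obtain ⟨b₁, hb₁, α₁, hα₁⟩ := exists_lift (R := R) (L := Localization.AtPrime q') q'.primeCompl
    (e.toAlgHom.comp (IsScalarTower.toAlgHom R A (Localization.AtPrime q)))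
  replace hα₁ : ∀ x : A, toL (R := R) (L := Localization.AtPrime q') q'.primeCompl b₁ hb₁ (α₁ x) =
      e (algebraMap A (Localization.AtPrime q) x) := hα₁
  haveI : Algebra.FinitePresentation B (Localization.Away b₁) :=
    IsLocalization.Away.finitePresentation b₁
  haveI : Algebra.FinitePresentation R (Localization.Away b₁) :=
    Algebra.FinitePresentation.trans R B _
  -- step 2
  obtain ⟨a₁, ha₁, β₁, hβ₁⟩ := exists_lift (R := R) (L := Localization.AtPrime q) q.primeCompl
    (e.symm.toAlgHom.comp (toL (R := R) (L := Localization.AtPrime q') q'.primeCompl b₁ hb₁))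
  replace hβ₁ : ∀ y, toL (R := R) (L := Localization.AtPrime q) q.primeCompl a₁ ha₁ (β₁ y) =
      e.symm (toL (R := R) (L := Localization.AtPrime q') q'.primeCompl b₁ hb₁ y) := hβ₁
  -- step 3
  obtain ⟨u, hu, hu'⟩ := exists_eq (R := R) (L := Localization.AtPrime q) q.primeCompl a₁ ha₁
    (β₁.comp α₁) (IsScalarTower.toAlgHom R A (Localization.Away a₁)) (by
      intro x
      simp [hβ₁, hα₁])
  replace hu' : ∀ x : A, incl (R := R) a₁ u (β₁ (α₁ x)) =
      algebraMap A (Localization.Away (a₁ * u)) x := by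
    intro x
    have := hu' x
    simpa using this
  obtain ⟨a, haeq⟩ : ∃ a, a = a₁ * u := ⟨_, rfl⟩
  have ha : a ∈ q.primeCompl := haeq ▸ mul_mem ha₁ hu
  obtain ⟨β₂, hβ₂α₁, hβ₂L⟩ : ∃ β₂ : Localization.Away b₁ →ₐ[R] Localization.Away a,
      (∀ x : A, β₂ (α₁ x) = algebraMap A (Localization.Away a) x) ∧
      (∀ y, toL (R := R) (L := Localization.AtPrime q) q.primeCompl a ha (β₂ y) =
        e.symm (toL (R := R) (L := Localization.AtPrime q') q'.primeCompl b₁ hb₁ y)) := by
    subst haeq
    refine ⟨(incl (R := R) a₁ u).comp β₁, hu', fun y => ?_⟩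
    rw [AlgHom.comp_apply, toL_incl q.primeCompl a₁ u ha₁ hu]
    exact hβ₁ y
  clear hu' hβ₁ β₁ haeq
  -- step 4
  obtain ⟨d, hd, hd'⟩ := exists_isUnit (R := R) (L := Localization.AtPrime q') q'.primeCompl b₁ hb₁
    (α₁ a) (by
      rw [hα₁]
      exact (IsLocalization.map_units (Localization.AtPrime q) ⟨a, ha⟩).map e)
  have hb₂ : b₁ * d ∈ q'.primeCompl := mul_mem hb₁ hd
  obtain ⟨α₂, hα₂⟩ : ∃ α₂ : Localization.Away a →ₐ[R] Localization.Away (b₁ * d),
      ∀ x : A, α₂ (algebraMap A _ x) = incl (R := R) b₁ d (α₁ x) :=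
    ⟨IsLocalization.Away.liftAlgHom a (f := (incl (R := R) b₁ d).comp α₁) hd',
      fun x => IsLocalization.Away.lift_eq a
        (g := ((incl (R := R) b₁ d).comp α₁).toRingHom) hd' x⟩
  have hα₂L : ∀ y : Localization.Away a,
      toL (R := R) (L := Localization.AtPrime q') q'.primeCompl (b₁ * d) hb₂ (α₂ y) =
        e (toL (R := R) (L := Localization.AtPrime q) q.primeCompl a ha y) := by
    have : (toL (R := R) (L := Localization.AtPrime q') q'.primeCompl (b₁ * d) hb₂).comp α₂ =
        e.toAlgHom.comp (toL (R := R) (L := Localization.AtPrime q) q.primeCompl a ha) :=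
      away_algHom_ext (fun x => by
        simp only [AlgHom.comp_apply, hα₂, toL_incl q'.primeCompl b₁ d hb₁ hd, hα₁,
          toL_algebraMap]
        rfl)
    exact fun y => DFunLike.congr_fun this y
  -- step 5
  obtain ⟨d', hd'M, hd''⟩ := exists_eq (R := R) (L := Localization.AtPrime q') q'.primeCompl
    (b₁ * d) hb₂ (α₂.comp β₂) (incl (R := R) b₁ d) (by
      intro y
      simp only [AlgHom.comp_apply, hα₂L, hβ₂L, toL_incl q'.primeCompl b₁ d hb₁ hd,
        AlgEquiv.apply_symm_apply])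
  have hb₃ : b₁ * d * d' ∈ q'.primeCompl := mul_mem hb₂ hd'M
  obtain ⟨α₃, hα₃⟩ : ∃ α₃ : Localization.Away a →ₐ[R] Localization.Away (b₁ * d * d'),
      ∀ y, α₃ y = incl (R := R) (b₁ * d) d' (α₂ y) :=
    ⟨(incl (R := R) (b₁ * d) d').comp α₂, fun _ => rfl⟩
  obtain ⟨j, hj⟩ : ∃ j : Localization.Away b₁ →ₐ[R] Localization.Away (b₁ * d * d'),
      ∀ y, j y = incl (R := R) (b₁ * d) d' (incl (R := R) b₁ d y) :=
    ⟨(incl (R := R) (b₁ * d) d').comp (incl (R := R) b₁ d), fun _ => rfl⟩
  have hα₃β₂ : ∀ y, α₃ (β₂ y) = j y := fun y => by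
    rw [hα₃, hj]
    exact hd'' y
  have hjalg : ∀ x : B, j (algebraMap B _ x) = algebraMap B _ x := fun x => by
    rw [hj]
    simp
  have hα₃alg : ∀ x : A, α₃ (algebraMap A _ x) = j (α₁ x) := fun x => by
    rw [hα₃, hj, hα₂]
  have hα₃L : ∀ y, toL (R := R) (L := Localization.AtPrime q') q'.primeCompl (b₁ * d * d') hb₃
      (α₃ y) = e (toL (R := R) (L := Localization.AtPrime q) q.primeCompl a ha y) := fun y => by
    rw [hα₃, toL_incl q'.primeCompl (b₁ * d) d' hb₂ hd'M, hα₂L]
  clear hd'' hα₂L hα₂ hα₃ hj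
  -- step 6
  obtain ⟨k, a', hka'⟩ := IsLocalization.Away.surj a (β₂ (algebraMap B _ (d * d')))
  have ha' : a' ∈ q.primeCompl := by
    rw [← IsLocalization.AtPrime.isUnit_to_map_iff (Localization.AtPrime q) q a']
    have h1 := congrArg (toL (R := R) (L := Localization.AtPrime q) q.primeCompl a ha) hka'
    rw [map_mul, map_pow, toL_algebraMap, toL_algebraMap, hβ₂L, toL_algebraMap] at h1
    rw [← h1]
    refine IsUnit.mul ?_ (IsUnit.pow _ (IsLocalization.map_units _ ⟨a, ha⟩))
    exact (IsLocalization.map_units (Localization.AtPrime q') ⟨d * d', mul_mem hd hd'M⟩).map e.symm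
  have hunit_dd' : IsUnit (algebraMap B (Localization.Away (b₁ * d * d')) (d * d')) :=
    IsLocalization.Away.isUnit_of_dvd (b₁ * d * d') ⟨b₁, by ring⟩
  have hα₃u : IsUnit (α₃ (β₂ (algebraMap B _ (d * d')))) := by
    rw [hα₃β₂, hjalg]
    exact hunit_dd'
  have hα₃a : IsUnit (α₃ (algebraMap A _ a)) := (IsLocalization.Away.algebraMap_isUnit a).map α₃
  have hα₃a' : IsUnit (α₃ (algebraMap A _ a')) := by
    rw [← hka', map_mul, map_pow]
    exact hα₃u.mul (hα₃a.pow k)
  have hα₄unit : IsUnit ((α₃.comp (IsScalarTower.toAlgHom R A (Localization.Away a))).toRingHom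
      (a * a')) := by
    show IsUnit (α₃ (algebraMap A _ (a * a')))
    rw [map_mul, map_mul]
    exact hα₃a.mul hα₃a'
  obtain ⟨α₄, hα₄⟩ : ∃ α₄ : Localization.Away (a * a') →ₐ[R] Localization.Away (b₁ * d * d'),
      ∀ x : A, α₄ (algebraMap A _ x) = α₃ (algebraMap A _ x) :=
    ⟨IsLocalization.Away.liftAlgHom (a * a')
      (f := α₃.comp (IsScalarTower.toAlgHom R A (Localization.Away a))) hα₄unit,
     fun x => IsLocalization.Away.lift_eq (a * a')
      (g := (α₃.comp (IsScalarTower.toAlgHom R A (Localization.Away a))).toRingHom) hα₄unit x⟩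
  have hincl_u : IsUnit (incl (R := R) a a' (β₂ (algebraMap B _ (d * d')))) := by
    have h1 := congrArg (incl (R := R) a a') hka'
    rw [map_mul, map_pow, incl_algebraMap, incl_algebraMap] at h1
    have h2 : IsUnit (algebraMap A (Localization.Away (a * a')) a') :=
      IsLocalization.Away.isUnit_of_dvd (a * a') ⟨a, by ring⟩
    rw [← h1] at h2
    exact isUnit_of_mul_isUnit_left h2
  have hβ₃unit : IsUnit ((((incl (R := R) a a').comp β₂).comp
      (IsScalarTower.toAlgHom R B (Localization.Away b₁))).toRingHom (b₁ * d * d')) := by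
    show IsUnit (incl (R := R) a a' (β₂ (algebraMap B _ (b₁ * d * d'))))
    rw [mul_assoc, map_mul, map_mul, map_mul]
    exact (((IsLocalization.Away.algebraMap_isUnit b₁).map β₂).map (incl (R := R) a a')).mul hincl_u
  obtain ⟨β₃, hβ₃⟩ : ∃ β₃ : Localization.Away (b₁ * d * d') →ₐ[R] Localization.Away (a * a'),
      ∀ x : B, β₃ (algebraMap B _ x) = incl (R := R) a a' (β₂ (algebraMap B _ x)) :=
    ⟨IsLocalization.Away.liftAlgHom (b₁ * d * d')
      (f := ((incl (R := R) a a').comp β₂).comp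
        (IsScalarTower.toAlgHom R B (Localization.Away b₁))) hβ₃unit,
     fun x => IsLocalization.Away.lift_eq (b₁ * d * d')
      (g := (((incl (R := R) a a').comp β₂).comp
        (IsScalarTower.toAlgHom R B (Localization.Away b₁))).toRingHom) hβ₃unit x⟩
  have h41 : ∀ y, α₄ (incl (R := R) a a' y) = α₃ y := by
    have : α₄.comp (incl (R := R) a a') = α₃ := away_algHom_ext (fun x => by simp [hα₄])
    exact fun y => DFunLike.congr_fun this y
  have h42 : ∀ y, β₃ (j y) = incl (R := R) a a' (β₂ y) := by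
    have : β₃.comp j = (incl (R := R) a a').comp β₂ :=
      away_algHom_ext (fun x => by simp [hjalg, hβ₃])
    exact fun y => DFunLike.congr_fun this y
  have hαβ : α₄.comp β₃ = AlgHom.id R _ := away_algHom_ext (fun x => by
    simp only [AlgHom.comp_apply, hβ₃, h41, hα₃β₂, hjalg, AlgHom.id_apply])
  have hβα : β₃.comp α₄ = AlgHom.id R _ := away_algHom_ext (fun x => by
    simp only [AlgHom.comp_apply, hα₄, hα₃alg, h42, hβ₂α₁, incl_algebraMap, AlgHom.id_apply])
  refine ⟨a * a', b₁ * d * d', mul_mem ha ha', hb₃, AlgEquiv.ofAlgHom α₄ β₃ hαβ hβα, ?_⟩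
  have : (toL (R := R) (L := Localization.AtPrime q') q'.primeCompl _ hb₃).comp α₄ =
      e.toAlgHom.comp (toL (R := R) (L := Localization.AtPrime q) q.primeCompl (a * a')
        (mul_mem ha ha')) := away_algHom_ext (fun x => by
    simp only [AlgHom.comp_apply, hα₄, hα₃L, toL_algebraMap]
    rfl)
  exact fun y => DFunLike.congr_fun this y

end Groth.Agent.Lib.Helper17.SpreadOut
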