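import Mathlib
import Groth.Agent.Lib.Helper17.SpreadOut2

/-!
# Splitting off a factor: `S_f ≅ R_f × C` when `R_p → S_q` is bijective
-/

set_option linter.unusedSectionVars false
set_option linter.style.haveILetI false

namespace Groth.Agent.Lib.Helper17.SpreadOut

open IsLocalization

universe u

/-- A retraction whose kernel is generated by an idempotent splits off a factor. -/
theorem exists_algEquiv_prod {A B : Type u} [CommRing A] [CommRing B] [Algebra A B]
    (σ : B →ₐ[A] A) (e₀ : B) (he : IsIdempotentElem e₀)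
    (hk : RingHom.ker σ.toRingHom = Ideal.span {e₀}) :
    ∃ (C : Type u) (_ : CommRing C) (_ : Algebra A C), Nonempty (B ≃ₐ[A] (A × C)) := by
  refine ⟨B ⧸ Ideal.span {1 - e₀}, inferInstance, inferInstance, ⟨?_⟩⟩
  have hσe : σ e₀ = 0 := by
    have : e₀ ∈ RingHom.ker σ.toRingHom := hk ▸ Ideal.subset_span rfl
    exact this
  refine AlgEquiv.ofBijective (AlgHom.prod σ (Ideal.Quotient.mkₐ A (Ideal.span {1 - e₀}))) ⟨?_, ?_⟩
  · rw [injective_iff_map_eq_zero]
    intro s hs
    have h1 : σ s = 0 := congrArg Prod.fst hs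
    have h2 : Ideal.Quotient.mk (Ideal.span {1 - e₀}) s = 0 := congrArg Prod.snd hs
    have h1' : s ∈ Ideal.span {e₀} := hk ▸ (show s ∈ RingHom.ker σ.toRingHom from h1)
    rw [Ideal.Quotient.eq_zero_iff_mem] at h2
    obtain ⟨t, rfl⟩ := Ideal.mem_span_singleton'.mp h1'
    obtain ⟨t', ht'⟩ := Ideal.mem_span_singleton'.mp h2
    have he' : e₀ * e₀ = e₀ := he
    calc t * e₀ = t * e₀ * e₀ := by rw [mul_assoc, he']
      _ = t' * (1 - e₀) * e₀ := by rw [ht']
      _ = t' * (e₀ - e₀ * e₀) := by ring
      _ = 0 := by rw [he', sub_self, mul_zero]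
  · rintro ⟨r, c⟩
    obtain ⟨s', rfl⟩ := Ideal.Quotient.mk_surjective c
    refine ⟨(1 - e₀) * algebraMap A B r + e₀ * s', ?_⟩
    refine Prod.ext ?_ ?_
    · show σ ((1 - e₀) * algebraMap A B r + e₀ * s') = r
      rw [map_add, map_mul, map_mul, map_sub, map_one, hσe, AlgHom.commutes]
      simp
    · show Ideal.Quotient.mk _ ((1 - e₀) * algebraMap A B r + e₀ * s') = Ideal.Quotient.mk _ s'
      rw [Ideal.Quotient.eq, Ideal.mem_span_singleton']
      exact ⟨algebraMap A B r - s', by ring⟩

theorem exists_split {R S : Type u} [CommRing R] [CommRing S] [Algebra R S]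
    [Algebra.FinitePresentation R S] (q : Ideal S) [q.IsPrime] (p : Ideal R) [p.IsPrime]
    [q.LiesOver p]
    (h : Function.Bijective (Localization.localRingHom p q (algebraMap R S) (q.over_def p))) :
    ∃ f : R, f ∉ p ∧ ∀ (Rf Sf : Type u) [CommRing Rf] [CommRing Sf] [Algebra R Rf]
      [IsLocalization.Away f Rf] [Algebra S Sf] [IsLocalization.Away (algebraMap R S f) Sf]
      [Algebra Rf Sf] [Algebra R Sf] [IsScalarTower R S Sf] [IsScalarTower R Rf Sf],
      ∃ (C : Type u) (_ : CommRing C) (_ : Algebra Rf C), Nonempty (Sf ≃ₐ[Rf] (Rf × C)) := by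
  let e₁ : Localization.AtPrime p ≃+* Localization.AtPrime q := RingEquiv.ofBijective _ h
  let e : Localization.AtPrime q ≃ₐ[R] Localization.AtPrime p :=
    (AlgEquiv.ofRingEquiv (f := e₁) (fun r => by
      show Localization.localRingHom p q (algebraMap R S) (q.over_def p) (algebraMap R _ r) = _
      rw [Localization.localRingHom_to_map p q (algebraMap R S) (q.over_def p) r,
        ← IsScalarTower.algebraMap_apply R S (Localization.AtPrime q)])).symm
  obtain ⟨g, f, hg, hf, ε, -⟩ := exists_away_algEquiv (R := R) q p e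
  refine ⟨f, hf, ?_⟩
  intro Rf Sf _ _ _ _ _ _ _ _ _ _
  let ε' : Localization.Away g ≃ₐ[R] Rf :=
    ε.trans (IsLocalization.algEquiv (Submonoid.powers f) (Localization.Away f) Rf)
  have hunit : IsUnit ((IsScalarTower.toAlgHom R S (Localization.Away g)).toRingHom
      (algebraMap R S f)) := by
    show IsUnit (algebraMap S (Localization.Away g) (algebraMap R S f))
    rw [← IsScalarTower.algebraMap_apply R S (Localization.Away g)]
    have : algebraMap R (Localization.Away g) f = ε'.symm (algebraMap R Rf f) :=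
      (ε'.symm.commutes f).symm
    rw [this]
    exact (IsLocalization.Away.algebraMap_isUnit f).map ε'.symm
  let σ₀ : Sf →ₐ[R] Localization.Away g :=
    IsLocalization.Away.liftAlgHom (algebraMap R S f)
      (f := IsScalarTower.toAlgHom R S (Localization.Away g)) hunit
  have hσ₀ : ∀ s : S, σ₀ (algebraMap S Sf s) = algebraMap S (Localization.Away g) s :=
    fun s => IsLocalization.Away.lift_eq (algebraMap R S f)
      (g := (IsScalarTower.toAlgHom R S (Localization.Away g)).toRingHom) hunit s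
  let σ₁ : Sf →ₐ[R] Rf := ε'.toAlgHom.comp σ₀
  have hσ₁ : ∀ r : Rf, σ₁ (algebraMap Rf Sf r) = r := by
    have : σ₁.comp (IsScalarTower.toAlgHom R Rf Sf) = AlgHom.id R Rf :=
      (IsLocalization.algHom_subsingleton (Submonoid.powers f)).elim _ _
    exact fun r => DFunLike.congr_fun this r
  let σ : Sf →ₐ[Rf] Rf := { σ₁.toRingHom with commutes' := hσ₁ }
  have hσ : ∀ x, σ x = ε' (σ₀ x) := fun _ => rfl
  haveI : Algebra.FinitePresentation S Sf :=
    IsLocalization.Away.finitePresentation (algebraMap R S f)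
  haveI : Algebra.FinitePresentation R Sf := Algebra.FinitePresentation.trans R S Sf
  haveI : Algebra.FinitePresentation R Rf := IsLocalization.Away.finitePresentation f
  haveI : Algebra.FinitePresentation Rf Sf :=
    Algebra.FinitePresentation.of_restrict_scalars_finitePresentation R Rf Sf
  have hfg : (RingHom.ker σ.toRingHom).FG :=
    Algebra.FinitePresentation.ker_fG_of_surjective σ (fun r => ⟨algebraMap Rf Sf r, hσ₁ r⟩)
  have hker : ∀ x : Sf, σ x = 0 → ∃ n : ℕ, algebraMap S Sf g ^ n * x = 0 := by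
    intro x hx
    rw [hσ, map_eq_zero_iff _ ε'.injective] at hx
    obtain ⟨m, s, hs⟩ := IsLocalization.Away.surj (algebraMap R S f) x
    have h1 : algebraMap S (Localization.Away g) s = 0 := by
      rw [← hσ₀, ← hs, map_mul, hx, zero_mul]
    obtain ⟨⟨_, n, rfl⟩, hc⟩ := (IsLocalization.map_eq_zero_iff (Submonoid.powers g) _ _).mp h1
    refine ⟨n, ?_⟩
    have hu : IsUnit (algebraMap S Sf (algebraMap R S f) ^ m) :=
      (IsLocalization.Away.algebraMap_isUnit (algebraMap R S f)).pow m
    apply hu.mul_left_injective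
    simp only [zero_mul]
    rw [mul_assoc, hs, ← map_pow, ← map_mul]
    simp only at hc
    rw [hc, map_zero]
  obtain ⟨hh, hhh⟩ : ∃ hh : Sf, σ (1 - algebraMap S Sf g * hh) = 0 := by
    have hu : IsUnit (σ (algebraMap S Sf g)) := by
      rw [hσ, hσ₀]
      exact (IsLocalization.Away.algebraMap_isUnit g).map ε'
    obtain ⟨v, hv⟩ := hu.exists_right_inv
    refine ⟨algebraMap Rf Sf v, ?_⟩
    have h3 : σ (algebraMap Rf Sf v) = v := hσ₁ v
    rw [map_sub, map_one, map_mul, h3, hv, sub_self]
  have hidem : IsIdempotentElem (RingHom.ker σ.toRingHom) := by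
    apply le_antisymm Ideal.mul_le_right
    intro x hx
    obtain ⟨n, hn⟩ := hker x hx
    obtain ⟨c, hc⟩ := sub_dvd_pow_sub_pow 1 (algebraMap S Sf g * hh) n
    have hx' : x = x * ((1 - algebraMap S Sf g * hh) * c) := by
      rw [← hc, one_pow, mul_sub, mul_one, mul_pow]
      have : x * (algebraMap S Sf g ^ n * hh ^ n) = (algebraMap S Sf g ^ n * x) * hh ^ n := by ring
      rw [this, hn, zero_mul, sub_zero]
    rw [hx']
    exact Ideal.mul_mem_mul hx (Ideal.mul_mem_right _ _ hhh)
  obtain ⟨e₀, he₀, hke₀⟩ := (Ideal.isIdempotentElem_iff_of_fg _ hfg).mp hidem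
  exact exists_algEquiv_prod σ e₀ he₀ hke₀

end Groth.Agent.Lib.Helper17.SpreadOut
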