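import Mathlib

/-!
# A square-zero extension with injective conormal map is the pullback of its conormal sequence
-/

set_option autoImplicit false
universe u

namespace Groth.Agent.Lib.Helper17.SqZeroIso

open Algebra KaehlerDifferential TensorProduct

variable {A B : Type u} [CommRing A] [CommRing B] [Algebra A B] (P : Algebra.Extension.{u} A B)

/-- `e ↦ 1 ⊗ d e`. -/
noncomputable def dd (e : P.Ring) : P.CotangentSpace := (1 : B) ⊗ₜ[P.Ring] D A P.Ring e

theorem dd_add (x y : P.Ring) : dd P (x + y) = dd P x + dd P y := by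
  simp only [dd, map_add, tmul_add]

theorem dd_sub (x y : P.Ring) : dd P (x - y) = dd P x - dd P y := by
  simp only [dd, map_sub, tmul_sub]

theorem dd_zero : dd P 0 = 0 := by simp [dd]

theorem dd_one : dd P 1 = 0 := by simp [dd]

theorem dd_algebraMap (a : A) : dd P (algebraMap A P.Ring a) = 0 := by simp [dd]

theorem dd_mul (x y : P.Ring) :
    dd P (x * y) = algebraMap P.Ring B x • dd P y + algebraMap P.Ring B y • dd P x := by
  simp only [dd, Derivation.leibniz, tmul_add, tmul_smul]
  rw [algebraMap_smul, algebraMap_smul]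

theorem toKaehler_dd (e : P.Ring) : P.toKaehler (dd P e) = D A B (algebraMap P.Ring B e) := by
  simp [dd]

theorem cotangentComplex_mk (x : P.ker) : P.cotangentComplex (Extension.Cotangent.mk x) = dd P x.1 :=
  rfl

theorem existsUnique (hsq : P.ker ^ 2 = ⊥) (hinj : Function.Injective P.cotangentComplex)
    (b : B) (n : P.CotangentSpace) (h : P.toKaehler n = D A B b) :
    ∃! e : P.Ring, algebraMap P.Ring B e = b ∧ dd P e = n := by
  obtain ⟨e₀, rfl⟩ := P.algebraMap_surjective b
  have h1 : P.toKaehler (n - dd P e₀) = 0 := by rw [map_sub, h, toKaehler_dd, sub_self]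
  obtain ⟨c, hc⟩ := (P.exact_cotangentComplex_toKaehler _).1 h1
  obtain ⟨x, rfl⟩ := Extension.Cotangent.mk_surjective c
  rw [cotangentComplex_mk] at hc
  refine ⟨e₀ + x.1, ⟨?_, ?_⟩, ?_⟩
  · rw [map_add, show algebraMap P.Ring B x.1 = 0 from x.2, add_zero]
  · rw [dd_add, hc]; abel
  · rintro e' ⟨he'1, he'2⟩
    have hmem : e' - (e₀ + x.1) ∈ P.ker := by
      rw [RingHom.mem_ker, map_sub, map_add, he'1, show algebraMap P.Ring B x.1 = 0 from x.2,
        add_zero, sub_self]
    have h0 : P.cotangentComplex (Extension.Cotangent.mk ⟨_, hmem⟩) = 0 := by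
      rw [cotangentComplex_mk, dd_sub, dd_add, he'2, hc]; abel
    have h2 : Extension.Cotangent.mk ⟨_, hmem⟩ = 0 := hinj (by rw [h0, map_zero])
    rw [Extension.Cotangent.mk_eq_zero_iff, hsq, Ideal.mem_bot, sub_eq_zero] at h2
    exact h2

section iso

variable {P} {P' : Algebra.Extension.{u} A B}
  (hsq : P.ker ^ 2 = ⊥) (hsq' : P'.ker ^ 2 = ⊥)
  (hinj : Function.Injective P.cotangentComplex)
  (e₁ : P.Cotangent ≃ₗ[B] P'.Cotangent) (e₂ : P.CotangentSpace ≃ₗ[B] P'.CotangentSpace)
  (h₁ : ∀ x, e₂ (P.cotangentComplex x) = P'.cotangentComplex (e₁ x))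
  (h₂ : ∀ y, P'.toKaehler (e₂ y) = P.toKaehler y)

include hinj h₁ in
theorem hinj' : Function.Injective P'.cotangentComplex := by
  rw [injective_iff_map_eq_zero]
  intro c' hc'
  obtain ⟨c, rfl⟩ := e₁.surjective c'
  rw [← h₁] at hc'
  have : P.cotangentComplex c = 0 := e₂.injective (by rw [hc', map_zero])
  rw [hinj (by rw [this, map_zero] : P.cotangentComplex c = P.cotangentComplex 0), map_zero]

include hsq hsq' hinj h₁ h₂ in
theorem exists_hom : ∃ f : P.Hom P', Function.Bijective f.toRingHom ∧
    Extension.Cotangent.map f = e₁.toLinearMap := by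
  have hinj' := hinj' hinj e₁ e₂ h₁
  have key : ∀ e : P.Ring, ∃! e' : P'.Ring,
      algebraMap P'.Ring B e' = algebraMap P.Ring B e ∧ dd P' e' = e₂ (dd P e) := fun e =>
    existsUnique P' hsq' hinj' _ _ (by rw [h₂, toKaehler_dd])
  choose F hF using key
  have hF1 : ∀ e, algebraMap P'.Ring B (F e) = algebraMap P.Ring B e := fun e => (hF e).1.1
  have hF2 : ∀ e, dd P' (F e) = e₂ (dd P e) := fun e => (hF e).1.2
  have hFu : ∀ e e', algebraMap P'.Ring B e' = algebraMap P.Ring B e → dd P' e' = e₂ (dd P e) →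
      e' = F e := fun e e' h h' => (hF e).2 e' ⟨h, h'⟩
  let f : P.Hom P' :=
    { toRingHom :=
        { toFun := F
          map_one' := (hFu 1 1 (by rw [map_one, map_one]) (by rw [dd_one, dd_one, map_zero])).symm
          map_mul' := fun x y => (hFu (x * y) (F x * F y)
            (by rw [map_mul, map_mul, hF1, hF1])
            (by rw [dd_mul, dd_mul, hF1, hF1, hF2, hF2, map_add, map_smul, map_smul])).symm
          map_zero' := (hFu 0 0 (by rw [map_zero, map_zero])
            (by rw [dd_zero, dd_zero, map_zero])).symm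
          map_add' := fun x y => (hFu (x + y) (F x + F y)
            (by rw [map_add, map_add, hF1, hF1])
            (by rw [dd_add, dd_add, hF2, hF2, map_add])).symm }
      toRingHom_algebraMap := fun a => (hFu _ _
        (by rw [Algebra.algebraMap_self, RingHom.id_apply, ← IsScalarTower.algebraMap_apply,
          ← IsScalarTower.algebraMap_apply])
        (by rw [Algebra.algebraMap_self, RingHom.id_apply, dd_algebraMap, dd_algebraMap,
          map_zero])).symm
      algebraMap_toRingHom := fun x => by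
        rw [Algebra.algebraMap_self, RingHom.id_apply]
        exact hF1 x }
  have hfF : ∀ x, f.toRingHom x = F x := fun _ => rfl
  refine ⟨f, ⟨?_, ?_⟩, ?_⟩
  · intro x y hxy
    rw [hfF, hfF] at hxy
    have hx : algebraMap P.Ring B y = algebraMap P.Ring B x := by rw [← hF1, ← hF1, hxy]
    have hy : dd P y = dd P x := e₂.injective (by rw [← hF2, ← hF2, hxy])
    exact ((existsUnique P hsq hinj (algebraMap P.Ring B x) (dd P x) (toKaehler_dd P x)).unique
      ⟨rfl, rfl⟩ ⟨hx, hy⟩)
  · intro e'
    obtain ⟨e, ⟨he1, he2⟩, -⟩ := existsUnique P hsq hinj (algebraMap P'.Ring B e')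
      (e₂.symm (dd P' e')) (by rw [← h₂, LinearEquiv.apply_symm_apply, toKaehler_dd])
    refine ⟨e, ?_⟩
    rw [hfF]
    exact (hFu e e' he1.symm (by rw [he2, LinearEquiv.apply_symm_apply])).symm
  · refine LinearMap.ext fun c => ?_
    obtain ⟨x, rfl⟩ := Extension.Cotangent.mk_surjective c
    apply hinj'
    rw [Extension.Cotangent.map_mk, cotangentComplex_mk, LinearEquiv.coe_coe, ← h₁,
      cotangentComplex_mk]
    exact hF2 x.1

end iso

end Groth.Agent.Lib.Helper17.SqZeroIso
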