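import Mathlib

/-!
# Realizing an extension of `Ω[B⁄A]` by a module as the conormal sequence of a square-zero
extension of `B`.
-/

set_option autoImplicit false
universe u

namespace Groth.Agent.Lib.Helper17.SqZeroReal

open Algebra KaehlerDifferential TensorProduct

section
variable (C : Type*) (L : Type*) [CommRing C] [AddCommGroup L] [Module C L]

/-- the opposite action (equal to the given one). -/
abbrev opModule : Module Cᵐᵒᵖ L := Module.compHom L (RingEquiv.toOpposite C).symm.toRingHom

attribute [local instance] opModule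

theorem isCentralScalar_opModule : IsCentralScalar C L := ⟨fun _ _ => rfl⟩
end

attribute [local instance] opModule isCentralScalar_opModule

variable {A B : Type u} [CommRing A] [CommRing B] [Algebra A B]
variable {N : Type u} [AddCommGroup N] [Module B N]

/-- The trivial square zero extension as an `A`-algebra. -/
noncomputable abbrev algT : Algebra A (TrivSqZeroExt B N) :=
  ((TrivSqZeroExt.inlHom B N).comp (algebraMap A B)).toAlgebra

attribute [local instance] algT

variable (q : N →ₗ[B] Ω[B⁄A])

/-- The subalgebra `{(b, n) : q n = d b}` of `B ⊕ N`. -/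
noncomputable def E : Subalgebra A (TrivSqZeroExt B N) where
  carrier := {t | q t.snd = D A B t.fst}
  mul_mem' := by
    intro x y hx hy
    simp only [Set.mem_ofPred_eq] at hx hy ⊢
    rw [TrivSqZeroExt.snd_mul, TrivSqZeroExt.fst_mul, map_add, map_smul, hy, Derivation.leibniz]
    congr 1
    rw [op_smul_eq_smul, map_smul, hx]
  add_mem' := by
    intro x y hx hy
    simp only [Set.mem_ofPred_eq] at hx hy ⊢
    rw [TrivSqZeroExt.snd_add, TrivSqZeroExt.fst_add, map_add, map_add, hx, hy]
  algebraMap_mem' := by
    intro a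
    change q (TrivSqZeroExt.inl (algebraMap A B a) : TrivSqZeroExt B N).snd =
      D A B (TrivSqZeroExt.inl (algebraMap A B a) : TrivSqZeroExt B N).fst
    rw [TrivSqZeroExt.snd_inl, TrivSqZeroExt.fst_inl, map_zero, Derivation.map_algebraMap]

theorem mem_E (t : TrivSqZeroExt B N) : t ∈ E q ↔ q t.snd = D A B t.fst := Iff.rfl

/-- The projection `E → B`. -/
noncomputable def proj : E q →ₐ[A] B where
  toFun t := t.1.fst
  map_one' := rfl
  map_mul' _ _ := TrivSqZeroExt.fst_mul _ _
  map_zero' := rfl
  map_add' _ _ := TrivSqZeroExt.fst_add _ _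
  commutes' _ := rfl

@[simp] theorem proj_apply (t : E q) : proj q t = t.1.fst := rfl

variable {q}

theorem proj_surjective (hq : Function.Surjective q) : Function.Surjective (proj q) := by
  intro b
  obtain ⟨n, hn⟩ := hq (D A B b)
  refine ⟨⟨TrivSqZeroExt.inl b + TrivSqZeroExt.inr n, ?_⟩, ?_⟩
  · rw [mem_E]; simp [hn]
  · simp

/-- The extension. -/
noncomputable def ext (hq : Function.Surjective q) : Algebra.Extension.{u} A B :=
  Algebra.Extension.ofSurjective (proj q) (proj_surjective hq)

/-- The underlying element of `B ⊕ N`. -/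
def val (hq : Function.Surjective q) (t : (ext hq).Ring) : TrivSqZeroExt B N :=
  Subtype.val (p := fun x => x ∈ E q) t

/-- Constructor. -/
def mkR (hq : Function.Surjective q) (x : TrivSqZeroExt B N) (hx : x ∈ E q) : (ext hq).Ring :=
  (⟨x, hx⟩ : E q)

section basics
variable (hq : Function.Surjective q)

@[simp] theorem val_mkR (x : TrivSqZeroExt B N) (hx : x ∈ E q) : val hq (mkR hq x hx) = x := rfl
theorem val_injective : Function.Injective (val hq) := fun _ _ h => Subtype.ext h
@[simp] theorem val_mul (s t : (ext hq).Ring) : val hq (s * t) = val hq s * val hq t := rfl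
@[simp] theorem val_add (s t : (ext hq).Ring) : val hq (s + t) = val hq s + val hq t := rfl
@[simp] theorem val_zero : val hq 0 = 0 := rfl
@[simp] theorem val_one : val hq 1 = 1 := rfl
theorem val_algebraMap (a : A) :
    val hq (algebraMap A (ext hq).Ring a) = TrivSqZeroExt.inl (algebraMap A B a) := rfl
theorem val_mem (t : (ext hq).Ring) : q (val hq t).snd = D A B (val hq t).fst :=
  Subtype.property (p := fun x => x ∈ E q) t

theorem algebraMap_ext (t : (ext hq).Ring) :
    algebraMap (ext hq).Ring B t = (val hq t).fst := rfl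

theorem mem_ker_iff (t : (ext hq).Ring) :
    t ∈ (ext hq).ker ↔ (val hq t).fst = 0 := by
  rw [RingHom.mem_ker, algebraMap_ext]

theorem ker_sq : (ext hq).ker ^ 2 = ⊥ := by
  rw [pow_two, ← le_bot_iff, Ideal.mul_le]
  intro x hx y hy
  rw [mem_ker_iff] at hx hy
  rw [Ideal.mem_bot]
  apply val_injective hq
  apply TrivSqZeroExt.ext
  · rw [val_mul, TrivSqZeroExt.fst_mul, hx, zero_mul, val_zero, TrivSqZeroExt.fst_zero]
  · rw [val_mul, TrivSqZeroExt.snd_mul, hx, hy, zero_smul, MulOpposite.op_zero, zero_smul,
      add_zero, val_zero, TrivSqZeroExt.snd_zero]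

end basics

section deriv

variable (hq : Function.Surjective q)

/-- `N` as a module over the middle ring. -/
noncomputable abbrev modPN : Module (ext hq).Ring N := Module.compHom N (algebraMap (ext hq).Ring B)

attribute [local instance] modPN

theorem towerPBN : IsScalarTower (ext hq).Ring B N := IsScalarTower.of_algebraMap_smul fun _ _ => rfl

theorem smul_def' (t : (ext hq).Ring) (n : N) : t • n = (val hq t).fst • n := rfl

variable [Module A N] [IsScalarTower A B N]

theorem towerAPN : IsScalarTower A (ext hq).Ring N :=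
  IsScalarTower.of_algebraMap_smul fun a n => by
    change algebraMap (ext hq).Ring B (algebraMap A (ext hq).Ring a) • n = a • n
    rw [← IsScalarTower.algebraMap_apply, algebraMap_smul]

attribute [local instance] towerPBN towerAPN

/-- The derivation `(b, n) ↦ n`. -/
noncomputable def der : Derivation A (ext hq).Ring N where
  toFun t := (val hq t).snd
  map_add' _ _ := TrivSqZeroExt.snd_add _ _
  map_smul' a t := by
    rw [Algebra.smul_def, val_mul, val_algebraMap, TrivSqZeroExt.snd_mul, TrivSqZeroExt.fst_inl,
      TrivSqZeroExt.snd_inl, smul_zero, add_zero, RingHom.id_apply, algebraMap_smul]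
  map_one_eq_zero' := rfl
  leibniz' x y := by
    change (val hq (x * y)).snd = (val hq x).fst • (val hq y).snd + (val hq y).fst • (val hq x).snd
    rw [val_mul, TrivSqZeroExt.snd_mul, op_smul_eq_smul]

@[simp] theorem der_apply (t : (ext hq).Ring) : der hq t = (val hq t).snd := rfl

/-- The comparison map `B ⊗_E Ω_{E/A} → N`. -/
noncomputable def toN : (ext hq).CotangentSpace →ₗ[B] N :=
  LinearMap.liftBaseChange B (der hq).liftKaehlerDifferential

theorem toN_tmul (b : B) (t : (ext hq).Ring) :
    toN hq (b ⊗ₜ D A (ext hq).Ring t) = b • (val hq t).snd := by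
  rw [toN, LinearMap.liftBaseChange_tmul, Derivation.liftKaehlerDifferential_comp_D, der_apply]

omit [Module A N] [IsScalarTower A B N] in
/-- Two `B`-linear maps out of `B ⊗_E Ω_{E/A}` agreeing on `b ⊗ D t` are equal. -/
theorem ext_tmul_D {X : Type*} [AddCommGroup X] [Module B X]
    (f g : (ext hq).CotangentSpace →ₗ[B] X)
    (h : ∀ (b : B) (t : (ext hq).Ring), f (b ⊗ₜ D A (ext hq).Ring t) = g (b ⊗ₜ D A (ext hq).Ring t)) :
    f = g := by
  ext y
  induction y using TensorProduct.induction_on with
  | zero => simp
  | add x y hx hy => rw [map_add, map_add, hx, hy]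
  | tmul b ω =>
    have hω : ω ∈ Submodule.span (ext hq).Ring (Set.range (D A (ext hq).Ring)) := by
      rw [KaehlerDifferential.span_range_derivation]; trivial
    induction hω using Submodule.span_induction generalizing b with
    | mem x hx => obtain ⟨t, rfl⟩ := hx; exact h b t
    | zero => simp
    | add x y _ _ hx hy => rw [tmul_add, map_add, map_add, hx, hy]
    | smul a x _ hx =>
      rw [← TensorProduct.smul_tmul, Algebra.smul_def, mul_comm]
      exact hx _

theorem q_toN (y : (ext hq).CotangentSpace) : q (toN hq y) = (ext hq).toKaehler y := by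
  have : q ∘ₗ toN hq = (ext hq).toKaehler := by
    apply ext_tmul_D hq
    intro b t
    rw [LinearMap.comp_apply, toN_tmul, map_smul, val_mem, KaehlerDifferential.mapBaseChange_tmul,
      KaehlerDifferential.map_D, algebraMap_ext]
  exact LinearMap.congr_fun this y

section real

variable {M : Type u} [AddCommGroup M] [Module B M] (i : M →ₗ[B] N) (hex : Function.Exact i q)
include hex

omit [Module A N] [IsScalarTower A B N] in
theorem inr_mem (m : M) : (TrivSqZeroExt.inr (i m) : TrivSqZeroExt B N) ∈ E q := by
  rw [mem_E, TrivSqZeroExt.snd_inr, TrivSqZeroExt.fst_inr, map_zero, hex.apply_apply_eq_zero]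

/-- The element of the kernel attached to `m : M`. -/
def kerElt (m : M) : (ext hq).ker :=
  ⟨mkR hq (TrivSqZeroExt.inr (i m)) (inr_mem i hex m), by
    rw [mem_ker_iff, val_mkR, TrivSqZeroExt.fst_inr]⟩

omit [Module A N] [IsScalarTower A B N] in
theorem kerElt_add (m m' : M) : kerElt hq i hex (m + m') = kerElt hq i hex m + kerElt hq i hex m' := by
  apply Subtype.ext
  apply val_injective hq
  change TrivSqZeroExt.inr (i (m + m')) = TrivSqZeroExt.inr (i m) + TrivSqZeroExt.inr (i m')
  rw [map_add, TrivSqZeroExt.inr_add]

omit [Module A N] [IsScalarTower A B N] in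
theorem smul_kerElt (t : (ext hq).Ring) (m : M) :
    t • kerElt hq i hex m = kerElt hq i hex ((val hq t).fst • m) := by
  apply Subtype.ext
  apply val_injective hq
  change val hq (t * mkR hq (TrivSqZeroExt.inr (i m)) (inr_mem i hex m)) =
    TrivSqZeroExt.inr (i ((val hq t).fst • m))
  rw [val_mul, val_mkR, map_smul]
  apply TrivSqZeroExt.ext
  · simp
  · simp

/-- `M → I/I²`. -/
noncomputable def psi : M →ₗ[B] (ext hq).Cotangent where
  toFun m := Algebra.Extension.Cotangent.mk (kerElt hq i hex m)
  map_add' m m' := by rw [kerElt_add, map_add]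
  map_smul' b m := by
    obtain ⟨t, rfl⟩ := (ext hq).algebraMap_surjective b
    rw [RingHom.id_apply, algebraMap_smul B t (Algebra.Extension.Cotangent.mk (kerElt hq i hex m)),
      ← map_smul, smul_kerElt, algebraMap_ext]

theorem toN_psi (m : M) : toN hq ((ext hq).cotangentComplex (psi hq i hex m)) = i m := by
  change toN hq ((ext hq).cotangentComplex (Algebra.Extension.Cotangent.mk (kerElt hq i hex m))) = _
  rw [Algebra.Extension.cotangentComplex_mk, toN_tmul, one_smul]
  rfl

variable (hi : Function.Injective i)
include hi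

theorem psi_injective : Function.Injective (psi hq i hex) := by
  rw [injective_iff_map_eq_zero]
  intro m hm
  have := toN_psi hq i hex m
  rw [hm, map_zero, map_zero] at this
  exact hi (by rw [← this, map_zero])

omit [Module A N] [IsScalarTower A B N] hi in
theorem psi_surjective : Function.Surjective (psi hq i hex) := by
  intro c
  obtain ⟨x, rfl⟩ := Algebra.Extension.Cotangent.mk_surjective c
  have hx0 : (val hq x.1).fst = 0 := (mem_ker_iff hq x.1).1 x.2
  have hx1 : q (val hq x.1).snd = 0 := by rw [val_mem, hx0, map_zero]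
  obtain ⟨m, hm⟩ := (hex _).1 hx1
  refine ⟨m, ?_⟩
  change Algebra.Extension.Cotangent.mk (kerElt hq i hex m) = _
  congr 1
  apply Subtype.ext
  apply val_injective hq
  change TrivSqZeroExt.inr (i m) = val hq x.1
  apply TrivSqZeroExt.ext
  · rw [TrivSqZeroExt.fst_inr, hx0]
  · rw [TrivSqZeroExt.snd_inr, hm]

theorem toN_injective : Function.Injective (toN hq) := by
  rw [injective_iff_map_eq_zero]
  intro y hy
  have h1 : (ext hq).toKaehler y = 0 := by rw [← q_toN, hy, map_zero]
  obtain ⟨c, rfl⟩ := ((ext hq).exact_cotangentComplex_toKaehler y).1 h1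
  obtain ⟨m, rfl⟩ := psi_surjective hq i hex c
  rw [toN_psi] at hy
  have : m = 0 := hi (by rw [hy, map_zero])
  rw [this, map_zero, map_zero]

omit hi in
theorem toN_surjective : Function.Surjective (toN hq) := by
  intro n
  obtain ⟨y, hy⟩ := (ext hq).toKaehler_surjective (q n)
  have h1 : q (n - toN hq y) = 0 := by rw [map_sub, q_toN, hy, sub_self]
  obtain ⟨m, hm⟩ := (hex _).1 h1
  refine ⟨y + (ext hq).cotangentComplex (psi hq i hex m), ?_⟩
  rw [map_add, toN_psi, hm]; abel

/-- The realization theorem. -/
theorem realize :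
    ∃ (e₁ : (ext hq).Cotangent ≃ₗ[B] M) (e₂ : (ext hq).CotangentSpace ≃ₗ[B] N),
      (∀ x, e₂ ((ext hq).cotangentComplex x) = i (e₁ x)) ∧
      (∀ y, q (e₂ y) = (ext hq).toKaehler y) := by
  let f₁ : M ≃ₗ[B] (ext hq).Cotangent :=
    LinearEquiv.ofBijective (psi hq i hex) ⟨psi_injective hq i hex hi, psi_surjective hq i hex⟩
  let e₂ : (ext hq).CotangentSpace ≃ₗ[B] N :=
    LinearEquiv.ofBijective (toN hq) ⟨toN_injective hq i hex hi, toN_surjective hq i hex⟩
  refine ⟨f₁.symm, e₂, ?_, ?_⟩
  · intro x
    obtain ⟨m, rfl⟩ := f₁.surjective x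
    rw [LinearEquiv.symm_apply_apply]
    exact toN_psi hq i hex m
  · intro y
    exact q_toN hq y

end real

end deriv

end Groth.Agent.Lib.Helper17.SqZeroReal
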