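import Mathlib
import Groth.Prelude.Def_ModSite2
import Groth.Agent.Lib.Helper17.ModSiteExact

open CategoryTheory CategoryTheory.Limits Opposite

universe u

noncomputable section

namespace Groth.Agent.Lib.Helper17.Stalk

variable {C : Type u} [SmallCategory C] {J : GrothendieckTopology C} {O : Sheaf J CommRingCat.{u}}

/-- the stalk functor to abelian groups -/
def stalkAbF (p : GrothendieckTopology.Point.{u} J) : ModSite.Mod O ⥤ AddCommGrpCat.{u} :=
  SheafOfModules.toSheaf (ModSite.ringSh O) ⋙ p.sheafFiber

instance (p : GrothendieckTopology.Point.{u} J) : PreservesFiniteLimits (stalkAbF (O := O) p) := by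
  have := ModSiteExact.toSheaf_preservesFiniteLimits (ModSite.ringSh O)
  exact comp_preservesFiniteLimits _ _

instance (p : GrothendieckTopology.Point.{u} J) : PreservesFiniteColimits (stalkAbF (O := O) p) := by
  have := ModSiteExact.toSheaf_preservesFiniteColimits (ModSite.ringSh O)
  exact comp_preservesFiniteColimits _ _

instance (p : GrothendieckTopology.Point.{u} J) : (stalkAbF (O := O) p).Additive := by
  have := preservesBinaryBiproducts_of_preservesBinaryCoproducts (stalkAbF (O := O) p)
  exact Functor.additive_of_preservesBinaryBiproducts _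

theorem stalkMap_exact (S : ShortComplex (ModSite.Mod O)) (hS : S.ShortExact)
    (p : GrothendieckTopology.Point.{u} J) :
    Function.Injective (ModSite.stalkMap p S.f).hom ∧
    Function.Surjective (ModSite.stalkMap p S.g).hom ∧
      LinearMap.range (ModSite.stalkMap p S.f).hom = LinearMap.ker (ModSite.stalkMap p S.g).hom := by
  have h := hS.map_of_exact (stalkAbF (O := O) p)
  have h1 : Function.Injective ((stalkAbF (O := O) p).map S.f).hom :=
    (AddCommGrpCat.mono_iff_injective _).1 h.mono_f
  have h2 : Function.Surjective ((stalkAbF (O := O) p).map S.g).hom :=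
    (AddCommGrpCat.epi_iff_surjective _).1 h.epi_g
  have h3 := (ShortComplex.ab_exact_iff _).1 h.exact
  refine ⟨h1, h2, ?_⟩
  ext x
  constructor
  · rintro ⟨y, rfl⟩
    have := (S.map (stalkAbF (O := O) p)).zero
    exact congrArg (fun φ => φ.hom y) this
  · intro hx
    obtain ⟨y, hy⟩ := h3 x hx
    exact ⟨y, hy⟩

end Groth.Agent.Lib.Helper17.Stalk
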