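import Mathlib
import Groth.Agent.Lib.Helper16.ExtFlatBaseChange
import Groth.Agent.Lib.Helper16.ExtRegDepth
import Groth.Agent.Lib.Helper29.QCohLocFree
import Groth.Agent.Lib.Helper10.HartogsOne
import Groth.Agent.Lib.Helper17.ExtDepth
import Groth.Agent.Lib.Helper17.ExtHigh

/-!
# The Ext sheaf `ℰxt^j(F, O_X)` vanishes iff the groups `Ext^j_{O_x}(F_x, O_x)` do
-/

set_option autoImplicit false

universe u

open CategoryTheory Limits Opposite AlgebraicGeometry TensorProduct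

namespace Groth.Agent.Lib.Helper17.StalkExt

open Groth.Agent.Lib.Helper17.IHom Groth.Agent.Lib.Helper29.QCoh
  Groth.Agent.Lib.Helper17.ExtAff Groth.Agent.Lib.Helper10.Hartogs
  Groth.Agent.Lib.Helper16.ExtRegDepth Groth.Agent.Lib.Helper16

variable {X : Scheme.{u}}

/-- a point of an affine open of a Jacobson scheme whose prime ideal is maximal is closed -/
theorem isClosed_singleton_of_isMaximal [JacobsonSpace X] {W : X.Opens} (hW : IsAffineOpen W)
    (z : X) (hz : z ∈ W) (hmax : (hW.primeIdealOf ⟨z, hz⟩).asIdeal.IsMaximal) :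
    IsClosed ({z} : Set X) := by
  have h1 : (hW.primeIdealOf ⟨z, hz⟩ : PrimeSpectrum Γ(X, W)) ∈
      closedPoints (PrimeSpectrum Γ(X, W)) := by
    rw [mem_closedPoints_iff]
    exact (PrimeSpectrum.isClosed_singleton_iff_isMaximal _).mpr hmax
  have h2 : hW.primeIdealOf ⟨z, hz⟩ ∈ hW.fromSpec ⁻¹' closedPoints X := by
    rw [hW.fromSpec.isOpenEmbedding.preimage_closedPoints]
    exact h1
  have h3 : hW.fromSpec (hW.primeIdealOf ⟨z, hz⟩) ∈ closedPoints X := h2
  rw [hW.fromSpec_primeIdealOf] at h3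
  exact h3

variable [IsLocallyNoetherian X]

/-- `Ext^j_{O_x}(F_x, O_x)` is the localization of `Ext^j_R(F(W), R)` -/
theorem subsingleton_stalk_ext_iff (F : X.Modules) (hF : Coh.IsCoh F) {W : X.Opens}
    (hW : IsAffineOpen W) (x : X) (hxW : x ∈ W) (j : ℕ) :
    Subsingleton (Abelian.Ext (ModuleCat.of (X.presheaf.stalk x) (F.presheaf.stalk x))
      (ModuleCat.of (X.presheaf.stalk x) (X.presheaf.stalk x)) j) ↔
    Subsingleton (LocalizedModule (hW.primeIdealOf ⟨x, hxW⟩).asIdeal.primeCompl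
      (Abelian.Ext (ModuleCat.of Γ(X, W) Γ(F, W)) (ModuleCat.of Γ(X, W) Γ(X, W)) j)) := by
  haveI := hF.1
  haveI := hF.2
  haveI : IsNoetherianRing Γ(X, W) := IsLocallyNoetherian.component_noetherian ⟨W, hW⟩
  haveI : Module.Finite Γ(X, W) Γ(F, W) := module_finite_of_isFiniteType F hW
  let _ := stalkModule F W x hxW
  let _ : Algebra Γ(X, W) (X.presheaf.stalk x) :=
    TopCat.Presheaf.algebra_section_stalk X.presheaf ⟨x, hxW⟩
  have hloc : IsLocalization.AtPrime (X.presheaf.stalk x) (hW.primeIdealOf ⟨x, hxW⟩).asIdeal :=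
    hW.isLocalization_stalk ⟨x, hxW⟩
  have : IsScalarTower Γ(X, W) (X.presheaf.stalk x) (F.presheaf.stalk x) :=
    IsScalarTower.of_algebraMap_smul fun a m => rfl
  have hlm := isLocalizedModule_germ F hW x hxW
  haveI : Module.Flat Γ(X, W) (X.presheaf.stalk x) :=
    IsLocalization.flat (X.presheaf.stalk x) (hW.primeIdealOf ⟨x, hxW⟩).asIdeal.primeCompl
  obtain ⟨e⟩ := ExtBC.nonempty_ext_baseChange_equiv (A := Γ(X, W)) (X.presheaf.stalk x)
    Γ(X, W) j Γ(F, W)
  have hbc : IsBaseChange (X.presheaf.stalk x) (germₗ F W x hxW) :=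
    IsLocalizedModule.isBaseChange (hW.primeIdealOf ⟨x, hxW⟩).asIdeal.primeCompl
      (X.presheaf.stalk x) (germₗ F W x hxW)
  let i1 : ModuleCat.of (X.presheaf.stalk x) ((X.presheaf.stalk x) ⊗[Γ(X, W)] Γ(F, W)) ≅
      ModuleCat.of (X.presheaf.stalk x) (F.presheaf.stalk x) := hbc.equiv.toModuleIso
  let i2 : ModuleCat.of (X.presheaf.stalk x) ((X.presheaf.stalk x) ⊗[Γ(X, W)] Γ(X, W)) ≅
      ModuleCat.of (X.presheaf.stalk x) (X.presheaf.stalk x) :=
    (TensorProduct.AlgebraTensorModule.rid Γ(X, W) (X.presheaf.stalk x)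
      (X.presheaf.stalk x)).toModuleIso
  have hE : IsLocalizedModule (hW.primeIdealOf ⟨x, hxW⟩).asIdeal.primeCompl
      (TensorProduct.mk Γ(X, W) (X.presheaf.stalk x)
        (Abelian.Ext (ModuleCat.of Γ(X, W) Γ(F, W)) (ModuleCat.of Γ(X, W) Γ(X, W)) j) 1) :=
    (isLocalizedModule_iff_isBaseChange (hW.primeIdealOf ⟨x, hxW⟩).asIdeal.primeCompl
      (X.presheaf.stalk x) _).mpr (TensorProduct.isBaseChange Γ(X, W) _ (X.presheaf.stalk x))
  let e1 := IsLocalizedModule.iso (hW.primeIdealOf ⟨x, hxW⟩).asIdeal.primeCompl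
    (TensorProduct.mk Γ(X, W) (X.presheaf.stalk x)
      (Abelian.Ext (ModuleCat.of Γ(X, W) Γ(F, W)) (ModuleCat.of Γ(X, W) Γ(X, W)) j) 1)
  constructor
  · intro h
    have h1 := subsingleton_ext_of_iso_left i1 _ j h
    have h2 := subsingleton_ext_of_iso_right _ i2 j h1
    haveI := h2
    haveI : Subsingleton ((X.presheaf.stalk x) ⊗[Γ(X, W)]
        (Abelian.Ext (ModuleCat.of Γ(X, W) Γ(F, W)) (ModuleCat.of Γ(X, W) Γ(X, W)) j)) :=
      e.toEquiv.subsingleton
    exact e1.toEquiv.subsingleton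
  · intro h
    haveI := h
    haveI : Subsingleton ((X.presheaf.stalk x) ⊗[Γ(X, W)]
        (Abelian.Ext (ModuleCat.of Γ(X, W) Γ(F, W)) (ModuleCat.of Γ(X, W) Γ(X, W)) j)) :=
      e1.symm.toEquiv.subsingleton
    have h2 : Subsingleton (Abelian.Ext
        (ModuleCat.of (X.presheaf.stalk x) ((X.presheaf.stalk x) ⊗[Γ(X, W)] Γ(F, W)))
        (ModuleCat.of (X.presheaf.stalk x) ((X.presheaf.stalk x) ⊗[Γ(X, W)] Γ(X, W))) j) :=
      e.symm.toEquiv.subsingleton
    have h1 := subsingleton_ext_of_iso_right _ i2.symm j h2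
    exact subsingleton_ext_of_iso_left i1.symm _ j h1

variable [HasInjectiveResolutions (ModSite.Mod X.sheaf)]

/-- if the Ext sheaf `ℰxt^j(F, O_X)` vanishes, so do all `Ext^j_{O_x}(F_x, O_x)` -/
theorem subsingleton_stalk_ext_of_isZero (F : X.Modules) (hF : Coh.IsCoh F)
    [ModSite.HasSheafHom (O := X.sheaf) F] (j : ℕ)
    (h : IsZero ((ModSite.extSh (O := X.sheaf) F j).obj (unitM X))) (x : X) :
    Subsingleton (Abelian.Ext (ModuleCat.of (X.presheaf.stalk x) (F.presheaf.stalk x))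
      (ModuleCat.of (X.presheaf.stalk x) (X.presheaf.stalk x)) j) := by
  obtain ⟨_, ⟨W, hW : IsAffineOpen W, rfl⟩, hxW, -⟩ :=
    X.isBasis_affineOpens.exists_subset_of_mem_open (Set.mem_univ x) isOpen_univ
  haveI : (unitM X).IsQuasicoherent := isQuasicoherent_unitM X
  have h1 := Groth.Agent.Lib.Helper17.ExtDepth.ext_subsingleton_of_isZero F (unitM X) hF hW j h
  have h2 : Subsingleton (Abelian.Ext (ModuleCat.of Γ(X, W) Γ(F, W))
      (ModuleCat.of Γ(X, W) Γ(X, W)) j) :=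
    subsingleton_ext_of_iso_right _ (Groth.Agent.Lib.Helper10.HartogsOne.unitEquiv W).toModuleIso j h1
  rw [subsingleton_stalk_ext_iff F hF hW x hxW j]
  infer_instance

/-- on a Jacobson scheme, the Ext sheaf `ℰxt^j(F, O_X)` vanishes as soon as the groups
`Ext^j_{O_x}(F_x, O_x)` vanish at all closed points -/
theorem isZero_extSh_unit_of_forall_closed [JacobsonSpace X] (F : X.Modules) (hF : Coh.IsCoh F)
    [ModSite.HasSheafHom (O := X.sheaf) F] (j : ℕ)
    (h : ∀ x : X, IsClosed ({x} : Set X) →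
      Subsingleton (Abelian.Ext (ModuleCat.of (X.presheaf.stalk x) (F.presheaf.stalk x))
        (ModuleCat.of (X.presheaf.stalk x) (X.presheaf.stalk x)) j)) :
    IsZero ((ModSite.extSh (O := X.sheaf) F j).obj (unitM X)) := by
  haveI := hF.1
  haveI := hF.2
  haveI : (unitM X).IsQuasicoherent := isQuasicoherent_unitM X
  apply Groth.Agent.Lib.Helper28.DCohRes.isZero_of_locally
  intro x
  obtain ⟨_, ⟨W, hW : IsAffineOpen W, rfl⟩, hxW, -⟩ :=
    X.isBasis_affineOpens.exists_subset_of_mem_open (Set.mem_univ x) isOpen_univ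
  haveI : IsNoetherianRing Γ(X, W) := IsLocallyNoetherian.component_noetherian ⟨W, hW⟩
  refine ⟨Spec Γ(X, W), hW.fromSpec, inferInstance, ?_, ?_⟩
  · rw [hW.range_fromSpec]
    exact hxW
  · obtain ⟨e⟩ := extSh_restrict_affine F (unitM X) hF hW j
    have h2 : Subsingleton (Abelian.Ext (ModuleCat.of Γ(X, W) Γ(F, W))
        (ModuleCat.of Γ(X, W) Γ(X, W)) j) := by
      apply Module.subsingleton_of_localization_maximal (R := Γ(X, W))
        (fun p => LocalizedModule p.primeCompl (Abelian.Ext (ModuleCat.of Γ(X, W) Γ(F, W))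
          (ModuleCat.of Γ(X, W) Γ(X, W)) j))
        (fun p => LocalizedModule.mkLinearMap p.primeCompl _)
      intro p hp
      obtain ⟨z, hz, hzp⟩ := exists_point_primeIdealOf_eq hW p
      subst hzp
      have hcl := isClosed_singleton_of_isMaximal hW z hz hp
      exact (subsingleton_stalk_ext_iff F hF hW z hz j).mp (h z hcl)
    have hsub : Subsingleton (Abelian.Ext (ModuleCat.of Γ(X, W) Γ(F, W))
        (ModuleCat.of Γ(X, W) Γ(unitM X, W)) j) :=
      subsingleton_ext_of_iso_right _ (Groth.Agent.Lib.Helper10.HartogsOne.unitEquiv W).symm.toModuleIso j h2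
    have hz : IsZero (ModuleCat.of Γ(X, W) (Abelian.Ext (ModuleCat.of Γ(X, W) Γ(F, W))
        (ModuleCat.of Γ(X, W) Γ(unitM X, W)) j)) := ModuleCat.isZero_of_subsingleton _
    have hz' : IsZero (tilde (R := Γ(X, W)) (ModuleCat.of Γ(X, W)
        (Abelian.Ext (ModuleCat.of Γ(X, W) Γ(F, W)) (ModuleCat.of Γ(X, W) Γ(unitM X, W)) j))) :=
      Functor.map_isZero (tilde.functor Γ(X, W)) hz
    exact hz'.of_iso e

end Groth.Agent.Lib.Helper17.StalkExt
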