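import Groth.Agent.Lib.Helper17.Baer6
import Groth.Agent.Lib.Helper17.IdealFG1
import Groth.Agent.Lib.Helper29.QCohGen

set_option autoImplicit false
universe u
open CategoryTheory CategoryTheory.Limits AlgebraicGeometry Opposite TopologicalSpace

namespace Groth.Agent.Lib.Helper17.StalkInj

open Groth.Agent.Lib.Helper29.QCoh

variable {Y : Scheme.{u}}

/-- uniform version of `stalkMap_unit_eq_smul` -/
theorem stalkMap_unit_uniform (y : Y) (u : (unitM Y).presheaf.stalk y) :
    ∃ a : Y.presheaf.stalk y, ∀ {N : Y.Modules} (φ : unitM Y ⟶ N),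
      stalkMap φ y u = a • N.presheaf.germ ⊤ y trivial (φ.app ⊤ (toUnit 1)) := by
  obtain ⟨V, hxV, s, rfl⟩ := (unitM Y).presheaf.exists_germ_eq u
  obtain ⟨a, rfl⟩ := toUnit_surjective s
  refine ⟨Y.presheaf.germ V y hxV a, ?_⟩
  intro N φ
  rw [stalkMap_germ, toUnit_eq_smul_one, Scheme.Modules.Hom.app_smul, germ_smul,
    ← res_toUnit_one (le_top : V ≤ ⊤), app_res, germ_res]

/-- uniform coordinates of an element of a stalk of a finite free module -/
theorem stalkMap_free_uniform {J : Type u} [Fintype J] (y : Y)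
    (w : (freeM Y J).presheaf.stalk y) :
    ∃ a : J → Y.presheaf.stalk y, ∀ {N : Y.Modules} (φ : freeM Y J ⟶ N),
      stalkMap φ y w =
        ∑ j, a j • N.presheaf.germ ⊤ y trivial ((ιFreeM Y j ≫ φ).app ⊤ (toUnit 1)) := by
  choose a ha using fun j : J => stalkMap_unit_uniform y (stalkMap (πFreeM Y j) y w)
  refine ⟨a, ?_⟩
  intro N φ
  have h1 : φ = ∑ i : J, πFreeM Y i ≫ (ιFreeM Y i ≫ φ) := by
    conv_lhs => rw [← Category.id_comp φ, ← sum_πFreeM_ιFreeM Y, Preadditive.sum_comp]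
    simp only [Category.assoc]
  have happ : ∀ (s : Finset J) (ψ : J → ((freeM Y J).presheaf.stalk y ⟶ N.presheaf.stalk y)),
      (∑ i ∈ s, ψ i) w = ∑ i ∈ s, (ψ i) w := by
    intro s ψ
    have := map_sum (AddCommGrpCat.homAddEquiv (M := (freeM Y J).presheaf.stalk y)
      (N := N.presheaf.stalk y)) ψ s
    have h3 : (∑ i ∈ s, ψ i).hom = ∑ i ∈ s, (ψ i).hom := this
    change (∑ i ∈ s, ψ i).hom w = _
    rw [h3, AddMonoidHom.finsetSum_apply]
  have h2 : stalkMap φ y w = ∑ i : J, stalkMap (πFreeM Y i ≫ (ιFreeM Y i ≫ φ)) y w := by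
    conv_lhs => rw [h1, stalkMap_sum]
    exact happ _ _
  rw [h2]
  refine Finset.sum_congr rfl fun j _ => ?_
  rw [stalkMap_comp_apply]
  exact ha j (ιFreeM Y j ≫ φ)

/-- the germ of `toUnit α` is `germ α • germ 1` -/
theorem germ_toUnit (y : Y) {V : Y.Opens} (hy : y ∈ V) (α : Γ(Y, V)) :
    (unitM Y).presheaf.germ V y hy (toUnit α) =
      Y.presheaf.germ V y hy α • (unitM Y).presheaf.germ ⊤ y trivial (toUnit 1) := by
  rw [toUnit_eq_smul_one, germ_smul, ← res_toUnit_one (le_top : V ≤ ⊤), germ_res]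

/-- `a ↦ a • germ 1` is injective -/
theorem smul_germ_one_injective (y : Y) (a : Y.presheaf.stalk y)
    (h : a • (unitM Y).presheaf.germ ⊤ y trivial (toUnit 1) = 0) : a = 0 := by
  obtain ⟨V, hyV, a', rfl⟩ := Y.presheaf.exists_germ_eq a
  rw [← germ_toUnit y hyV a'] at h
  obtain ⟨W, hWV, hyW, h0⟩ := exists_res_eq_zero_of_germ_eq_zero (unitM Y) y hyV _ h
  have h1 : Y.presheaf.map (homOfLE hWV).op a' = 0 := h0
  have h2 := Y.presheaf.germ_res_apply (homOfLE hWV) y hyW a'
  rw [← h2, h1, map_zero]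

/-- relations in the stalk of the unit module are relations in the local ring -/
theorem sum_mul_germ_eq_zero {n : ℕ} (y : Y) (a : Fin n → Y.presheaf.stalk y)
    (α : Fin n → Γ(Y, ⊤))
    (h : ∑ j, a j • (unitM Y).presheaf.germ ⊤ y trivial (toUnit (α j)) = 0) :
    ∑ j, a j * Y.presheaf.germ ⊤ y trivial (α j) = 0 := by
  apply smul_germ_one_injective y
  rw [Finset.sum_smul, ← h]
  refine Finset.sum_congr rfl fun j _ => ?_
  rw [mul_smul]
  exact congrArg (a j • ·) (germ_toUnit y (V := ⊤) trivial (α j)).symm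

open Groth.Agent.Lib.Helper17.BaerMod in
theorem exists_section_of_relations (I : Y.Modules) [Injective I] {n m : ℕ}
    (α : Fin n → Γ(Y, ⊤)) (t : Fin n → Γ(I, ⊤)) (c : Fin m → Fin n → Γ(Y, ⊤))
    (hc : ∀ l, ∑ i, c l i • t i = 0)
    (H : ∀ (y : Y) (r : Fin n → Y.presheaf.stalk y),
      ∑ i, r i * Y.presheaf.germ ⊤ y trivial (α i) = 0 →
      ∃ s : Fin m → Y.presheaf.stalk y,
        ∀ i, r i = ∑ l, s l * Y.presheaf.germ ⊤ y trivial (c l i)) :
    ∃ ε : Γ(I, ⊤), ∀ i, α i • ε = t i := by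
  let J := ULift.{u} (Fin n)
  let π : freeM Y J ⟶ unitM Y := homOfSections (unitM Y) (fun j : J => toUnit (α j.down))
  let τ : freeM Y J ⟶ I := homOfSections I (fun j : J => t j.down)
  have hκ : kernel.ι π ≫ τ = 0 := by
    apply eq_of_stalkMap_eq
    intro y z
    have hz0 : stalkMap (0 : kernel π ⟶ I) y z = 0 := by
      have : stalkMap (0 : kernel π ⟶ I) y = 0 := (stalkFunctor Y y).map_zero _ _
      rw [this]; rfl
    rw [hz0, stalkMap_comp_apply]
    obtain ⟨a, ha⟩ := stalkMap_free_uniform y (stalkMap (kernel.ι π) y z)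
    have hπ : stalkMap π y (stalkMap (kernel.ι π) y z) = 0 := by
      rw [← stalkMap_comp_apply, kernel.condition]
      have : stalkMap (0 : kernel π ⟶ unitM Y) y = 0 := (stalkFunctor Y y).map_zero _ _
      rw [this]; rfl
    have h1 := ha π
    rw [hπ] at h1
    have h2 : ∑ i : Fin n, a ⟨i⟩ • (unitM Y).presheaf.germ ⊤ y trivial (toUnit (α i)) = 0 := by
      rw [h1]
      refine (Fintype.sum_equiv Equiv.ulift.symm _ _ fun i => ?_)
      have := ι_homOfSections_app_one (unitM Y) (fun j : J => toUnit (α j.down)) ⟨i⟩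
      exact congrArg (fun v => a ⟨i⟩ • (unitM Y).presheaf.germ ⊤ y trivial v) this.symm
    have h3 := sum_mul_germ_eq_zero y (fun i => a ⟨i⟩) α h2
    obtain ⟨s, hs⟩ := H y (fun i => a ⟨i⟩) h3
    rw [ha τ]
    have h4 : ∑ j : J, a j • I.presheaf.germ ⊤ y trivial ((ιFreeM Y j ≫ τ).app ⊤ (toUnit 1)) =
        ∑ i : Fin n, a ⟨i⟩ • I.presheaf.germ ⊤ y trivial (t i) := by
      refine (Fintype.sum_equiv Equiv.ulift _ _ fun j => ?_)
      have := ι_homOfSections_app_one I (fun j : J => t j.down) j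
      exact congrArg (fun v => a j • I.presheaf.germ ⊤ y trivial v) this
    rw [h4]
    calc ∑ i : Fin n, a ⟨i⟩ • I.presheaf.germ ⊤ y trivial (t i)
        = ∑ i : Fin n, ∑ l : Fin m, (s l * Y.presheaf.germ ⊤ y trivial (c l i)) •
            I.presheaf.germ ⊤ y trivial (t i) := by
          refine Finset.sum_congr rfl fun i _ => ?_
          rw [hs i, Finset.sum_smul]
      _ = ∑ l : Fin m, ∑ i : Fin n, (s l * Y.presheaf.germ ⊤ y trivial (c l i)) •
            I.presheaf.germ ⊤ y trivial (t i) := Finset.sum_comm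
      _ = ∑ l : Fin m, s l • I.presheaf.germ ⊤ y trivial (∑ i, c l i • t i) := by
          refine Finset.sum_congr rfl fun l _ => ?_
          rw [map_sum, Finset.smul_sum]
          refine Finset.sum_congr rfl fun i _ => ?_
          rw [germ_smul, mul_smul]
      _ = 0 := by
          refine Finset.sum_eq_zero fun l _ => ?_
          rw [hc l, map_zero, smul_zero]
  -- factor `τ` through the coimage of `π`
  let τbar : Abelian.coimage π ⟶ I := cokernel.desc (kernel.ι π) τ hκ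
  have hτbar : Abelian.coimage.π π ≫ τbar = τ := cokernel.π_desc _ _ _
  haveI : Mono (Abelian.factorThruCoimage π) := inferInstance
  let ψ : unitM Y ⟶ I := Injective.factorThru τbar (Abelian.factorThruCoimage π)
  have hψ : Abelian.factorThruCoimage π ≫ ψ = τbar := Injective.comp_factorThru _ _
  have hπψ : π ≫ ψ = τ := by
    rw [← Abelian.coimage.fac π, Category.assoc, hψ, hτbar]
  refine ⟨ψ.app ⊤ (toUnit 1), fun i => ?_⟩
  have h1 : (ιFreeM Y (⟨i⟩ : J) ≫ τ).app ⊤ (toUnit 1) = t i :=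
    ι_homOfSections_app_one I (fun j : J => t j.down) ⟨i⟩
  have h2 : (ιFreeM Y (⟨i⟩ : J) ≫ π).app ⊤ (toUnit 1) = toUnit (α i) :=
    ι_homOfSections_app_one (unitM Y) (fun j : J => toUnit (α j.down)) ⟨i⟩
  rw [← h1, ← hπψ, ← Category.assoc]
  show _ = ψ.app ⊤ ((ιFreeM Y (⟨i⟩ : J) ≫ π).app ⊤ (toUnit 1))
  rw [h2]
  exact ((congrArg (ψ.app ⊤) (toUnit_eq_smul_one (α i))).trans
    (Scheme.Modules.Hom.app_smul ψ (α i) (toUnit 1))).symm

end Groth.Agent.Lib.Helper17.StalkInj
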