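import Mathlib

set_option autoImplicit false
universe u
open scoped BigOperators

namespace Groth.Agent.Lib.Helper17.StalkInj

/-- generators of the module of relations, over a Noetherian ring -/
theorem exists_relation_generators {B : Type*} [CommRing B] [IsNoetherianRing B] {n : ℕ}
    (α : Fin n → B) :
    ∃ (m : ℕ) (c : Fin m → Fin n → B), (∀ l, ∑ i, c l i * α i = 0) ∧
      ∀ b : Fin n → B, ∑ i, b i * α i = 0 → ∃ d : Fin m → B, ∀ i, b i = ∑ l, d l * c l i := by
  let φ : (Fin n → B) →ₗ[B] B :=
    { toFun := fun b => ∑ i, b i * α i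
      map_add' := fun b b' => by simp [add_mul, Finset.sum_add_distrib]
      map_smul' := fun r b => by simp [Finset.mul_sum, mul_assoc] }
  have hfg : (LinearMap.ker φ).FG := IsNoetherian.noetherian _
  obtain ⟨m, c, hc⟩ := Submodule.fg_iff_exists_fin_generating_family.1 hfg
  refine ⟨m, c, fun l => ?_, fun b hb => ?_⟩
  · have : c l ∈ LinearMap.ker φ := by rw [← hc]; exact Submodule.subset_span ⟨l, rfl⟩
    exact this
  · have hb' : b ∈ Submodule.span B (Set.range c) := by rw [hc]; exact hb
    obtain ⟨d, hd⟩ := (Submodule.mem_span_range_iff_exists_fun B).1 hb'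
    refine ⟨d, fun i => ?_⟩
    rw [← hd]
    simp [Finset.sum_apply]

/-- relations in a localization are combinations of global relations -/
theorem exists_of_localization {B : Type*} [CommRing B] (M : Submonoid B) (L : Type*)
    [CommRing L] [Algebra B L] [IsLocalization M L] {n m : ℕ} (α : Fin n → B)
    (c : Fin m → Fin n → B)
    (hgen : ∀ b : Fin n → B, ∑ i, b i * α i = 0 →
      ∃ d : Fin m → B, ∀ i, b i = ∑ l, d l * c l i)
    (r : Fin n → L) (hr : ∑ i, r i * algebraMap B L (α i) = 0) :
    ∃ s : Fin m → L, ∀ i, r i = ∑ l, s l * algebraMap B L (c l i) := by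
  obtain ⟨u, hu⟩ := IsLocalization.exist_integer_multiples_of_finite M r
  choose b hb using hu
  have h1 : algebraMap B L (∑ i, b i * α i) = 0 := by
    rw [map_sum]
    have : ∀ i, algebraMap B L (b i * α i) = (u : B) • (r i * algebraMap B L (α i)) := by
      intro i
      rw [map_mul, hb i, Algebra.smul_def, Algebra.smul_def, mul_assoc]
    simp_rw [this]
    rw [← Finset.smul_sum, hr, smul_zero]
  obtain ⟨v, hv⟩ := (IsLocalization.map_eq_zero_iff M L _).1 h1
  have h2 : ∑ i, ((v : B) * b i) * α i = 0 := by
    rw [← hv, Finset.mul_sum]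
    exact Finset.sum_congr rfl fun i _ => mul_assoc _ _ _
  obtain ⟨d, hd⟩ := hgen (fun i => (v : B) * b i) h2
  refine ⟨fun l => IsLocalization.mk' L (d l) (u * v), fun i => ?_⟩
  have huv : IsUnit (algebraMap B L ((u * v : M) : B)) := IsLocalization.map_units L (u * v)
  apply huv.mul_left_cancel
  rw [Finset.mul_sum]
  have h3 : algebraMap B L ((u * v : M) : B) * r i = algebraMap B L ((v : B) * b i) := by
    rw [map_mul, hb i, Algebra.smul_def, Submonoid.coe_mul, map_mul]
    ring
  rw [h3, hd i, map_sum]
  refine Finset.sum_congr rfl fun l _ => ?_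
  rw [map_mul, ← mul_assoc, IsLocalization.mk'_spec']
  
end Groth.Agent.Lib.Helper17.StalkInj
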