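import Groth.Agent.Lib.Helper17.StalkInj1
import Groth.Agent.Lib.Helper17.StalkInj2
import Groth.Agent.Lib.Helper17.RestrKInj
import Groth.Agent.Lib.Helper29.QCohRestrict

set_option autoImplicit false
universe u
open CategoryTheory CategoryTheory.Limits AlgebraicGeometry Opposite TopologicalSpace

namespace Groth.Agent.Lib.Helper17.StalkInj

open Groth.Agent.Lib.Helper29.QCoh

variable {X : Scheme.{u}}

/-- lifting finitely many germs of a module to a common affine open -/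
theorem exists_common_lift_mod (M : X.Modules) (x : X) :
    ∀ {n : ℕ} (s : Fin n → M.presheaf.stalk x) (U₀ : X.Opens) (_ : x ∈ U₀),
    ∃ (V : X.Opens) (_ : IsAffineOpen V) (hxV : x ∈ V) (_ : V ≤ U₀) (σ : Fin n → Γ(M, V)),
      ∀ i, M.presheaf.germ V x hxV (σ i) = s i := by
  intro n
  induction n with
  | zero =>
    intro s U₀ hx₀
    obtain ⟨V, hV, hxV, hVU⟩ := exists_isAffineOpen_mem_and_subset (x := x) (U := U₀) hx₀
    exact ⟨V, hV, hxV, hVU, Fin.elim0, fun i => Fin.elim0 i⟩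
  | succ n ih =>
    intro s U₀ hx₀
    obtain ⟨V₁, -, hxV₁, hV₁U, σ₁, hσ₁⟩ := ih (fun i => s i.succ) U₀ hx₀
    obtain ⟨V₂, hV₂V₁, hxV₂, τ, hτ⟩ := M.presheaf.exists_le_germ_eq (s 0) hxV₁
    obtain ⟨V, hV, hxV, hVV₂⟩ := exists_isAffineOpen_mem_and_subset (x := x) (U := V₂) hxV₂
    refine ⟨V, hV, hxV, hVV₂.trans (hV₂V₁.trans hV₁U),
      Fin.cons (res M hVV₂ τ) (fun i => res M (hVV₂.trans hV₂V₁) (σ₁ i)), ?_⟩
    intro i
    refine Fin.cases ?_ (fun j => ?_) i
    · rw [Fin.cons_zero, germ_res]; exact hτ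
    · rw [Fin.cons_succ, germ_res]; exact hσ₁ j

/-- lifting finitely many germs of functions to a common affine open -/
theorem exists_common_lift_ring (x : X) :
    ∀ {n : ℕ} (s : Fin n → X.presheaf.stalk x) (U₀ : X.Opens) (_ : x ∈ U₀),
    ∃ (V : X.Opens) (_ : IsAffineOpen V) (hxV : x ∈ V) (_ : V ≤ U₀) (σ : Fin n → Γ(X, V)),
      ∀ i, X.presheaf.germ V x hxV (σ i) = s i := by
  intro n
  induction n with
  | zero =>
    intro s U₀ hx₀
    obtain ⟨V, hV, hxV, hVU⟩ := exists_isAffineOpen_mem_and_subset (x := x) (U := U₀) hx₀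
    exact ⟨V, hV, hxV, hVU, Fin.elim0, fun i => Fin.elim0 i⟩
  | succ n ih =>
    intro s U₀ hx₀
    obtain ⟨V₁, -, hxV₁, hV₁U, σ₁, hσ₁⟩ := ih (fun i => s i.succ) U₀ hx₀
    obtain ⟨V₂, hV₂V₁, hxV₂, τ, hτ⟩ := X.presheaf.exists_le_germ_eq (s 0) hxV₁
    obtain ⟨V, hV, hxV, hVV₂⟩ := exists_isAffineOpen_mem_and_subset (x := x) (U := V₂) hxV₂
    refine ⟨V, hV, hxV, hVV₂.trans (hV₂V₁.trans hV₁U),
      Fin.cons (X.presheaf.map (homOfLE hVV₂).op τ)
        (fun i => X.presheaf.map (homOfLE (hVV₂.trans hV₂V₁)).op (σ₁ i)), ?_⟩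
    intro i
    refine Fin.cases ?_ (fun j => ?_) i
    · rw [Fin.cons_zero]
      exact (X.presheaf.germ_res_apply (homOfLE hVV₂) x hxV τ).trans hτ
    · rw [Fin.cons_succ]
      exact (X.presheaf.germ_res_apply (homOfLE (hVV₂.trans hV₂V₁)) x hxV (σ₁ j)).trans (hσ₁ j)

/-- an affine open neighbourhood inside finitely many given neighbourhoods -/
theorem exists_affine_le_all (x : X) :
    ∀ {m : ℕ} (Wl : Fin m → X.Opens) (_ : ∀ l, x ∈ Wl l) (V : X.Opens) (_ : x ∈ V),
    ∃ W : X.Opens, IsAffineOpen W ∧ x ∈ W ∧ W ≤ V ∧ ∀ l, W ≤ Wl l := by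
  intro m
  induction m with
  | zero =>
    intro Wl _ V hxV
    obtain ⟨W, hW, hxW, hWV⟩ := exists_isAffineOpen_mem_and_subset (x := x) (U := V) hxV
    exact ⟨W, hW, hxW, hWV, fun l => Fin.elim0 l⟩
  | succ m ih =>
    intro Wl hWl V hxV
    obtain ⟨W₁, -, hxW₁, hW₁V, hW₁⟩ := ih (fun l => Wl l.succ) (fun l => hWl l.succ) V hxV
    obtain ⟨W, hW, hxW, hWle⟩ := exists_isAffineOpen_mem_and_subset (x := x) (U := W₁ ⊓ Wl 0)
      ⟨hxW₁, hWl 0⟩
    refine ⟨W, hW, hxW, (hWle.trans inf_le_left).trans hW₁V, fun l => ?_⟩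
    refine Fin.cases ?_ (fun j => ?_) l
    · exact hWle.trans inf_le_right
    · exact (hWle.trans inf_le_left).trans (hW₁ j)

theorem main [IsLocallyNoetherian X] (I : X.Modules) (hI : Injective I) (x : X) :
    Module.Injective (X.presheaf.stalk x) (I.presheaf.stalk x) := by
  apply Module.Baer.injective
  intro 𝔞 g
  have hfg : 𝔞.FG := IsNoetherian.noetherian 𝔞
  obtain ⟨n, a, ha⟩ := Submodule.fg_iff_exists_fin_generating_family.1 hfg
  have ham : ∀ i, a i ∈ 𝔞 := fun i => by rw [← ha]; exact Submodule.subset_span ⟨i, rfl⟩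
  obtain ⟨V₁, hV₁, hxV₁, -, α₁, hα₁⟩ := exists_common_lift_ring x a ⊤ trivial
  obtain ⟨V, hV, hxV, hVV₁, t₀, ht₀⟩ :=
    exists_common_lift_mod I x (fun i => g ⟨a i, ham i⟩) V₁ hxV₁
  let α : Fin n → Γ(X, V) := fun i => X.presheaf.map (homOfLE hVV₁).op (α₁ i)
  have hα : ∀ i, X.presheaf.germ V x hxV (α i) = a i := fun i =>
    (X.presheaf.germ_res_apply (homOfLE hVV₁) x hxV (α₁ i)).trans (hα₁ i)
  haveI : IsNoetherianRing Γ(X, V) := IsLocallyNoetherian.component_noetherian ⟨V, hV⟩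
  obtain ⟨m, c, hc0, hgen⟩ := exists_relation_generators α
  have hz : ∀ l, I.presheaf.germ V x hxV (∑ i, c l i • t₀ i) = 0 := by
    intro l
    rw [map_sum]
    have h1 : ∀ i, I.presheaf.germ V x hxV (c l i • t₀ i) =
        g (X.presheaf.germ V x hxV (c l i) • ⟨a i, ham i⟩) := by
      intro i
      rw [germ_smul, ht₀, map_smul]
    simp_rw [h1]
    rw [← map_sum]
    have h2 : ∑ i, X.presheaf.germ V x hxV (c l i) • (⟨a i, ham i⟩ : 𝔞) = 0 := by
      apply Subtype.ext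
      rw [Submodule.coe_sum]
      simp only [Submodule.coe_smul, smul_eq_mul, Submodule.coe_zero]
      simp_rw [← hα, ← map_mul]
      rw [← map_sum, hc0 l, map_zero]
    rw [h2, map_zero]
  choose Wl hWlV hxWl hWl0 using fun l => exists_res_eq_zero_of_germ_eq_zero I x hxV _ (hz l)
  obtain ⟨W, hW, hxW, hWV, hWWl⟩ := exists_affine_le_all x Wl hxWl V hxV
  let ι : (W : Scheme.{u}) ⟶ X := W.ι
  let P : X.Opens := ι ''ᵁ ⊤
  have hPW : P = W := W.ι_image_top
  have hPV : P ≤ V := hPW.le.trans hWV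
  have hxP : x ∈ P := by rw [hPW]; exact hxW
  let α' : Fin n → Γ((W : Scheme.{u}), ⊤) := fun i =>
    (ι.appIso ⊤).hom (X.presheaf.map (homOfLE hPV).op (α i))
  let c' : Fin m → Fin n → Γ((W : Scheme.{u}), ⊤) := fun l i =>
    (ι.appIso ⊤).hom (X.presheaf.map (homOfLE hPV).op (c l i))
  let t' : Fin n → Γ(I.restrict ι, ⊤) := fun i => res I hPV (t₀ i)
  haveI : Injective (I.restrict ι) := RestrKInj.injective_restrict W I
  have hinvhom : ∀ z : Γ(X, P), (ι.appIso ⊤).inv ((ι.appIso ⊤).hom z) = z := fun z => by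
    rw [← ConcreteCategory.comp_apply, Iso.hom_inv_id]; rfl
  have hc' : ∀ l, ∑ i, c' l i • t' i = 0 := by
    intro l
    have h1 : ∀ i, c' l i • t' i = res I hPV (c l i • t₀ i) := by
      intro i
      rw [res_smul]
      refine (restrict_smul ι I ⊤ (c' l i) (t' i)).trans ?_
      rw [hinvhom]
    have h2 : (∑ i, res I hPV (c l i • t₀ i) : Γ(I, P)) = 0 := by
      rw [← map_sum]
      have hPWl : P ≤ Wl l := hPW.le.trans (hWWl l)
      rw [← res_res I (hWlV l) hPWl, hWl0 l, map_zero]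
    exact (Finset.sum_congr rfl fun i _ => h1 i).trans h2
  have H' : ∀ (y : (W : Scheme.{u})) (r : Fin n → (W : Scheme.{u}).presheaf.stalk y),
      ∑ i, r i * (W : Scheme.{u}).presheaf.germ ⊤ y trivial (α' i) = 0 →
      ∃ s : Fin m → (W : Scheme.{u}).presheaf.stalk y,
        ∀ i, r i = ∑ l, s l * (W : Scheme.{u}).presheaf.germ ⊤ y trivial (c' l i) := by
    intro y r hr
    have hyP : ι y ∈ P := ⟨y, trivial, rfl⟩
    have hyV : ι y ∈ V := hPV hyP
    let φ := ι.stalkMap y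
    have hφbij : Function.Bijective φ := ConcreteCategory.bijective_of_isIso φ
    have key : ∀ b : Γ(X, V), φ (X.presheaf.germ V (ι y) hyV b) =
        (W : Scheme.{u}).presheaf.germ ⊤ y trivial
          ((ι.appIso ⊤).hom (X.presheaf.map (homOfLE hPV).op b)) := by
      intro b
      have h1 := stalkMap_germ_appIso_inv ι y ⊤ trivial
        ((ι.appIso ⊤).hom (X.presheaf.map (homOfLE hPV).op b)) hyP
      rw [hinvhom] at h1
      rw [← h1]
      exact congrArg φ (X.presheaf.germ_res_apply (homOfLE hPV) (ι y) hyP b).symm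
    choose ρ hρ using fun i => hφbij.2 (r i)
    have hρ0 : ∑ i, ρ i * X.presheaf.germ V (ι y) hyV (α i) = 0 := by
      apply hφbij.1
      rw [map_sum, map_zero, ← hr]
      refine Finset.sum_congr rfl fun i _ => ?_
      rw [map_mul, hρ i, key]
    letI : Algebra Γ(X, V) (X.presheaf.stalk (ι y)) :=
      TopCat.Presheaf.algebra_section_stalk X.presheaf ⟨ι y, hyV⟩
    haveI := hV.isLocalization_stalk ⟨ι y, hyV⟩
    obtain ⟨σ, hσ⟩ := exists_of_localization (hV.primeIdealOf ⟨ι y, hyV⟩).asIdeal.primeCompl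
      (X.presheaf.stalk (ι y)) α c hgen ρ hρ0
    refine ⟨fun l => φ (σ l), fun i => ?_⟩
    rw [← hρ i, hσ i, map_sum]
    refine Finset.sum_congr rfl fun l _ => ?_
    rw [map_mul]
    congr 1
    exact key (c l i)
  obtain ⟨ε, hε⟩ := exists_section_of_relations (I.restrict ι) α' t' c' hc' H'
  let εP : Γ(I, P) := ε
  let e : I.presheaf.stalk x := I.presheaf.germ P x hxP εP
  have hgen_e : ∀ i, a i • e = g ⟨a i, ham i⟩ := by
    intro i
    have h1 : X.presheaf.map (homOfLE hPV).op (α i) • εP = res I hPV (t₀ i) := by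
      have h2 := restrict_smul ι I ⊤ (α' i) ε
      rw [hinvhom] at h2
      exact h2.symm.trans (hε i)
    have h3 := congrArg (I.presheaf.germ P x hxP) h1
    rw [germ_smul, germ_res, ht₀] at h3
    rw [← h3, ← hα i]
    congr 1
    exact (X.presheaf.germ_res_apply (homOfLE hPV) x hxP (α i)).symm
  refine ⟨LinearMap.toSpanSingleton _ _ e, fun b hb => ?_⟩
  rw [LinearMap.toSpanSingleton_apply]
  have hb' : b ∈ Submodule.span (X.presheaf.stalk x) (Set.range a) := by rw [ha]; exact hb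
  obtain ⟨d, hd⟩ := (Submodule.mem_span_range_iff_exists_fun _).1 hb'
  have h4 : (⟨b, hb⟩ : 𝔞) = ∑ i, d i • (⟨a i, ham i⟩ : 𝔞) := by
    apply Subtype.ext
    rw [Submodule.coe_sum]
    simp only [Submodule.coe_smul]
    exact hd.symm
  rw [h4, map_sum]
  simp_rw [map_smul, ← hgen_e]
  rw [← hd, Finset.sum_smul]
  refine Finset.sum_congr rfl fun i _ => ?_
  rw [smul_eq_mul, mul_smul]

end Groth.Agent.Lib.Helper17.StalkInj
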