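import Groth.Agent.Lib.Helper17.DualVanish
import Groth.Agent.Lib.Helper17.StalkExt
import Groth.Agent.Lib.Helper17.CMPd

/-!
# `H^i(P, F(-m)) = 0` for `m ≫ 0` iff `Ext^{r-i}_{O_x}(F_x, O_x) = 0` at all (closed) points
-/

set_option autoImplicit false
set_option maxSynthPendingDepth 3

universe u

open CategoryTheory CategoryTheory.Limits AlgebraicGeometry Opposite Abelian

namespace Groth.Agent.Lib.Helper17.StalkVanish

open Groth.Agent.Lib.Lead.SD Groth.Agent.Lib.Lead.Pn Groth.Agent.Lib.Lead.Koszul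
  Groth.Agent.Lib.Lead.TwistExact Groth.Agent.Lib.Helper29.QCoh
  Groth.Agent.Lib.Helper17.DualVanish Groth.Agent.Lib.Helper17.CMPd
  Groth.Agent.Lib.Helper17.StalkExt

variable (k : Type u) [Field k] (r : ℕ)

section generic

variable {X : Scheme.{u}} (F L L' : X.Modules)
  [ModSite.HasSheafHom (O := X.sheaf) F] [HasInjectiveResolutions (ModSite.Mod X.sheaf)]

/-- the Ext sheaf into an invertible module vanishes iff the Ext sheaf into `O_X` does -/
theorem isZero_extSh_invertible_iff_unit (hL : FlatMod.IsFinLocFree L)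
    (μ : CohB1.tensorMod L L' ≅ Coh.structureModule X)
    (μ' : CohB1.tensorMod L' L ≅ Coh.structureModule X) (j : ℕ) :
    IsZero ((ModSite.extSh (O := X.sheaf) F j).obj L) ↔
    IsZero ((ModSite.extSh (O := X.sheaf) F j).obj (Coh.structureModule X)) := by
  obtain ⟨e⟩ := Groth.Agent.Lib.Helper17.ExtTwist2.nonempty_extSh_twist_iso
    (O := X.sheaf) F L
    (Groth.Agent.Lib.Helper5.LocBasisScheme.hasLocBases_of_isFinLocFree _ hL) j
    (Coh.structureModule X)
  let u : CohB1.tensorMod (Coh.structureModule X) L ≅ L :=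
    Groth.Agent.Lib.Helper17.IHom.tensorUnitIso (O := X.sheaf) _
  let e' : (ModSite.extSh (O := X.sheaf) F j).obj L ≅
      CohB1.tensorMod ((ModSite.extSh (O := X.sheaf) F j).obj (Coh.structureModule X)) L :=
    (ModSite.extSh (O := X.sheaf) F j).mapIso u.symm ≪≫ e
  constructor
  · intro h
    exact IsZero.of_full_of_faithful_of_isZero (tensorRightEquiv L L' μ μ').functor _
      (h.of_iso e'.symm)
  · intro h
    exact (Functor.map_isZero (tensorRightEquiv L L' μ μ').functor h).of_iso e'

end generic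

section

variable (F : (CohB1.ProjSpace r k).Modules)
  [ModSite.HasSheafHom (O := (CohB1.ProjSpace r k).sheaf) F]
  [HasInjectiveResolutions (ModSite.Mod (CohB1.ProjSpace r k).sheaf)]

/-- the Ext sheaf into `ω_P` vanishes iff the Ext sheaf into `O_P` does -/
theorem isZero_extSh_omega_iff_unit (j : ℕ) :
    IsZero ((ModSite.extSh (O := (CohB1.ProjSpace r k).sheaf) F j).obj
      (Twist.twistProjSpace r k (-((r : ℤ) + 1)))) ↔
    IsZero ((ModSite.extSh (O := (CohB1.ProjSpace r k).sheaf) F j).obj
      (Coh.structureModule (CohB1.ProjSpace r k))) :=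
  isZero_extSh_invertible_iff_unit F _ _ (isFinLocFree_twist r k (-((r : ℤ) + 1)))
    (mu' k r ((r : ℤ) + 1)) (mu k r ((r : ℤ) + 1)) j

end

theorem main (F : (CohB1.ProjSpace r k).Modules) (hF : Coh.IsCoh F) (i j : ℕ) (hij : i + j = r) :
    (∃ m₀ : ℤ, ∀ m : ℤ, m₀ ≤ m → Subsingleton (Coh.HH (CohB1.ProjSpace r k)
      (Twist.twistBy (CohB1.polyGrading r k) F (-m)) i)) ↔
    ∀ x : (CohB1.ProjSpace r k), Subsingleton (Abelian.Ext
      (ModuleCat.of ((CohB1.ProjSpace r k).presheaf.stalk x) (F.presheaf.stalk x))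
      (ModuleCat.of ((CohB1.ProjSpace r k).presheaf.stalk x)
        ((CohB1.ProjSpace r k).presheaf.stalk x)) j) := by
  haveI : EnoughInjectives (CohB1.ProjSpace r k).Modules :=
    Groth.Agent.S0485.result (Opens.grothendieckTopology (CohB1.ProjSpace r k))
      (CohB1.ProjSpace r k).ringCatSheaf
  haveI : HasInjectiveResolutions (ModSite.Mod (CohB1.ProjSpace r k).sheaf) :=
    inferInstanceAs (HasInjectiveResolutions (CohB1.ProjSpace r k).Modules)
  haveI : HasExt.{u} (CohB1.ProjSpace r k).Modules := hasExt_of_enoughInjectives _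
  haveI : ModSite.HasSheafHom (O := (CohB1.ProjSpace r k).sheaf) F :=
    Groth.Agent.Lib.Helper17.IHom.hasSheafHom _
  have hv := vanishing_iff k r F hF i (by omega)
  have hj : r - i = j := by omega
  rw [hj] at hv
  refine Iff.trans hv ?_
  rw [isZero_extSh_omega_iff_unit k r F j]
  constructor
  · intro h x
    exact subsingleton_stalk_ext_of_isZero F hF j h x
  · intro h
    exact isZero_extSh_unit_of_forall_closed F hF j (fun x _ => h x)

end Groth.Agent.Lib.Helper17.StalkVanish
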