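import Groth.Agent.Lib.Helper17.MVRpush
import Groth.Agent.Lib.Helper17.MVShriek
import Groth.Agent.Lib.Helper17.RpushRes
import Groth.Agent.Lib.Helper17.RFRlim
import Groth.Agent.Lib.Helper17.MVGamma
import Groth.Agent.Lib.Helper28.DCohRes16
import Groth.Agent.Lib.Helper28.LpullExists
import Groth.Agent.Lib.Helper29.QCohRestrict
import Groth.Agent.Lib.Helper29.QCohExact

/-!
# Objects of `D(O_X)` with supports, and restriction to opens
-/

set_option autoImplicit false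
universe u

open CategoryTheory Limits Opposite AlgebraicGeometry TopologicalSpace CochainComplex

attribute [local instance] HasDerivedCategory.standard

namespace Groth.Agent.Lib.Helper17.SuppRes

open Groth.Agent.Lib.Helper17.PushCoh Groth.Agent.Lib.Helper17.PushCoh2
open Groth.Agent.Lib.Helper17.RFRlim Groth.Agent.Lib.Helper17.MVGamma

/-- an object of the derived category with vanishing cohomology is zero. -/
lemma isZero_of_HD {A : Type*} [Category A] [Abelian A] [HasDerivedCategory A]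
    (K : DerivedCategory A)
    (h : ∀ i : ℤ, IsZero ((DerivedCategory.homologyFunctor A i).obj K)) : IsZero K := by
  let M := (DerivedCategory.Q (C := A)).objPreimage K
  let e : DerivedCategory.Q.obj M ≅ K := (DerivedCategory.Q (C := A)).objObjPreimageIso K
  refine IsZero.of_iso ?_ e.symm
  apply Groth.Agent.Lib.Helper28.Lpull.isZero_Q_obj_of_acyclic
  intro i
  exact (h i).of_iso (((DerivedCategory.homologyFunctorFactors A i).app M).symm ≪≫
    (DerivedCategory.homologyFunctor A i).mapIso e)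

variable {Y : Scheme.{u}}

/-- the restriction of `K` to an open avoiding the supports of its cohomology sheaves is zero. -/
lemma isZero_restrictD (K : DCoh.D Y) (W : Y.Opens)
    (h : ∀ (i : ℤ) (y : Y), y ∈ W → y ∉ CohB1.support (DCoh.HD K i)) :
    IsZero ((DCoh.restrictD W.ι).obj K) := by
  apply isZero_of_HD
  intro i
  refine IsZero.of_iso ?_ (Groth.Agent.Lib.Helper28.DCohRes.HDresDIso W.ι K i)
  rw [Groth.Agent.Lib.Helper29.QCoh.isZero_iff_stalk_subsingleton]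
  intro y
  have hy : W.ι y ∉ CohB1.support (DCoh.HD K i) := h i _ (by
    have := y.2
    simpa using this)
  have hs : Subsingleton ((DCoh.HD K i).presheaf.stalk (W.ι y)) := by
    by_contra hc
    exact hy hc
  exact (Groth.Agent.Lib.Helper29.QCoh.restrictStalkIso W.ι (DCoh.HD K i) y).addCommGroupIsoToAddEquiv.toEquiv.subsingleton


open Pretriangulated Groth.Agent.Lib.Helper17.RFTri Groth.Agent.Lib.Helper17.MVAbs

variable {X : Scheme.{u}}

/-- the open complement of a closed set. -/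
def complOpen (T : Set X) (hT : IsClosed T) : X.Opens := ⟨Tᶜ, hT.isOpen_compl⟩

lemma sup_complOpen (U : X.Opens) (T : Set X) (hT : IsClosed T) (hTU : T ⊆ (U : Set X)) :
    U ⊔ complOpen T hT = ⊤ := by
  rw [eq_top_iff]
  intro x _
  by_cases hx : x ∈ T
  · exact Or.inl (hTU hx)
  · exact Or.inr hx

lemma isZero_Rpush_obj {X Y : Scheme.{u}} (f : X ⟶ Y) (K : DCoh.D X) (hK : IsZero K) :
    IsZero ((DCoh.Rpush f).obj K) := by
  haveI : (DCoh.Rpush f).Additive := additive_RF (Scheme.Modules.pushforward f) (hA X)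
  exact (DCoh.Rpush f).map_isZero hK

/-- `E ≅ Rj_*(E|_U)` when the cohomology of `E` is supported in a closed subset of `U`. -/
theorem nonempty_iso_Rpush_restrict (U : X.Opens) (T : Set X) (hT : IsClosed T)
    (hTU : T ⊆ (U : Set X)) (E : DCoh.D X)
    (hE : ∀ i : ℤ, CohB1.support (DCoh.HD E i) ⊆ T) :
    Nonempty (E ≅ (DCoh.Rpush U.ι).obj ((DCoh.restrictD U.ι).obj E)) := by
  let V := complOpen T hT
  obtain ⟨a, b, c, h⟩ := Groth.Agent.Lib.Helper17.MVRpush.mv_id U V (sup_complOpen U T hT hTU) E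
  have hB : IsZero ((DCoh.Rpush V.ι).obj ((DCoh.restrictD V.ι).obj E)) :=
    isZero_Rpush_obj _ _ (isZero_restrictD E V (fun i y hy hs => hy (hE i hs)))
  have hC : IsZero ((DCoh.Rpush (U ⊓ V).ι).obj ((DCoh.restrictD (U ⊓ V).ι).obj E)) :=
    isZero_Rpush_obj _ _ (isZero_restrictD E (U ⊓ V) (fun i y hy hs => hy.2 (hE i hs)))
  haveI : IsIso a := (Triangle.isZero₃_iff_isIso₁ _ h).1 hC
  haveI : IsIso (biprod.fst : (DCoh.Rpush U.ι).obj ((DCoh.restrictD U.ι).obj E) ⊞
      (DCoh.Rpush V.ι).obj ((DCoh.restrictD V.ι).obj E) ⟶ _) := by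
    refine ⟨biprod.inl, ?_, biprod.inl_fst⟩
    apply biprod.hom_ext
    · simp
    · exact hB.eq_of_tgt _ _
  exact ⟨asIso a ≪≫ asIso biprod.fst⟩


/-- `(Rj_* F)|_U ≅ F`. -/
theorem nonempty_restrict_Rpush_iso (U : X.Opens) (F : DCoh.D (U : Scheme.{u})) :
    Nonempty ((DCoh.restrictD U.ι).obj ((DCoh.Rpush U.ι).obj F) ≅ F) := by
  obtain ⟨I, hI, ⟨e⟩⟩ := exists_kInjective_iso (hA (U : Scheme.{u})) F
  haveI := hI
  let J : CochainComplex X.Modules ℤ := ΦC (Scheme.Modules.pushforward U.ι) I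
  let e1 : (DCoh.Rpush U.ι).obj F ≅ DerivedCategory.Q.obj J :=
    (DCoh.Rpush U.ι).mapIso e ≪≫ RpushIso U.ι I
  let e2 : (DCoh.restrictD U.ι).obj (DerivedCategory.Q.obj J) ≅
      DerivedCategory.Q.obj (Cx (Scheme.Modules.restrictFunctor U.ι) J) :=
    ((Scheme.Modules.restrictFunctor U.ι).mapDerivedCategoryFactors).app J
  let e3 : Cx (Scheme.Modules.restrictFunctor U.ι) J ≅ I :=
    (NatIso.mapHomologicalComplex (Scheme.Modules.restrictFunctorAdjCounitIso U.ι)
      (ComplexShape.up ℤ)).app I ≪≫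
    HomologicalComplex.Hom.isoOfComponents (fun n => Iso.refl _) (by
      intro i j _
      exact (Category.id_comp _).trans (Category.comp_id _).symm)
  exact ⟨(DCoh.restrictD U.ι).mapIso e1 ≪≫ e2 ≪≫ DerivedCategory.Q.mapIso e3 ≪≫ e.symm⟩

/-- `(Rj_* F)|_W = 0` when `W` avoids the image of the supports of `F`. -/
lemma isZero_restrict_Rpush (U W : X.Opens) (F : DCoh.D (U : Scheme.{u}))
    (h : ∀ (i : ℤ) (y : (U : Scheme.{u})), U.ι y ∈ W → y ∉ CohB1.support (DCoh.HD F i)) :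
    IsZero ((DCoh.restrictD W.ι).obj ((DCoh.Rpush U.ι).obj F)) := by
  obtain ⟨θ⟩ := Groth.Agent.Lib.Helper17.RpushRes.nonempty_iso U.ι W
  have h0 : IsZero ((DCoh.restrictD (U.ι ⁻¹ᵁ W).ι).obj F) :=
    isZero_restrictD F (U.ι ⁻¹ᵁ W) (fun i y hy => h i y hy)
  have h1 : IsZero ((DCoh.Rpush (U.ι ∣_ W)).obj ((DCoh.restrictD (U.ι ⁻¹ᵁ W).ι).obj F)) :=
    isZero_Rpush_obj _ _ h0
  have e : (DCoh.restrictD W.ι).obj ((DCoh.Rpush U.ι).obj F) ≅
      (DCoh.Rpush (U.ι ∣_ W)).obj ((DCoh.restrictD (U.ι ⁻¹ᵁ W).ι).obj F) := θ.app F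
  exact h1.of_iso e

/-- `j_! F ≅ Rj_* F` when the cohomology of `F` is supported in a subset of `U` closed in `X`. -/
theorem nonempty_extZeroD_iso_Rpush (U : X.Opens) (T : Set X) (hT : IsClosed T)
    (hTU : T ⊆ (U : Set X)) (F : DCoh.D (U : Scheme.{u}))
    (hF : ∀ i : ℤ, (fun x : (U : Scheme.{u}) => U.ι.base x) '' CohB1.support (DCoh.HD F i) ⊆ T) :
    Nonempty ((CxOX.extZeroD U.ι).obj F ≅ (DCoh.Rpush U.ι).obj F) := by
  let V := complOpen T hT
  let R := (DCoh.Rpush U.ι).obj F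
  obtain ⟨a, b, c, h⟩ := Groth.Agent.Lib.Helper17.MVShriek.mv_shriek U V
    (sup_complOpen U T hT hTU) R
  have hV : IsZero ((DCoh.restrictD V.ι).obj R) :=
    isZero_restrict_Rpush U V F (fun i y hy hs => hy (hF i ⟨y, hs, rfl⟩))
  have hUV : IsZero ((DCoh.restrictD (U ⊓ V).ι).obj R) :=
    isZero_restrict_Rpush U (U ⊓ V) F (fun i y hy hs => hy.2 (hF i ⟨y, hs, rfl⟩))
  have hB : IsZero ((CxOX.extZeroD V.ι).obj ((DCoh.restrictD V.ι).obj R)) :=
    (CxOX.extZeroD V.ι).map_isZero hV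
  have hA' : IsZero ((CxOX.extZeroD (U ⊓ V).ι).obj ((DCoh.restrictD (U ⊓ V).ι).obj R)) :=
    (CxOX.extZeroD (U ⊓ V).ι).map_isZero hUV
  haveI : IsIso b := (Triangle.isZero₁_iff_isIso₂ _ h).1 hA'
  haveI : IsIso (biprod.inl : (CxOX.extZeroD U.ι).obj ((DCoh.restrictD U.ι).obj R) ⟶
      (CxOX.extZeroD U.ι).obj ((DCoh.restrictD U.ι).obj R) ⊞
        (CxOX.extZeroD V.ι).obj ((DCoh.restrictD V.ι).obj R)) := by
    refine ⟨biprod.fst, biprod.inl_fst, ?_⟩
    apply biprod.hom_ext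
    · simp
    · exact hB.eq_of_tgt _ _
  obtain ⟨e⟩ := nonempty_restrict_Rpush_iso U F
  exact ⟨(CxOX.extZeroD U.ι).mapIso e.symm ≪≫ asIso biprod.inl ≪≫ asIso b⟩

end Groth.Agent.Lib.Helper17.SuppRes
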