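import Mathlib

/-!
# Symbolic powers and flat base change
-/

set_option autoImplicit false
universe u

namespace Groth.Agent.Lib.Helper17.SymbFlat

open TensorProduct

/-- Base case: nonzero elements of a flat domain `E` over a domain `D` act injectively on
`E ⊗[D] N` for torsion-free `N`. -/
theorem base_inj {D E N : Type u} [CommRing D] [IsDomain D] [CommRing E] [IsDomain E] [Algebra D E]
    [Module.Flat D E] [AddCommGroup N] [Module D N]
    (hN : ∀ (d : D) (x : N), d ≠ 0 → d • x = 0 → x = 0) (t : E) (ht : t ≠ 0) :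
    Function.Injective ((LinearMap.mulLeft D t).rTensor N : E ⊗[D] N →ₗ[D] E ⊗[D] N) := by
  let K := FractionRing D
  let L := FractionRing E
  let ι : N →ₗ[D] K ⊗[D] N := TensorProduct.mk D K N 1
  have hι : Function.Injective ι := by
    rw [injective_iff_map_eq_zero]
    intro x hx
    obtain ⟨s, hs⟩ := (IsLocalizedModule.eq_zero_iff (nonZeroDivisors D) ι).1 hx
    exact hN s.1 x (nonZeroDivisors.ne_zero s.2) hs
  have : Module.Flat D (K ⊗[D] N) := Module.Flat.trans D K (K ⊗[D] N)
  let incl : E →ₗ[D] L := (Algebra.linearMap E L).restrictScalars D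
  have hincl : Function.Injective incl := IsFractionRing.injective E L
  let Φ : E ⊗[D] N →ₗ[D] L ⊗[D] (K ⊗[D] N) := TensorProduct.map incl ι
  have hΦ : Function.Injective Φ := by
    have h1 : Function.Injective (ι.lTensor E) :=
      Module.Flat.lTensor_preserves_injective_linearMap ι hι
    have h2 : Function.Injective (incl.rTensor (K ⊗[D] N)) :=
      Module.Flat.rTensor_preserves_injective_linearMap incl hincl
    have : Φ = (incl.rTensor (K ⊗[D] N)) ∘ₗ (ι.lTensor E) := by
      rw [LinearMap.rTensor_comp_lTensor]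
    rw [this]
    exact h2.comp h1
  have hcomm : ∀ z, Φ ((LinearMap.mulLeft D t).rTensor N z) = (algebraMap E L t) • Φ z := by
    intro z
    induction z using TensorProduct.induction_on with
    | zero => simp
    | tmul e x =>
      simp only [LinearMap.rTensor_tmul, LinearMap.mulLeft_apply, Φ, TensorProduct.map_tmul,
        TensorProduct.smul_tmul']
      congr 1
      simp [incl, Algebra.linearMap_apply]
    | add a b ha hb => rw [map_add, map_add, ha, hb, map_add, smul_add]
  rw [injective_iff_map_eq_zero]
  intro z hz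
  apply hΦ
  rw [map_zero]
  have h := hcomm z
  rw [hz, map_zero] at h
  have ht' : algebraMap E L t ≠ 0 := by
    intro h0
    exact ht ((IsFractionRing.injective E L) (by rw [h0, map_zero]))
  rw [← inv_smul_smul₀ ht' (Φ z), ← h, smul_zero]

/-- Transfer to `R`-modules that are modules over `R ⧸ p`. -/
theorem inj_of_quotient_module {R S M : Type u} [CommRing R] [CommRing S] [Algebra R S]
    [Module.Flat R S] (p : Ideal R) [p.IsPrime] [(p.map (algebraMap R S)).IsPrime]
    [AddCommGroup M] [Module R M] [Module (R ⧸ p) M] [IsScalarTower R (R ⧸ p) M]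
    (hi : ∀ s : R, s ∉ p → ∀ m : M, s • m = 0 → m = 0) (t : S)
    (ht : t ∉ p.map (algebraMap R S)) :
    Function.Injective ((LinearMap.mulLeft R t).rTensor M : S ⊗[R] M →ₗ[R] S ⊗[R] M) := by
  let D := R ⧸ p
  let E := D ⊗[R] S
  let eE : (S ⧸ p.map (algebraMap R S)) ≃ₐ[D] E :=
    Algebra.TensorProduct.quotIdealMapEquivQuotTensor S p
  have : IsDomain E := MulEquiv.isDomain (S ⧸ p.map (algebraMap R S)) eE.symm.toMulEquiv
  have hN : ∀ (d : D) (x : M), d ≠ 0 → d • x = 0 → x = 0 := by
    intro d x hd hx
    obtain ⟨s, rfl⟩ := Ideal.Quotient.mk_surjective d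
    have hs : s ∉ p := fun h => hd (Ideal.Quotient.eq_zero_iff_mem.2 h)
    apply hi s hs x
    rw [← hx, ← algebraMap_smul (R ⧸ p) s x]
    rfl
  have ht' : ((1 : D) ⊗ₜ[R] t : E) ≠ 0 := by
    intro h0
    apply ht
    have : eE (Ideal.Quotient.mk _ t) = 0 := by
      rw [← h0]; rfl
    rw [← Ideal.Quotient.eq_zero_iff_mem]
    exact eE.injective (by rw [this, map_zero])
  have hbase := base_inj (D := D) (E := E) (N := M) hN _ ht'
  -- the comparison isomorphism
  let e : S ⊗[R] M ≃ₗ[R] E ⊗[D] M :=
    (TensorProduct.comm R S M) ≪≫ₗ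
      ((TensorProduct.AlgebraTensorModule.cancelBaseChange R D D M S).symm.restrictScalars R) ≪≫ₗ
      ((TensorProduct.comm D M E).restrictScalars R)
  have he : ∀ (s : S) (m : M), e (s ⊗ₜ m) = ((1 : D) ⊗ₜ[R] s) ⊗ₜ[D] m := fun s m => rfl
  have hcomm : ∀ z, e ((LinearMap.mulLeft R t).rTensor M z) =
      (LinearMap.mulLeft D ((1 : D) ⊗ₜ[R] t : E)).rTensor M (e z) := by
    intro z
    induction z using TensorProduct.induction_on with
    | zero => simp
    | tmul s m =>
      rw [LinearMap.rTensor_tmul, he, he, LinearMap.rTensor_tmul]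
      simp [LinearMap.mulLeft_apply, Algebra.TensorProduct.tmul_mul_tmul]
    | add a b ha hb => simp only [map_add, ha, hb]
  rw [injective_iff_map_eq_zero]
  intro z hz
  have := hcomm z
  rw [hz, map_zero] at this
  have h2 := hbase (a₁ := e z) (a₂ := 0) (by rw [← this, map_zero])
  exact e.injective (by rw [h2, map_zero])

/-- Induction: modules killed by `p ^ n` on which elements outside `p` act injectively. -/
theorem inj_of_pow {R S : Type u} [CommRing R] [CommRing S] [Algebra R S] [Module.Flat R S]
    (p : Ideal R) [p.IsPrime] [(p.map (algebraMap R S)).IsPrime] (t : S)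
    (ht : t ∉ p.map (algebraMap R S)) (n : ℕ) :
    ∀ (M : Type u) [AddCommGroup M] [Module R M],
      (∀ a ∈ p ^ n, ∀ m : M, a • m = 0) → (∀ s : R, s ∉ p → ∀ m : M, s • m = 0 → m = 0) →
      Function.Injective ((LinearMap.mulLeft R t).rTensor M : S ⊗[R] M →ₗ[R] S ⊗[R] M) := by
  induction n with
  | zero =>
    intro M _ _ hp _
    have hM : ∀ m : M, m = 0 := fun m => by
      have := hp 1 (by simp) m
      simpa using this
    have hz : ∀ z : S ⊗[R] M, z = 0 := by
      intro z
      induction z using TensorProduct.induction_on with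
      | zero => rfl
      | tmul s m => rw [hM m, TensorProduct.tmul_zero]
      | add a b ha hb => rw [ha, hb, add_zero]
    intro a b _
    rw [hz a, hz b]
  | succ n ih =>
    intro M _ _ hp hi
    let M' : Submodule R M := Submodule.torsionBySet R M (p : Set R)
    have hM' : Module.IsTorsionBySet R M' (p : Set R) := Submodule.torsionBySet_isTorsionBySet _
    have hmem : ∀ m : M, m ∈ M' ↔ ∀ a ∈ p, a • m = 0 := by
      intro m
      rw [Submodule.mem_torsionBySet_iff]
      exact ⟨fun h a ha => h ⟨a, ha⟩, fun h a => h a.1 a.2⟩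
    -- the submodule
    have h1 : Function.Injective ((LinearMap.mulLeft R t).rTensor M' :
        S ⊗[R] M' →ₗ[R] S ⊗[R] M') := by
      let _ : Module (R ⧸ p) M' := hM'.module
      have : IsScalarTower R (R ⧸ p) M' := hM'.isScalarTower
      apply inj_of_quotient_module p _ t ht
      intro s hs m hm
      apply Subtype.ext
      apply hi s hs m.1
      rw [← Submodule.coe_smul, hm]
      rfl
    -- the quotient
    have h2 : Function.Injective ((LinearMap.mulLeft R t).rTensor (M ⧸ M') :
        S ⊗[R] (M ⧸ M') →ₗ[R] S ⊗[R] (M ⧸ M')) := by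
      apply ih (M ⧸ M')
      · intro a ha x
        obtain ⟨m, rfl⟩ := Submodule.Quotient.mk_surjective _ x
        rw [← Submodule.Quotient.mk_smul, Submodule.Quotient.mk_eq_zero, hmem]
        intro b hb
        rw [smul_smul]
        apply hp
        rw [pow_succ']
        exact Ideal.mul_mem_mul hb ha
      · intro s hs x hx
        obtain ⟨m, rfl⟩ := Submodule.Quotient.mk_surjective _ x
        rw [← Submodule.Quotient.mk_smul, Submodule.Quotient.mk_eq_zero, hmem] at hx
        rw [Submodule.Quotient.mk_eq_zero, hmem]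
        intro b hb
        apply hi s hs
        rw [smul_smul, mul_comm, ← smul_smul]
        exact hx b hb
    have hex : Function.Exact (M'.subtype.lTensor S) (M'.mkQ.lTensor S) :=
      lTensor_exact S (LinearMap.exact_subtype_mkQ M') (Submodule.mkQ_surjective M')
    have hinj : Function.Injective (M'.subtype.lTensor S) :=
      Module.Flat.lTensor_preserves_injective_linearMap _ (Submodule.subtype_injective M')
    have hc1 : ∀ z, (M'.mkQ.lTensor S) ((LinearMap.mulLeft R t).rTensor M z) =
        (LinearMap.mulLeft R t).rTensor (M ⧸ M') ((M'.mkQ.lTensor S) z) := by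
      intro z
      rw [← LinearMap.comp_apply, ← LinearMap.comp_apply, LinearMap.lTensor_comp_rTensor,
        LinearMap.rTensor_comp_lTensor]
    have hc2 : ∀ z, (M'.subtype.lTensor S) ((LinearMap.mulLeft R t).rTensor M' z) =
        (LinearMap.mulLeft R t).rTensor M ((M'.subtype.lTensor S) z) := by
      intro z
      rw [← LinearMap.comp_apply, ← LinearMap.comp_apply, LinearMap.lTensor_comp_rTensor,
        LinearMap.rTensor_comp_lTensor]
    rw [injective_iff_map_eq_zero]
    intro z hz
    have hz2 : (M'.mkQ.lTensor S) z = 0 := by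
      apply (injective_iff_map_eq_zero _).1 h2
      rw [← hc1, hz, map_zero]
    obtain ⟨z', rfl⟩ := (hex z).1 hz2
    have hz' : z' = 0 := by
      apply (injective_iff_map_eq_zero _).1 h1
      apply hinj
      rw [hc2, hz, map_zero]
    rw [hz', map_zero]

/-- Elements outside `q = pS` are nonzerodivisors modulo the extension of the symbolic power. -/
theorem mem_of_mul_mem {R S : Type u} [CommRing R] [CommRing S] [Algebra R S] [Module.Flat R S]
    (p : Ideal R) [p.IsPrime] [(p.map (algebraMap R S)).IsPrime] (n : ℕ) (t y : S)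
    (ht : t ∉ p.map (algebraMap R S))
    (hy : t * y ∈ (((p ^ n).map (algebraMap R (Localization.AtPrime p))).comap
      (algebraMap R (Localization.AtPrime p))).map (algebraMap R S)) :
    y ∈ (((p ^ n).map (algebraMap R (Localization.AtPrime p))).comap
      (algebraMap R (Localization.AtPrime p))).map (algebraMap R S) := by
  set I : Ideal R := ((p ^ n).map (algebraMap R (Localization.AtPrime p))).comap
      (algebraMap R (Localization.AtPrime p)) with hI
  have hinj := inj_of_pow p t ht n (R ⧸ I) (by
      intro a ha x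
      obtain ⟨r, rfl⟩ := Ideal.Quotient.mk_surjective x
      rw [← Ideal.Quotient.mk_eq_mk, ← Submodule.Quotient.mk_smul, Submodule.Quotient.mk_eq_zero]
      exact I.mul_mem_right _ (Ideal.le_comap_map ha)) (by
      intro s hs x hx
      obtain ⟨r, rfl⟩ := Ideal.Quotient.mk_surjective x
      rw [← Ideal.Quotient.mk_eq_mk, ← Submodule.Quotient.mk_smul, Submodule.Quotient.mk_eq_zero,
        hI, Ideal.mem_comap, smul_eq_mul, map_mul] at hx
      rw [Ideal.Quotient.eq_zero_iff_mem, hI, Ideal.mem_comap]
      have hu : IsUnit (algebraMap R (Localization.AtPrime p) s) :=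
        IsLocalization.map_units (Localization.AtPrime p) (⟨s, hs⟩ : p.primeCompl)
      exact (Ideal.unit_mul_mem_iff_mem _ hu).1 hx)
  let e := Algebra.TensorProduct.quotIdealMapEquivTensorQuot S I
  have h1 : e (Ideal.Quotient.mk _ (t * y)) = 0 := by
    rw [Ideal.Quotient.eq_zero_iff_mem.2 hy, map_zero]
  have h2 : e (Ideal.Quotient.mk _ (t * y)) =
      (LinearMap.mulLeft R t).rTensor (R ⧸ I) (e (Ideal.Quotient.mk _ y)) := by
    simp only [e, Algebra.TensorProduct.quotIdealMapEquivTensorQuot_mk, LinearMap.rTensor_tmul,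
      LinearMap.mulLeft_apply]
  rw [h2] at h1
  have h3 := (injective_iff_map_eq_zero _).1 hinj _ h1
  rw [← Ideal.Quotient.eq_zero_iff_mem]
  exact e.injective (by rw [h3, map_zero])

/-- The contraction of `pS` is `p` (flatness, `pS` prime). -/
theorem algebraMap_notMem {R S : Type u} [CommRing R] [CommRing S] [Algebra R S] [Module.Flat R S]
    (p : Ideal R) [p.IsPrime] [(p.map (algebraMap R S)).IsPrime] (s : R) (hs : s ∉ p) :
    algebraMap R S s ∉ p.map (algebraMap R S) := by
  intro hmem
  let D := R ⧸ p
  let eE : (S ⧸ p.map (algebraMap R S)) ≃ₐ[D] D ⊗[R] S :=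
    Algebra.TensorProduct.quotIdealMapEquivQuotTensor S p
  have hreg : IsSMulRegular (D ⊗[R] S) (Ideal.Quotient.mk p s) := by
    have hnz : Ideal.Quotient.mk p s ∈ nonZeroDivisors D := by
      apply mem_nonZeroDivisors_of_ne_zero
      intro h
      exact hs (Ideal.Quotient.eq_zero_iff_mem.1 h)
    exact Module.Flat.isSMulRegular_of_nonZeroDivisors (R := D) (M := D ⊗[R] S) hnz
  have h1 : eE (Ideal.Quotient.mk _ (algebraMap R S s)) = 0 := by
    rw [Ideal.Quotient.eq_zero_iff_mem.2 hmem, map_zero]
  have h2 : eE (Ideal.Quotient.mk _ (algebraMap R S s)) =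
      (Ideal.Quotient.mk p s) • ((1 : D) ⊗ₜ[R] (1 : S)) := by
    change (1 : D) ⊗ₜ[R] (algebraMap R S s) = _
    rw [TensorProduct.smul_tmul', Algebra.algebraMap_eq_smul_one, ← TensorProduct.smul_tmul]
    congr 1
  rw [h2] at h1
  have h3 : ((1 : D) ⊗ₜ[R] (1 : S)) = 0 := hreg (by simp only [h1, smul_zero])
  have h4 : eE (Ideal.Quotient.mk _ 1) = 0 := h3
  have h5 : (Ideal.Quotient.mk (p.map (algebraMap R S)) 1) = 0 :=
    eE.injective (by rw [h4, map_zero])
  rw [Ideal.Quotient.eq_zero_iff_mem] at h5
  exact (Ideal.IsPrime.ne_top inferInstance) ((Ideal.eq_top_iff_one _).2 h5)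

theorem main {R S : Type u} [CommRing R] [CommRing S] [Algebra R S] [Module.Flat R S]
    (p : Ideal R) [p.IsPrime] [(p.map (algebraMap R S)).IsPrime] (n : ℕ) :
    (((p ^ n).map (algebraMap R (Localization.AtPrime p))).comap (algebraMap R (Localization.AtPrime p))).map
        (algebraMap R S) =
      (((p.map (algebraMap R S)) ^ n).map (algebraMap S (Localization.AtPrime (p.map (algebraMap R S))))).comap
        (algebraMap S (Localization.AtPrime (p.map (algebraMap R S)))) := by
  apply le_antisymm
  · rw [Ideal.map_le_iff_le_comap]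
    intro x hx
    rw [Ideal.mem_comap, IsLocalization.algebraMap_mem_map_algebraMap_iff p.primeCompl] at hx
    obtain ⟨s, hs, hsx⟩ := hx
    rw [Ideal.mem_comap, Ideal.mem_comap,
      IsLocalization.algebraMap_mem_map_algebraMap_iff (p.map (algebraMap R S)).primeCompl]
    refine ⟨algebraMap R S s, algebraMap_notMem p s hs, ?_⟩
    rw [← map_mul, ← Ideal.map_pow]
    exact Ideal.mem_map_of_mem _ hsx
  · intro y hy
    rw [Ideal.mem_comap,
      IsLocalization.algebraMap_mem_map_algebraMap_iff (p.map (algebraMap R S)).primeCompl] at hy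
    obtain ⟨t, ht, hty⟩ := hy
    apply mem_of_mul_mem p n t y ht
    rw [← Ideal.map_pow] at hty
    exact Ideal.map_mono Ideal.le_comap_map hty

end Groth.Agent.Lib.Helper17.SymbFlat
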