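import Mathlib
import Groth.Agent.Lib.Helper20.SyzygyFree
import Groth.Agent.Lib.Helper9.KerLF2
import Groth.Agent.Lib.Helper29.RegDim1
import Groth.Agent.Lib.Helper12.Dev2
import Groth.Agent.Lib.Lead.SD.LowVanish

/-!
# Syzygies on regular schemes are locally free
-/

set_option autoImplicit false

universe u

open CategoryTheory CategoryTheory.Limits AlgebraicGeometry TopologicalSpace Opposite

namespace Groth.Agent.Lib.Helper17.SyzygyLF

open Groth.Agent.Lib.Helper29.QCoh

variable {X : Scheme.{u}}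

section Gen

variable {m : ℕ} (S : ComposableArrows X.Modules (m + 1))

/-- the map between two terms of a sequence -/
abbrev mp {a b : Fin (m + 2)} (h : a ≤ b) : S.obj a ⟶ S.obj b := S.map (homOfLE h)

lemma mono_mp (hmono : Mono (S.map' 0 1 (Nat.zero_le 1) (Nat.le_add_left 1 m)))
    {a b : Fin (m + 2)} (h : a ≤ b) (ha : a.1 = 0) (hb : b.1 = 1) : Mono (mp S h) := by
  obtain ⟨a, ha'⟩ := a
  obtain ⟨b, hb'⟩ := b
  dsimp only at ha hb
  subst ha hb
  exact hmono

lemma epi_mp (hepi : Epi (S.map' m (m + 1) (Nat.le_succ m) (le_refl (m + 1))))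
    {a b : Fin (m + 2)} (h : a ≤ b) (ha : a.1 = m) (hb : b.1 = m + 1) : Epi (mp S h) := by
  obtain ⟨a, ha'⟩ := a
  obtain ⟨b, hb'⟩ := b
  dsimp only at ha hb
  subst ha hb
  exact hepi

lemma mp_comp_zero (hS : S.Exact) {a b c : Fin (m + 2)} (hab : a ≤ b) (hbc : b ≤ c)
    (hb : b.1 = a.1 + 1) (hc : c.1 = a.1 + 2) : mp S hab ≫ mp S hbc = 0 := by
  obtain ⟨i, hi⟩ := a
  obtain ⟨b, hb'⟩ := b
  obtain ⟨c, hc'⟩ := c
  dsimp only at hb hc
  subst hb hc
  exact hS.toIsComplex.zero i (by omega)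

lemma exact_mp (hS : S.Exact) {a b c : Fin (m + 2)} (hab : a ≤ b) (hbc : b ≤ c)
    (hb : b.1 = a.1 + 1) (hc : c.1 = a.1 + 2) :
    (ShortComplex.mk (mp S hab) (mp S hbc) (mp_comp_zero S hS hab hbc hb hc)).Exact := by
  obtain ⟨i, hi⟩ := a
  obtain ⟨b, hb'⟩ := b
  obtain ⟨c, hc'⟩ := c
  dsimp only at hb hc
  subst hb hc
  exact hS.exact i (by omega)

end Gen


section Main

open Groth.Agent.Lib.Lead.SD in
theorem main [IsNoetherian X]
    (hreg : ∀ x : X, IsRegularLocalRing (X.presheaf.stalk x)) (m : ℕ)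
    (hdim : topologicalKrullDim ↥X ≤ (m : WithBot ℕ∞))
    (S : ComposableArrows X.Modules (m + 1)) (hS : S.Exact)
    (hmono : Mono (S.map' 0 1 (Nat.zero_le 1) (Nat.le_add_left 1 m)))
    (hepi : Epi (S.map' m (m + 1) (Nat.le_succ m) (le_refl (m + 1))))
    (hE : ∀ i : Fin m, FlatMod.IsFinLocFree
      (S.obj ⟨i.1 + 1, Nat.succ_lt_succ (Nat.lt_succ_of_lt i.2)⟩))
    (hF : Coh.IsCoh (S.obj (Fin.last (m + 1)))) :
    FlatMod.IsFinLocFree (S.obj 0) := by
  haveI : IsLocallyNoetherian X := inferInstance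
  let c : ℕ → Fin (m + 2) := fun i => ⟨min i (m + 1), by omega⟩
  have hc : ∀ i, c i ≤ c (i + 1) := fun i => by
    show min i (m + 1) ≤ min (i + 1) (m + 1)
    omega
  have hcv : ∀ i, i ≤ m + 1 → (c i).1 = i := fun i hi => by
    show min i (m + 1) = i
    omega
  have hEc : ∀ i, 1 ≤ i → i ≤ m → FlatMod.IsFinLocFree (S.obj (c i)) := by
    intro i h1 hm
    have h := hE ⟨i - 1, by omega⟩
    have e : c i = ⟨i - 1 + 1, by omega⟩ := Fin.ext (by rw [hcv i (by omega)]; dsimp only; omega)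
    rw [e]
    exact h
  have hcoh : ∀ i, 1 ≤ i → i ≤ m + 1 → Coh.IsCoh (S.obj (c i)) := by
    intro i h1 hm
    rcases Nat.lt_or_ge i (m + 1) with h | h
    · exact isCoh_of_isFinLocFree (hEc i h1 (by omega))
    · have e : c i = Fin.last (m + 1) := Fin.ext (by rw [hcv i hm]; simp; omega)
      rw [e]
      exact hF
  have e0 : c 0 = 0 := Fin.ext (by rw [hcv 0 (by omega)]; rfl)
  haveI hm0 : Mono (mp S (hc 0)) :=
    mono_mp S hmono (hc 0) (hcv 0 (by omega)) (hcv 1 (by omega))
  have hG : Coh.IsCoh (S.obj (c 0)) := by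
    rcases Nat.eq_zero_or_pos m with h0 | hpos
    · haveI : Epi (mp S (hc 0)) := epi_mp S hepi (hc 0)
        (by rw [hcv 0 (by omega)]; omega) (by rw [hcv 1 (by omega)]; omega)
      haveI : IsIso (mp S (hc 0)) := isIso_of_mono_of_epi _
      exact Groth.Agent.Lib.Helper12.H12Dev.isCoh_of_iso (asIso (mp S (hc 0))).symm
        (hcoh 1 le_rfl (by omega))
    · have hex := exact_mp S hS (hc 0) (hc 1)
        (by rw [hcv 0 (by omega), hcv 1 (by omega)])
        (by rw [hcv 0 (by omega), hcv 2 (by omega)])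
      haveI : Mono (ShortComplex.mk (mp S (hc 0)) (mp S (hc 1))
        (mp_comp_zero S hS (hc 0) (hc 1) (by rw [hcv 0 (by omega), hcv 1 (by omega)])
          (by rw [hcv 0 (by omega), hcv 2 (by omega)]))).f := hm0
      have hk := hex.fIsKernel
      let e : S.obj (c 0) ≅ kernel (mp S (hc 1)) :=
        IsLimit.conePointUniqueUpToIso hk (limit.isLimit (parallelPair (mp S (hc 1)) 0))
      exact Groth.Agent.Lib.Helper12.H12Dev.isCoh_of_iso e.symm
        (Groth.Agent.Lib.Helper12.H12Dev.isCoh_kernel _ (hcoh 1 le_rfl (by omega))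
          (hcoh 2 (by omega) (by omega)))
  suffices h : FlatMod.IsFinLocFree (S.obj (c 0)) by rwa [e0] at h
  rw [isFinLocFree_iff_free_stalks]
  refine ⟨isFinitePresentation_of_isCoh _ hG, fun x => ?_⟩
  haveI := hreg x
  let M : ℕ → Type u := fun i => ((S.obj (c i)).presheaf.stalk x : Type u)
  let δ : ∀ i, M i →ₗ[X.presheaf.stalk x] M (i + 1) := fun i => stalkMapₗ (mp S (hc i)) x
  obtain ⟨n, hn⟩ := Groth.Agent.Lib.Helper21.exists_nat_eq_ringKrullDim
    (R := X.presheaf.stalk x)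
  have hnm : n ≤ m := by
    have := (ringKrullDim_stalk_le_topologicalKrullDim X x).trans hdim
    rw [hn] at this
    exact_mod_cast this
  haveI : Module.Finite (X.presheaf.stalk x) (M 0) :=
    Groth.Agent.Lib.Helper9.RefStalk.finite_stalk_of_isCoh _ hG x
  have hinj : Function.Injective (δ 0) :=
    (mono_iff_stalkMap_injective (mp S (hc 0))).mp hm0 x
  have hex : ∀ i, i + 1 < m → LinearMap.range (δ i) = LinearMap.ker (δ (i + 1)) := by
    intro i hi
    have h1 := exact_mp S hS (hc i) (hc (i + 1))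
      (by rw [hcv i (by omega), hcv (i + 1) (by omega)])
      (by rw [hcv i (by omega), hcv (i + 2) (by omega)])
    have h2 := (exact_iff_stalk_function_exact _).mp h1 x
    have h3 : Function.Exact (δ i) (δ (i + 1)) := h2
    exact (LinearMap.exact_iff.mp h3).symm
  have hproj : Module.Projective (X.presheaf.stalk x) (M 0) :=
    Groth.Agent.Lib.Helper20.SyzygyFree.projective_of_syzygy (X.presheaf.stalk x) m M
      (fun i h1 hm => ⟨by
          haveI := free_stalk_of_isFinLocFree (hEc i h1 hm) x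
          infer_instance,
        Groth.Agent.Lib.Helper9.RefStalk.finite_stalk_of_isCoh _ (hcoh i h1 (by omega)) x⟩)
      δ hinj hex n hn hnm
  exact Module.free_of_flat_of_isLocalRing

end Main

end Groth.Agent.Lib.Helper17.SyzygyLF
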