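import Groth.Agent.Lib.Helper17.RL10

/-!
# The map `H0 : Hom_D(S_0 X, K) → Hom_A(X, H^0 K)`
-/

set_option autoImplicit false
universe w' w v u

open CategoryTheory Limits Opposite Pretriangulated

namespace Groth.Agent.Lib.Helper17.TD1

open Groth.Agent.Lib.Helper17.RL4 Groth.Agent.Lib.Helper17.RL5 Groth.Agent.Lib.Helper17.RL8
open Groth.Agent.Lib.Helper17.RL9

section

variable {A : Type u} [Category.{v} A] [Abelian A] [HasDerivedCategory.{w} A]

open DerivedCategory DerivedCategory.TStructure

/-- the comparison map without shift. -/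
noncomputable def H0 (X : A) (K : DerivedCategory A) (x : (singleFunctor A 0).obj X ⟶ K) :
    X ⟶ (homologyFunctor A 0).obj K :=
  (i0 X).inv ≫ (homologyFunctor A 0).map x

lemma H0_naturality (X : A) {K K' : DerivedCategory A} (φ : K ⟶ K')
    (x : (singleFunctor A 0).obj X ⟶ K) :
    H0 X K' (x ≫ φ) = H0 X K x ≫ (homologyFunctor A 0).map φ := by
  simp only [H0, Functor.map_comp, Category.assoc]

lemma H0_bijective_of_θ (X : A) (K : DerivedCategory A) (h : Function.Bijective (θ X 0 K)) :
    Function.Bijective (H0 X K) := by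
  let sZ := (shiftFunctorZero (DerivedCategory A) ℤ).app K
  let c : (homologyFunctor A 0).obj K ≅ (homologyFunctor A 0).obj K :=
    (ψ 0 K).symm ≪≫ (homologyFunctor A 0).mapIso sZ
  have hsq : (H0 X K) ∘ (fun x : (singleFunctor A 0).obj X ⟶ K⟦(0 : ℤ)⟧ => x ≫ sZ.hom) =
      (fun y : X ⟶ (homologyFunctor A 0).obj K => y ≫ c.hom) ∘ (θ X 0 K) := by
    ext x
    simp only [Function.comp_apply, θ_apply, c, H0, Iso.trans_hom, Iso.symm_hom,
      Functor.mapIso_hom, Functor.map_comp, Category.assoc, Iso.hom_inv_id_assoc]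
  have h1 : Function.Bijective ((H0 X K) ∘
      (fun x : (singleFunctor A 0).obj X ⟶ K⟦(0 : ℤ)⟧ => x ≫ sZ.hom)) := by
    rw [hsq]
    exact (rightComp_iso_bijective _).comp h
  exact (Function.Bijective.of_comp_iff _ (rightComp_iso_bijective sZ.hom)).1 h1

end

section

variable {A : Type (u + 1)} [Category.{u} A] [Abelian A] [HasDerivedCategory.{w} A] [HasExt.{w'} A]

open DerivedCategory DerivedCategory.TStructure

/-- `H0` is bijective when `K` is the derived limit of its truncations and the cohomology objects of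
`K` are `Ext(X, -)`-acyclic. -/
theorem H0_bijective (K : DerivedCategory A) [HasProduct (CohCx.truncTower K)]
    (hR : CohCx.IsRlimVia (CohCx.truncTower K) (CohCx.truncTowerMap K) K (CohCx.toTruncTower K))
    (X : A) (hv : VanishAbove.{w'} K X 0) : Function.Bijective (H0 X K) :=
  H0_bijective_of_θ X K (θ_zero_bijective.{w'} K hR X hv)

end

end Groth.Agent.Lib.Helper17.TD1
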