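import Groth.Agent.Lib.Helper17.TD1
import Groth.Agent.Lib.Helper17.SG2
import Groth.Agent.Lib.Helper17.DProdW

/-!
# `Hom_{D(R)}(R, N) = H^0(N)` for a ring `R`
-/

set_option autoImplicit false
universe w' w u

open CategoryTheory Limits Opposite Pretriangulated

namespace Groth.Agent.Lib.Helper17.TD2

open Groth.Agent.Lib.Helper17.SG1 Groth.Agent.Lib.Helper17.SG2 Groth.Agent.Lib.Helper17.RL5
open Groth.Agent.Lib.Helper17.TD1

variable (R : Type u) [CommRing R]

/-- the one-point site. -/
abbrev Pt : Type u := Discrete PUnit.{u + 1}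

/-- `R` as a module over itself. -/
abbrev RR : ModuleCat.{u} R := ModuleCat.of R R

instance : Projective (RR R) :=
  (IsProjective.iff_projective (R := R) R).1 inferInstance

/-- `R` generates `ModuleCat R`: site generators on the one-point site. -/
noncomputable def ptGens : SiteGens (⊥ : GrothendieckTopology (Pt.{u})) (ModuleCat.{u} R) where
  G _ := RR R
  Gm _ := 𝟙 _
  Gm_comp _ _ := (Category.id_comp _).symm
  lift := by
    intro F F' π _ U σ
    refine ⟨⊤, GrothendieckTopology.top_mem _ _, fun Y g _ => ⟨Projective.factorThru σ π, ?_⟩⟩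
    rw [Projective.factorThru_comp, Category.id_comp]
  sep := by
    intro F U σ S hS h
    have hS' : S = ⊤ := GrothendieckTopology.bot_covering.1 hS
    have := h (𝟙 U) (by rw [hS']; trivial)
    rwa [Category.id_comp] at this
  gen := by
    intro F F' f h
    ext x
    have := h ⟨PUnit.unit⟩ (ModuleCat.ofHom (LinearMap.toSpanSingleton R F x))
    have h2 := congrArg (fun g => g.hom (1 : R)) this
    simpa using h2

lemma vanishAbove_RR [HasDerivedCategory.{w} (ModuleCat.{u} R)] [HasExt.{w'} (ModuleCat.{u} R)]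
    (N : DerivedCategory (ModuleCat.{u} R)) : VanishAbove.{w'} N (RR R) 0 := by
  intro m k hk
  have hk0 : 0 < k := by simpa using hk
  obtain ⟨k', rfl⟩ : ∃ k', k = k' + 1 := ⟨k - 1, by omega⟩
  exact ⟨fun x y => (Abelian.Ext.eq_zero_of_projective x).trans
    (Abelian.Ext.eq_zero_of_projective y).symm⟩

/-- every object of `D(R)` is the derived limit of its truncations. -/
theorem isRlimVia_truncTower_moduleCat [HasDerivedCategory.{w} (ModuleCat.{u} R)]
    (N : DerivedCategory (ModuleCat.{u} R)) [HasProduct (CohCx.truncTower N)] :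
    CohCx.IsRlimVia (CohCx.truncTower N) (CohCx.truncTowerMap N) N (CohCx.toTruncTower N) := by
  haveI : HasExt.{u} (ModuleCat.{u} R) := hasExt_of_enoughProjectives.{u} _
  apply isRlimVia_truncTower_gens.{u, w, u} (ptGens R) N Set.univ
  · intro U
    refine ⟨PUnit, fun _ => U, fun _ => 𝟙 U, ?_, fun _ => Set.mem_univ _⟩
    rw [GrothendieckTopology.bot_covering, ← Sieve.id_mem_iff_eq_top]
    exact ⟨U, 𝟙 U, 𝟙 U, Presieve.ofArrows.mk PUnit.unit, Category.id_comp _⟩
  · intro V _
    refine ⟨0, fun T hT => ⟨PUnit, fun _ => V, fun _ => 𝟙 V, fun _ => ?_, ?_,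
      fun _ => vanishAbove_RR.{u} R N⟩⟩
    · rw [GrothendieckTopology.bot_covering.1 hT]
      trivial
    · rw [GrothendieckTopology.bot_covering, ← Sieve.id_mem_iff_eq_top]
      exact ⟨V, 𝟙 V, 𝟙 V, Presieve.ofArrows.mk PUnit.unit, Category.id_comp _⟩

/-- **`Hom_{D(R)}(R, N) = H^0(N)`.** -/
theorem H0_bijective_moduleCat [HasDerivedCategory.{w} (ModuleCat.{u} R)]
    (N : DerivedCategory (ModuleCat.{u} R)) : Function.Bijective (H0 (RR R) N) := by
  haveI : HasExt.{u} (ModuleCat.{u} R) := hasExt_of_enoughProjectives.{u} _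
  haveI : HasProducts.{u} (DerivedCategory (ModuleCat.{u} R)) :=
    Groth.Agent.Lib.Helper17.DProdW.derivedCategory_hasProducts
  haveI := hasProductsOfShape_of_small.{u} (DerivedCategory (ModuleCat.{u} R)) ℕ
  exact H0_bijective.{u} N (isRlimVia_truncTower_moduleCat R N) (RR R) (vanishAbove_RR.{u} R N)

end Groth.Agent.Lib.Helper17.TD2
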