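/-
helper17: transfinite Mittag-Leffler for inverse systems of acyclic complexes of abelian groups
indexed by a well-ordered type.
-/
import Mathlib

universe w

open CategoryTheory CategoryTheory.Limits Opposite

namespace Groth.Agent.Lib.Helper17.TML

variable {I : Type w} [LinearOrder I]
  (K : Iᵒᵖ ⥤ CochainComplex AddCommGrpCat.{w} ℤ)

/-- the group in position `β`, degree `m` -/
abbrev G (β : I) (m : ℤ) : Type w := ((K.obj (op β)).X m : Type w)

/-- the differential -/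
abbrev dd (β : I) (m m' : ℤ) : G K β m →+ G K β m' := ((K.obj (op β)).d m m').hom

/-- the restriction maps -/
abbrev rr {γ β : I} (h : γ ≤ β) (m : ℤ) : G K β m →+ G K γ m :=
  ((K.map (homOfLE h).op).f m).hom

lemma rr_rr {δ γ β : I} (h₁ : δ ≤ γ) (h₂ : γ ≤ β) (m : ℤ) (x : G K β m) :
    rr K h₁ m (rr K h₂ m x) = rr K (h₁.trans h₂) m x := by
  have h : K.map (homOfLE h₂).op ≫ K.map (homOfLE h₁).op = K.map (homOfLE (h₁.trans h₂)).op := by
    rw [← K.map_comp, ← op_comp, homOfLE_comp]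
  have := congrArg (fun φ : K.obj (op β) ⟶ K.obj (op δ) => (φ.f m).hom x) h
  simp only [HomologicalComplex.comp_f, AddCommGrpCat.hom_comp, AddMonoidHom.comp_apply] at this
  exact this

lemma rr_refl {β : I} (m : ℤ) (x : G K β m) : rr K (le_refl β) m x = x := by
  have h0 : homOfLE (le_refl β) = 𝟙 β := Subsingleton.elim _ _
  have h : K.map (homOfLE (le_refl β)).op = 𝟙 _ := by
    rw [h0, op_id, K.map_id]
  have := congrArg (fun φ : K.obj (op β) ⟶ K.obj (op β) => (φ.f m).hom x) h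
  simp only [HomologicalComplex.id_f, AddCommGrpCat.hom_id, AddMonoidHom.id_apply] at this
  exact this

lemma dd_rr {γ β : I} (h : γ ≤ β) (m m' : ℤ) (x : G K β m) :
    dd K γ m m' (rr K h m x) = rr K h m' (dd K β m m' x) := by
  have := congrArg (fun φ => AddCommGrpCat.Hom.hom φ x) ((K.map (homOfLE h).op).comm m m')
  simp only [AddCommGrpCat.hom_comp, AddMonoidHom.comp_apply] at this
  exact this

lemma dd_dd (β : I) (m m' m'' : ℤ) (x : G K β m) : dd K β m' m'' (dd K β m m' x) = 0 := by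
  have := congrArg (fun φ => AddCommGrpCat.Hom.hom φ x) ((K.obj (op β)).d_comp_d m m' m'')
  simp only [AddCommGrpCat.hom_comp, AddMonoidHom.comp_apply, AddCommGrpCat.hom_zero,
    AddMonoidHom.zero_apply] at this
  exact this

lemma exists_of_exactAt (β : I) (n₀ n₁ n₂ : ℤ) (h01 : n₀ + 1 = n₁) (h12 : n₁ + 1 = n₂)
    (hac : (K.obj (op β)).ExactAt n₁) (x : G K β n₁) (hx : dd K β n₁ n₂ x = 0) :
    ∃ y : G K β n₀, dd K β n₀ n₁ y = x := by
  rw [HomologicalComplex.exactAt_iff' _ n₀ n₁ n₂ (by simp; lia) (by simp; lia),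
    ShortComplex.ab_exact_iff] at hac
  exact hac x hx

/-- compatible families over a set `S` in degree `m` -/
structure Fam (S : Set I) (m : ℤ) where
  val : ∀ γ, γ ∈ S → G K γ m
  compat : ∀ (γ γ' : I) (h : γ ≤ γ') (hγ' : γ' ∈ S) (hγ : γ ∈ S),
    rr K h m (val γ' hγ') = val γ hγ

/-- the resolution property of `S`: compatible families of cocycles are compatible families of
coboundaries -/
def R (S : Set I) : Prop :=
  ∀ (n₀ n₁ n₂ : ℤ), n₀ + 1 = n₁ → n₁ + 1 = n₂ → ∀ x : Fam K S n₁,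
    (∀ γ hγ, dd K γ n₁ n₂ (x.val γ hγ) = 0) →
    ∃ y : Fam K S n₀, ∀ γ hγ, dd K γ n₀ n₁ (y.val γ hγ) = x.val γ hγ

section

variable (hac : ∀ (β : I) (n : ℤ), (K.obj (op β)).ExactAt n)
  (hsurj : ∀ (β : I) (n : ℤ) (x : ∀ γ : {γ : I // γ < β}, (K.obj (op γ.1)).X n),
      (∀ (γ γ' : {γ : I // γ < β}) (h : γ.1 ≤ γ'.1),
        ((K.map (homOfLE h).op).f n).hom (x γ') = x γ) →
      ∃ y : (K.obj (op β)).X n, ∀ γ : {γ : I // γ < β},
        ((K.map (homOfLE γ.2.le).op).f n).hom y = x γ)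

include hsurj in
lemma exists_lift (β : I) (m : ℤ) (y : Fam K (Set.Iio β) m) :
    ∃ yβ : G K β m, ∀ γ (hγ : γ < β), rr K hγ.le m yβ = y.val γ hγ := by
  obtain ⟨yβ, h⟩ := hsurj β m (fun γ => y.val γ.1 γ.2)
    (fun γ γ' h => y.compat γ.1 γ'.1 h γ'.2 γ.2)
  exact ⟨yβ, fun γ hγ => h ⟨γ, hγ⟩⟩

include hac hsurj in
lemma ext_step (β : I) (hR : R K (Set.Iio β)) (nm n₀ n₁ n₂ : ℤ) (h : nm + 1 = n₀)
    (h01 : n₀ + 1 = n₁) (h12 : n₁ + 1 = n₂) (xβ : G K β n₁) (hx : dd K β n₁ n₂ xβ = 0)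
    (y : Fam K (Set.Iio β) n₀)
    (hy : ∀ γ (hγ : γ < β), dd K γ n₀ n₁ (y.val γ hγ) = rr K hγ.le n₁ xβ) :
    ∃ yβ : G K β n₀, dd K β n₀ n₁ yβ = xβ ∧ ∀ γ (hγ : γ < β), rr K hγ.le n₀ yβ = y.val γ hγ := by
  obtain ⟨y'', hy''⟩ := exists_lift K hsurj β n₀ y
  have hw : dd K β n₁ n₂ (xβ - dd K β n₀ n₁ y'') = 0 := by
    rw [map_sub, hx, dd_dd, sub_zero]
  obtain ⟨z, hz⟩ := exists_of_exactAt K β n₀ n₁ n₂ h01 h12 (hac β n₁) _ hw
  let zfam : Fam K (Set.Iio β) n₀ :=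
    { val := fun γ hγ => rr K (le_of_lt hγ) n₀ z
      compat := fun γ γ' h hγ' hγ => rr_rr K h (le_of_lt hγ') n₀ z }
  have hzc : ∀ γ (hγ : γ ∈ Set.Iio β), dd K γ n₀ n₁ (zfam.val γ hγ) = 0 := by
    intro γ hγ
    change dd K γ n₀ n₁ (rr K (le_of_lt hγ) n₀ z) = 0
    rw [dd_rr, hz, map_sub, ← dd_rr, hy'' γ hγ, hy γ hγ, sub_self]
  obtain ⟨t, ht⟩ := hR nm n₀ n₁ h h01 zfam hzc
  obtain ⟨tβ, htβ⟩ := exists_lift K hsurj β nm t
  refine ⟨y'' + z - dd K β nm n₀ tβ, ?_, ?_⟩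
  · rw [map_sub, map_add, dd_dd, hz, sub_zero, add_sub_cancel]
  · intro γ hγ
    rw [map_sub, map_add, hy'' γ hγ, ← dd_rr, htβ γ hγ, ht γ hγ]
    change y.val γ hγ + rr K (le_of_lt hγ) n₀ z - rr K (le_of_lt hγ) n₀ z = _
    rw [add_sub_cancel_right]

end

section Core

variable [WellFoundedLT I]
  (hac : ∀ (β : I) (n : ℤ), (K.obj (op β)).ExactAt n)
  (hsurj : ∀ (β : I) (n : ℤ) (x : ∀ γ : {γ : I // γ < β}, (K.obj (op γ.1)).X n),
      (∀ (γ γ' : {γ : I // γ < β}) (h : γ.1 ≤ γ'.1),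
        ((K.map (homOfLE h).op).f n).hom (x γ') = x γ) →
      ∃ y : (K.obj (op β)).X n, ∀ γ : {γ : I // γ < β},
        ((K.map (homOfLE γ.2.le).op).f n).hom y = x γ)

/-- the functor of partial solutions -/
def solF (S : Set I) (n₀ n₁ : ℤ) (x : Fam K S n₁) : (↥S)ᵒᵖ ⥤ Type w where
  obj j := {y : G K j.unop.1 n₀ // dd K j.unop.1 n₀ n₁ y = x.val j.unop.1 j.unop.2}
  map {j j'} f := TypeCat.ofHom (fun y =>
    ⟨rr K (show j'.unop.1 ≤ j.unop.1 from leOfHom f.unop) n₀ y.1, by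
      rw [dd_rr, y.2, x.compat]⟩)
  map_id j := by
    ext y
    exact rr_refl K n₀ y.1
  map_comp f g := by
    ext y
    exact (rr_rr K _ _ n₀ y.1).symm

include hac hsurj in
lemma R_of_lowerSet (S : Set I) (hS : IsLowerSet S) (hR : ∀ j ∈ S, R K (Set.Iio j)) : R K S := by
  intro n₀ n₁ n₂ h01 h12 x hx
  by_cases hne : Nonempty ↥S
  swap
  · exact ⟨⟨fun γ hγ => (hne ⟨⟨γ, hγ⟩⟩).elim, fun γ γ' _ hγ' _ => (hne ⟨⟨γ', hγ'⟩⟩).elim⟩,
      fun γ hγ => (hne ⟨⟨γ, hγ⟩⟩).elim⟩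
  letI : SuccOrder ↥S := SuccOrder.ofLinearWellFoundedLT ↥S
  letI : OrderBot ↥S := WellFoundedLT.toOrderBot ↥S
  let F := solF K S n₀ n₁ x
  have key : ∀ (j : ↥S) (y : Fam K (Set.Iio j.1) n₀),
      (∀ γ (hγ : γ < j.1), dd K γ n₀ n₁ (y.val γ hγ) = x.val γ (hS hγ.le j.2)) →
      ∃ yj : F.obj (op j), ∀ γ (hγ : γ < j.1), rr K hγ.le n₀ yj.1 = y.val γ hγ := by
    intro j y hy
    obtain ⟨yβ, h1, h2⟩ := ext_step K hac hsurj j.1 (hR j.1 j.2) (n₀ - 1) n₀ n₁ n₂ (by lia) h01 h12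
      (x.val j.1 j.2) (hx j.1 j.2) y (fun γ hγ => by
        rw [hy γ hγ, x.compat γ j.1 hγ.le j.2 (hS hγ.le j.2)])
    exact ⟨⟨yβ, h1⟩, h2⟩
  have h₁ : ∀ (j : ↥S) (_ : ¬IsMax j),
      Function.Surjective (F.map (homOfLE (Order.le_succ j)).op) := by
    intro j hj y
    have hle : ∀ γ (hγ : γ < (Order.succ j).1), γ ≤ j.1 := fun γ hγ =>
      (Order.lt_succ_iff_of_not_isMax (b := (⟨γ, hS hγ.le (Order.succ j).2⟩ : ↥S)) hj).1 hγ
    obtain ⟨yj, hyj⟩ := key (Order.succ j)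
      { val := fun γ hγ => rr K (hle γ hγ) n₀ y.1
        compat := fun γ γ' h hγ' hγ => rr_rr K h (hle γ' hγ') n₀ y.1 }
      (fun γ hγ => by
        change dd K γ n₀ n₁ (rr K (hle γ hγ) n₀ y.1) = _
        rw [dd_rr, y.2, x.compat])
    refine ⟨yj, Subtype.ext ?_⟩
    have := hyj j.1 (Order.lt_succ_of_not_isMax hj)
    change rr K _ n₀ yj.1 = y.1
    rw [this]
    exact rr_refl K n₀ y.1
  have h₂ : ∀ (j : ↥S) (_ : Order.IsSuccLimit j)
      (s : ((OrderHom.Subtype.val (· ∈ Set.Iio j)).monotone.functor.op ⋙ F).sections),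
      ∃ (y : F.obj (op j)), ∀ (i : ↥S) (hi : i < j),
        F.map (homOfLE hi.le).op y = s.val (op ⟨i, hi⟩) := by
    intro j _ s
    obtain ⟨yj, hyj⟩ := key j
      { val := fun γ hγ => (s.val (op ⟨⟨γ, hS (le_of_lt hγ) j.2⟩, hγ⟩)).1
        compat := fun γ γ' h hγ' hγ => by
          have := s.property (j := op ⟨⟨γ', hS (le_of_lt hγ') j.2⟩, hγ'⟩)
            (j' := op ⟨⟨γ, hS (le_of_lt hγ) j.2⟩, hγ⟩) (homOfLE h).op
          exact congrArg Subtype.val this }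
      (fun γ hγ => (s.val (op ⟨⟨γ, hS (le_of_lt hγ) j.2⟩, hγ⟩)).2)
    exact ⟨yj, fun i hi => Subtype.ext (hyj i.1 hi)⟩
  let d : F.WellOrderInductionData := Functor.WellOrderInductionData.ofExists h₁ h₂
  obtain ⟨val₀, -⟩ := key ⊥
    { val := fun γ hγ => (not_lt_bot (a := (⟨γ, hS (le_of_lt hγ) (⊥ : ↥S).2⟩ : ↥S)) hγ).elim
      compat := fun γ γ' _ hγ' _ =>
        (not_lt_bot (a := (⟨γ', hS (le_of_lt hγ') (⊥ : ↥S).2⟩ : ↥S)) hγ').elim }
    (fun γ hγ => (not_lt_bot (a := (⟨γ, hS (le_of_lt hγ) (⊥ : ↥S).2⟩ : ↥S)) hγ).elim)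
  let sec := d.sectionsMk val₀
  refine ⟨{ val := fun γ hγ => (sec.val (op ⟨γ, hγ⟩)).1
            compat := fun γ γ' h hγ' hγ => ?_ }, fun γ hγ => (sec.val (op ⟨γ, hγ⟩)).2⟩
  have := sec.property (j := op (⟨γ', hγ'⟩ : ↥S)) (j' := op (⟨γ, hγ⟩ : ↥S)) (homOfLE h).op
  exact congrArg Subtype.val this

include hac hsurj in
theorem R_Iio (β : I) : R K (Set.Iio β) := by
  induction β using WellFoundedLT.induction with
  | _ β ih => exact R_of_lowerSet K hac hsurj (Set.Iio β) (isLowerSet_Iio β) (fun j hj => ih j hj)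

include hac hsurj in
theorem R_univ : R K Set.univ :=
  R_of_lowerSet K hac hsurj Set.univ isLowerSet_univ (fun j _ => R_Iio K hac hsurj j)

end Core

section Final

variable [WellFoundedLT I]
  (hac : ∀ (β : I) (n : ℤ), (K.obj (op β)).ExactAt n)
  (hsurj : ∀ (β : I) (n : ℤ) (x : ∀ γ : {γ : I // γ < β}, (K.obj (op γ.1)).X n),
      (∀ (γ γ' : {γ : I // γ < β}) (h : γ.1 ≤ γ'.1),
        ((K.map (homOfLE h).op).f n).hom (x γ') = x γ) →
      ∃ y : (K.obj (op β)).X n, ∀ γ : {γ : I // γ < β},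
        ((K.map (homOfLE γ.2.le).op).f n).hom y = x γ)

/-- the projection from the limit, in degree `m` -/
noncomputable abbrev pp (β : I) (m : ℤ) : ((limit K).X m : Type w) →+ G K β m :=
  ((limit.π K (op β)).f m).hom

lemma rr_pp {γ β : I} (h : γ ≤ β) (m : ℤ) (x : ((limit K).X m : Type w)) :
    rr K h m (pp K β m x) = pp K γ m x := by
  have h0 := limit.w K (homOfLE h).op
  have := congrArg (fun φ : limit K ⟶ K.obj (op γ) => (φ.f m).hom x) h0
  simp only [HomologicalComplex.comp_f, AddCommGrpCat.hom_comp, AddMonoidHom.comp_apply] at this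
  exact this

lemma dd_pp (β : I) (m m' : ℤ) (x : ((limit K).X m : Type w)) :
    dd K β m m' (pp K β m x) = pp K β m' (((limit K).d m m').hom x) := by
  have := congrArg (fun φ => AddCommGrpCat.Hom.hom φ x) ((limit.π K (op β)).comm m m')
  simp only [AddCommGrpCat.hom_comp, AddMonoidHom.comp_apply] at this
  exact this

lemma pp_ext (m : ℤ) (x x' : ((limit K).X m : Type w))
    (h : ∀ β, pp K β m x = pp K β m x') : x = x' := by
  have hD := isLimitOfPreserves (HomologicalComplex.eval AddCommGrpCat.{w} (ComplexShape.up ℤ) m)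
    (limit.isLimit K)
  refine Concrete.isLimit_ext _ hD x x' ?_
  rintro ⟨β⟩
  exact h β

lemma pp_surj (m : ℤ) (y : Fam K Set.univ m) :
    ∃ x : ((limit K).X m : Type w), ∀ β, pp K β m x = y.val β (Set.mem_univ β) := by
  have hD := isLimitOfPreserves (HomologicalComplex.eval AddCommGrpCat.{w} (ComplexShape.up ℤ) m)
    (limit.isLimit K)
  have hT := isLimitOfPreserves (forget AddCommGrpCat.{w}) hD
  let s : ((K ⋙ HomologicalComplex.eval AddCommGrpCat.{w} (ComplexShape.up ℤ) m) ⋙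
      forget AddCommGrpCat.{w}).sections :=
    ⟨fun j => y.val j.unop (Set.mem_univ _), by
      intro j j' f
      exact y.compat j'.unop j.unop (leOfHom f.unop) (Set.mem_univ _) (Set.mem_univ _)⟩
  refine ⟨(Types.isLimitEquivSections hT).symm s, fun β => ?_⟩
  exact Types.isLimitEquivSections_symm_apply hT s (op β)

include hac hsurj in
theorem exactAt_limit (n : ℤ) : (limit K).ExactAt n := by
  rw [HomologicalComplex.exactAt_iff' _ (n - 1) n (n + 1) (by simp) (by simp),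
    ShortComplex.ab_exact_iff]
  intro x hx
  let xfam : Fam K Set.univ n :=
    { val := fun β _ => pp K β n x
      compat := fun γ γ' h _ _ => rr_pp K h n x }
  have hxc : ∀ γ (hγ : γ ∈ Set.univ), dd K γ n (n + 1) (xfam.val γ hγ) = 0 := by
    intro γ _
    change dd K γ n (n + 1) (pp K γ n x) = 0
    rw [dd_pp]
    have : ((limit K).d n (n + 1)).hom x = 0 := hx
    rw [this, map_zero]
  obtain ⟨y, hy⟩ := R_univ K hac hsurj (n - 1) n (n + 1) (by lia) rfl xfam hxc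
  obtain ⟨yL, hyL⟩ := pp_surj K (n - 1) y
  refine ⟨yL, ?_⟩
  apply pp_ext K n
  intro β
  change pp K β n (((limit K).d (n - 1) n).hom yL) = pp K β n x
  rw [← dd_pp, hyL β, hy β (Set.mem_univ β)]

end Final

end Groth.Agent.Lib.Helper17.TML
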