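import Groth.Agent.Lib.Helper17.SG1
import Groth.Agent.Lib.Helper17.RL8

set_option autoImplicit false
universe w v u

open CategoryTheory Limits CochainComplex HomComplex

namespace Groth.Agent.Lib.Helper17.ThetaCls

open Groth.Agent.Lib.Helper17.HDU1 Groth.Agent.Lib.Helper17.RL1 Groth.Agent.Lib.Helper17.RL8

variable {A : Type u} [Category.{v} A] [Abelian A] [HasDerivedCategory.{w} A]

open DerivedCategory

variable {M : A} (L : CochainComplex A ℤ) (q : ℤ)

/-- the chain map attached to a cocycle. -/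
noncomputable def chi (f : M ⟶ L.X q) (hf : f ≫ L.d q (q + 1) = 0) :
    (CochainComplex.singleFunctor A 0).obj M ⟶ L⟦q⟧ :=
  Cocycle.equivHomShift.symm (Cocycle.fromSingleMk f (zero_add q) (q + 1) rfl hf)

lemma cls_eq (f : M ⟶ L.X q) (hf : f ≫ L.d q (q + 1) = 0) :
    cls L q f hf = (HomotopyCategory.quotient A (ComplexShape.up ℤ)).map (chi L q f hf) := rfl

lemma clsD_eq (f : M ⟶ L.X q) (hf : f ≫ L.d q (q + 1) = 0) :
    clsD L q f hf = (singleFunctorIsoCompQ A 0).hom.app M ≫ ShiftedHom.map (chi L q f hf) Q := by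
  have h2 : (quotientCompQhIso A).inv.app _ ≫
      Qh.map ((HomotopyCategory.quotient A (ComplexShape.up ℤ)).map (chi L q f hf)) ≫
        (quotientCompQhIso A).hom.app _ = Q.map (chi L q f hf) := by
    have := (quotientCompQhIso A).hom.naturality (chi L q f hf)
    dsimp at this
    rw [← cancel_epi ((quotientCompQhIso A).hom.app ((CochainComplex.singleFunctor A 0).obj M)),
      Iso.hom_inv_id_app_assoc]
    exact this
  unfold clsD e₁ e₂
  rw [cls_eq]
  dsimp [ShiftedHom.map]
  simp only [Category.assoc]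
  congr 1
  exact (reassoc_of% h2) _


lemma selfIso_inv_eq_hcls (M : A) :
    (HomologicalComplex.singleObjHomologySelfIso (ComplexShape.up ℤ) 0 M).inv =
      hcls ((CochainComplex.singleFunctor A 0).obj M) 0
        (HomologicalComplex.singleObjXSelf (ComplexShape.up ℤ) 0 M).inv (by simp) := by
  unfold hcls
  rw [← HomologicalComplex.singleObjCyclesSelfIso_inv_homologyπ]
  congr 1
  rw [← cancel_mono (HomologicalComplex.iCycles _ _)]
  rw [HomologicalComplex.singleObjCyclesSelfIso_inv_iCycles]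
  exact (HomologicalComplex.liftCycles_i _ _ _ _ _).symm

lemma i0_inv_eq (M : A) :
    (i0 M).inv = (HomologicalComplex.singleObjHomologySelfIso (ComplexShape.up ℤ) 0 M).inv ≫
      (homologyFunctorFactors A 0).inv.app ((CochainComplex.singleFunctor A 0).obj M) := by
  unfold i0 singleFunctorCompHomologyFunctorIso
  dsimp
  have h1 : ((SingleFunctors.evaluation A (DerivedCategory A) 0).map
      (singleFunctorsPostcompQIso A).inv) = 𝟙 _ := singleFunctorsPostcompQIso_inv_hom A 0
  rw [h1]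
  simp only [NatTrans.id_app]
  erw [CategoryTheory.Functor.map_id, Category.comp_id, Category.comp_id]
  rfl


lemma chi_f_zero (f : M ⟶ L.X q) (hf : f ≫ L.d q (q + 1) = 0) :
    (chi L q f hf).f 0 = (HomologicalComplex.singleObjXSelf (ComplexShape.up ℤ) 0 M).hom ≫ f ≫
      (L.shiftFunctorObjXIso q 0 q (by simp)).inv := by
  unfold chi
  rw [Cocycle.equivHomShift_symm_apply]
  simp [Cochain.rightShift_v _ q 0 (zero_add q) 0 0 (add_zero 0) q (zero_add q)]
  exact Category.assoc _ _ _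

lemma hcls_shift (f' : M ⟶ (L⟦q⟧).X 0) (hf' : f' ≫ (L⟦q⟧).d 0 (0 + 1) = 0)
    (f : M ⟶ L.X q) (hf : f ≫ L.d q (q + 1) = 0)
    (h : f' ≫ (L.shiftFunctorObjXIso q 0 q (by simp)).hom = f) :
    hcls (L⟦q⟧) 0 f' hf' ≫
      ((HomologicalComplex.homologyFunctor A (ComplexShape.up ℤ) 0).shiftIso q 0 q
        (add_zero q)).hom.app L = hcls L q f hf := by
  subst h
  unfold hcls
  rw [CochainComplex.liftCycles_shift_homologyπ L f' (0 + 1) (by simp) hf' q (add_zero q) (q + 1)
    (by simp)]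
  refine (Category.assoc _ _ _).trans ?_
  congr 1
  refine (Category.assoc _ _ _).trans ?_
  refine Eq.trans ?_ (Category.comp_id _)
  congr 1
  exact Iso.inv_hom_id_app _ _


/-- **`θ` of the class of a cocycle is its cohomology class.** -/
theorem θ_clsD (f : M ⟶ L.X q) (hf : f ≫ L.d q (q + 1) = 0) :
    θ M q (Q.obj L) (clsD L q f hf) =
      hcls L q f hf ≫ (homologyFunctorFactors A q).inv.app L := by
  rw [θ_apply, clsD_eq, i0_inv_eq, selfIso_inv_eq_hcls]
  have h1 : (homologyFunctor A 0).map ((singleFunctorIsoCompQ A 0).hom.app M ≫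
      ShiftedHom.map (chi L q f hf) Q) ≫ (ψ q (Q.obj L)).hom =
      (homologyFunctor A 0).shiftMap (ShiftedHom.map (chi L q f hf) Q) 0 q (add_zero q) := by
    have h2 : (singleFunctorIsoCompQ A 0).hom.app M ≫ ShiftedHom.map (chi L q f hf) Q =
        ShiftedHom.map (chi L q f hf) Q := Category.id_comp _
    rw [h2]
    rfl
  rw [h1, shiftMap_homologyFunctor_map_Q (chi L q f hf) 0 q (add_zero q)]
  have h4 : ∀ {X Y Z W V : A} (a : X ⟶ Y) (b : Y ⟶ Z) (c : Z ⟶ Y) (d : Y ⟶ W) (e : W ⟶ V),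
      b ≫ c = 𝟙 _ → (a ≫ b) ≫ c ≫ d ≫ e = (a ≫ d) ≫ e := by
    intro _ _ _ _ _ a b c d e h
    rw [Category.assoc, reassoc_of% h, Category.assoc]
  refine (h4 _ _ _ _ _ (Iso.inv_hom_id_app (homologyFunctorFactors A 0) _)).trans ?_
  congr 1
  have h3 : (HomologicalComplex.homologyFunctor A (ComplexShape.up ℤ) 0).shiftMap (chi L q f hf) 0 q
      (add_zero q) = HomologicalComplex.homologyMap (chi L q f hf) 0 ≫
        ((HomologicalComplex.homologyFunctor A (ComplexShape.up ℤ) 0).shiftIso q 0 q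
          (add_zero q)).hom.app L := rfl
  rw [h3]
  refine (Category.assoc _ _ _).symm.trans ?_
  have h5 := hcls_map ((CochainComplex.singleFunctor A 0).obj M) 0 (chi L q f hf)
    (HomologicalComplex.singleObjXSelf (ComplexShape.up ℤ) 0 M).inv (by simp)
  refine (congrArg (fun x => x ≫ ((HomologicalComplex.homologyFunctor A (ComplexShape.up ℤ) 0).shiftIso
    q 0 q (add_zero q)).hom.app L) h5).trans ?_
  refine hcls_shift L q _ _ f hf ?_
  rw [chi_f_zero]
  have h6 : ∀ {X Y Z W : A} (a : X ⟶ Y) (a' : Y ⟶ X) (f : X ⟶ Z) (b : Z ⟶ W) (b' : W ⟶ Z),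
      a ≫ a' = 𝟙 _ → b ≫ b' = 𝟙 _ → (a ≫ a' ≫ f ≫ b) ≫ b' = f := by
    intro _ _ _ _ a a' f b b' h h'
    simp only [Category.assoc, h', Category.comp_id, reassoc_of% h]
  exact h6 _ _ _ _ _ (Iso.inv_hom_id _) (Iso.inv_hom_id _)

end Groth.Agent.Lib.Helper17.ThetaCls
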