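import Groth.Agent.Lib.Helper29.QCohPullback

/-!
# `(Spec φ)_* (N~) ≅ (N_R)~`
-/

set_option autoImplicit false
universe u

open CategoryTheory Limits AlgebraicGeometry

namespace Groth.Agent.Lib.Helper17.TildePush

open Groth.Agent.Lib.Helper29.QCoh

variable {R S : CommRingCat.{u}} (φ : R ⟶ S)

instance (N : ModuleCat.{u} S) :
    IsIso ((tilde.adjunction (R := R)).counit.app
      ((tilde.functor S ⋙ Scheme.Modules.pushforward (Spec.map φ)).obj N)) := by
  haveI : IsIso ((tilde.functor S).obj N).fromTildeΓ := inferInstance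
  exact isIso_fromTildeΓ_pushforward φ ((tilde.functor S).obj N)

/-- the counit is an isomorphism on `(Spec φ)_* (N~)`. -/
noncomputable def e1 : (tilde.functor S ⋙ Scheme.Modules.pushforward (Spec.map φ)) ⋙
    moduleSpecΓFunctor (R := R) ⋙ tilde.functor R ≅
    tilde.functor S ⋙ Scheme.Modules.pushforward (Spec.map φ) :=
  haveI : IsIso (Functor.whiskerLeft (tilde.functor S ⋙ Scheme.Modules.pushforward (Spec.map φ))
      (tilde.adjunction (R := R)).counit) := by
    apply (config := { allowSynthFailures := true }) NatIso.isIso_of_isIso_app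
    intro N
    exact inferInstanceAs (IsIso ((tilde.adjunction (R := R)).counit.app
      ((tilde.functor S ⋙ Scheme.Modules.pushforward (Spec.map φ)).obj N)))
  asIso (Functor.whiskerLeft (tilde.functor S ⋙ Scheme.Modules.pushforward (Spec.map φ))
      (tilde.adjunction (R := R)).counit) ≪≫ Functor.rightUnitor _

/-- global sections of `(Spec φ)_* (N~)`. -/
noncomputable def e2 : (tilde.functor S ⋙ Scheme.Modules.pushforward (Spec.map φ)) ⋙
    moduleSpecΓFunctor (R := R) ≅ ModuleCat.restrictScalars φ.hom :=
  Functor.associator _ _ _ ≪≫ Functor.isoWhiskerLeft (tilde.functor S) (pushforwardCompΓIso φ) ≪≫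
    (Functor.associator _ _ _).symm ≪≫
    Functor.isoWhiskerRight (tilde.toTildeΓNatIso (R := S)).symm (ModuleCat.restrictScalars φ.hom) ≪≫
    Functor.leftUnitor _

/-- **`(Spec φ)_* (N~) ≅ (N_R)~`**, naturally in `N`. -/
noncomputable def tildePushIso : tilde.functor S ⋙ Scheme.Modules.pushforward (Spec.map φ) ≅
    ModuleCat.restrictScalars φ.hom ⋙ tilde.functor R :=
  (e1 φ).symm ≪≫ (Functor.associator _ _ _).symm ≪≫
    Functor.isoWhiskerRight (e2 φ) (tilde.functor R)

end Groth.Agent.Lib.Helper17.TildePush
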