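import Mathlib
import Groth.Prelude.Def_SiteCmp

/-!
# The torsion subsheaf of an abelian sheaf
-/

set_option autoImplicit false
universe u

open CategoryTheory Limits Opposite

namespace Groth.Agent.Lib.Helper17.TorSh1

variable {C : Type u} [SmallCategory C] (J : GrothendieckTopology C)

/-- a section is locally of finite order. -/
def IsTorSec (F : Sheaf J AddCommGrpCat.{u}) {U : C} (s : F.obj.obj (op U)) : Prop :=
  ∃ S ∈ J U, ∀ ⦃V : C⦄ (g : V ⟶ U), S g → IsOfFinAddOrder ((F.obj.map g.op).hom s)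

variable {J}

lemma isTorsionSh_iff (F : Sheaf J AddCommGrpCat.{u}) :
    SiteCmp.IsTorsionSh J F ↔ ∀ (U : C) (s : F.obj.obj (op U)), IsTorSec J F s := Iff.rfl

lemma map_map_apply (F : Sheaf J AddCommGrpCat.{u}) {U V W : C} (g : V ⟶ U) (h : W ⟶ V)
    (s : F.obj.obj (op U)) :
    (F.obj.map h.op).hom ((F.obj.map g.op).hom s) = (F.obj.map (h ≫ g).op).hom s := by
  rw [op_comp, F.obj.map_comp]
  rfl

lemma isTorSec_zero (F : Sheaf J AddCommGrpCat.{u}) (U : C) :
    IsTorSec J F (0 : F.obj.obj (op U)) :=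
  ⟨⊤, J.top_mem U, fun V g _ => by rw [map_zero]; exact IsOfFinAddOrder.zero⟩

lemma isTorSec_add (F : Sheaf J AddCommGrpCat.{u}) {U : C} {s t : F.obj.obj (op U)}
    (hs : IsTorSec J F s) (ht : IsTorSec J F t) : IsTorSec J F (s + t) := by
  obtain ⟨S, hS, h1⟩ := hs
  obtain ⟨S', hS', h2⟩ := ht
  refine ⟨S ⊓ S', J.intersection_covering hS hS', fun V g hg => ?_⟩
  rw [map_add]
  exact (AddCommute.all _ _).isOfFinAddOrder_add (h1 g hg.1) (h2 g hg.2)

lemma isTorSec_neg (F : Sheaf J AddCommGrpCat.{u}) {U : C} {s : F.obj.obj (op U)}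
    (hs : IsTorSec J F s) : IsTorSec J F (-s) := by
  obtain ⟨S, hS, h1⟩ := hs
  refine ⟨S, hS, fun V g hg => ?_⟩
  rw [map_neg]
  exact (h1 g hg).neg

lemma isTorSec_map (F : Sheaf J AddCommGrpCat.{u}) {U V : C} (g : V ⟶ U) {s : F.obj.obj (op U)}
    (hs : IsTorSec J F s) : IsTorSec J F ((F.obj.map g.op).hom s) := by
  obtain ⟨S, hS, h1⟩ := hs
  refine ⟨S.pullback g, J.pullback_stable g hS, fun W h hh => ?_⟩
  rw [map_map_apply]
  exact h1 _ hh

lemma isTorSec_hom {F F' : Sheaf J AddCommGrpCat.{u}} (φ : F ⟶ F') {U : C} {s : F.obj.obj (op U)}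
    (hs : IsTorSec J F s) : IsTorSec J F' ((φ.hom.app (op U)).hom s) := by
  obtain ⟨S, hS, h1⟩ := hs
  refine ⟨S, hS, fun V g hg => ?_⟩
  have h := ConcreteCategory.congr_hom (φ.hom.naturality g.op) s
  simp only [ConcreteCategory.comp_apply] at h
  change IsOfFinAddOrder ((F'.obj.map g.op) ((φ.hom.app (op U)) s))
  rw [← h]
  exact (AddMonoidHom.isOfFinAddOrder _ (h1 g hg))

/-- locality of the torsion condition. -/
lemma isTorSec_of_local (F : Sheaf J AddCommGrpCat.{u}) {U : C} (s : F.obj.obj (op U))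
    (S : Sieve U) (hS : S ∈ J U)
    (h : ∀ ⦃V : C⦄ (g : V ⟶ U), S g → IsTorSec J F ((F.obj.map g.op).hom s)) :
    IsTorSec J F s := by
  classical
  choose R hR hR' using h
  refine ⟨Sieve.bind S (fun V g hg => R g hg), J.bind_covering hS (fun V g hg => hR g hg), ?_⟩
  rintro W k ⟨V, a, b, hb, ha, rfl⟩
  have := hR' b hb a ha
  rwa [map_map_apply] at this

/-- the subgroup of torsion sections. -/
def torSub (F : Sheaf J AddCommGrpCat.{u}) (U : C) : AddSubgroup (F.obj.obj (op U)) where
  carrier := {s | IsTorSec J F s}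
  zero_mem' := isTorSec_zero F U
  add_mem' := isTorSec_add F
  neg_mem' := isTorSec_neg F

lemma mem_torSub (F : Sheaf J AddCommGrpCat.{u}) {U : C} (s : F.obj.obj (op U)) :
    s ∈ torSub F U ↔ IsTorSec J F s := Iff.rfl

/-- restriction of torsion sections. -/
def torMap (F : Sheaf J AddCommGrpCat.{u}) {U V : Cᵒᵖ} (g : U ⟶ V) :
    torSub F U.unop →+ torSub F V.unop where
  toFun s := ⟨(F.obj.map g).hom s.1, isTorSec_map F g.unop s.2⟩
  map_zero' := Subtype.ext (map_zero _)
  map_add' _ _ := Subtype.ext (map_add _ _ _)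

/-- the presheaf of torsion sections. -/
abbrev torPre (F : Sheaf J AddCommGrpCat.{u}) : Cᵒᵖ ⥤ AddCommGrpCat.{u} where
  obj U := AddCommGrpCat.of (torSub F U.unop)
  map {U V} g := AddCommGrpCat.ofHom (torMap F g)
  map_id U := by
    ext s
    change (F.obj.map (𝟙 U)).hom s.1 = s.1
    rw [F.obj.map_id]
    rfl
  map_comp {U V W} g h := by
    ext s
    change (F.obj.map (g ≫ h)).hom s.1 = (F.obj.map h).hom ((F.obj.map g).hom s.1)
    rw [F.obj.map_comp]
    rfl

/-- the inclusion of the presheaf of torsion sections. -/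
def torPreι (F : Sheaf J AddCommGrpCat.{u}) : torPre F ⟶ F.obj where
  app U := AddCommGrpCat.ofHom (torSub F U.unop).subtype
  naturality U V g := by
    ext s
    rfl

lemma torPreι_app_apply (F : Sheaf J AddCommGrpCat.{u}) (U : Cᵒᵖ) (s : torSub F U.unop) :
    ((torPreι F).app U).hom s = s.1 := rfl

lemma torPre_map_val (F : Sheaf J AddCommGrpCat.{u}) {U V : Cᵒᵖ} (g : U ⟶ V)
    (s : torSub F U.unop) :
    (((torPre F).map g).hom s : torSub F V.unop).1 = (F.obj.map g).hom s.1 :=
  rfl

lemma isSheaf_torPre (F : Sheaf J AddCommGrpCat.{u}) : Presheaf.IsSheaf J (torPre F) := by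
  rw [Presheaf.isSheaf_iff_isSheaf_forget J (torPre F) (forget AddCommGrpCat.{u}),
    isSheaf_iff_isSheaf_of_type]
  have hF : Presieve.IsSheaf J (F.obj ⋙ forget AddCommGrpCat.{u}) := by
    rw [← isSheaf_iff_isSheaf_of_type, ← Presheaf.isSheaf_iff_isSheaf_forget]
    exact F.property
  intro U S hS x hx
  let y : Presieve.FamilyOfElements (F.obj ⋙ forget AddCommGrpCat.{u}) S.arrows :=
    fun V g hg => (x g hg : torSub F V).1
  have hy : y.Compatible := by
    intro Y₁ Y₂ Z g₁ g₂ f₁ f₂ h₁ h₂ e
    exact congrArg Subtype.val (hx g₁ g₂ h₁ h₂ e)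
  obtain ⟨t, ht, htu⟩ := hF S hS y hy
  have htor : IsTorSec J F (t : F.obj.obj (op U)) := by
    refine isTorSec_of_local F t S hS (fun V g hg => ?_)
    have := ht g hg
    change (F.obj.map g.op).hom t = y g hg at this
    rw [this]
    exact (x g hg : torSub F V).2
  refine ⟨(⟨t, htor⟩ : torSub F U), ?_, ?_⟩
  · intro V g hg
    apply Subtype.ext
    exact ht g hg
  · intro t' ht'
    apply Subtype.ext
    apply htu
    intro V g hg
    exact congrArg Subtype.val (ht' g hg)

/-- the torsion subsheaf. -/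
def tor (F : Sheaf J AddCommGrpCat.{u}) : Sheaf J AddCommGrpCat.{u} := ⟨torPre F, isSheaf_torPre F⟩

/-- the inclusion of the torsion subsheaf. -/
def torι (F : Sheaf J AddCommGrpCat.{u}) : tor F ⟶ F := ObjectProperty.homMk (torPreι F)

lemma isTorsionSh_tor (F : Sheaf J AddCommGrpCat.{u}) : SiteCmp.IsTorsionSh J (tor F) := by
  intro U s
  obtain ⟨S, hS, h⟩ := (s : torSub F U).2
  refine ⟨S, hS, fun V g hg => ?_⟩
  have h1 := h g hg
  rw [isOfFinAddOrder_iff_nsmul_eq_zero] at h1 ⊢
  obtain ⟨n, hn, h2⟩ := h1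
  refine ⟨n, hn, ?_⟩
  apply Subtype.ext
  change n • (F.obj.map g.op).hom (s : torSub F U).1 = 0
  exact h2

/-- functoriality of the presheaf of torsion sections. -/
def torPreMap {F F' : Sheaf J AddCommGrpCat.{u}} (φ : F ⟶ F') : torPre F ⟶ torPre F' where
  app U := AddCommGrpCat.ofHom
    { toFun := fun s => (⟨(φ.hom.app U).hom (s : torSub F U.unop).1,
        isTorSec_hom φ (s : torSub F U.unop).2⟩ : torSub F' U.unop)
      map_zero' := Subtype.ext (map_zero _)
      map_add' := fun _ _ => Subtype.ext (map_add _ _ _) }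
  naturality U V g := by
    ext s
    exact ConcreteCategory.congr_hom (φ.hom.naturality g) (s : torSub F U.unop).1

/-- the torsion subsheaf functor. -/
def T : Sheaf J AddCommGrpCat.{u} ⥤ (SiteCmp.torsionSh J).FullSubcategory where
  obj F := ⟨tor F, isTorsionSh_tor F⟩
  map φ := ObjectProperty.homMk (ObjectProperty.homMk (torPreMap φ))
  map_id F := by
    ext U s
    rfl
  map_comp φ ψ := by
    ext U s
    rfl

/-- for a torsion sheaf, every section is a torsion section. -/
def unitPre (G : (SiteCmp.torsionSh J).FullSubcategory) : G.obj.obj ⟶ torPre G.obj where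
  app U := AddCommGrpCat.ofHom
    { toFun := fun s => (⟨s, G.property U.unop s⟩ : torSub G.obj U.unop)
      map_zero' := rfl
      map_add' := fun _ _ => rfl }
  naturality U V g := by
    ext s
    rfl

variable (J) in
/-- the adjunction between the inclusion of torsion sheaves and the torsion subsheaf functor. -/
def adj : (SiteCmp.torsionSh J).ι ⊣ T (J := J) :=
  Adjunction.mkOfUnitCounit
    { unit :=
        { app := fun G => ObjectProperty.homMk (ObjectProperty.homMk (unitPre G))
          naturality := by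
            intro G G' φ
            ext U s
            rfl }
      counit :=
        { app := fun F => torι F
          naturality := by
            intro F F' φ
            ext U s
            rfl }
      left_triangle := by
        ext G U s
        rfl
      right_triangle := by
        ext F U s
        rfl }

lemma adj_counit_app (F : Sheaf J AddCommGrpCat.{u}) : (adj J).counit.app F = torι F := rfl

end Groth.Agent.Lib.Helper17.TorSh1
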