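import Groth.Agent.Lib.Helper17.TorSh1
import Groth.Agent.Lib.Helper20.FreeSheaf

/-!
# Injective abelian sheaves are divisible; the quotient by the torsion subsheaf is torsion free
-/

set_option autoImplicit false
universe u

open CategoryTheory Limits Opposite

namespace Groth.Agent.Lib.Helper17.TorSh2

open Groth.Agent.Lib.Helper17.TorSh1 Groth.Agent.Lib.Helper20.FreeSheaf

variable {C : Type u} [SmallCategory C] {J : GrothendieckTopology C}

lemma freeAbelian_nsmul_eq_zero {X : Type u} {n : ℕ} (hn : n ≠ 0) (x : FreeAbelianGroup X)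
    (h : n • x = 0) : x = 0 := by
  have h1 := congrArg (FreeAbelianGroup.equivFinsupp X) h
  rw [map_nsmul, map_zero] at h1
  have h2 : FreeAbelianGroup.equivFinsupp X x = 0 :=
    nsmul_right_injective hn (by simpa using h1)
  exact (AddEquiv.map_eq_zero_iff _).1 h2

lemma hom_nsmul_apply {A B : AddCommGrpCat.{u}} (f : A ⟶ B) (n : ℕ) (x : A) :
    (n • f).hom x = n • f.hom x := by
  induction n with
  | zero => simp
  | succ k ih => rw [succ_nsmul, succ_nsmul, AddCommGrpCat.hom_add, AddMonoidHom.add_apply, ih]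

lemma sheafHom_nsmul_app {F G : Sheaf J AddCommGrpCat.{u}} (f : F ⟶ G) (n : ℕ) (U : Cᵒᵖ) :
    (n • f).hom.app U = n • f.hom.app U := by
  induction n with
  | zero => simp
  | succ k ih => rw [succ_nsmul, succ_nsmul, Sheaf.Hom.add_app, ih]

lemma sheafHom_nsmul_apply {F G : Sheaf J AddCommGrpCat.{u}} (f : F ⟶ G) (n : ℕ) (U : Cᵒᵖ)
    (s : F.obj.obj U) : ((n • f).hom.app U).hom s = n • (f.hom.app U).hom s := by
  rw [sheafHom_nsmul_app, hom_nsmul_apply]

variable (J) in
lemma mono_nsmul_ZU (U : C) {n : ℕ} (hn : n ≠ 0) : Mono (n • 𝟙 (ZU J U)) := by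
  have h1 : Mono (n • 𝟙 (((Functor.whiskeringRight Cᵒᵖ _ _).obj AddCommGrpCat.free.{u}).obj
      (yoneda.obj U))) := by
    have : ∀ V, Mono ((n • 𝟙 (((Functor.whiskeringRight Cᵒᵖ _ _).obj AddCommGrpCat.free.{u}).obj
        (yoneda.obj U))).app V) := by
      intro V
      rw [NatTrans.app_nsmul, AddCommGrpCat.mono_iff_injective, injective_iff_map_eq_zero]
      intro x hx
      rw [hom_nsmul_apply] at hx
      exact freeAbelian_nsmul_eq_zero hn x hx
    exact NatTrans.mono_of_mono_app _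
  have h2 : n • 𝟙 (ZU J U) = (presheafToSheaf J AddCommGrpCat.{u}).map
      (n • 𝟙 (((Functor.whiskeringRight Cᵒᵖ _ _).obj AddCommGrpCat.free.{u}).obj
        (yoneda.obj U))) := by
    rw [Functor.map_nsmul, CategoryTheory.Functor.map_id]
    rfl
  rw [h2]
  infer_instance

/-- sections of an injective abelian sheaf are divisible. -/
lemma exists_nsmul_eq (I : Sheaf J AddCommGrpCat.{u}) [Injective I] (U : C)
    (s : I.obj.obj (op U)) {n : ℕ} (hn : n ≠ 0) : ∃ s' : I.obj.obj (op U), n • s' = s := by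
  have := mono_nsmul_ZU J U hn
  let σ : ZU J U ⟶ I := (a J U I).symm s
  let τ : ZU J U ⟶ I := Injective.factorThru σ (n • 𝟙 (ZU J U))
  have hτ : (n • 𝟙 (ZU J U)) ≫ τ = σ := Injective.comp_factorThru σ _
  refine ⟨a J U I τ, ?_⟩
  have h1 : a J U I σ = s := (a J U I).apply_symm_apply s
  rw [← h1, ← hτ, a_nat, a_eq J U (n • 𝟙 (ZU J U)), sheafHom_nsmul_apply, map_nsmul, a_eq J U τ]
  rfl

/-- an injective abelian sheaf is divisible. -/
lemma epi_nsmul_of_injective (I : Sheaf J AddCommGrpCat.{u}) [Injective I] {n : ℕ} (hn : n ≠ 0) :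
    Epi (n • 𝟙 I) := by
  have : ∀ U, Epi ((n • 𝟙 I).hom.app U) := by
    intro U
    rw [AddCommGrpCat.epi_iff_surjective]
    intro s
    obtain ⟨s', hs'⟩ := exists_nsmul_eq I U.unop s hn
    refine ⟨s', ?_⟩
    rw [sheafHom_nsmul_apply]
    exact hs'
  have h2 : Epi (n • 𝟙 I).hom := NatTrans.epi_of_epi_app _
  exact (sheafToPresheaf J AddCommGrpCat.{u}).epi_of_epi_map h2

instance mono_torι (F : Sheaf J AddCommGrpCat.{u}) : Mono (torι F) := by
  have : ∀ U, Mono ((torι F).hom.app U) := by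
    intro U
    rw [AddCommGrpCat.mono_iff_injective]
    intro s t h
    exact Subtype.ext h
  have h2 : Mono (torι F).hom := NatTrans.mono_of_mono_app _
  exact (sheafToPresheaf J AddCommGrpCat.{u}).mono_of_mono_map h2

/-- a morphism all of whose values are torsion sections factors through the torsion subsheaf. -/
def liftTor {G F : Sheaf J AddCommGrpCat.{u}} (g : G ⟶ F)
    (h : ∀ (U : C) (s : G.obj.obj (op U)), IsTorSec J F ((g.hom.app (op U)).hom s)) : G ⟶ tor F :=
  ObjectProperty.homMk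
    { app := fun U => AddCommGrpCat.ofHom
        { toFun := fun s => (⟨(g.hom.app U).hom s, h U.unop s⟩ : torSub F U.unop)
          map_zero' := Subtype.ext (map_zero _)
          map_add' := fun _ _ => Subtype.ext (map_add _ _ _) }
      naturality := by
        intro U V k
        ext s
        apply Subtype.ext
        exact ConcreteCategory.congr_hom (g.hom.naturality k) s }

lemma liftTor_ι {G F : Sheaf J AddCommGrpCat.{u}} (g : G ⟶ F)
    (h : ∀ (U : C) (s : G.obj.obj (op U)), IsTorSec J F ((g.hom.app (op U)).hom s)) :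
    liftTor g h ≫ torι F = g := by
  ext U s
  rfl

lemma isTorSec_of_nsmul (F : Sheaf J AddCommGrpCat.{u}) {U : C} (s : F.obj.obj (op U)) {n : ℕ}
    (hn : n ≠ 0) (h : IsTorSec J F (n • s)) : IsTorSec J F s := by
  obtain ⟨S, hS, h1⟩ := h
  refine ⟨S, hS, fun V g hg => ?_⟩
  have := h1 g hg
  rw [map_nsmul] at this
  exact this.of_nsmul hn

/-- saturation of the torsion subsheaf. -/
lemma comp_eq_zero_of_nsmul (F : Sheaf J AddCommGrpCat.{u}) {Q : Sheaf J AddCommGrpCat.{u}}
    (p : F ⟶ Q) (w : torι F ≫ p = 0) (hex : (ShortComplex.mk (torι F) p w).Exact)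
    {G : Sheaf J AddCommGrpCat.{u}} (g : G ⟶ F) {n : ℕ} (hn : n ≠ 0) (h : (n • g) ≫ p = 0) :
    g ≫ p = 0 := by
  have hh : liftTor g (fun U s => by
      apply isTorSec_of_nsmul F _ hn
      have e := hex.lift_f (n • g) h
      have e2 := ConcreteCategory.congr_hom (congrArg (fun φ => φ.hom.app (op U)) e) s
      dsimp at e2
      rw [sheafHom_nsmul_apply] at e2
      rw [← e2]
      exact ((hex.lift (n • g) h).hom.app (op U) s : torSub F U).2) ≫ torι F = g := liftTor_ι _ _
  rw [← hh, Category.assoc, w, comp_zero]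

/-- the quotient by the torsion subsheaf is torsion free. -/
lemma mono_nsmul_quotient (F : Sheaf J AddCommGrpCat.{u}) {Q : Sheaf J AddCommGrpCat.{u}}
    (p : F ⟶ Q) [Epi p] (w : torι F ≫ p = 0) (hex : (ShortComplex.mk (torι F) p w).Exact)
    {n : ℕ} (hn : n ≠ 0) : Mono (n • 𝟙 Q) := by
  apply Preadditive.mono_of_cancel_zero
  intro Z k hk
  have hepi : Epi (pullback.fst k p) := Abelian.epi_pullback_of_epi_g k p
  have h1 : (n • pullback.snd k p) ≫ p = 0 := by
    rw [Preadditive.nsmul_comp, ← pullback.condition, ← Preadditive.comp_nsmul]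
    have : n • k = k ≫ (n • 𝟙 Q) := by rw [Preadditive.comp_nsmul, Category.comp_id]
    rw [this, hk, comp_zero]
  have h2 := comp_eq_zero_of_nsmul F p w hex (pullback.snd k p) hn h1
  rw [← pullback.condition] at h2
  rw [← cancel_epi (pullback.fst k p), h2, comp_zero]

/-- the quotient of a divisible sheaf by its torsion subsheaf is uniquely divisible. -/
lemma isIso_nsmul_quotient (F : Sheaf J AddCommGrpCat.{u}) [Injective F]
    {Q : Sheaf J AddCommGrpCat.{u}}
    (p : F ⟶ Q) [Epi p] (w : torι F ≫ p = 0) (hex : (ShortComplex.mk (torι F) p w).Exact)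
    {n : ℕ} (hn : n ≠ 0) : IsIso (n • 𝟙 Q) := by
  have h1 := mono_nsmul_quotient F p w hex hn
  have h2 : Epi (n • 𝟙 Q) := by
    have h3 := epi_nsmul_of_injective F hn
    have h4 : (n • 𝟙 F) ≫ p = p ≫ (n • 𝟙 Q) := by
      rw [Preadditive.nsmul_comp, Preadditive.comp_nsmul, Category.id_comp, Category.comp_id]
    have h5 : Epi (p ≫ (n • 𝟙 Q)) := by
      rw [← h4]
      infer_instance
    exact epi_of_epi p _
  exact isIso_of_mono_of_epi _

/-- a torsion sheaf on which all positive integers act injectively is zero. -/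
lemma isZero_of_torsion_of_mono_nsmul (G : Sheaf J AddCommGrpCat.{u})
    (hG : SiteCmp.IsTorsionSh J G) (h : ∀ n : ℕ, n ≠ 0 → Mono (n • 𝟙 G)) : IsZero G := by
  have hsep : Presieve.IsSheaf J (G.obj ⋙ forget AddCommGrpCat.{u}) := by
    rw [← isSheaf_iff_isSheaf_of_type, ← Presheaf.isSheaf_iff_isSheaf_forget]
    exact G.property
  have hzero : ∀ (U : C) (s : G.obj.obj (op U)), s = 0 := by
    intro U s
    obtain ⟨S, hS, h1⟩ := hG U s
    refine (hsep S hS).isSeparatedFor.ext (fun V g hg => ?_)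
    change (G.obj.map g.op).hom s = (G.obj.map g.op).hom 0
    rw [map_zero]
    obtain ⟨m, hm, h2⟩ := isOfFinAddOrder_iff_nsmul_eq_zero.1 (h1 g hg)
    have hmono := h m (Nat.pos_iff_ne_zero.1 hm)
    have h3 : Mono ((sheafToPresheaf J AddCommGrpCat.{u}).map (m • 𝟙 G)) := inferInstance
    have h4 : Mono ((m • 𝟙 G).hom.app (op V)) :=
      (NatTrans.mono_iff_mono_app _).1 h3 (op V)
    rw [AddCommGrpCat.mono_iff_injective] at h4
    apply h4
    rw [map_zero, sheafHom_nsmul_apply]
    exact h2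
  rw [IsZero.iff_id_eq_zero]
  ext U s
  exact hzero U.unop s

end Groth.Agent.Lib.Helper17.TorSh2
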