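import Groth.Agent.Lib.Helper17.TorSh2
import Groth.Agent.Lib.Helper17.DerKInjH
import Groth.Agent.Lib.Helper17.KInjRes
import Groth.Prelude.Def_WeakSerre
import Groth.Agent.Lib.Helper7.HomologyExactFunctor

/-!
# `D(torsion sheaves) ⥤ D(abelian sheaves)` is fully faithful with essential image the complexes
with torsion cohomology sheaves
-/

set_option autoImplicit false
set_option synthInstance.maxSize 1024
set_option linter.unusedSectionVars false
universe u

open CategoryTheory Limits Opposite ZeroObject

namespace Groth.Agent.Lib.Helper17.TorSh3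

open Groth.Agent.Lib.Helper17.TorSh1 Groth.Agent.Lib.Helper17.TorSh2

variable {C : Type u} [SmallCategory C] (J : GrothendieckTopology C)
  [(SiteCmp.torsionSh J).IsSerreClass]

instance : (T (J := J)).Additive := (adj J).right_adjoint_additive

/-- the counit `ι T I ⟶ I` on complexes. -/
noncomputable abbrev ε (I : CochainComplex (Sheaf J AddCommGrpCat.{u}) ℤ) :=
  (Groth.Agent.Lib.Helper13.Kan.adjCx (adj J) (ComplexShape.up ℤ)).counit.app I

instance (I : CochainComplex (Sheaf J AddCommGrpCat.{u}) ℤ) : Mono (ε J I) := by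
  have : ∀ i, Mono ((ε J I).f i) := fun i => mono_torι (I.X i)
  exact HomologicalComplex.mono_of_mono_f (ε J I) this

/-- the short exact sequence `0 ⟶ ι T I ⟶ I ⟶ Q ⟶ 0`. -/
noncomputable abbrev S (I : CochainComplex (Sheaf J AddCommGrpCat.{u}) ℤ) :
    ShortComplex (CochainComplex (Sheaf J AddCommGrpCat.{u}) ℤ) :=
  ShortComplex.mk (ε J I) (cokernel.π (ε J I)) (cokernel.condition _)

lemma shortExact_S (I : CochainComplex (Sheaf J AddCommGrpCat.{u}) ℤ) : (S J I).ShortExact where
  exact := ShortComplex.exact_cokernel (ε J I)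

lemma isIso_nsmul_Q (I : CochainComplex (Sheaf J AddCommGrpCat.{u}) ℤ)
    (hinj : ∀ i, Injective (I.X i)) {n : ℕ} (hn : n ≠ 0) :
    IsIso (n • 𝟙 (cokernel (ε J I))) := by
  have : ∀ i, IsIso ((n • 𝟙 (cokernel (ε J I))).f i) := by
    intro i
    have hSi := (shortExact_S J I).map_of_exact (HomologicalComplex.eval _ _ i)
    have := hSi.epi_g
    have := hinj i
    rw [HomologicalComplex.nsmul_f_apply, HomologicalComplex.id_f]
    exact isIso_nsmul_quotient (I.X i) ((cokernel.π (ε J I)).f i)
      ((S J I).map (HomologicalComplex.eval _ _ i)).zero hSi.exact hn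
  exact HomologicalComplex.Hom.isIso_of_components _

lemma torsion_homology_X₁ (I : CochainComplex (Sheaf J AddCommGrpCat.{u}) ℤ) (i : ℤ) :
    SiteCmp.torsionSh J ((S J I).X₁.homology i) :=
  (SiteCmp.torsionSh J).prop_of_iso
    (((((T (J := J)).mapHomologicalComplex (ComplexShape.up ℤ)).obj I).sc i).mapHomologyIso
      (SiteCmp.torsionSh J).ι).symm
    (((((T (J := J)).mapHomologicalComplex (ComplexShape.up ℤ)).obj I).sc i).homology).property

lemma isZero_homology_Q (I : CochainComplex (Sheaf J AddCommGrpCat.{u}) ℤ)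
    (hinj : ∀ i, Injective (I.X i)) (htor : ∀ i, SiteCmp.torsionSh J (I.homology i)) (i : ℤ) :
    IsZero ((cokernel (ε J I)).homology i) := by
  have hS := shortExact_S J I
  have h1 : SiteCmp.torsionSh J ((cokernel (ε J I)).homology i) :=
    (SiteCmp.torsionSh J).prop_X₂_of_exact (hS.homology_exact₃ i (i + 1) rfl) (htor i)
      (torsion_homology_X₁ J I (i + 1))
  refine isZero_of_torsion_of_mono_nsmul _ h1 (fun n hn => ?_)
  have h2 := isIso_nsmul_Q J I hinj hn
  have h3 : n • 𝟙 ((cokernel (ε J I)).homology i) =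
      (HomologicalComplex.homologyFunctor _ _ i).map (n • 𝟙 (cokernel (ε J I))) := by
    rw [Functor.map_nsmul, CategoryTheory.Functor.map_id]
    rfl
  rw [h3]
  have h4 := Functor.map_isIso (HomologicalComplex.homologyFunctor
    (Sheaf J AddCommGrpCat.{u}) (ComplexShape.up ℤ) i) (n • 𝟙 (cokernel (ε J I)))
  exact @IsIso.mono_of_iso _ _ _ _ _ h4

/-- **Key**: for a complex of injective sheaves with torsion cohomology, the inclusion of the
complex of torsion subsheaves is a quasi-isomorphism. -/
theorem quasiIso_ε (I : CochainComplex (Sheaf J AddCommGrpCat.{u}) ℤ)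
    (hinj : ∀ i, Injective (I.X i)) (htor : ∀ i, SiteCmp.torsionSh J (I.homology i)) :
    QuasiIso (ε J I) := by
  have hS := shortExact_S J I
  rw [quasiIso_iff]
  intro i
  rw [quasiIsoAt_iff_isIso_homologyMap]
  have hm : Mono (HomologicalComplex.homologyMap (ε J I) i) :=
    (hS.homology_exact₁ (i - 1) i (by simp)).mono_g
      ((isZero_homology_Q J I hinj htor (i - 1)).eq_of_src _ _)
  have he : Epi (HomologicalComplex.homologyMap (ε J I) i) :=
    (hS.homology_exact₂ i).epi_f ((isZero_homology_Q J I hinj htor i).eq_of_tgt _ _)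
  exact isIso_of_mono_of_epi _

section general

variable {A B : Type*} [Category A] [Category B] [Abelian A] [Abelian B]
  [HasDerivedCategory A] [HasDerivedCategory B]

lemma isZero_of_isZero_homology (Z : DerivedCategory A)
    (h : ∀ n : ℤ, IsZero ((DerivedCategory.homologyFunctor A n).obj Z)) : IsZero Z := by
  have : IsIso (0 : Z ⟶ (0 : DerivedCategory A)) := (DerivedCategory.isIso_iff A _).2 (fun n =>
    ⟨⟨0, (h n).eq_of_src _ _,
      (((DerivedCategory.homologyFunctor A n).map_isZero (isZero_zero _))).eq_of_src _ _⟩⟩)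
  exact IsZero.of_iso (isZero_zero _) (asIso (0 : Z ⟶ (0 : DerivedCategory A)))

variable (F : A ⥤ B) [F.Additive] [PreservesFiniteLimits F] [PreservesFiniteColimits F]
  [F.Faithful]

lemma isZero_of_isZero_map (Z : DerivedCategory A) (hz : IsZero (F.mapDerivedCategory.obj Z)) :
    IsZero Z := by
  apply isZero_of_isZero_homology
  intro n
  have h1 : IsZero (F.obj ((DerivedCategory.homologyFunctor A n).obj Z)) :=
    IsZero.of_iso ((DerivedCategory.homologyFunctor B n).map_isZero hz)
      (Groth.Agent.Lib.Helper7.HomologyExactFunctor.homologyMapDerivedCategoryIso F Z n).symm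
  rw [IsZero.iff_id_eq_zero]
  apply F.map_injective
  rw [CategoryTheory.Functor.map_id, Functor.map_zero]
  exact h1.eq_of_src _ _

/-- the functor induced on derived categories by a faithful exact functor reflects
isomorphisms. -/
lemma isIso_of_isIso_map {K K' : DerivedCategory A} (φ : K ⟶ K')
    (h : IsIso (F.mapDerivedCategory.map φ)) : IsIso φ := by
  obtain ⟨Z, g, h', hT⟩ := Pretriangulated.distinguished_cocone_triangle φ
  have hT' := F.mapDerivedCategory.map_distinguished _ hT
  have hz : IsZero (F.mapDerivedCategory.obj Z) :=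
    (Pretriangulated.Triangle.isZero₃_iff_isIso₁ _ hT').2 h
  exact (Pretriangulated.Triangle.isZero₃_iff_isIso₁ _ hT).1 (isZero_of_isZero_map F Z hz)

end general

section final

open Groth.Agent.Lib.Helper17.DerKInj Groth.Agent.Lib.Helper17.DerKInjH
  Groth.Agent.Lib.Helper17.DerAbs Groth.Agent.Lib.Helper17.AdjHo

attribute [local instance] HasDerivedCategory.standard

lemma hB : HasKInjRes (Sheaf J AddCommGrpCat.{u}) := hasKInjRes_of_isGrothendieckAbelian

/-- the functor to be derived. -/
noncomputable abbrev Φ : HomotopyCategory (Sheaf J AddCommGrpCat.{u}) (ComplexShape.up ℤ) ⥤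
    DerivedCategory (SiteCmp.torsionSh J).FullSubcategory :=
  (T (J := J)).mapHomotopyCategory (ComplexShape.up ℤ) ⋙ DerivedCategory.Qh

instance : (Φ J).HasRightDerivedFunctor
    (HomotopyCategory.quasiIso (Sheaf J AddCommGrpCat.{u}) (ComplexShape.up ℤ)) :=
  hasRightDerivedFunctor (enoughLocal_Qh (hB J)) (compat_Qh _)

/-- the derived torsion functor. -/
noncomputable abbrev RT : DerivedCategory (Sheaf J AddCommGrpCat.{u}) ⥤
    DerivedCategory (SiteCmp.torsionSh J).FullSubcategory :=
  (Φ J).totalRightDerived DerivedCategory.Qh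
    (HomotopyCategory.quasiIso (Sheaf J AddCommGrpCat.{u}) (ComplexShape.up ℤ))

/-- its unit. -/
noncomputable abbrev β : Φ J ⟶ DerivedCategory.Qh ⋙ RT J :=
  (Φ J).totalRightDerivedUnit DerivedCategory.Qh
    (HomotopyCategory.quasiIso (Sheaf J AddCommGrpCat.{u}) (ComplexShape.up ℤ))

/-- the derived adjunction. -/
noncomputable def dadj : (SiteCmp.torsionSh J).ι.mapDerivedCategory ⊣ RT J :=
  derivedAdj (hB J) (SiteCmp.torsionSh J).ι T (adj J) (RT J) (β J)

lemma isIso_counit_of_cohIn (Y : DerivedCategory (Sheaf J AddCommGrpCat.{u}))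
    (hY : WSerre.cohIn (SiteCmp.torsionSh J) Y) : IsIso ((dadj J).counit.app Y) := by
  let K := DerivedCategory.Q.objPreimage Y
  let eK : DerivedCategory.Q.obj K ≅ Y := DerivedCategory.Q.objObjPreimageIso Y
  obtain ⟨I, f, hI, hf, -, hinj⟩ := Groth.Agent.Lib.Helper17.KInjRes.exists_kInjective_resolution K
  have := hI
  have := hf
  let eI : Y ≅ DerivedCategory.Q.obj I := eK.symm ≪≫ asIso (DerivedCategory.Q.map f)
  let e' : Y ≅ DerivedCategory.Qh.obj ((HomotopyCategory.quotient _ _).obj I) :=
    eI ≪≫ ((DerivedCategory.quotientCompQhIso _).app I).symm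
  rw [NatTrans.isIso_app_iff_of_iso _ e']
  have htor : ∀ i, SiteCmp.torsionSh J (I.homology i) := fun i =>
    (SiteCmp.torsionSh J).prop_of_iso
      ((DerivedCategory.homologyFunctor _ i).mapIso eI ≪≫
        (DerivedCategory.homologyFunctorFactors _ i).app I) (hY i)
  have hq := quasiIso_ε J I hinj htor
  have h := derivedAdj_counit_fac (hB J) (SiteCmp.torsionSh J).ι T (adj J) (RT J) (β J)
    ((HomotopyCategory.quotient _ _).obj I)
  have h1 := isIso_β_app (hB J) T (RT J) (β J) I
  have h2 : IsIso (DerivedCategory.Qh.map ((adjHo (adj J) (ComplexShape.up ℤ)).counit.app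
      ((HomotopyCategory.quotient _ _).obj I))) := by
    rw [adjHo_counit_app]
    exact Localization.inverts DerivedCategory.Qh
      (HomotopyCategory.quasiIso (Sheaf J AddCommGrpCat.{u}) (ComplexShape.up ℤ)) _
      ((HomotopyCategory.quotient_map_mem_quasiIso_iff _).2
        ((HomologicalComplex.mem_quasiIso_iff _).2 hq))
  have h3 : IsIso ((SiteCmp.torsionSh J).ι.mapDerivedCategory.map
      ((β J).app ((HomotopyCategory.quotient _ _).obj I)) ≫
      (dadj J).counit.app (DerivedCategory.Qh.obj ((HomotopyCategory.quotient _ _).obj I))) := by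
    unfold dadj
    rw [h]
    infer_instance
  exact IsIso.of_isIso_comp_left ((SiteCmp.torsionSh J).ι.mapDerivedCategory.map
      ((β J).app ((HomotopyCategory.quotient _ _).obj I))) _

lemma cohIn_map (K : DerivedCategory (SiteCmp.torsionSh J).FullSubcategory) :
    WSerre.cohIn (SiteCmp.torsionSh J) ((SiteCmp.torsionSh J).ι.mapDerivedCategory.obj K) :=
  fun i => (SiteCmp.torsionSh J).prop_of_iso
    (Groth.Agent.Lib.Helper7.HomologyExactFunctor.homologyMapDerivedCategoryIso
      (SiteCmp.torsionSh J).ι K i).symm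
    ((DerivedCategory.homologyFunctor _ i).obj K).property

instance isIso_unit : IsIso (dadj J).unit := by
  have : ∀ K, IsIso ((dadj J).unit.app K) := by
    intro K
    apply isIso_of_isIso_map (SiteCmp.torsionSh J).ι
    have h1 := isIso_counit_of_cohIn J _ (cohIn_map J K)
    have h2 := (dadj J).left_triangle_components K
    exact @IsIso.of_isIso_fac_right _ _ _ _ _ _ _ _ h1 (IsIso.id _) h2
  exact NatIso.isIso_of_isIso_app _

theorem main :
    (WSerre.toDerived (SiteCmp.torsionSh J)).Full ∧ (WSerre.toDerived (SiteCmp.torsionSh J)).Faithful ∧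
      ∀ K : DerivedCategory (Sheaf J AddCommGrpCat.{u}),
        WSerre.cohIn (SiteCmp.torsionSh J) K ↔
          (WSerre.toDerived (SiteCmp.torsionSh J)).essImage K := by
  have hff := (dadj J).fullyFaithfulLOfIsIsoUnit
  refine ⟨hff.full, hff.faithful, fun K => ⟨fun hK => ?_, fun hK => ?_⟩⟩
  · have := isIso_counit_of_cohIn J K hK
    exact ⟨(RT J).obj K, ⟨asIso ((dadj J).counit.app K)⟩⟩
  · obtain ⟨K', ⟨e⟩⟩ := hK
    intro i
    exact (SiteCmp.torsionSh J).prop_of_iso
      ((DerivedCategory.homologyFunctor _ i).mapIso e) (cohIn_map J K' i)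

end final

end Groth.Agent.Lib.Helper17.TorSh3
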