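import Mathlib

namespace Groth.Agent.Lib.Helper17.TruncPoly
open MvPolynomial

universe u

set_option linter.unusedSectionVars false

variable (p : ℕ) [hp : Fact p.Prime] (k : Type u) [Field k] [CharP k p]
variable {r : ℕ} (e : Fin r → ℕ)

/-- the ideal `(X_i ^ (p ^ e_i))` -/
noncomputable abbrev I : Ideal (MvPolynomial (Fin r) k) :=
  Ideal.span (Set.range fun i : Fin r => (X i : MvPolynomial (Fin r) k) ^ p ^ e i)

/-- exponents inside the box -/
def inBox (α : Fin r →₀ ℕ) : Prop := ∀ i, α i < p ^ e i

lemma mem_I_iff (f : MvPolynomial (Fin r) k) :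
    f ∈ I p k e ↔ ∀ α ∈ f.support, ¬ inBox p e α := by
  have h1 : (Set.range fun i : Fin r => (X i : MvPolynomial (Fin r) k) ^ p ^ e i)
      = (fun s => monomial s (1 : k)) '' (Set.range fun i : Fin r => Finsupp.single i (p ^ e i)) := by
    rw [← Set.range_comp]
    congr 1
    funext i
    simp [X_pow_eq_monomial]
  rw [I, h1, mem_ideal_span_monomial_image]
  refine forall₂_congr fun α _ => ?_
  simp only [Set.mem_range, exists_exists_eq_and, Finsupp.single_le_iff, inBox, not_forall, not_lt]

lemma mk_monomial_eq_zero (α : Fin r →₀ ℕ) (c : k) (h : ¬ inBox p e α) :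
    Ideal.Quotient.mk (I p k e) (monomial α c) = 0 := by
  rw [Ideal.Quotient.eq_zero_iff_mem, mem_I_iff]
  intro β hβ
  classical
  have := support_monomial_subset hβ
  rw [Finset.mem_singleton] at this
  rw [this]; exact h

/-- scaling exponents by `p^j` -/
noncomputable def pj (j : ℕ) (β : (i : Fin r) → Fin (p ^ (e i - j))) : Fin r →₀ ℕ :=
  Finsupp.equivFunOnFinite.symm (fun i => p ^ j * (β i : ℕ))

lemma pj_apply (j : ℕ) (β : (i : Fin r) → Fin (p ^ (e i - j))) (i : Fin r) :
    pj p e j β i = p ^ j * (β i : ℕ) := rfl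

lemma pj_injective (j : ℕ) : Function.Injective (pj p e j) := by
  intro β β' h
  funext i
  have := DFunLike.congr_fun h i
  rw [pj_apply, pj_apply] at this
  have hpos : 0 < p ^ j := pow_pos hp.out.pos j
  exact Fin.ext (Nat.eq_of_mul_eq_mul_left hpos this)

lemma pj_inBox (j : ℕ) (β : (i : Fin r) → Fin (p ^ (e i - j))) : inBox p e (pj p e j β) := by
  intro i
  rw [pj_apply]
  have hβ := (β i).isLt
  by_cases h : j ≤ e i
  · calc p ^ j * (β i : ℕ) < p ^ j * p ^ (e i - j) :=
          Nat.mul_lt_mul_of_pos_left hβ (pow_pos hp.out.pos j)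
      _ = p ^ e i := by rw [← pow_add]; congr 1; omega
  · have h0 : e i - j = 0 := by omega
    have h1 : p ^ (e i - j) = 1 := by rw [h0, pow_zero]
    have : (β i : ℕ) = 0 := by omega
    rw [this, mul_zero]
    exact pow_pos hp.out.pos _

/-- the family of surviving `p^j`-th power monomials -/
noncomputable def v (j : ℕ) (β : (i : Fin r) → Fin (p ^ (e i - j))) :
    MvPolynomial (Fin r) k ⧸ I p k e :=
  Ideal.Quotient.mk (I p k e) (monomial (pj p e j β) 1)

lemma v_linearIndependent (j : ℕ) : LinearIndependent k (v p k e j) := by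
  have h1 : LinearIndependent k (fun β : (i : Fin r) → Fin (p ^ (e i - j)) =>
      (monomial (pj p e j β) (1 : k) : MvPolynomial (Fin r) k)) := by
    have := (basisMonomials (Fin r) k).linearIndependent.comp (pj p e j) (pj_injective p e j)
    rwa [coe_basisMonomials] at this
  have h2 := h1.map (f := (Ideal.Quotient.mkₐ k (I p k e)).toLinearMap) ?_
  · exact h2
  · rw [Submodule.disjoint_def]
    intro x hx hker
    have hx' : x ∈ restrictSupport k {α | inBox p e α} := by
      rw [restrictSupport_eq_span]
      refine Submodule.span_mono ?_ hx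
      rintro _ ⟨β, rfl⟩
      exact ⟨pj p e j β, pj_inBox p e j β, rfl⟩
    rw [mem_restrictSupport_iff] at hx'
    have hI : x ∈ I p k e := by
      rw [LinearMap.mem_ker] at hker
      exact Ideal.Quotient.eq_zero_iff_mem.mp hker
    rw [mem_I_iff] at hI
    rw [← support_eq_empty, Finset.eq_empty_iff_forall_notMem]
    intro α hα
    exact hI α hα (hx' hα)

end Groth.Agent.Lib.Helper17.TruncPoly
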