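import Mathlib
import Groth.Agent.Lib.Helper17.TruncPoly

namespace Groth.Agent.Lib.Helper17.TruncPoly
open MvPolynomial

universe u

set_option linter.unusedSectionVars false

variable (p : ℕ) [hp : Fact p.Prime] (k : Type u) [Field k] [CharP k p]
variable {r : ℕ} (e : Fin r → ℕ)

/-- the span of the `p^j`-th powers -/
noncomputable def U (A : Type*) [CommRing A] [Algebra k A] (j : ℕ) : Submodule k A :=
  Submodule.span k (Set.range fun a : A => a ^ p ^ j)

lemma lt_pow_sub {a E j : ℕ} (h : p ^ j * a < p ^ E) : a < p ^ (E - j) := by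
  have hpos : 0 < p ^ j := pow_pos hp.out.pos j
  by_cases hj : j ≤ E
  · have : p ^ E = p ^ j * p ^ (E - j) := by rw [← pow_add]; congr 1; omega
    rw [this] at h
    exact Nat.lt_of_mul_lt_mul_left h
  · have h0 : E - j = 0 := by omega
    rw [h0, pow_zero]
    have h1 : p ^ E < p ^ j := Nat.pow_lt_pow_right hp.out.one_lt (by omega)
    by_contra hcon
    have : 1 ≤ a := by omega
    have : p ^ j ≤ p ^ j * a := Nat.le_mul_of_pos_right _ this
    omega

lemma pow_mem_span (j : ℕ) (f : MvPolynomial (Fin r) k) :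
    Ideal.Quotient.mk (I p k e) (f ^ p ^ j) ∈ Submodule.span k (Set.range (v p k e j)) := by
  induction f using MvPolynomial.induction_on' with
  | monomial α c =>
    rw [monomial_pow]
    by_cases hbox : inBox p e (p ^ j • α)
    · have hlt : ∀ i, α i < p ^ (e i - j) := fun i => by
        apply lt_pow_sub p
        have := hbox i
        rwa [Finsupp.smul_apply, smul_eq_mul] at this
      have hpj : pj p e j (fun i => ⟨α i, hlt i⟩) = p ^ j • α := by
        ext i
        rw [pj_apply, Finsupp.smul_apply, smul_eq_mul]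
      have : Ideal.Quotient.mk (I p k e) (monomial (p ^ j • α) (c ^ p ^ j))
          = (c ^ p ^ j) • v p k e j (fun i => ⟨α i, hlt i⟩) := by
        rw [v, hpj, ← Ideal.Quotient.mkₐ_eq_mk k, ← map_smul, smul_monomial, smul_eq_mul, mul_one]
      rw [this]
      exact Submodule.smul_mem _ _ (Submodule.subset_span ⟨_, rfl⟩)
    · rw [mk_monomial_eq_zero p k e _ _ hbox]
      exact Submodule.zero_mem _
  | add f g hf hg =>
    rw [add_pow_char_pow, map_add]
    exact Submodule.add_mem _ hf hg

lemma v_mem_range (j : ℕ) (β : (i : Fin r) → Fin (p ^ (e i - j))) :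
    v p k e j β ∈ Set.range fun a : MvPolynomial (Fin r) k ⧸ I p k e => a ^ p ^ j := by
  refine ⟨Ideal.Quotient.mk (I p k e)
    (monomial (Finsupp.equivFunOnFinite.symm (fun i => (β i : ℕ))) 1), ?_⟩
  show _ ^ p ^ j = _
  rw [← map_pow, monomial_pow, one_pow, v]
  have : p ^ j • (Finsupp.equivFunOnFinite.symm (fun i => (β i : ℕ)) : Fin r →₀ ℕ)
      = pj p e j β := by
    ext i
    rw [pj_apply, Finsupp.smul_apply, smul_eq_mul]
    rfl
  rw [this]

lemma U_eq (j : ℕ) :
    U p k (MvPolynomial (Fin r) k ⧸ I p k e) j = Submodule.span k (Set.range (v p k e j)) := by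
  apply le_antisymm
  · rw [U, Submodule.span_le]
    rintro _ ⟨a, rfl⟩
    obtain ⟨f, rfl⟩ := Ideal.Quotient.mk_surjective a
    show _ ^ p ^ j ∈ _
    rw [← map_pow]
    exact pow_mem_span p k e j f
  · rw [Submodule.span_le]
    rintro _ ⟨β, rfl⟩
    exact Submodule.subset_span (v_mem_range p k e j β)

lemma finrank_U (j : ℕ) :
    Module.finrank k (U p k (MvPolynomial (Fin r) k ⧸ I p k e) j) = ∏ i, p ^ (e i - j) := by
  rw [U_eq, finrank_span_eq_card (v_linearIndependent p k e j), Fintype.card_pi]
  simp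

/-- invariance under algebra isomorphisms -/
lemma finrank_U_congr {A A' : Type*} [CommRing A] [Algebra k A] [CommRing A'] [Algebra k A']
    (φ : A ≃ₐ[k] A') (j : ℕ) :
    Module.finrank k (U p k A j) = Module.finrank k (U p k A' j) := by
  have h : Submodule.map φ.toLinearEquiv.toLinearMap (U p k A j) = U p k A' j := by
    rw [U, U, Submodule.map_span]
    congr 1
    ext x
    simp only [Set.mem_image, Set.mem_range, exists_exists_eq_and]
    constructor
    · rintro ⟨a, rfl⟩
      exact ⟨φ a, by simp⟩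
    · rintro ⟨a, rfl⟩
      exact ⟨φ.symm a, by simp⟩
  rw [← h]
  exact (LinearEquiv.finrank_map_eq φ.toLinearEquiv _).symm

end Groth.Agent.Lib.Helper17.TruncPoly
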