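import Mathlib

namespace Groth.Agent.Lib.Helper17.TruncPoly

/-- recovering a bijection of index sets from the numerical invariants -/
lemma exists_equiv_of_prod_eq (p : ℕ) (hp : 2 ≤ p) {r s : ℕ} (e : Fin r → ℕ) (f : Fin s → ℕ)
    (he : ∀ i, 1 ≤ e i) (hf : ∀ j, 1 ≤ f j)
    (h : ∀ j : ℕ, ∏ i, p ^ (e i - j) = ∏ i, p ^ (f i - j)) :
    ∃ σ : Fin r ≃ Fin s, ∀ i : Fin r, f (σ i) = e i := by
  have hS : ∀ j : ℕ, ∑ i, (e i - j) = ∑ i, (f i - j) := by
    intro j
    have := h j
    rw [Finset.prod_pow_eq_pow_sum, Finset.prod_pow_eq_pow_sum] at this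
    exact Nat.pow_right_injective hp this
  have hsplit : ∀ {n : ℕ} (g : Fin n → ℕ) (j : ℕ),
      ∑ i, (g i - j) = ∑ i, (g i - (j + 1)) + (Finset.univ.filter (fun i => j < g i)).card := by
    intro n g j
    rw [Finset.card_filter, ← Finset.sum_add_distrib]
    refine Finset.sum_congr rfl fun i _ => ?_
    split_ifs <;> omega
  have hN : ∀ j : ℕ, (Finset.univ.filter (fun i => j < e i)).card
      = (Finset.univ.filter (fun i => j < f i)).card := by
    intro j
    have h1 := hsplit e j
    have h2 := hsplit f j
    have h3 := hS j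
    have h4 := hS (j + 1)
    omega
  have hsplit2 : ∀ {n : ℕ} (g : Fin n → ℕ) (j : ℕ),
      (Finset.univ.filter (fun i => j < g i)).card
        = (Finset.univ.filter (fun i => g i = j + 1)).card
          + (Finset.univ.filter (fun i => j + 1 < g i)).card := by
    intro n g j
    rw [Finset.card_filter, Finset.card_filter, Finset.card_filter, ← Finset.sum_add_distrib]
    refine Finset.sum_congr rfl fun i _ => ?_
    split_ifs <;> omega
  have hc : ∀ v : ℕ, (Finset.univ.filter (fun i => e i = v)).card
      = (Finset.univ.filter (fun i => f i = v)).card := by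
    intro v
    cases v with
    | zero =>
      have h1 : Finset.univ.filter (fun i => e i = 0) = ∅ := by
        rw [Finset.filter_eq_empty_iff]; intro i _; have := he i; omega
      have h2 : Finset.univ.filter (fun i => f i = 0) = ∅ := by
        rw [Finset.filter_eq_empty_iff]; intro i _; have := hf i; omega
      rw [h1, h2, Finset.card_empty, Finset.card_empty]
    | succ v =>
      have h1 := hsplit2 e v
      have h2 := hsplit2 f v
      have h3 := hN v
      have h4 := hN (v + 1)
      omega
  have hfib : ∀ v : ℕ, Nonempty ({i // e i = v} ≃ {i // f i = v}) := by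
    intro v
    apply Fintype.card_eq.mp
    rw [Fintype.card_subtype, Fintype.card_subtype]
    exact hc v
  refine ⟨Equiv.ofFiberEquiv (fun v => (hfib v).some), fun i => ?_⟩
  exact Equiv.ofFiberEquiv_map _ i

end Groth.Agent.Lib.Helper17.TruncPoly
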