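import Mathlib
import Groth.Prelude.Def_FibCat2

/-!
# Pasting of 2-cartesian squares of categories
-/

set_option linter.style.haveILetI false

namespace Groth.Agent.Lib.Helper17.TwoCartPaste

open CategoryTheory CategoryTheory.Functor CategoryTheory.Limits
open CategoryTheory.Limits.CategoricalPullback

universe v u

variable {B A' B' A'' B'' : Type u} [Category.{v} B] [Category.{v} A']
  [Category.{v} B'] [Category.{v} A''] [Category.{v} B'']
  (r : B ⥤ B') (t' : A' ⥤ B') (l' : A' ⥤ A'') (r' : B' ⥤ B'') (t'' : A'' ⥤ B'')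
  (e₂ : t' ⋙ r' ≅ l' ⋙ t'')

/-- The comparison functor between the fibre products. -/
@[simps]
def Φ : r ⊡ t' ⥤ (r ⋙ r') ⊡ t'' where
  obj x := ⟨x.fst, l'.obj x.snd, r'.mapIso x.iso ≪≫ e₂.app x.snd⟩
  map {x y} f := ⟨f.fst, l'.map f.snd, by
    simp only [comp_obj, Functor.comp_map, Iso.trans_hom, mapIso_hom, Iso.app_hom, Category.assoc]
    rw [← r'.map_comp_assoc, f.w, r'.map_comp_assoc]
    have := e₂.hom.naturality f.snd
    simp only [comp_obj, Functor.comp_map] at this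
    rw [this]⟩

/-- the comparison functor of a square -/
abbrev cmp {X P Q S : Type u} [Category.{v} X] [Category.{v} P] [Category.{v} Q] [Category.{v} S]
    (T : X ⥤ P) (L : X ⥤ Q) (F : P ⥤ S) (G : Q ⥤ S) (e : T ⋙ F ≅ L ⋙ G) : X ⥤ F ⊡ G :=
  (CategoricalPullback.CatCommSqOver.toFunctorToCategoricalPullback F G X).obj ⟨T, L, e⟩

variable {r t' l' r' t'' e₂}

theorem Φ_faithful (h₂ : (cmp t' l' r' t'' e₂).IsEquivalence) : (Φ r t' l' r' t'' e₂).Faithful := by
  refine ⟨fun {x y} f g hfg => ?_⟩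
  have h1 : f.fst = g.fst := by
    have := congrArg CategoricalPullback.Hom.fst hfg
    exact this
  have h2 : l'.map f.snd = l'.map g.snd := by
    have := congrArg CategoricalPullback.Hom.snd hfg
    exact this
  have h3 : t'.map f.snd = t'.map g.snd := by
    have hf := f.w
    have hg := g.w
    rw [h1] at hf
    have : x.iso.hom ≫ t'.map f.snd = x.iso.hom ≫ t'.map g.snd := by rw [← hf, ← hg]
    exact (cancel_epi _).mp this
  have h4 : (cmp t' l' r' t'' e₂).map f.snd = (cmp t' l' r' t'' e₂).map g.snd := by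
    apply CategoricalPullback.hom_ext
    · exact h3
    · exact h2
  exact CategoricalPullback.hom_ext h1 ((cmp t' l' r' t'' e₂).map_injective h4)

theorem Φ_full (h₂ : (cmp t' l' r' t'' e₂).IsEquivalence) : (Φ r t' l' r' t'' e₂).Full := by
  refine ⟨fun {x y} g => ?_⟩
  obtain ⟨g₁, g₂, hw⟩ := g
  change x.fst ⟶ y.fst at g₁
  change l'.obj x.snd ⟶ l'.obj y.snd at g₂
  change (r ⋙ r').map g₁ ≫ (r'.mapIso y.iso ≪≫ e₂.app y.snd).hom =
    (r'.mapIso x.iso ≪≫ e₂.app x.snd).hom ≫ t''.map g₂ at hw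
  simp only [comp_obj, Functor.comp_map, Iso.trans_hom, mapIso_hom, Iso.app_hom,
    Category.assoc] at hw
  let k : t'.obj x.snd ⟶ t'.obj y.snd := x.iso.inv ≫ r.map g₁ ≫ y.iso.hom
  let m : (cmp t' l' r' t'' e₂).obj x.snd ⟶ (cmp t' l' r' t'' e₂).obj y.snd :=
    ⟨k, g₂, by
      show r'.map k ≫ e₂.hom.app y.snd = e₂.hom.app x.snd ≫ t''.map g₂
      simp only [k, Functor.map_comp, Category.assoc]
      rw [hw, ← r'.map_comp_assoc, Iso.inv_hom_id, r'.map_id, Category.id_comp]⟩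
  obtain ⟨f₂, hf₂⟩ := (cmp t' l' r' t'' e₂).map_surjective m
  have h1 : t'.map f₂ = k := by
    have := congrArg CategoricalPullback.Hom.fst hf₂
    exact this
  have h2 : l'.map f₂ = g₂ := by
    have := congrArg CategoricalPullback.Hom.snd hf₂
    exact this
  refine ⟨⟨g₁, f₂, ?_⟩, ?_⟩
  · rw [h1]
    simp [k]
  · apply CategoricalPullback.hom_ext
    · rfl
    · exact h2

theorem Φ_essSurj (h₂ : (cmp t' l' r' t'' e₂).IsEquivalence) :
    (Φ r t' l' r' t'' e₂).EssSurj := by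
  refine ⟨fun z => ?_⟩
  -- z = (b, a'', χ)
  let w : r' ⊡ t'' := ⟨r.obj z.fst, z.snd, z.iso⟩
  let a' := (cmp t' l' r' t'' e₂).objPreimage w
  let ι : (cmp t' l' r' t'' e₂).obj a' ≅ w := (cmp t' l' r' t'' e₂).objObjPreimageIso w
  let α : t'.obj a' ≅ r.obj z.fst := (CategoricalPullback.π₁ r' t'').mapIso ι
  let β : l'.obj a' ≅ z.snd := (CategoricalPullback.π₂ r' t'').mapIso ι
  have hw : r'.map α.hom ≫ z.iso.hom = e₂.hom.app a' ≫ t''.map β.hom := ι.hom.w
  refine ⟨⟨z.fst, a', α.symm⟩, ⟨CategoricalPullback.mkIso (Iso.refl z.fst) β ?_⟩⟩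
  show (r ⋙ r').map (𝟙 z.fst) ≫ z.iso.hom = (r'.map α.inv ≫ e₂.hom.app a') ≫ t''.map β.hom
  rw [CategoryTheory.Functor.map_id, Category.id_comp, Category.assoc, ← hw, ← r'.map_comp_assoc,
    Iso.inv_hom_id, r'.map_id, Category.id_comp]

theorem Φ_isEquivalence (h₂ : (cmp t' l' r' t'' e₂).IsEquivalence) :
    (Φ r t' l' r' t'' e₂).IsEquivalence :=
  { faithful := Φ_faithful h₂
    full := Φ_full h₂
    essSurj := Φ_essSurj h₂ }

variable {A : Type u} [Category.{v} A] (t : A ⥤ B) (l : A ⥤ A') (e₁ : t ⋙ r ≅ l ⋙ t')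

/-- the pasted isomorphism -/
abbrev pasted : t ⋙ (r ⋙ r') ≅ (l ⋙ l') ⋙ t'' :=
  (Functor.associator t r r').symm ≪≫ isoWhiskerRight e₁ r' ≪≫ Functor.associator l t' r' ≪≫
    isoWhiskerLeft l e₂ ≪≫ (Functor.associator l l' t'').symm

/-- The outer comparison functor is the upper one followed by `Φ`. -/
def cmpIso : cmp t (l ⋙ l') (r ⋙ r') t'' (pasted (e₂ := e₂) t l e₁) ≅
    cmp t l r t' e₁ ⋙ Φ r t' l' r' t'' e₂ :=
  NatIso.ofComponents (fun a => CategoricalPullback.mkIso (Iso.refl (t.obj a))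
    (Iso.refl (l'.obj (l.obj a))) (by
    show (r ⋙ r').map (𝟙 (t.obj a)) ≫ (r'.map (e₁.hom.app a) ≫ e₂.hom.app (l.obj a)) =
      ((pasted (e₂ := e₂) t l e₁).hom.app a) ≫ t''.map (𝟙 (l'.obj (l.obj a)))
    simp [pasted])) (by
    intro a b f
    apply CategoricalPullback.hom_ext
    · show t.map f ≫ 𝟙 (t.obj b) = 𝟙 (t.obj a) ≫ t.map f
      simp
    · show l'.map (l.map f) ≫ 𝟙 (l'.obj (l.obj b)) = 𝟙 (l'.obj (l.obj a)) ≫ l'.map (l.map f)
      simp)

theorem main (h₂ : FibCat.IsTwoCart t' l' r' t'' e₂) :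
    FibCat.IsTwoCart t l r t' e₁ ↔
      FibCat.IsTwoCart t (l ⋙ l') (r ⋙ r') t'' (pasted (e₂ := e₂) t l e₁) := by
  haveI hΦ : (Φ r t' l' r' t'' e₂).IsEquivalence := Φ_isEquivalence h₂
  constructor
  · intro h₁
    haveI : (cmp t l r t' e₁).IsEquivalence := h₁
    exact Functor.isEquivalence_of_iso (cmpIso (e₂ := e₂) t l e₁).symm
  · intro h₃
    haveI : (cmp t (l ⋙ l') (r ⋙ r') t'' (pasted (e₂ := e₂) t l e₁)).IsEquivalence := h₃
    haveI : (cmp t l r t' e₁ ⋙ Φ r t' l' r' t'' e₂).IsEquivalence :=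
      Functor.isEquivalence_of_iso (cmpIso (e₂ := e₂) t l e₁)
    exact Functor.isEquivalence_of_comp_right (cmp t l r t' e₁) (Φ r t' l' r' t'' e₂)

end Groth.Agent.Lib.Helper17.TwoCartPaste
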