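import Mathlib.Algebra.Polynomial.Reverse
import Mathlib.Algebra.Polynomial.Inductions
import Mathlib.RingTheory.IntegralClosure.IsIntegral.Basic
import Mathlib.RingTheory.Localization.BaseChange
import Mathlib.Algebra.Module.Torsion.Free
import Mathlib.RingTheory.Localization.FractionRing
import Mathlib.Tactic.LinearCombination

/-! Small algebraic lemmas: units via integrality of the inverse; torsion-free modules embed
in their base change to the fraction field. -/

namespace Groth.Agent.Lib.Helper17

open Polynomial

universe u

/-- If `a : A` maps to an element of `K` whose inverse `b` is integral over `A`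
(with `A → K` injective), then `a` is a unit of `A`. -/
theorem isUnit_of_isIntegral_inv {A K : Type*} [CommRing A] [CommRing K] [Algebra A K]
    (hinj : Function.Injective (algebraMap A K)) (a : A) (b : K)
    (hab : algebraMap A K a * b = 1) (hb : IsIntegral A b) : IsUnit a := by
  obtain ⟨P, hP, hPb⟩ := hb
  let _ : Invertible b := ⟨algebraMap A K a, hab, by rw [mul_comm]; exact hab⟩
  have h1 : eval₂ (algebraMap A K) (⅟b) (reverse P) = 0 := by
    rw [eval₂_reverse_eq_zero_iff]; exact hPb
  have h2 : eval a (reverse P) = 0 := by
    apply hinj
    rw [map_zero, ← h1]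
    change algebraMap A K (eval a (reverse P)) = eval₂ (algebraMap A K) (algebraMap A K a) _
    rw [Polynomial.eval₂_at_apply]
  have h3 : (reverse P).coeff 0 = 1 := by rw [coeff_zero_reverse]; exact hP
  have h4 := congrArg (eval a) (divX_mul_X_add (reverse P))
  rw [eval_add, eval_mul, eval_X, eval_C, h3, h2] at h4
  refine IsUnit.of_mul_eq_one (-(eval a (divX (reverse P)))) ?_
  linear_combination (-1 : A) * h4

/-- A torsion-free module over a domain embeds in its base change to the fraction field. -/
theorem mk_one_injective_of_isTorsionFree (A K : Type*) [CommRing A] [IsDomain A] [Field K]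
    [Algebra A K] [IsFractionRing A K] (E : Type*) [AddCommGroup E] [Module A E]
    [Module.IsTorsionFree A E] : Function.Injective (TensorProduct.mk A K E 1) := by
  intro x y hxy
  obtain ⟨c, hc⟩ := (IsLocalizedModule.eq_iff_exists (nonZeroDivisors A)
    (TensorProduct.mk A K E 1)).mp hxy
  have hreg : IsRegular (c : A) := isRegular_iff_ne_zero.mpr (nonZeroDivisors.ne_zero c.2)
  exact hreg.isSMulRegular hc

end Groth.Agent.Lib.Helper17
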