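import Mathlib
import Groth.Agent.Lib.Lead.SD.LowVanish
import Groth.Agent.Lib.Lead.Pn.TwistSeq
import Groth.Agent.Lib.Helper2.GP.H0
import Groth.Agent.Lib.Helper21.CDeg1
import Groth.Agent.Lib.Helper29.Res2
import Groth.Agent.Lib.Helper29.QCohIdealMod
import Groth.Agent.Lib.Helper25.PnEuler

/-!
# Rank two bundles `0 → O → E → J(c) → 0` on `P^n`: vanishing of `H^0` of a twist
-/

set_option autoImplicit false
set_option maxHeartbeats 4000000
set_option synthInstance.maxHeartbeats 400000
set_option backward.isDefEq.respectTransparency.types false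

universe u

open CategoryTheory Limits AlgebraicGeometry TopologicalSpace Opposite

namespace Groth.Agent.Lib.Helper17.VBPn1

open Groth.Agent.Lib.Helper29.QCoh Groth.Agent.Lib.Lead.TwistExact Groth.Agent.Lib.Lead.Pn
open Groth.Agent.Lib.Helper29.QCoh.Res

section general

variable {X : Scheme.{u}}

/-- on an integral scheme, multiplication by a nonzero section of an invertible module is a
monomorphism on any submodule of an invertible module -/
theorem mono_tmulRightHom_of_mono [IsIntegral X] {G G' L : X.Modules} (φ : G ⟶ G') [Mono φ]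
    (hG' : PicF.IsInvertible G') (hL : PicF.IsInvertible L) (s : unitM X ⟶ L) (hs : s ≠ 0) :
    Mono (tmulRightHom G s) := by
  have h1 : Mono (tmulRightHom G' s) :=
    Groth.Agent.Lib.Helper21.CDeg.mono_of_ne_zero hG' (isInvertible_tensorMod hG' hL) _
      (tmulRightHom_ne_zero hG' hL s hs)
  rw [mono_iff_app_injective] at h1 ⊢
  have hφ := (mono_iff_app_injective φ).mp inferInstance
  intro W
  rw [injective_iff_map_eq_zero]
  intro g hg
  rw [tmulRightHom_app] at hg
  apply hφ W
  rw [map_zero]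
  apply h1 W
  rw [map_zero, tmulRightHom_app, ← tensorMapRight_tmulSec φ L W g (sval s W), hg, map_zero]

end general

section Pn

variable (n : ℕ) (k : Type u) [Field k]

/-- a nonzero global section of `O(e)`, `e ≥ 0`, on `P^n_k` -/
theorem exists_section_ne_zero (e : ℕ) :
    ∃ s : unitM (CohB1.ProjSpace n k) ⟶ Twist.twistProjSpace n k (e : ℤ), s ≠ 0 := by
  have h1 : Module.finrank k (CohB1.polyGrading n k e) = Nat.choose (e + n) n :=
    Groth.Agent.Lib.Lead.Pn.finrank_homogeneousSubmodule k n e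
  have hpos : 0 < Module.finrank k (CohB1.polyGrading n k e) := by
    rw [h1]; exact Nat.choose_pos (Nat.le_add_left n e)
  haveI : Nontrivial (CohB1.polyGrading n k e) := Module.nontrivial_of_finrank_pos hpos
  obtain ⟨w, hw⟩ := exists_ne (0 : CohB1.polyGrading n k e)
  let s := homOfSection (Twist.twistProjSpace n k (e : ℤ)) (polySec n k e w)
  have hsv : sval s ⊤ = polySec n k e w := by
    rw [sval_homOfSection, res_self]
  refine ⟨s, ?_⟩
  intro h0
  apply hw
  apply polySec_injective n k e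
  rw [Groth.Agent.Lib.Lead.SD.polySec_zero, ← hsv, h0]
  rfl

/-- `H^0(J(d)) = 0` for `d ≤ m` when `H^0(J(m)) = 0` -/
theorem subsingleton_HH_zero_ideal_of_le (J : (CohB1.ProjSpace n k).IdealSheafData) (d m : ℤ)
    (hdm : d ≤ m)
    (h : Subsingleton (Coh.HH (CohB1.ProjSpace n k) (tw n k (ClSub.idealMod J) m) 0)) :
    Subsingleton (Coh.HH (CohB1.ProjSpace n k) (tw n k (ClSub.idealMod J) d) 0) := by
  obtain ⟨e, rfl⟩ : ∃ e : ℕ, m = d + e := ⟨(m - d).toNat, by omega⟩
  obtain ⟨s, hs⟩ := exists_section_ne_zero n k e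
  haveI : IsIntegral (CohB1.ProjSpace n k) := Groth.Agent.Lib.Lead.SD.isIntegral_projSpace' n k
  set L := Twist.twistProjSpace n k d with hL
  have hLinv : PicF.IsInvertible L := isInvertible_twistProjSpace n k d
  -- the inclusion `J(d) → O(d)`
  haveI : PreservesFiniteLimits (tensorRight L) :=
    preservesFiniteLimits_tensorRight_of_isFlat (isFlat_twistProjSpace n k d)
  let φ : tw n k (ClSub.idealMod J) d ⟶ tw n k (unitM (CohB1.ProjSpace n k)) d :=
    (tensorRight L).map (ClSub.idealModι J)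
  haveI : Mono φ := inferInstanceAs (Mono ((tensorRight L).map (ClSub.idealModι J)))
  have hG' : PicF.IsInvertible (tw n k (unitM (CohB1.ProjSpace n k)) d) :=
    isInvertible_tensorMod (isInvertible_unit _) hLinv
  haveI hm : Mono (tmulRightHom (tw n k (ClSub.idealMod J) d) s) :=
    mono_tmulRightHom_of_mono φ hG' (isInvertible_twistProjSpace n k (e : ℤ)) s hs
  obtain ⟨ι⟩ := nonempty_tw_tw_iso n k (ClSub.idealMod J) d (e : ℤ)
  haveI : Subsingleton (Coh.HH (CohB1.ProjSpace n k)
      (tw n k (tw n k (ClSub.idealMod J) d) (e : ℤ)) 0) :=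
    subsingleton_HH_of_iso ι.symm 0 h
  exact (Groth.Agent.Lib.Helper2.GP.injective_HHlin_of_mono k
    (tmulRightHom (tw n k (ClSub.idealMod J) d) s)).subsingleton

/-- `0 → O → E → J(c) → 0` on `P^n_k`, `n ≥ 2`: `H^0(E(t)) = 0` iff `t < 0` and `H^0(J(d)) = 0`
for all `d ≤ c + t` -/
theorem main (hn : 2 ≤ n) (J : (CohB1.ProjSpace n k).IdealSheafData) (c t : ℤ)
    (S : ShortComplex (CohB1.ProjSpace n k).Modules) (hS : S.ShortExact)
    (h₁ : Nonempty (S.X₁ ≅ Coh.structureModule (CohB1.ProjSpace n k)))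
    (h₃ : Nonempty (S.X₃ ≅ CohB1.tensorMod (ClSub.idealMod J) (Twist.twistProjSpace n k c))) :
    Subsingleton (Coh.HH (CohB1.ProjSpace n k)
        (CohB1.tensorMod S.X₂ (Twist.twistProjSpace n k t)) 0) ↔
      (t < 0 ∧ ∀ d : ℤ, d ≤ c + t →
        Subsingleton (Coh.HH (CohB1.ProjSpace n k)
          (CohB1.tensorMod (ClSub.idealMod J) (Twist.twistProjSpace n k d)) 0)) := by
  set L := Twist.twistProjSpace n k t with hL
  have hT : (S.map (tensorRight L)).ShortExact := shortExact_map_tw n k S hS t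
  obtain ⟨e₁⟩ := h₁
  obtain ⟨e₃⟩ := h₃
  let i₁ : (S.map (tensorRight L)).X₁ ≅ L := (tensorRight L).mapIso e₁ ≪≫ tensorUnitL L
  obtain ⟨a⟩ := nonempty_tw_tw_iso n k (ClSub.idealMod J) c t
  let i₃ : (S.map (tensorRight L)).X₃ ≅ tw n k (ClSub.idealMod J) (c + t) :=
    (tensorRight L).mapIso e₃ ≪≫ a
  constructor
  · intro h2
    have h2' : Subsingleton (Coh.HH (CohB1.ProjSpace n k) (S.map (tensorRight L)).X₂ 0) := h2
    have hX1 : Subsingleton (Coh.HH (CohB1.ProjSpace n k) (S.map (tensorRight L)).X₁ 0) := by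
      haveI : Mono (S.map (tensorRight L)).f := hT.mono_f
      exact (Groth.Agent.Lib.Helper2.GP.injective_HHlin_of_mono k
        (S.map (tensorRight L)).f).subsingleton
    have hLt : Subsingleton (Coh.HH (CohB1.ProjSpace n k) L 0) :=
      subsingleton_HH_of_iso i₁ 0 hX1
    have ht : t < 0 := by
      by_contra hge
      push_neg at hge
      obtain ⟨m, rfl⟩ := Int.eq_ofNat_of_zero_le hge
      have h3 := Groth.Agent.Lib.Helper25.PnEuler.finrank_HH_zero_nonneg k n m
      have h4 : Module.finrank k (Coh.HH (CohB1.ProjSpace n k)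
          (Twist.twistProjSpace n k (m : ℤ)) 0) = 0 := Module.finrank_zero_of_subsingleton
      have h5 : 0 < (m + n).choose n := Nat.choose_pos (Nat.le_add_left n m)
      omega
    refine ⟨ht, ?_⟩
    have hL1 : Subsingleton (Coh.HH (CohB1.ProjSpace n k) L (0 + 1)) :=
      subsingleton_HH_succ (n := n) (R := k) (d := t) 0 (Or.inl (by omega))
    have hX1' : Subsingleton (Coh.HH (CohB1.ProjSpace n k) (S.map (tensorRight L)).X₁ (0 + 1)) :=
      subsingleton_HH_of_iso i₁.symm (0 + 1) hL1
    have hX3 : Subsingleton (Coh.HH (CohB1.ProjSpace n k) (S.map (tensorRight L)).X₃ 0) :=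
      subsingleton_HH_X₃ _ hT 0 h2' hX1'
    have hJ : Subsingleton (Coh.HH (CohB1.ProjSpace n k) (tw n k (ClSub.idealMod J) (c + t)) 0) :=
      subsingleton_HH_of_iso i₃ 0 hX3
    intro d hd
    exact subsingleton_HH_zero_ideal_of_le n k J d (c + t) hd hJ
  · rintro ⟨ht, hJ⟩
    have hL0 : Subsingleton (Coh.HH (CohB1.ProjSpace n k) L 0) :=
      subsingleton_HH_zero (n := n) (R := k) (d := t) (by omega) ht
    have hX1 : Subsingleton (Coh.HH (CohB1.ProjSpace n k) (S.map (tensorRight L)).X₁ 0) :=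
      subsingleton_HH_of_iso i₁.symm 0 hL0
    have hX3 : Subsingleton (Coh.HH (CohB1.ProjSpace n k) (S.map (tensorRight L)).X₃ 0) :=
      subsingleton_HH_of_iso i₃.symm 0 (hJ (c + t) le_rfl)
    exact Groth.Agent.Lib.Lead.Koszul.subsingleton_HH_X₂ _ hT 0 hX1 hX3

end Pn

end Groth.Agent.Lib.Helper17.VBPn1

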