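import Mathlib.RingTheory.GradedAlgebra.FiniteType
import Mathlib.RingTheory.GradedAlgebra.Basic
import Mathlib.Algebra.Group.Submonoid.Finsupp
import Mathlib.RingTheory.Adjoin.Basic

/-! Generators for the Veronese subring of a finitely generated graded ring. -/

namespace Groth.Agent.Lib.Helper17

open DirectSum

variable {R A : Type*} [CommRing R] [CommRing A] [Algebra R A] (𝒜 : ℕ → Submodule R A)
  [GradedAlgebra 𝒜]

/-- The finite set of "small" monomials in homogeneous generators `v` whose degree is
divisible by `d`. -/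
def veroneseGens {ι' : Type*} [Fintype ι'] (v : ι' → A) (dv : ι' → ℕ) (d : ℕ) : Set A :=
  { x | ∃ ai : ι' → ℕ, (∀ i, ai i ≤ d) ∧ d ∣ ∑ i, ai i • dv i ∧ x = ∏ i, v i ^ ai i }

theorem veroneseGens_finite {ι' : Type*} [Fintype ι'] (v : ι' → A) (dv : ι' → ℕ) (d : ℕ) :
    (veroneseGens v dv d).Finite := by
  classical
  have : veroneseGens v dv d ⊆
      Set.range (fun ai : ι' → Fin (d + 1) => ∏ i, v i ^ (ai i : ℕ)) := by
    rintro x ⟨ai, hle, -, rfl⟩
    exact ⟨fun i => ⟨ai i, Nat.lt_succ_of_le (hle i)⟩, rfl⟩
  exact (Set.finite_range _).subset this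

theorem veroneseGens_homogeneous {ι' : Type*} [Fintype ι'] (v : ι' → A) (dv : ι' → ℕ) (d : ℕ)
    (hv : ∀ i, v i ∈ 𝒜 (dv i)) {x : A} (hx : x ∈ veroneseGens v dv d) :
    ∃ k, x ∈ 𝒜 (k * d) := by
  obtain ⟨ai, -, ⟨k, hk⟩, rfl⟩ := hx
  refine ⟨k, ?_⟩
  rw [mul_comm, ← hk]
  exact SetLike.prod_pow_mem_graded _ _ _ _ fun i _ => hv i

/-- Every homogeneous element of degree divisible by `d` lies in the subalgebra generated
by the small monomials of degree divisible by `d`. -/
theorem mem_adjoin_veroneseGens {ι' : Type*} [Fintype ι'] (v : ι' → A) (dv : ι' → ℕ) (d : ℕ)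
    (hd : 0 < d) (hv : ∀ i, v i ∈ 𝒜 (dv i))
    (hgen : Algebra.adjoin (𝒜 0) (Set.range v) = ⊤) (n : ℕ) (a : A) (ha : a ∈ 𝒜 (n * d)) :
    a ∈ Algebra.adjoin (𝒜 0) (veroneseGens v dv d) := by
  classical
  set S := Algebra.adjoin (𝒜 0) (veroneseGens v dv d) with hS
  have key : ∀ x : A, x ∈ Submodule.span (𝒜 0) (Submonoid.closure (Set.range v) : Set A) →
      ∀ m, d ∣ m → ((decompose 𝒜 x m : 𝒜 m) : A) ∈ S := by
    intro x hx
    induction hx using Submodule.span_induction with
    | mem x hx =>
      obtain ⟨ai, rfl⟩ := Submonoid.exists_of_mem_closure_range _ _ hx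
      intro m hm
      have hmem : ∏ i, v i ^ ai i ∈ 𝒜 (∑ i, ai i • dv i) :=
        SetLike.prod_pow_mem_graded _ _ _ _ fun i _ => hv i
      by_cases hD : ∑ i, ai i • dv i = m
      · rw [← hD, decompose_of_mem_same 𝒜 hmem]
        have hsplit : ∏ i, v i ^ ai i =
            (∏ i, v i ^ (ai i % d)) * ∏ i, (v i ^ d) ^ (ai i / d) := by
          rw [← Finset.prod_mul_distrib]
          refine Finset.prod_congr rfl fun i _ => ?_
          rw [← pow_mul, ← pow_add, Nat.mod_add_div]
        rw [hsplit]
        refine S.mul_mem (Algebra.subset_adjoin ?_) (Subalgebra.prod_mem _ fun i _ => ?_)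
        · refine ⟨fun i => ai i % d, fun i => (Nat.mod_lt _ hd).le, ?_, rfl⟩
          have h1 : ∑ i, ai i • dv i = ∑ i, (ai i % d) • dv i + d * ∑ i, (ai i / d) * dv i := by
            rw [Finset.mul_sum, ← Finset.sum_add_distrib]
            refine Finset.sum_congr rfl fun i _ => ?_
            simp only [smul_eq_mul]
            conv_lhs => rw [← Nat.mod_add_div (ai i) d]
            ring
          have h2 : d ∣ ∑ i, ai i • dv i := hD ▸ hm
          rw [h1] at h2
          exact (Nat.dvd_add_left (Dvd.intro _ rfl)).mp h2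
        · refine S.pow_mem (Algebra.subset_adjoin ?_) _
          refine ⟨Pi.single i d, ?_, ?_, ?_⟩
          · intro j
            by_cases hj : j = i
            · subst hj; simp
            · simp [hj]
          · rw [Finset.sum_eq_single i]
            · simp
            · intro j _ hj
              simp [hj]
            · simp
          · rw [Finset.prod_eq_single i]
            · simp
            · intro j _ hj
              simp [hj]
            · simp
      · rw [decompose_of_mem_ne 𝒜 hmem hD]
        exact S.zero_mem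
    | zero => intro m _; rw [decompose_zero]; exact S.zero_mem
    | add x y _ _ hx hy =>
      intro m hm
      rw [decompose_add, add_apply, AddMemClass.coe_add]
      exact S.add_mem (hx m hm) (hy m hm)
    | smul r x _ hx =>
      intro m hm
      rw [Algebra.smul_def, coe_decompose_mul_of_left_mem_zero 𝒜 (by exact r.2)]
      exact S.mul_mem (S.algebraMap_mem r) (hx m hm)
  have hspan : a ∈ Submodule.span (𝒜 0) (Submonoid.closure (Set.range v) : Set A) := by
    rw [← Algebra.adjoin_eq_span, hgen]
    trivial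
  have := key a hspan (n * d) (Dvd.intro_left n rfl)
  rwa [decompose_of_mem_same 𝒜 ha] at this

end Groth.Agent.Lib.Helper17
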