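import Mathlib

namespace Groth.Agent.Lib.Helper17.WronskB
open Polynomial

variable {k : Type*} [Field k] [CharZero k]

lemma coeff_X_mul_deriv (Φ : k[X]) (m : ℕ) :
    (X * derivative Φ).coeff m = (m : k) * Φ.coeff m := by
  cases m with
  | zero => simp
  | succ m => rw [coeff_X_mul, coeff_derivative]; push_cast; ring

lemma coeff_X_X_mul_deriv2 (Φ : k[X]) (m : ℕ) :
    (X * (X * derivative (derivative Φ))).coeff m = (m : k) * ((m : k) - 1) * Φ.coeff m := by
  cases m with
  | zero => simp
  | succ m =>
    rw [coeff_X_mul, coeff_X_mul_deriv, coeff_derivative]; push_cast; ring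

/-- the hypergeometric ODE from the coefficient recurrence -/
lemma ode_of_rec (h : k[X]) (e n j : k)
    (hrec : ∀ m : ℕ, ((m : k) + 1) * ((m : k) + 1 + e) * h.coeff (m + 1)
      = (n - m) * (j - m) * h.coeff m) :
    X * (1 - X) * derivative (derivative h) + (C (1 + e) - C (1 - n - j) * X) * derivative h
      - C (n * j) * h = 0 := by
  ext m
  have h1 : X * (1 - X) * derivative (derivative h) + (C (1 + e) - C (1 - n - j) * X) * derivative h
      - C (n * j) * h
      = X * derivative (derivative h) - X * (X * derivative (derivative h))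
        + C (1 + e) * derivative h - C (1 - n - j) * (X * derivative h) - C (n * j) * h := by ring
  rw [h1, coeff_sub, coeff_sub, coeff_add, coeff_sub, coeff_C_mul, coeff_C_mul, coeff_C_mul,
    coeff_X_mul_deriv, coeff_X_mul_deriv, coeff_X_X_mul_deriv2, coeff_derivative, coeff_zero]
  linear_combination hrec m

/-- a solution of the ODE has no multiple root outside `0, 1` -/
lemma rootMultiplicity_le_one_of_ode (h : k[X]) (B : k[X]) (κ : k)
    (hode : X * (1 - X) * derivative (derivative h) + B * derivative h - C κ * h = 0)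
    (c : k) (hc0 : c ≠ 0) (hc1 : c ≠ 1) : rootMultiplicity c h ≤ 1 := by
  by_contra hcon
  push Not at hcon
  have hh0 : h ≠ 0 := by
    rintro rfl
    simp at hcon
  obtain ⟨g, hg, hndvd⟩ := exists_eq_pow_rootMultiplicity_mul_and_not_dvd h hh0 c
  obtain ⟨ν, hν⟩ : ∃ ν, rootMultiplicity c h = ν + 2 := ⟨rootMultiplicity c h - 2, by omega⟩
  rw [hν] at hg
  have hd2 : derivative ((X - C c) ^ (ν + 2)) = C ((ν : k) + 2) * (X - C c) ^ (ν + 1) := by
    rw [derivative_X_sub_C_pow]; simp
  have hd1 : derivative ((X - C c) ^ (ν + 1)) = C ((ν : k) + 1) * (X - C c) ^ ν := by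
    rw [derivative_X_sub_C_pow]; simp
  have hder1 : derivative h = C ((ν : k) + 2) * (X - C c) ^ (ν + 1) * g
      + (X - C c) ^ (ν + 2) * derivative g := by
    rw [hg, derivative_mul, hd2]
  have hder2 : derivative (derivative h) =
      C ((ν : k) + 2) * (C ((ν : k) + 1) * (X - C c) ^ ν * g + (X - C c) ^ (ν + 1) * derivative g)
      + (C ((ν : k) + 2) * (X - C c) ^ (ν + 1) * derivative g
        + (X - C c) ^ (ν + 2) * derivative (derivative g)) := by
    rw [hder1, derivative_add, derivative_mul, derivative_mul, derivative_mul, hd2, hd1,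
      derivative_C, zero_mul, zero_add]
    ring
  rw [hder2, hder1] at hode
  have hfact : (X - C c) ^ ν * (X * (1 - X) * C (((ν : k) + 2) * ((ν : k) + 1)) * g
      + (X - C c) * (X * (1 - X) * (C 2 * C ((ν : k) + 2) * derivative g
          + (X - C c) * derivative (derivative g))
        + B * (C ((ν : k) + 2) * g + (X - C c) * derivative g) - C κ * (X - C c) * g)) = 0 := by
    rw [← hode]
    conv_rhs => rw [hg]
    simp only [map_mul, map_add, map_ofNat]
    ring
  have hne : (X - C c) ^ ν ≠ 0 := pow_ne_zero _ (X_sub_C_ne_zero c)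
  have h2 := (mul_eq_zero.mp hfact).resolve_left hne
  have h3 : (X - C c) ∣ X * (1 - X) * C (((ν : k) + 2) * ((ν : k) + 1)) * g := by
    have : X * (1 - X) * C (((ν : k) + 2) * ((ν : k) + 1)) * g
      = -((X - C c) * (X * (1 - X) * (C 2 * C ((ν : k) + 2) * derivative g
          + (X - C c) * derivative (derivative g))
        + B * (C ((ν : k) + 2) * g + (X - C c) * derivative g) - C κ * (X - C c) * g)) := by
      linear_combination h2
    rw [this]
    exact (dvd_mul_right _ _).neg_right
  rw [dvd_iff_isRoot, IsRoot.def] at h3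
  simp only [eval_mul, eval_X, eval_sub, eval_one, eval_C] at h3
  have hν2 : (ν : k) + 2 ≠ 0 := by exact_mod_cast (by omega : ν + 2 ≠ 0)
  have hν1 : (ν : k) + 1 ≠ 0 := by exact_mod_cast (by omega : ν + 1 ≠ 0)
  have h4 : g.eval c = 0 := by
    rcases mul_eq_zero.mp h3 with h5 | h5
    · exfalso
      rcases mul_eq_zero.mp h5 with h6 | h6
      · rcases mul_eq_zero.mp h6 with h7 | h7
        · exact hc0 h7
        · exact hc1 (sub_eq_zero.mp h7).symm
      · exact (mul_ne_zero hν2 hν1) h6
    · exact h5
  exact hndvd (dvd_iff_isRoot.mpr h4)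

end Groth.Agent.Lib.Helper17.WronskB
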