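import Mathlib
import Groth.Agent.Lib.Helper17.WronskB

namespace Groth.Agent.Lib.Helper17.WronskB
open Polynomial

set_option linter.unusedSectionVars false

variable {k : Type*} [Field k] [CharZero k]

lemma choose_rec (i l : ℕ) :
    ((i : k) - l) * (i.choose l : k) = ((l : k) + 1) * (i.choose (l + 1) : k) := by
  by_cases h : l ≤ i
  · have := Nat.choose_succ_right_eq i l
    have h2 := congrArg (Nat.cast : ℕ → k) this
    rw [Nat.cast_mul, Nat.cast_mul, Nat.cast_sub h] at h2
    push_cast at h2
    linear_combination -h2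
  · push Not at h
    rw [Nat.choose_eq_zero_of_lt h, Nat.choose_eq_zero_of_lt (by omega : i < l + 1)]
    simp

/-- the binomial-sum polynomial -/
noncomputable def hpoly (k : Type*) [Field k] (i j n : ℕ) : k[X] :=
  ∑ l ∈ Finset.range (n + 1), C (((i.choose l) * (j.choose (n - l)) : ℕ) : k) * X ^ (n - l)

lemma coeff_hpoly (i j n m : ℕ) :
    (hpoly k i j n).coeff m
      = if m ≤ n then (((i.choose (n - m)) * (j.choose m) : ℕ) : k) else 0 := by
  classical
  rw [hpoly, finsetSum_coeff]
  simp only [coeff_C_mul_X_pow]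
  split_ifs with h
  · rw [Finset.sum_eq_single (n - m)]
    · rw [if_pos (by omega)]
      have : n - (n - m) = m := by omega
      rw [this]
    · intro l hl hne
      rw [Finset.mem_range] at hl
      rw [if_neg (by omega)]
    · intro hnm
      exfalso; apply hnm; rw [Finset.mem_range]; omega
  · apply Finset.sum_eq_zero
    intro l _
    rw [if_neg (by omega)]

lemma hpoly_rec (i j n m : ℕ) :
    ((m : k) + 1) * ((m : k) + 1 + ((i : k) - n)) * (hpoly k i j n).coeff (m + 1)
      = ((n : k) - m) * ((j : k) - m) * (hpoly k i j n).coeff m := by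
  rw [coeff_hpoly, coeff_hpoly]
  by_cases h1 : m + 1 ≤ n
  · rw [if_pos h1, if_pos (by omega)]
    obtain ⟨l, hl⟩ : ∃ l, n = m + l + 1 := ⟨n - m - 1, by omega⟩
    have e1 : n - (m + 1) = l := by omega
    have e2 : n - m = l + 1 := by omega
    rw [e1, e2, hl]
    push_cast
    have hA := choose_rec (k := k) i l
    have hB := choose_rec (k := k) j m
    linear_combination ((m : k) + 1) * (j.choose (m + 1) : k) * hA
      - ((l : k) + 1) * (i.choose (l + 1) : k) * hB
  · rw [if_neg h1]
    by_cases h2 : m ≤ n
    · have : m = n := by omega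
      subst this
      simp
    · rw [if_neg h2]; simp

theorem main (i j n : ℕ) (c : k) (hc0 : c ≠ 0) (hc1 : c ≠ 1) :
    rootMultiplicity c (hpoly k i j n) ≤ 1 := by
  have hode := ode_of_rec (hpoly k i j n) ((i : k) - n) (n : k) (j : k) (hpoly_rec i j n)
  exact rootMultiplicity_le_one_of_ode _ _ _ hode c hc0 hc1

end Groth.Agent.Lib.Helper17.WronskB
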