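import Mathlib

open Polynomial

namespace Groth.Agent.Lib.Helper17.WronskLib

variable {k : Type*} [Field k]

/-- a subspace of polynomials on which evaluation at `t` is injective has dimension at most one -/
lemma finrank_le_one_of_eval (W : Submodule k (Polynomial k)) (t : k)
    (h : ∀ g ∈ W, g.eval t = 0 → g = 0) : Module.finrank k W ≤ 1 := by
  have hinj : Function.Injective ((Polynomial.leval t).domRestrict W) := by
    rw [← LinearMap.ker_eq_bot, LinearMap.ker_eq_bot']
    intro g hg
    have : (g : Polynomial k).eval t = 0 := hg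
    exact Subtype.ext (h g.1 g.2 this)
  have := LinearMap.finrank_le_finrank_of_injective hinj
  rwa [Module.finrank_self] at this

/-- a polynomial of degree at most one with two distinct roots vanishes -/
lemma eq_zero_of_two_roots (h : Polynomial k) (hd : h.degree ≤ 1) {r s : k} (hrs : r ≠ s)
    (hr : h.eval r = 0) (hs : h.eval s = 0) : h = 0 := by
  classical
  by_contra hne
  have h1 : ({r, s} : Finset k).card ≤ h.natDegree := by
    apply Polynomial.card_le_degree_of_subset_roots
    intro x hx
    rw [Finset.mem_val, Finset.mem_insert, Finset.mem_singleton] at hx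
    rcases hx with rfl | rfl
    · exact (Polynomial.mem_roots hne).2 hr
    · exact (Polynomial.mem_roots hne).2 hs
  rw [Finset.card_pair hrs] at h1
  have h2 : h.natDegree ≤ 1 := Polynomial.natDegree_le_of_degree_le hd
  omega

/-- quotient by a power of a linear factor has small degree -/
lemma degree_quot_le (p : k) (a : ℕ) (g h : Polynomial k) (hg : g = (X - C p) ^ a * h)
    (hd : g.degree ≤ ↑(a + 1)) : h.degree ≤ 1 := by
  by_cases h0 : h = 0
  · rw [h0, degree_zero]; exact bot_le
  have hm : ((X - C p) ^ a : Polynomial k).Monic := (monic_X_sub_C p).pow a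
  have hdeg : g.degree = ((X - C p) ^ a : Polynomial k).degree + h.degree := by
    rw [hg, degree_mul]
  rw [hdeg, degree_pow, degree_X_sub_C, nsmul_one] at hd
  rw [degree_eq_natDegree h0] at hd ⊢
  have : (a : WithBot ℕ) + (h.natDegree : WithBot ℕ) ≤ ((a + 1 : ℕ) : WithBot ℕ) := by
    exact_mod_cast hd
  have h3 : a + h.natDegree ≤ a + 1 := by exact_mod_cast this
  have : h.natDegree ≤ 1 := by omega
  exact_mod_cast this

/-- members of the system `c + X (X+1) F` -/
lemma mem_V (a : ℕ) (g : Polynomial k)
    (hg : g ∈ Submodule.span k {(1 : Polynomial k)} ⊔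
      ((Ideal.span {(X : Polynomial k) * (X + 1)}).restrictScalars k ⊓ Polynomial.degreeLE k ↑(a + 1))) :
    g.degree ≤ ↑(a + 1) ∧ g.eval 0 = g.eval (-1) := by
  obtain ⟨y, hy, z, hz, rfl⟩ := Submodule.mem_sup.1 hg
  obtain ⟨c, rfl⟩ := Submodule.mem_span_singleton.1 hy
  obtain ⟨hz1, hz2⟩ := hz
  have hz1' : (X : Polynomial k) * (X + 1) ∣ z := Ideal.mem_span_singleton.1 hz1
  obtain ⟨F, rfl⟩ := hz1'
  constructor
  · refine (degree_add_le _ _).trans (max_le ?_ (Polynomial.mem_degreeLE.1 hz2))
    have : (c • (1 : Polynomial k)).degree ≤ 0 := by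
      rw [Polynomial.smul_eq_C_mul, mul_one]; exact degree_C_le
    exact this.trans (by exact_mod_cast Nat.zero_le _)
  · simp



lemma degree_quot_le' (P g h : Polynomial k) (hP : P.Monic) (m n : ℕ) (hm : P.natDegree = m)
    (hg : g = P * h) (hd : g.degree ≤ ↑n) : h.degree ≤ ↑(n - m) := by
  by_cases h0 : h = 0
  · rw [h0, degree_zero]; exact bot_le
  have hdeg : g.natDegree = m + h.natDegree := by
    rw [hg, hP.natDegree_mul' h0, hm]
  have hg0 : g ≠ 0 := by
    rw [hg]; exact mul_ne_zero hP.ne_zero h0
  rw [degree_eq_natDegree hg0] at hd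
  have h3 : g.natDegree ≤ n := by exact_mod_cast hd
  rw [degree_eq_natDegree h0]
  have : h.natDegree ≤ n - m := by omega
  exact_mod_cast this

/-- converse membership in the system `c + X (X+1) F` -/
lemma mem_V_of (a : ℕ) (g : Polynomial k) (hd : g.degree ≤ ↑(a + 1)) (hdiv : X * (X + 1) ∣ g) :
    g ∈ Submodule.span k {(1 : Polynomial k)} ⊔
      ((Ideal.span {(X : Polynomial k) * (X + 1)}).restrictScalars k ⊓ Polynomial.degreeLE k ↑(a + 1)) := by
  apply Submodule.mem_sup_right
  exact ⟨Ideal.mem_span_singleton.2 hdiv, Polynomial.mem_degreeLE.2 hd⟩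



instance finite_degreeLT (n : ℕ) : Module.Finite k (degreeLT k n) :=
  Module.Finite.equiv (degreeLTEquiv k n).symm

lemma finrank_degreeLT (n : ℕ) : Module.finrank k (degreeLT k n) = n := by
  rw [(degreeLTEquiv k n).finrank_eq, Module.finrank_fin_fun]

instance finite_degreeLE (n : ℕ) : Module.Finite k (degreeLE k (n : WithBot ℕ)) := by
  rw [← degreeLT_succ_eq_degreeLE]; infer_instance

lemma finite_of_le_degreeLE (W : Submodule k (Polynomial k)) (n : ℕ)
    (h : W ≤ degreeLE k (n : WithBot ℕ)) : Module.Finite k W :=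
  Submodule.finiteDimensional_of_le h

/-- lower bound: multiples `P * h`, `h` of degree `< d`, inside `W` -/
lemma le_finrank_of_mul_mem (W : Submodule k (Polynomial k)) [Module.Finite k W] (P : Polynomial k)
    (hP : P ≠ 0) (d : ℕ) (h : ∀ f ∈ degreeLT k d, P * f ∈ W) : d ≤ Module.finrank k W := by
  let ψ : degreeLT k d →ₗ[k] W :=
    LinearMap.codRestrict W ((LinearMap.mulLeft k P).domRestrict (degreeLT k d))
      (fun f => h f.1 f.2)
  have hinj : Function.Injective ψ := by
    rw [← LinearMap.ker_eq_bot, LinearMap.ker_eq_bot']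
    intro f hf
    have h1 : P * (f : Polynomial k) = 0 := congrArg Subtype.val hf
    exact Subtype.ext ((mul_eq_zero.1 h1).resolve_left hP)
  have := LinearMap.finrank_le_finrank_of_injective hinj
  rwa [finrank_degreeLT] at this

/-- upper bound: `W` consists of multiples `P * h` with `h` of degree `< d` killed by a functional
nonzero on `degreeLT d` -/
lemma finrank_lt_of_mul (W : Submodule k (Polynomial k)) (P : Polynomial k) (d : ℕ)
    (lam : Polynomial k →ₗ[k] k) (h0 : Polynomial k) (h0d : h0 ∈ degreeLT k d) (h0l : lam h0 ≠ 0)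
    (h : ∀ g ∈ W, ∃ f ∈ degreeLT k d, lam f = 0 ∧ g = P * f) : Module.finrank k W < d := by
  have hlt : degreeLT k d ⊓ LinearMap.ker lam < degreeLT k d := by
    refine lt_of_le_of_ne inf_le_left ?_
    intro heq
    have : h0 ∈ degreeLT k d ⊓ LinearMap.ker lam := by rw [heq]; exact h0d
    exact h0l this.2
  have h1 : Module.finrank k ↥(degreeLT k d ⊓ LinearMap.ker lam) < d := by
    have := Submodule.finrank_lt_finrank_of_lt hlt
    rwa [finrank_degreeLT] at this
  have hle : W ≤ (degreeLT k d ⊓ LinearMap.ker lam).map (LinearMap.mulLeft k P) := by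
    intro g hg
    obtain ⟨f, hf, hlf, rfl⟩ := h g hg
    exact ⟨f, ⟨hf, hlf⟩, rfl⟩
  have : Module.Finite k ↥(degreeLT k d ⊓ LinearMap.ker lam) :=
    Submodule.finiteDimensional_of_le inf_le_left
  have h2 := Submodule.finrank_mono hle
  have h3 := Submodule.finrank_map_le (LinearMap.mulLeft k P) (degreeLT k d ⊓ LinearMap.ker lam)
  omega

end Groth.Agent.Lib.Helper17.WronskLib
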