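import Mathlib

namespace Groth.Agent.Lib.Helper17.WronskV
open Polynomial

variable {k : Type*} [Field k] [CharZero k] (a b : ℕ)

/-- the operator `Φ ↦ X(X-1)Φ' - ((a+b)X - a)Φ`; `T Φ / (X^(a+1)(X-1)^(b+1)) = (Φ/(X^a (X-1)^b))'` -/
noncomputable def T : k[X] →ₗ[k] k[X] :=
  LinearMap.mulLeft k (X * (X - 1)) ∘ₗ derivative
    - LinearMap.mulLeft k ((C (a : k) + C (b : k)) * X - C (a : k))

lemma T_apply (Φ : k[X]) :
    T a b Φ = X * (X - 1) * derivative Φ - ((C (a : k) + C (b : k)) * X - C (a : k)) * Φ := by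
  simp [T, mul_assoc]

lemma lin_mul_deriv_pow (p : k) (m : ℕ) :
    (X - C p) * derivative ((X - C p) ^ m) = C (m : k) * (X - C p) ^ m := by
  rw [derivative_X_sub_C_pow]
  cases m with
  | zero => simp
  | succ m => simp only [Nat.add_sub_cancel]; rw [pow_succ]; ring

lemma X_mul_deriv_pow (m : ℕ) :
    (X : k[X]) * derivative (X ^ m) = C (m : k) * X ^ m := by
  have := lin_mul_deriv_pow (0 : k) m
  simpa using this

lemma X1_mul_deriv_pow (m : ℕ) :
    ((X : k[X]) - 1) * derivative ((X - 1) ^ m) = C (m : k) * (X - 1) ^ m := by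
  have := lin_mul_deriv_pow (1 : k) m
  simpa using this

/-- `T (X^a u) = X^(a+1) ((X-1) u' - b u)` -/
lemma T_Xpow_mul (u : k[X]) :
    T a b (X ^ a * u) = X ^ (a + 1) * ((X - 1) * derivative u - C (b : k) * u) := by
  rw [T_apply, derivative_mul]
  linear_combination ((X - 1) * u) * X_mul_deriv_pow (k := k) a

/-- `T ((X-1)^b u) = (X-1)^(b+1) (X u' - a u)` -/
lemma T_X1pow_mul (u : k[X]) :
    T a b ((X - 1) ^ b * u) = (X - 1) ^ (b + 1) * (X * derivative u - C (a : k) * u) := by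
  rw [T_apply, derivative_mul]
  linear_combination (X * u) * X1_mul_deriv_pow (k := k) b

/-- `T (X^i u) = X^i T_{a-i,b} u` -/
lemma T_Xpow_mul' (i : ℕ) (hi : i ≤ a) (u : k[X]) :
    T a b (X ^ i * u) = X ^ i * T (a - i) b u := by
  rw [T_apply, T_apply, derivative_mul]
  have h : (C ((a - i : ℕ) : k) : k[X]) = C (a : k) - C (i : k) := by
    rw [Nat.cast_sub hi, map_sub]
  rw [h]
  linear_combination ((X - 1) * u) * X_mul_deriv_pow (k := k) i

/-- the general product rule: `T ((X-p)^(m+1) N) = (X-p)^m (X(X-1)(m+1)N + (X-p) T N)` -/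
lemma T_lin_pow_mul (p : k) (m : ℕ) (N : k[X]) :
    T a b ((X - C p) ^ (m + 1) * N)
      = (X - C p) ^ m * (X * (X - 1) * C ((m : k) + 1) * N + (X - C p) * T a b N) := by
  rw [T_apply, T_apply, derivative_mul]
  have h := lin_mul_deriv_pow p (m + 1)
  rw [pow_succ] at h ⊢
  have h2 : derivative ((X - C p) ^ m * (X - C p)) = C ((m : k) + 1) * (X - C p) ^ m := by
    rw [← pow_succ, derivative_X_sub_C_pow]; simp
  rw [h2]
  ring

set_option linter.unusedSectionVars false

variable {k : Type*} [Field k] [CharZero k] (a b : ℕ)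

lemma coeff_X_mul_deriv (Φ : k[X]) (m : ℕ) :
    (X * derivative Φ).coeff m = (m : k) * Φ.coeff m := by
  cases m with
  | zero => simp
  | succ m => rw [coeff_X_mul, coeff_derivative]; push_cast; ring

lemma coeff_T_succ (Φ : k[X]) (m : ℕ) :
    (T a b Φ).coeff (m + 1) = ((m : k) - a - b) * Φ.coeff m + ((a : k) - m - 1) * Φ.coeff (m + 1) := by
  have h : T a b Φ = X * (X * derivative Φ) - X * derivative Φ - C ((a : k) + b) * (X * Φ)
      + C (a : k) * Φ := by
    rw [T_apply, map_add]; ring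
  have h1 : (X * (X * derivative Φ)).coeff (m + 1) = (m : k) * Φ.coeff m := by
    rw [coeff_X_mul, coeff_X_mul_deriv]
  have h2 : (X * derivative Φ).coeff (m + 1) = ((m : k) + 1) * Φ.coeff (m + 1) := by
    rw [coeff_X_mul_deriv]; push_cast; ring
  have h3 : (X * Φ).coeff (m + 1) = Φ.coeff m := coeff_X_mul _ _
  rw [h, coeff_add, coeff_sub, coeff_sub, coeff_C_mul, coeff_C_mul, h1, h2, h3]
  ring

lemma coeff_T_zero (Φ : k[X]) : (T a b Φ).coeff 0 = (a : k) * Φ.coeff 0 := by
  have h : T a b Φ = X * ((X - 1) * derivative Φ - C ((a : k) + b) * Φ)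
      + C (a : k) * Φ := by
    rw [T_apply, map_add]; ring
  rw [h, coeff_add, coeff_X_mul_zero, coeff_C_mul, zero_add]

/-- the image of `T` on polynomials of degree `≤ a+b+1` -/
noncomputable def W : Submodule k k[X] := Submodule.map (T a b) (degreeLE k ↑(a + b + 1))

lemma coeff_eq_zero_of_mem_degreeLE {Φ : k[X]} {n m : ℕ} (h : Φ ∈ degreeLE k (n : WithBot ℕ))
    (hm : n < m) : Φ.coeff m = 0 := by
  rw [mem_degreeLE] at h
  exact coeff_eq_zero_of_degree_lt (lt_of_le_of_lt h (by exact_mod_cast hm))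

lemma mem_W_iff (f : k[X]) : f ∈ W a b ↔ ∃ Φ ∈ degreeLE k (↑(a + b + 1) : WithBot ℕ), T a b Φ = f :=
  Submodule.mem_map

lemma T_mem_degreeLE {Φ : k[X]} {n : ℕ} (h : Φ ∈ degreeLE k (n : WithBot ℕ)) :
    T a b Φ ∈ degreeLE k (↑(n + 1) : WithBot ℕ) := by
  rw [mem_degreeLE, degree_le_iff_coeff_zero]
  intro m hm
  have hm' : n + 1 < m := by exact_mod_cast hm
  obtain ⟨m', rfl⟩ : ∃ m', m = m' + 1 := ⟨m - 1, by omega⟩
  rw [coeff_T_succ, coeff_eq_zero_of_mem_degreeLE h (by omega : n < m'),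
    coeff_eq_zero_of_mem_degreeLE h (by omega : n < m' + 1)]
  ring

/-- top coefficients of `T Φ` -/
lemma coeff_T_top {Φ : k[X]} (h : Φ ∈ degreeLE k (↑(a + b + 1) : WithBot ℕ)) :
    (T a b Φ).coeff (a + b + 2) = Φ.coeff (a + b + 1) ∧
    (T a b Φ).coeff (a + b + 1) = -((b : k) + 1) * Φ.coeff (a + b + 1) := by
  constructor
  · rw [coeff_T_succ, coeff_eq_zero_of_mem_degreeLE h (by omega : a + b + 1 < a + b + 1 + 1)]
    push_cast; ring
  · rw [coeff_T_succ]
    push_cast; ring


lemma coeff_X_mul_deriv' (Φ : k[X]) (m : ℕ) :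
    (X * derivative Φ).coeff m = (m : k) * Φ.coeff m := by
  cases m with
  | zero => simp
  | succ m => rw [coeff_X_mul, coeff_derivative]; push_cast; ring

/-- solving `X u' - c u = g` in degree `< c` -/
lemma solve (c : ℕ) (g : k[X]) (hg : g.degree < c) :
    ∃ u : k[X], u.degree < c ∧ X * derivative u - C (c : k) * u = g := by
  classical
  let u : k[X] := ∑ m ∈ Finset.range c, C (g.coeff m / ((m : k) - c)) * X ^ m
  have hu : ∀ m, u.coeff m = if m < c then g.coeff m / ((m : k) - c) else 0 := by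
    intro m
    simp only [u, finsetSum_coeff, coeff_C_mul_X_pow]
    rw [Finset.sum_ite_eq]
    simp
  refine ⟨u, ?_, ?_⟩
  · rw [degree_lt_iff_coeff_zero]
    intro m hm
    rw [hu, if_neg (by omega)]
  · ext m
    rw [coeff_sub, coeff_X_mul_deriv', coeff_C_mul, hu]
    split_ifs with h
    · have hne : (m : k) - c ≠ 0 := by
        rw [sub_ne_zero]
        exact_mod_cast (ne_of_lt h)
      field_simp
    · rw [coeff_eq_zero_of_degree_lt (lt_of_lt_of_le hg (by exact_mod_cast (not_lt.mp h)))]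
      ring

/-- solving `(X-1) u' - c u = g` in degree `< c` -/
lemma solve1 (c : ℕ) (g : k[X]) (hg : g.degree < c) :
    ∃ u : k[X], u.degree < c ∧ (X - 1) * derivative u - C (c : k) * u = g := by
  obtain ⟨u, hu, h⟩ := solve c (taylor 1 g) (by rw [degree_taylor]; exact hg)
  refine ⟨taylor (-1) u, by rw [degree_taylor]; exact hu, ?_⟩
  have h2 := congrArg (taylor (-1)) h
  rw [taylor_taylor, neg_add_cancel, taylor_zero, map_sub, taylor_mul, taylor_mul, taylor_X,
    taylor_C] at h2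
  have h3 : taylor (-1) (derivative u) = derivative (taylor (-1) u) := by
    rw [taylor_apply, taylor_apply, derivative_comp]
    simp
  rw [h3] at h2
  rw [← h2]
  simp [sub_eq_add_neg]

/-- lifting the order of vanishing through `T` at a point `p ≠ 0, 1` -/
lemma lift (p : k) (hp0 : p ≠ 0) (hp1 : p ≠ 1) (m : ℕ) :
    ∀ N : k[X], N.eval p = 0 → (X - C p) ^ m ∣ T a b N → (X - C p) ^ (m + 1) ∣ N := by
  induction m with
  | zero =>
    intro N hN _
    rw [zero_add, pow_one, dvd_iff_isRoot]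
    exact hN
  | succ m ih =>
    intro N hN h
    obtain ⟨N₀, rfl⟩ := ih N hN (dvd_trans (pow_dvd_pow _ (Nat.le_succ m)) h)
    rw [T_lin_pow_mul, pow_succ] at h
    have hne : (X - C p) ^ m ≠ 0 := pow_ne_zero _ (X_sub_C_ne_zero p)
    have h2 := (mul_dvd_mul_iff_left hne).mp h
    have h3 : (X - C p) ∣ X * (X - 1) * C ((m : k) + 1) * N₀ :=
      (dvd_add_left (dvd_mul_right _ _)).mp h2
    rw [dvd_iff_isRoot, IsRoot.def] at h3
    simp only [eval_mul, eval_X, eval_sub, eval_one, eval_C] at h3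
    have hm : (m : k) + 1 ≠ 0 := by exact_mod_cast Nat.succ_ne_zero m
    have h4 : N₀.eval p = 0 := by
      rcases mul_eq_zero.mp h3 with h5 | h5
      · exfalso
        rcases mul_eq_zero.mp h5 with h6 | h6
        · rcases mul_eq_zero.mp h6 with h7 | h7
          · exact hp0 h7
          · exact hp1 (sub_eq_zero.mp h7)
        · exact hm h6
      · exact h5
    obtain ⟨N₁, rfl⟩ := dvd_iff_isRoot.mpr h4
    exact ⟨N₁, by ring⟩


end Groth.Agent.Lib.Helper17.WronskV
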