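import Mathlib
import Groth.Agent.Lib.Helper17.WronskV

namespace Groth.Agent.Lib.Helper17.WronskV
open Polynomial

set_option linter.unusedSectionVars false

variable {k : Type*} [Field k] [CharZero k] (a b : ℕ)

lemma natDegree_le_of_degree_lt {u : k[X]} {c : ℕ} (h : u.degree < c) : u.natDegree ≤ c :=
  natDegree_le_iff_degree_le.mpr (le_of_lt h)

lemma mem1 (f : k[X])
    (hf : f ∈ (Ideal.span {(X : k[X]) ^ (a + 1)}).restrictScalars k ⊓ degreeLE k ↑(a + b)) :
    f ∈ W a b := by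
  obtain ⟨h1, h2⟩ := hf
  replace h1 : f ∈ Ideal.span _ := h1
  replace h2 : f ∈ degreeLE k _ := h2
  rw [Ideal.mem_span_singleton] at h1
  obtain ⟨g, rfl⟩ := h1
  by_cases hg0 : g = 0
  · rw [hg0, mul_zero]; exact Submodule.zero_mem _
  have hg : g.degree < b := by
    rw [mem_degreeLE] at h2
    rw [← natDegree_lt_iff_degree_lt hg0]
    have h3 := natDegree_le_of_degree_le h2
    rw [natDegree_mul (pow_ne_zero _ X_ne_zero) hg0, natDegree_X_pow] at h3
    omega
  obtain ⟨u, hu, hug⟩ := solve1 b g hg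
  rw [mem_W_iff]
  refine ⟨X ^ a * u, ?_, ?_⟩
  · rw [mem_degreeLE]
    apply degree_le_of_natDegree_le
    refine le_trans natDegree_mul_le ?_
    rw [natDegree_X_pow]
    have := natDegree_le_of_degree_lt hu
    omega
  · rw [T_Xpow_mul, hug]

lemma mem2 (f : k[X])
    (hf : f ∈ (Ideal.span {((X : k[X]) - 1) ^ (b + 1)}).restrictScalars k ⊓ degreeLE k ↑(a + b)) :
    f ∈ W a b := by
  obtain ⟨h1, h2⟩ := hf
  replace h1 : f ∈ Ideal.span _ := h1
  replace h2 : f ∈ degreeLE k _ := h2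
  rw [Ideal.mem_span_singleton] at h1
  obtain ⟨g, rfl⟩ := h1
  have hX1 : ((X : k[X]) - 1) = X - C 1 := by rw [map_one]
  by_cases hg0 : g = 0
  · rw [hg0, mul_zero]; exact Submodule.zero_mem _
  have hg : g.degree < a := by
    rw [mem_degreeLE] at h2
    rw [← natDegree_lt_iff_degree_lt hg0]
    have h3 := natDegree_le_of_degree_le h2
    rw [natDegree_mul (pow_ne_zero _ (by rw [hX1]; exact X_sub_C_ne_zero 1)) hg0, hX1,
      natDegree_pow, natDegree_X_sub_C] at h3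
    omega
  obtain ⟨u, hu, hug⟩ := solve a g hg
  rw [mem_W_iff]
  refine ⟨(X - 1) ^ b * u, ?_, ?_⟩
  · rw [mem_degreeLE]
    apply degree_le_of_natDegree_le
    refine le_trans natDegree_mul_le ?_
    rw [hX1, natDegree_pow, natDegree_X_sub_C]
    have := natDegree_le_of_degree_lt hu
    omega
  · rw [T_X1pow_mul, hug]

lemma mem3 : (X : k[X]) ^ (a + 1) * (X - 1) ^ (b + 1) ∈ W a b := by
  rw [mem_W_iff]
  have hX1 : ((X : k[X]) - 1) = X - C 1 := by rw [map_one]
  refine ⟨X ^ a * (X - 1) ^ (b + 1), ?_, ?_⟩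
  · rw [mem_degreeLE]
    apply degree_le_of_natDegree_le
    refine le_trans natDegree_mul_le ?_
    rw [natDegree_X_pow, hX1, natDegree_pow, natDegree_X_sub_C]
    omega
  · rw [T_Xpow_mul]
    have := X1_mul_deriv_pow (k := k) (b + 1)
    rw [this]
    push_cast
    rw [map_add, map_one]
    ring

lemma V_le_W (V : Submodule k k[X])
    (hV : V = ((Ideal.span {(X : k[X]) ^ (a + 1)}).restrictScalars k ⊓ degreeLE k ↑(a + b)) ⊔
      ((Ideal.span {((X : k[X]) - 1) ^ (b + 1)}).restrictScalars k ⊓ degreeLE k ↑(a + b)) ⊔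
      Submodule.span k {(X : k[X]) ^ (a + 1) * (X - 1) ^ (b + 1)}) : V ≤ W a b := by
  rw [hV]
  refine sup_le (sup_le (fun f hf => mem1 a b f hf) (fun f hf => mem2 a b f hf)) ?_
  rw [Submodule.span_le, Set.singleton_subset_iff]
  exact mem3 a b

/-- `D = X^a (X-1)^b` is killed by `T` -/
lemma T_D : T a b ((X : k[X]) ^ a * (X - 1) ^ b) = 0 := by
  rw [T_Xpow_mul, X1_mul_deriv_pow]
  ring

lemma D_mem : (X : k[X]) ^ a * (X - 1) ^ b ∈ degreeLE k (↑(a + b) : WithBot ℕ) := by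
  have hX1 : ((X : k[X]) - 1) = X - C 1 := by rw [map_one]
  rw [mem_degreeLE]
  apply degree_le_of_natDegree_le
  refine le_trans natDegree_mul_le ?_
  rw [natDegree_X_pow, hX1, natDegree_pow, natDegree_X_sub_C]
  omega

lemma D_eval_ne (p : k) (hp0 : p ≠ 0) (hp1 : p ≠ 1) :
    ((X : k[X]) ^ a * (X - 1) ^ b).eval p ≠ 0 := by
  simp only [eval_mul, eval_pow, eval_X, eval_sub, eval_one]
  exact mul_ne_zero (pow_ne_zero _ hp0) (pow_ne_zero _ (sub_ne_zero.mpr hp1))

/-- normalising a primitive at `p` and lifting vanishing orders -/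
lemma norm_dvd (p : k) (hp0 : p ≠ 0) (hp1 : p ≠ 1) (Φ : k[X]) (m : ℕ)
    (h : (X - C p) ^ m ∣ T a b Φ) :
    (X - C p) ^ (m + 1) ∣
      Φ - (Φ.eval p / ((X : k[X]) ^ a * (X - 1) ^ b).eval p) • ((X : k[X]) ^ a * (X - 1) ^ b) := by
  apply lift a b p hp0 hp1 m
  · rw [eval_sub, eval_smul, smul_eq_mul, div_mul_cancel₀ _ (D_eval_ne a b p hp0 hp1), sub_self]
  · rw [map_sub, map_smul, T_D, smul_zero, sub_zero]
    exact h

end Groth.Agent.Lib.Helper17.WronskV
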