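import Mathlib
import Groth.Agent.Lib.Helper17.WronskV2

namespace Groth.Agent.Lib.Helper17.WronskV
open Polynomial

set_option linter.unusedSectionVars false

variable {k : Type*} [Field k] [CharZero k] (a b : ℕ)

/-- a multiple `F r` of a monic `F` of degree `n` with `degree ≤ n` is a constant multiple -/
lemma const_of_mul_degree_le (F r : k[X]) (n : ℕ) (hF : F.Monic) (hn : F.natDegree = n)
    (h : (F * r) ∈ degreeLE k (n : WithBot ℕ)) : ∃ c : k, r = C c := by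
  by_cases hr : r = 0
  · exact ⟨0, by rw [hr, map_zero]⟩
  rw [mem_degreeLE] at h
  have h3 := natDegree_le_of_degree_le h
  rw [hF.natDegree_mul' hr, hn] at h3
  exact ⟨r.coeff 0, eq_C_of_natDegree_eq_zero (by omega)⟩

lemma W_le_degreeLE : W a b ≤ degreeLE k (↑(a + b + 1 + 1) : WithBot ℕ) := by
  intro f hf
  obtain ⟨Φ, hΦ, rfl⟩ := (mem_W_iff a b f).mp hf
  exact T_mem_degreeLE a b hΦ

/-- `1 ≤ dim (V ∩ (F))` with `F` monic of degree `a+b+2` forces `F ∈ W` -/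
lemma F_mem_of_finrank (V : Submodule k k[X]) (hVW : V ≤ W a b) (F : k[X]) (hF : F.Monic)
    (hn : F.natDegree = a + b + 1 + 1)
    (h : 1 ≤ Module.finrank k ↥(V ⊓ (Ideal.span {F}).restrictScalars k)) : F ∈ W a b := by
  have hnt : Nontrivial ↥(V ⊓ (Ideal.span {F}).restrictScalars k) :=
    Module.nontrivial_of_finrank_pos (R := k) (by omega)
  obtain ⟨⟨f, hf⟩, hne⟩ := exists_ne (0 : ↥(V ⊓ (Ideal.span {F}).restrictScalars k))
  have hf0 : f ≠ 0 := fun h0 => hne (Subtype.ext h0)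
  obtain ⟨hfV, hfF⟩ := hf
  replace hfF : f ∈ Ideal.span {F} := hfF
  rw [Ideal.mem_span_singleton] at hfF
  obtain ⟨r, rfl⟩ := hfF
  have hfW := hVW hfV
  obtain ⟨c, rfl⟩ := const_of_mul_degree_le F r _ hF hn (W_le_degreeLE a b hfW)
  have hc : c ≠ 0 := by
    rintro rfl
    apply hf0
    rw [map_zero, mul_zero]
  have : F = c⁻¹ • (F * C c) := by
    rw [smul_eq_C_mul, mul_comm F, ← mul_assoc, ← map_mul, inv_mul_cancel₀ hc, map_one, one_mul]
  rw [this]
  exact Submodule.smul_mem _ _ hfW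

/-- `2 ≤ dim (V ∩ (G))` with `G` monic of degree `a+b` forces `G = T Ψ` with `deg Ψ ≤ a+b` -/
lemma G_mem_of_finrank (V : Submodule k k[X]) (hVW : V ≤ W a b) (G : k[X]) (hG : G.Monic)
    (hn : G.natDegree = a + b)
    (h : 2 ≤ Module.finrank k ↥(V ⊓ (Ideal.span {G}).restrictScalars k)) :
    ∃ Ψ ∈ degreeLE k (↑(a + b) : WithBot ℕ), T a b Ψ = G := by
  set U := V ⊓ (Ideal.span {G}).restrictScalars k with hU
  let lam : ↥U →ₗ[k] k := (lcoeff k (a + b + 2)) ∘ₗ U.subtype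
  have hninj : ¬ Function.Injective lam := by
    intro hinj
    have := LinearMap.finrank_le_finrank_of_injective hinj
    rw [Module.finrank_self] at this
    omega
  rw [← LinearMap.ker_eq_bot, Submodule.eq_bot_iff] at hninj
  push Not at hninj
  obtain ⟨⟨f, hf⟩, hker, hne⟩ := hninj
  have hf0 : f ≠ 0 := fun h0 => hne (Subtype.ext h0)
  have hcoeff : f.coeff (a + b + 2) = 0 := hker
  obtain ⟨hfV, hfG⟩ := hf
  replace hfG : f ∈ Ideal.span {G} := hfG
  rw [Ideal.mem_span_singleton] at hfG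
  obtain ⟨r, rfl⟩ := hfG
  obtain ⟨Φ, hΦ, hTΦ⟩ := (mem_W_iff a b _).mp (hVW hfV)
  obtain ⟨ht1, ht2⟩ := coeff_T_top a b hΦ
  rw [hTΦ] at ht1 ht2
  have hΦtop : Φ.coeff (a + b + 1) = 0 := by rw [← ht1]; exact hcoeff
  have hΦ' : Φ ∈ degreeLE k (↑(a + b) : WithBot ℕ) := by
    rw [mem_degreeLE, degree_le_iff_coeff_zero]
    intro m hm
    have hm' : a + b < m := by exact_mod_cast hm
    by_cases h1 : m = a + b + 1
    · rw [h1]; exact hΦtop
    · exact coeff_eq_zero_of_mem_degreeLE hΦ (by omega)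
  have hfdeg : G * r ∈ degreeLE k (↑(a + b) : WithBot ℕ) := by
    rw [mem_degreeLE, degree_le_iff_coeff_zero]
    intro m hm
    have hm' : a + b < m := by exact_mod_cast hm
    by_cases h1 : m = a + b + 1
    · rw [h1, ht2, hΦtop, mul_zero]
    · have := T_mem_degreeLE a b hΦ'
      rw [hTΦ] at this
      exact coeff_eq_zero_of_mem_degreeLE this (by omega)
  obtain ⟨c, rfl⟩ := const_of_mul_degree_le G r _ hG hn hfdeg
  have hc : c ≠ 0 := by
    rintro rfl
    apply hf0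
    rw [map_zero, mul_zero]
  refine ⟨c⁻¹ • Φ, Submodule.smul_mem _ _ hΦ', ?_⟩
  rw [map_smul, hTΦ, smul_eq_C_mul, mul_comm G, ← mul_assoc, ← map_mul, inv_mul_cancel₀ hc,
    map_one, one_mul]

lemma eq_zero_of_dvd_of_mem_degreeLE {P Z : k[X]} {n : ℕ} (_hP : P.Monic) (hn : n < P.natDegree)
    (hZ : Z ∈ degreeLE k (n : WithBot ℕ)) (h : P ∣ Z) : Z = 0 := by
  by_contra hZ0
  have h1 := natDegree_le_of_dvd h hZ0
  rw [mem_degreeLE] at hZ
  have h2 := natDegree_le_of_degree_le hZ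
  omega

lemma monic_FG (p q : k) (i j : ℕ) : ((X - C p) ^ i * (X - C q) ^ j).Monic :=
  ((monic_X_sub_C p).pow i).mul ((monic_X_sub_C q).pow j)

lemma natDegree_FG (p q : k) (i j : ℕ) : ((X - C p) ^ i * (X - C q) ^ j).natDegree = i + j := by
  rw [((monic_X_sub_C p).pow i).natDegree_mul ((monic_X_sub_C q).pow j),
    (monic_X_sub_C p).natDegree_pow, (monic_X_sub_C q).natDegree_pow, natDegree_X_sub_C,
    natDegree_X_sub_C, mul_one, mul_one]

/-- the core contradiction -/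
lemma core (i j : ℕ) (hi : 0 < i) (hj : 0 < j) (hij : i + j = a + b + 2)
    (p q : k) (hp0 : p ≠ 0) (hp1 : p ≠ 1) (hq0 : q ≠ 0) (hq1 : q ≠ 1)
    (Φ : k[X]) (hΦ : Φ ∈ degreeLE k (↑(a + b + 1) : WithBot ℕ))
    (hTΦ : T a b Φ = (X - C p) ^ i * (X - C q) ^ j)
    (Ψ : k[X]) (hΨ : Ψ ∈ degreeLE k (↑(a + b) : WithBot ℕ))
    (hTΨ : T a b Ψ = (X - C p) ^ (i - 1) * (X - C q) ^ (j - 1)) : False := by
  set D : k[X] := X ^ a * (X - 1) ^ b with hD
  have hDm : D ∈ degreeLE k (↑(a + b) : WithBot ℕ) := D_mem a b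
  have hle : degreeLE k (↑(a + b) : WithBot ℕ) ≤ degreeLE k (↑(a + b + 1) : WithBot ℕ) :=
    degreeLE_mono (by exact_mod_cast Nat.le_succ _)
  have hDm' : D ∈ degreeLE k (↑(a + b + 1) : WithBot ℕ) := hle hDm
  have hDc : D.coeff (a + b + 1) = 0 := coeff_eq_zero_of_mem_degreeLE hDm (by omega)
  have hΨc : Ψ.coeff (a + b + 1) = 0 := coeff_eq_zero_of_mem_degreeLE hΨ (by omega)
  have hΦc : Φ.coeff (a + b + 1) = 1 := by
    have h1 := (coeff_T_top a b hΦ).1
    rw [← h1, hTΦ]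
    have := (monic_FG p q i j)
    rw [Monic, leadingCoeff, natDegree_FG, hij] at this
    exact this
  set αp := Φ.eval p / D.eval p
  set αq := Φ.eval q / D.eval q
  set βp := Ψ.eval p / D.eval p
  set βq := Ψ.eval q / D.eval q
  have hN1c : (Φ - αp • D).coeff (a + b + 1) = 1 := by
    rw [coeff_sub, coeff_smul, hDc, hΦc, smul_zero, sub_zero]
  have hN1m : Φ - αp • D ∈ degreeLE k (↑(a + b + 1) : WithBot ℕ) :=
    Submodule.sub_mem _ hΦ (Submodule.smul_mem _ _ hDm')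
  by_cases hpq : p = q
  · subst hpq
    have hdvd : (X - C p) ^ (i + j) ∣ T a b Φ := by rw [hTΦ, pow_add]
    have h1 := norm_dvd a b p hp0 hp1 Φ (i + j) hdvd
    have h2 := eq_zero_of_dvd_of_mem_degreeLE ((monic_X_sub_C p).pow (i + j + 1))
      (by rw [(monic_X_sub_C p).natDegree_pow, natDegree_X_sub_C]; omega) hN1m h1
    rw [h2, coeff_zero] at hN1c
    exact zero_ne_one hN1c
  · have hN1 : (X - C p) ^ (i + 1) ∣ Φ - αp • D :=
      norm_dvd a b p hp0 hp1 Φ i (by rw [hTΦ]; exact dvd_mul_right _ _)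
    have hN2 : (X - C q) ^ (j + 1) ∣ Φ - αq • D :=
      norm_dvd a b q hq0 hq1 Φ j (by rw [hTΦ]; exact dvd_mul_left _ _)
    have hM1 : (X - C p) ^ i ∣ Ψ - βp • D := by
      have := norm_dvd a b p hp0 hp1 Ψ (i - 1) (by rw [hTΨ]; exact dvd_mul_right _ _)
      rwa [Nat.sub_add_cancel hi] at this
    have hM2 : (X - C q) ^ j ∣ Ψ - βq • D := by
      have := norm_dvd a b q hq0 hq1 Ψ (j - 1) (by rw [hTΨ]; exact dvd_mul_left _ _)
      rwa [Nat.sub_add_cancel hj] at this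
    have hcop : IsCoprime ((X - C p) ^ i) ((X - C q) ^ j) :=
      (isCoprime_X_sub_C_of_isUnit_sub (sub_ne_zero.mpr hpq).isUnit).pow
    have hM1m : Ψ - βp • D ∈ degreeLE k (↑(a + b) : WithBot ℕ) :=
      Submodule.sub_mem _ hΨ (Submodule.smul_mem _ _ hDm)
    obtain ⟨Z, hZ⟩ : ∃ Z : k[X], Z = C (αq - αp) * (Ψ - βp • D) - C (βq - βp) * (Φ - αp • D) :=
      ⟨_, rfl⟩
    have hZ2 : Z = C (αq - αp) * (Ψ - βq • D) - C (βq - βp) * (Φ - αq • D) := by
      rw [hZ]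
      simp only [smul_eq_C_mul, map_sub]
      ring
    have hZm : Z ∈ degreeLE k (↑(a + b + 1) : WithBot ℕ) := by
      rw [hZ, ← smul_eq_C_mul, ← smul_eq_C_mul]
      exact Submodule.sub_mem _ (Submodule.smul_mem _ _ (hle hM1m)) (Submodule.smul_mem _ _ hN1m)
    have hZp : (X - C p) ^ i ∣ Z := by
      rw [hZ]
      exact dvd_sub (Dvd.dvd.mul_left hM1 _)
        (Dvd.dvd.mul_left (dvd_trans (pow_dvd_pow _ (Nat.le_succ i)) hN1) _)
    have hZq : (X - C q) ^ j ∣ Z := by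
      rw [hZ2]
      exact dvd_sub (Dvd.dvd.mul_left hM2 _)
        (Dvd.dvd.mul_left (dvd_trans (pow_dvd_pow _ (Nat.le_succ j)) hN2) _)
    have hZ0 : Z = 0 := eq_zero_of_dvd_of_mem_degreeLE (monic_FG p q i j)
      (by rw [natDegree_FG]; omega) hZm (hcop.mul_dvd hZp hZq)
    have hβ : βq - βp = 0 := by
      have := congrArg (fun P => P.coeff (a + b + 1)) hZ0
      simp only [hZ, coeff_sub, coeff_C_mul, coeff_smul, hN1c, hΨc, hDc, smul_eq_mul, mul_zero,
        sub_zero, mul_one, coeff_zero, zero_sub, neg_eq_zero] at this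
      exact this
    have hββ : βq = βp := sub_eq_zero.mp hβ
    rw [hββ] at hM2
    have hM0 : Ψ - βp • D = 0 := eq_zero_of_dvd_of_mem_degreeLE (monic_FG p q i j)
      (by rw [natDegree_FG]; omega) hM1m (hcop.mul_dvd hM1 hM2)
    have hΨD : Ψ = βp • D := sub_eq_zero.mp hM0
    have : T a b Ψ = 0 := by rw [hΨD, map_smul, T_D, smul_zero]
    rw [hTΨ] at this
    exact (monic_FG p q (i - 1) (j - 1)).ne_zero this

end Groth.Agent.Lib.Helper17.WronskV
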