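import Mathlib
import Groth.Agent.Lib.Helper17.WronskV3

namespace Groth.Agent.Lib.Helper17.WronskS
open Polynomial
open Groth.Agent.Lib.Helper17.WronskV

set_option linter.unusedSectionVars false

variable {k : Type*} [Field k] [CharZero k] (a : ℕ)

/-- the operator `Φ ↦ XΦ' - aΦ`; `S Φ / X^(a+1) = (Φ/X^a)'` -/
noncomputable def S : k[X] →ₗ[k] k[X] :=
  LinearMap.mulLeft k X ∘ₗ derivative - LinearMap.mulLeft k (C (a : k))

lemma S_apply (Φ : k[X]) : S a Φ = X * derivative Φ - C (a : k) * Φ := by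
  simp [S]

lemma coeff_S (Φ : k[X]) (m : ℕ) : (S a Φ).coeff m = ((m : k) - a) * Φ.coeff m := by
  rw [S_apply, coeff_sub, coeff_X_mul_deriv', coeff_C_mul]
  ring

lemma S_mem_degreeLE {Φ : k[X]} {n : ℕ} (h : Φ ∈ degreeLE k (n : WithBot ℕ)) :
    S a Φ ∈ degreeLE k (n : WithBot ℕ) := by
  rw [mem_degreeLE, degree_le_iff_coeff_zero]
  intro m hm
  have hm' : n < m := by exact_mod_cast hm
  rw [coeff_S, coeff_eq_zero_of_mem_degreeLE h hm', mul_zero]

lemma S_Xpow : S a ((X : k[X]) ^ a) = 0 := by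
  rw [S_apply, X_mul_deriv_pow, sub_self]

lemma S_lin_pow_mul (p : k) (m : ℕ) (N : k[X]) :
    S a ((X - C p) ^ (m + 1) * N)
      = (X - C p) ^ m * (X * C ((m : k) + 1) * N + (X - C p) * S a N) := by
  rw [S_apply, S_apply, derivative_mul]
  have h2 : derivative ((X - C p) ^ (m + 1)) = C ((m : k) + 1) * (X - C p) ^ m := by
    rw [derivative_X_sub_C_pow]; simp
  rw [h2]
  ring

lemma liftS (p : k) (hp0 : p ≠ 0) (m : ℕ) :
    ∀ N : k[X], N.eval p = 0 → (X - C p) ^ m ∣ S a N → (X - C p) ^ (m + 1) ∣ N := by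
  induction m with
  | zero =>
    intro N hN _
    rw [zero_add, pow_one, dvd_iff_isRoot]
    exact hN
  | succ m ih =>
    intro N hN h
    obtain ⟨N₀, rfl⟩ := ih N hN (dvd_trans (pow_dvd_pow _ (Nat.le_succ m)) h)
    rw [S_lin_pow_mul, pow_succ] at h
    have hne : (X - C p) ^ m ≠ 0 := pow_ne_zero _ (X_sub_C_ne_zero p)
    have h2 := (mul_dvd_mul_iff_left hne).mp h
    have h3 : (X - C p) ∣ X * C ((m : k) + 1) * N₀ :=
      (dvd_add_left (dvd_mul_right _ _)).mp h2
    rw [dvd_iff_isRoot, IsRoot.def] at h3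
    simp only [eval_mul, eval_X, eval_C] at h3
    have hm : (m : k) + 1 ≠ 0 := by exact_mod_cast Nat.succ_ne_zero m
    have h4 : N₀.eval p = 0 := by
      rcases mul_eq_zero.mp h3 with h5 | h5
      · exfalso
        rcases mul_eq_zero.mp h5 with h6 | h6
        · exact hp0 h6
        · exact hm h6
      · exact h5
    obtain ⟨N₁, rfl⟩ := dvd_iff_isRoot.mpr h4
    exact ⟨N₁, by ring⟩

lemma normS_dvd (p : k) (hp0 : p ≠ 0) (Φ : k[X]) (m : ℕ)
    (h : (X - C p) ^ m ∣ S a Φ) :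
    (X - C p) ^ (m + 1) ∣ Φ - (Φ.eval p / p ^ a) • ((X : k[X]) ^ a) := by
  apply liftS a p hp0 m
  · rw [eval_sub, eval_smul, smul_eq_mul, eval_pow, eval_X,
      div_mul_cancel₀ _ (pow_ne_zero _ hp0), sub_self]
  · rw [map_sub, map_smul, S_Xpow, smul_zero, sub_zero]
    exact h

lemma solveS (f : k[X]) (n : ℕ) (hf : f ∈ degreeLE k (n : WithBot ℕ)) (ha : f.coeff a = 0) :
    ∃ Φ ∈ degreeLE k (n : WithBot ℕ), S a Φ = f := by
  classical
  let u : k[X] := ∑ m ∈ Finset.range (n + 1), C (f.coeff m / ((m : k) - a)) * X ^ m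
  have hu : ∀ m, u.coeff m = if m < n + 1 then f.coeff m / ((m : k) - a) else 0 := by
    intro m
    simp only [u, finsetSum_coeff, coeff_C_mul_X_pow]
    rw [Finset.sum_ite_eq]
    simp
  refine ⟨u, ?_, ?_⟩
  · rw [mem_degreeLE, degree_le_iff_coeff_zero]
    intro m hm
    have hm' : n < m := by exact_mod_cast hm
    rw [hu, if_neg (by omega)]
  · ext m
    rw [coeff_S, hu]
    split_ifs with h
    · by_cases hma : m = a
      · subst hma; rw [sub_self, zero_mul, ha]
      · have hne : (m : k) - a ≠ 0 := by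
          rw [sub_ne_zero]
          exact_mod_cast hma
        field_simp
    · rw [coeff_eq_zero_of_mem_degreeLE hf (by omega)]
      ring

end Groth.Agent.Lib.Helper17.WronskS
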