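import Mathlib
import Groth.Agent.Lib.Helper17.WronskS

namespace Groth.Agent.Lib.Helper17.WronskS
open Polynomial
open Groth.Agent.Lib.Helper17.WronskV

set_option linter.unusedSectionVars false

variable {k : Type*} [Field k] [CharZero k] (a : ℕ)

lemma coeff_top_FG (p q : k) (i j n : ℕ) (h : i + j = n) :
    ((X - C p) ^ i * (X - C q) ^ j).coeff n = 1 := by
  have := monic_FG p q i j
  rw [Monic, leadingCoeff, natDegree_FG, h] at this
  exact this

/-- the core contradiction for the operator `S` -/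
lemma coreS (b i j : ℕ) (hb : 0 < b) (hij : i + j + 1 = a + b)
    (p q : k) (hp0 : p ≠ 0) (hq0 : q ≠ 0)
    (Φ₁ : k[X]) (hΦ₁ : Φ₁ ∈ degreeLE k (↑(a + b) : WithBot ℕ))
    (hS₁ : S a Φ₁ = (X - C p) ^ i * (X - C q) ^ j)
    (Φ₂ : k[X]) (hΦ₂ : Φ₂ ∈ degreeLE k (↑(a + b) : WithBot ℕ))
    (hS₂ : S a Φ₂ = (X - C p) ^ i * (X - C q) ^ (j + 1)) : False := by
  have hbk : (b : k) ≠ 0 := by exact_mod_cast hb.ne'
  have hXa : (X : k[X]) ^ a ∈ degreeLE k (↑(a + b) : WithBot ℕ) := by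
    rw [mem_degreeLE]
    apply degree_le_of_natDegree_le
    rw [natDegree_X_pow]; omega
  have hXc : ((X : k[X]) ^ a).coeff (a + b) = 0 := by
    rw [coeff_X_pow, if_neg (by omega)]
  -- top coefficients
  have hΦ₁c : Φ₁.coeff (a + b) = 0 := by
    have h1 := coeff_S a Φ₁ (a + b)
    rw [hS₁] at h1
    have h2 : ((X - C p) ^ i * (X - C q) ^ j).coeff (a + b) = 0 := by
      apply coeff_eq_zero_of_natDegree_lt
      rw [natDegree_FG]; omega
    rw [h2] at h1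
    have h3 : ((a + b : ℕ) : k) - a = b := by push_cast; ring
    rw [h3] at h1
    exact (mul_eq_zero.mp h1.symm).resolve_left hbk
  have hΦ₂c : (b : k) * Φ₂.coeff (a + b) = 1 := by
    have h1 := coeff_S a Φ₂ (a + b)
    rw [hS₂, coeff_top_FG p q i (j + 1) (a + b) (by omega)] at h1
    have h3 : ((a + b : ℕ) : k) - a = b := by push_cast; ring
    rw [h3] at h1
    exact h1.symm
  have hΦ₂c0 : Φ₂.coeff (a + b) ≠ 0 := by
    intro h0; rw [h0, mul_zero] at hΦ₂c; exact zero_ne_one hΦ₂c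
  set α₁ := Φ₁.eval p / p ^ a
  set β₁ := Φ₁.eval q / q ^ a
  set α₂ := Φ₂.eval p / p ^ a
  set β₂ := Φ₂.eval q / q ^ a
  have hM2m : Φ₂ - α₂ • (X : k[X]) ^ a ∈ degreeLE k (↑(a + b) : WithBot ℕ) :=
    Submodule.sub_mem _ hΦ₂ (Submodule.smul_mem _ _ hXa)
  have hM2c : (Φ₂ - α₂ • (X : k[X]) ^ a).coeff (a + b) = Φ₂.coeff (a + b) := by
    rw [coeff_sub, coeff_smul, hXc, smul_zero, sub_zero]
  have hN1m : Φ₁ - α₁ • (X : k[X]) ^ a ∈ degreeLE k (↑(a + b) : WithBot ℕ) :=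
    Submodule.sub_mem _ hΦ₁ (Submodule.smul_mem _ _ hXa)
  have hN1c : (Φ₁ - α₁ • (X : k[X]) ^ a).coeff (a + b) = 0 := by
    rw [coeff_sub, coeff_smul, hXc, smul_zero, sub_zero, hΦ₁c]
  by_cases hpq : p = q
  · subst hpq
    have hdvd : (X - C p) ^ (i + (j + 1)) ∣ S a Φ₂ := by rw [hS₂, pow_add]
    have h1 := normS_dvd a p hp0 Φ₂ (i + (j + 1)) hdvd
    have h2 := eq_zero_of_dvd_of_mem_degreeLE ((monic_X_sub_C p).pow (i + (j + 1) + 1))
      (by rw [(monic_X_sub_C p).natDegree_pow, natDegree_X_sub_C]; omega) hM2m h1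
    rw [h2, coeff_zero] at hM2c
    exact hΦ₂c0 hM2c.symm
  · have hN1 : (X - C p) ^ (i + 1) ∣ Φ₁ - α₁ • (X : k[X]) ^ a :=
      normS_dvd a p hp0 Φ₁ i (by rw [hS₁]; exact dvd_mul_right _ _)
    have hN1' : (X - C q) ^ (j + 1) ∣ Φ₁ - β₁ • (X : k[X]) ^ a :=
      normS_dvd a q hq0 Φ₁ j (by rw [hS₁]; exact dvd_mul_left _ _)
    have hM2 : (X - C p) ^ (i + 1) ∣ Φ₂ - α₂ • (X : k[X]) ^ a :=
      normS_dvd a p hp0 Φ₂ i (by rw [hS₂]; exact dvd_mul_right _ _)
    have hM2' : (X - C q) ^ (j + 1 + 1) ∣ Φ₂ - β₂ • (X : k[X]) ^ a :=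
      normS_dvd a q hq0 Φ₂ (j + 1) (by rw [hS₂]; exact dvd_mul_left _ _)
    have hcop : IsCoprime ((X - C p) ^ (i + 1)) ((X - C q) ^ (j + 1)) :=
      (isCoprime_X_sub_C_of_isUnit_sub (sub_ne_zero.mpr hpq).isUnit).pow
    obtain ⟨Z, hZ⟩ : ∃ Z : k[X], Z = C (β₂ - α₂) * (Φ₁ - α₁ • (X : k[X]) ^ a)
        - C (β₁ - α₁) * (Φ₂ - α₂ • (X : k[X]) ^ a) := ⟨_, rfl⟩
    have hZ2 : Z = C (β₂ - α₂) * (Φ₁ - β₁ • (X : k[X]) ^ a)
        - C (β₁ - α₁) * (Φ₂ - β₂ • (X : k[X]) ^ a) := by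
      rw [hZ]
      simp only [smul_eq_C_mul, map_sub]
      ring
    have hZm : Z ∈ degreeLE k (↑(a + b) : WithBot ℕ) := by
      rw [hZ, ← smul_eq_C_mul, ← smul_eq_C_mul]
      exact Submodule.sub_mem _ (Submodule.smul_mem _ _ hN1m) (Submodule.smul_mem _ _ hM2m)
    have hZp : (X - C p) ^ (i + 1) ∣ Z := by
      rw [hZ]
      exact dvd_sub (Dvd.dvd.mul_left hN1 _) (Dvd.dvd.mul_left hM2 _)
    have hZq : (X - C q) ^ (j + 1) ∣ Z := by
      rw [hZ2]
      exact dvd_sub (Dvd.dvd.mul_left hN1' _)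
        (Dvd.dvd.mul_left (dvd_trans (pow_dvd_pow _ (Nat.le_succ (j + 1))) hM2') _)
    have hZ0 : Z = 0 := eq_zero_of_dvd_of_mem_degreeLE (monic_FG p q (i + 1) (j + 1))
      (by rw [natDegree_FG]; omega) hZm (hcop.mul_dvd hZp hZq)
    have hβ : β₁ - α₁ = 0 := by
      have := congrArg (fun P => P.coeff (a + b)) hZ0
      simp only [hZ, coeff_sub, coeff_C_mul, hN1c, hM2c, mul_zero, zero_sub, coeff_zero,
        neg_eq_zero] at this
      exact (mul_eq_zero.mp this).resolve_right hΦ₂c0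
    have hββ : β₁ = α₁ := sub_eq_zero.mp hβ
    rw [hββ] at hN1'
    have hN0 : Φ₁ - α₁ • (X : k[X]) ^ a = 0 :=
      eq_zero_of_dvd_of_mem_degreeLE (monic_FG p q (i + 1) (j + 1))
        (by rw [natDegree_FG]; omega) hN1m (hcop.mul_dvd hN1 hN1')
    have hΦX : Φ₁ = α₁ • (X : k[X]) ^ a := sub_eq_zero.mp hN0
    have : S a Φ₁ = 0 := by rw [hΦX, map_smul, S_Xpow, smul_zero]
    rw [hS₁] at this
    exact (monic_FG p q i j).ne_zero this

lemma main (b i j : ℕ) (hb : 0 < b) (hij : i + j + 1 = a + b)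
    (V : Submodule k k[X])
    (hV : V = degreeLE k ↑(j + 1) ⊓
      LinearMap.ker ((lcoeff k a).comp (LinearMap.mulLeft k (((X : k[X]) + 1) ^ i))))
    (q : k) (hq : q ≠ 0) :
    Module.finrank k ↥(V ⊓ (Ideal.span {(X - C q) ^ j}).restrictScalars k) ≤ 1 := by
  by_contra hcon
  push Not at hcon
  set U := V ⊓ (Ideal.span {(X - C q) ^ j}).restrictScalars k with hU
  have hle : U ≤ Submodule.span k {(X - C q) ^ j, (X - C q) ^ (j + 1)} := by
    rintro f ⟨hfV, hfG⟩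
    replace hfG : f ∈ Ideal.span {(X - C q) ^ j} := hfG
    rw [Ideal.mem_span_singleton] at hfG
    obtain ⟨r, rfl⟩ := hfG
    rw [hV] at hfV
    have hdeg : (X - C q) ^ j * r ∈ degreeLE k (↑(j + 1) : WithBot ℕ) := hfV.1
    have hr : r.natDegree ≤ 1 := by
      by_cases hr0 : r = 0
      · rw [hr0]; simp
      rw [mem_degreeLE] at hdeg
      have h3 := natDegree_le_of_degree_le hdeg
      rw [((monic_X_sub_C q).pow j).natDegree_mul' hr0, (monic_X_sub_C q).natDegree_pow,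
        natDegree_X_sub_C] at h3
      omega
    rw [eq_X_add_C_of_natDegree_le_one hr, Submodule.mem_span_pair]
    refine ⟨r.coeff 0 + r.coeff 1 * q, r.coeff 1, ?_⟩
    simp only [smul_eq_C_mul, map_add, map_mul, pow_succ]
    ring
  have hfin : Module.finrank k ↥(Submodule.span k {(X - C q) ^ j, (X - C q) ^ (j + 1)}) ≤ 2 := by
    classical
    have h1 := finrank_span_finset_le_card (R := k)
      ({(X - C q) ^ j, (X - C q) ^ (j + 1)} : Finset k[X])
    have h2 : (({(X - C q) ^ j, (X - C q) ^ (j + 1)} : Finset k[X]) : Set k[X])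
        = {(X - C q) ^ j, (X - C q) ^ (j + 1)} := by simp
    rw [h2] at h1
    exact h1.trans Finset.card_le_two
  have hfd : FiniteDimensional k ↥(Submodule.span k {(X - C q) ^ j, (X - C q) ^ (j + 1)}) :=
    FiniteDimensional.span_of_finite k (by simp)
  have heq : U = Submodule.span k {(X - C q) ^ j, (X - C q) ^ (j + 1)} :=
    Submodule.eq_of_le_of_finrank_le hle (by omega)
  have hG0 : (X - C q) ^ j ∈ V := by
    have : (X - C q) ^ j ∈ U := by rw [heq]; exact Submodule.subset_span (by simp)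
    exact this.1
  have hG1 : (X - C q) ^ (j + 1) ∈ V := by
    have : (X - C q) ^ (j + 1) ∈ U := by rw [heq]; exact Submodule.subset_span (by simp)
    exact this.1
  rw [hV] at hG0 hG1
  have hX1 : ((X : k[X]) + 1) = X - C (-1) := by rw [map_neg, map_one, sub_neg_eq_add]
  have hc0 : ((X - C (-1 : k)) ^ i * (X - C q) ^ j).coeff a = 0 := by
    have := hG0.2
    replace this : (X - C q) ^ j ∈ LinearMap.ker _ := this
    rw [LinearMap.mem_ker, LinearMap.comp_apply, LinearMap.mulLeft_apply, lcoeff_apply, hX1] at this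
    exact this
  have hc1 : ((X - C (-1 : k)) ^ i * (X - C q) ^ (j + 1)).coeff a = 0 := by
    have := hG1.2
    replace this : (X - C q) ^ (j + 1) ∈ LinearMap.ker _ := this
    rw [LinearMap.mem_ker, LinearMap.comp_apply, LinearMap.mulLeft_apply, lcoeff_apply, hX1] at this
    exact this
  have hd0 : (X - C (-1 : k)) ^ i * (X - C q) ^ j ∈ degreeLE k (↑(a + b) : WithBot ℕ) := by
    rw [mem_degreeLE]
    apply degree_le_of_natDegree_le
    rw [natDegree_FG]; omega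
  have hd1 : (X - C (-1 : k)) ^ i * (X - C q) ^ (j + 1) ∈ degreeLE k (↑(a + b) : WithBot ℕ) := by
    rw [mem_degreeLE]
    apply degree_le_of_natDegree_le
    rw [natDegree_FG]; omega
  obtain ⟨Φ₁, hΦ₁, hS₁⟩ := solveS a _ _ hd0 hc0
  obtain ⟨Φ₂, hΦ₂, hS₂⟩ := solveS a _ _ hd1 hc1
  exact coreS a b i j hb hij (-1) q (by norm_num) hq Φ₁ hΦ₁ hS₁ Φ₂ hΦ₂ hS₂

end Groth.Agent.Lib.Helper17.WronskS
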