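import Mathlib
import Groth.Agent.Lib.Helper17.WronskV3

namespace Groth.Agent.Lib.Helper17.WronskV
open Polynomial

set_option linter.unusedSectionVars false

variable {k : Type*} [Field k] [CharZero k] (a b : ℕ)

/-- if `X^i ∣ T Φ` with `i ≤ a` then `X^i ∣ Φ` -/
lemma X_pow_dvd_of_T (i : ℕ) (hi : i ≤ a) (Φ : k[X]) (h : X ^ i ∣ T a b Φ) : X ^ i ∣ Φ := by
  rw [X_pow_dvd_iff] at h ⊢
  intro m
  induction m with
  | zero =>
    intro hm
    have h0 := h 0 hm
    rw [coeff_T_zero] at h0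
    have ha : (a : k) ≠ 0 := by exact_mod_cast (by omega : a ≠ 0)
    exact (mul_eq_zero.mp h0).resolve_left ha
  | succ m ih =>
    intro hm
    have h0 := h (m + 1) hm
    rw [coeff_T_succ, ih (by omega), mul_zero, zero_add] at h0
    have ha : (a : k) - m - 1 ≠ 0 := by
      have : (a : k) - m - 1 = ((a - (m + 1) : ℕ) : k) := by
        rw [Nat.cast_sub (by omega)]; push_cast; ring
      rw [this]
      exact_mod_cast (by omega : a - (m + 1) ≠ 0)
    exact (mul_eq_zero.mp h0).resolve_left ha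

/-- second coefficient of `X^i (X-q)^j` -/
lemma coeff_second (q : k) (i j : ℕ) (hj : 0 < j) :
    ((X : k[X]) ^ i * (X - C q) ^ j).coeff (i + j - 1) = -(q * j) := by
  have : i + j - 1 = (j - 1) + i := by omega
  have hsub : (X : k[X]) - C q = X + C (-q) := by rw [map_neg, sub_eq_add_neg]
  rw [this, mul_comm, coeff_mul_X_pow, hsub, coeff_X_add_C_pow]
  have h1 : j - (j - 1) = 1 := by omega
  rw [h1, pow_one]
  have h2 : j.choose (j - 1) = j := by
    have := Nat.choose_symm (n := j) (k := 1) (by omega)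
    rw [this, Nat.choose_one_right]
  rw [h2]
  ring

/-- the case `P = A`: `X^i (X-q)^j ∈ W` forces `a + 1 ≤ i` -/
lemma core0 (i j : ℕ) (hi : 0 < i) (hij : i + j = a + b + 2) (hiab : i ≤ a + b)
    (q : k) (hF : (X : k[X]) ^ i * (X - C q) ^ j ∈ W a b) : a + 1 ≤ i := by
  by_contra hcon
  have hia : i ≤ a := by omega
  have hj : 0 < j := by omega
  obtain ⟨Φ, hΦ, hTΦ⟩ := (mem_W_iff a b _).mp hF
  have hX0 : (X : k[X]) = X - C 0 := by rw [map_zero, sub_zero]
  have hmonic : ((X : k[X]) ^ i * (X - C q) ^ j).Monic := by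
    have := monic_FG (0 : k) q i j
    rwa [← hX0] at this
  have hnd : ((X : k[X]) ^ i * (X - C q) ^ j).natDegree = i + j := by
    have := natDegree_FG (0 : k) q i j
    rwa [← hX0] at this
  obtain ⟨ht1, ht2⟩ := coeff_T_top a b hΦ
  rw [hTΦ] at ht1 ht2
  have hlead : ((X : k[X]) ^ i * (X - C q) ^ j).coeff (a + b + 2) = 1 := by
    have := hmonic
    rw [Monic, leadingCoeff, hnd, hij] at this
    exact this
  have hΦc : Φ.coeff (a + b + 1) = 1 := by rw [← ht1, hlead]
  have hsec := coeff_second q i j hj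
  have hidx : i + j - 1 = a + b + 1 := by omega
  rw [hidx, ht2, hΦc, mul_one] at hsec
  have hqj : q * j = (b : k) + 1 := by linear_combination hsec
  have hq0 : q ≠ 0 := by
    rintro rfl
    rw [zero_mul] at hqj
    have : ((b + 1 : ℕ) : k) = 0 := by push_cast; exact hqj.symm
    exact absurd this (by exact_mod_cast Nat.succ_ne_zero b)
  have hq1 : q ≠ 1 := by
    rintro rfl
    rw [one_mul] at hqj
    have : (j : k) = ((b + 1 : ℕ) : k) := by push_cast; exact hqj
    have := Nat.cast_injective this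
    omega
  set D : k[X] := X ^ a * (X - 1) ^ b with hD
  have hDm : D ∈ degreeLE k (↑(a + b) : WithBot ℕ) := D_mem a b
  have hle : degreeLE k (↑(a + b) : WithBot ℕ) ≤ degreeLE k (↑(a + b + 1) : WithBot ℕ) :=
    degreeLE_mono (by exact_mod_cast Nat.le_succ _)
  have hDc : D.coeff (a + b + 1) = 0 := coeff_eq_zero_of_mem_degreeLE hDm (by omega)
  set αq := Φ.eval q / D.eval q
  have hN2c : (Φ - αq • D).coeff (a + b + 1) = 1 := by
    rw [coeff_sub, coeff_smul, hDc, hΦc, smul_zero, sub_zero]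
  have hN2m : Φ - αq • D ∈ degreeLE k (↑(a + b + 1) : WithBot ℕ) :=
    Submodule.sub_mem _ hΦ (Submodule.smul_mem _ _ (hle hDm))
  have hN2 : (X - C q) ^ (j + 1) ∣ Φ - αq • D :=
    norm_dvd a b q hq0 hq1 Φ j (by rw [hTΦ]; exact dvd_mul_left _ _)
  have hXΦ : X ^ i ∣ Φ := X_pow_dvd_of_T a b i hia Φ (by rw [hTΦ]; exact dvd_mul_right _ _)
  have hXD : (X : k[X]) ^ i ∣ D :=
    dvd_trans (pow_dvd_pow _ hia) (dvd_mul_right _ _)
  have hXN : X ^ i ∣ Φ - αq • D := by
    rw [smul_eq_C_mul]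
    exact dvd_sub hXΦ (Dvd.dvd.mul_left hXD _)
  have hcop : IsCoprime ((X : k[X]) ^ i) ((X - C q) ^ (j + 1)) := by
    have : IsCoprime ((X : k[X]) - C 0) (X - C q) :=
      isCoprime_X_sub_C_of_isUnit_sub (by rw [zero_sub]; exact (neg_ne_zero.mpr hq0).isUnit)
    rw [← hX0] at this
    exact this.pow
  have hmon2 : ((X : k[X]) ^ i * (X - C q) ^ (j + 1)).Monic := by
    have := monic_FG (0 : k) q i (j + 1)
    rwa [← hX0] at this
  have hnd2 : ((X : k[X]) ^ i * (X - C q) ^ (j + 1)).natDegree = i + (j + 1) := by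
    have := natDegree_FG (0 : k) q i (j + 1)
    rwa [← hX0] at this
  have h0 := eq_zero_of_dvd_of_mem_degreeLE hmon2 (by rw [hnd2]; omega) hN2m
    (hcop.mul_dvd hXN hN2)
  rw [h0, coeff_zero] at hN2c
  exact zero_ne_one hN2c

end Groth.Agent.Lib.Helper17.WronskV
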