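import Mathlib
import Groth.Prelude.Def_ZClos
import Groth.Prelude.Def_FDesc
import Groth.Agent.Lib.Helper17.ZClosLib
import Groth.Agent.Lib.Helper29.QCohGen
import Groth.Agent.Lib.Helper29.QCohAss
import Groth.Agent.Lib.Helper29.QCohCrit
import Groth.Agent.Lib.Helper29.QCohQcqs

open CategoryTheory CategoryTheory.Limits TopologicalSpace Opposite AlgebraicGeometry

universe u

namespace Groth.Agent.Lib.Helper17.ZClosAss

open ZClos SheafBasis Groth.Agent.Lib.Helper29.QCoh

variable {X : Scheme.{u}}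

/-- if no associated point of a quasi-coherent module lies in `Z`, the units `F ⟶ j_*(F|_{X∖T})` are
monomorphisms. -/
theorem mono_toDiagram_of_ass {Z : Set X} (F : X.Modules) [F.IsQuasicoherent]
    (hass : ∀ x ∈ AssSch.Ass F, x ∉ Z) (T : Cl Z) : Mono (toDiagram Z F T) := by
  show Mono ((resPushUnit T.U).app F)
  rw [ZClosLib.mono_iff_injective_app]
  intro V
  rw [ZClosLib.injective_unit_app_iff]
  unfold resInf
  refine (injective_iff_map_eq_zero (F.presheaf.map (homOfLE (inf_le_left : V ⊓ T.U ≤ V)).op).hom).2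
    fun s hs => ?_
  apply eq_zero_of_res_eq_zero_of_weakAss_subset F (inf_le_left : V ⊓ T.U ≤ V) ?_ s hs
  intro x hxV hx
  refine ⟨hxV, fun hxT => ?_⟩
  exact hass x ((isAssPoint_iff_isWeakAssPoint F x).2 hx) (T.2 hxT)

attribute [local instance] IsFiltered.isConnected

theorem mono_colimit_ι_of_ass {Z : Set X} (F : X.Modules) [F.IsQuasicoherent]
    (hass : ∀ x ∈ AssSch.Ass F, x ∉ Z) (T : Cl Z) :
    Mono (colimit.ι ((diagram Z).obj F) T) := by
  have : ∀ (j j' : Cl Z) (φ : j ⟶ j'), Mono (((diagram Z).obj F).map φ) :=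
    fun j j' φ => ZClosLib.mono_diagram_map Z F (mono_toDiagram_of_ass F hass) φ
  exact IsColimit.mono_ι_app_of_isFiltered (colimit.isColimit ((diagram Z).obj F)) T

theorem isQuasicoherent_resPush [IsLocallyNoetherian X] (F : X.Modules) [F.IsQuasicoherent]
    (U : X.Opens) : ((resPush U).obj F).IsQuasicoherent := by
  show ((Scheme.Modules.pushforward U.ι).obj
    ((Scheme.Modules.restrictFunctor U.ι).obj F)).IsQuasicoherent
  have : ((Scheme.Modules.restrictFunctor U.ι).obj F).IsQuasicoherent :=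
    Scheme.Modules.isQuasicoherent_restrictFunctor U.ι F
  exact isQuasicoherent_pushforward_of_qcqs U.ι _

theorem isCoh_resPush_of_isCoh_H0 [IsLocallyNoetherian X] {Z : Set X} (F : X.Modules)
    (hF : Coh.IsCoh F) (hass : ∀ x ∈ AssSch.Ass F, x ∉ Z) (hH : Coh.IsCoh ((H0 Z).obj F))
    (T : Cl Z) : Coh.IsCoh ((resPush T.U).obj F) := by
  have h1 : F.IsQuasicoherent := hF.1
  have h2 := isQuasicoherent_resPush F T.U
  have h3 : ((H0 Z).obj F).IsQuasicoherent := hH.1
  have h4 : ((H0 Z).obj F).IsFiniteType := hH.2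
  obtain ⟨i, hi⟩ : ∃ i : (resPush T.U).obj F ⟶ (H0 Z).obj F, Mono i :=
    ⟨colimit.ι ((diagram Z).obj F) T, mono_colimit_ι_of_ass F hass T⟩
  exact ⟨h2, isFiniteType_of_mono i⟩

end Groth.Agent.Lib.Helper17.ZClosAss
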