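import Mathlib
import Groth.Prelude.Def_ZClos
import Groth.Agent.Lib.Helper17.ZClosSec
import Groth.Agent.Lib.Helper17.ZClosTop

open CategoryTheory CategoryTheory.Limits TopologicalSpace Opposite AlgebraicGeometry

universe u

namespace Groth.Agent.Lib.Helper17.ZClosCover

open ZClos SheafBasis ZClosSec ZClosTop

variable {X : Scheme.{u}}

lemma map_congr_inj (P : TopCat.Presheaf Ab.{u} X) {A A' B B' : X.Opens} (hA : A' ≤ A) (hB : B' ≤ B)
    (e : A = B) (e' : A' = B') :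
    Function.Injective (P.map (homOfLE hA).op) ↔ Function.Injective (P.map (homOfLE hB).op) := by
  subst e e'; exact Iff.rfl

lemma map_congr_bij (P : TopCat.Presheaf Ab.{u} X) {A A' B B' : X.Opens} (hA : A' ≤ A) (hB : B' ≤ B)
    (e : A = B) (e' : A' = B') :
    Function.Bijective (P.map (homOfLE hA).op) ↔ Function.Bijective (P.map (homOfLE hB).op) := by
  subst e e'; exact Iff.rfl

/-- restriction maps of the restricted module -/
lemma resInf_restrict (O : X.Opens) (F : X.Modules) (U' V' : O.toScheme.Opens) :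
    resInf ((Scheme.Modules.restrictFunctor O.ι).obj F).presheaf U' V' =
      F.presheaf.map (homOfLE (O.ι.image_mono (inf_le_left : V' ⊓ U' ≤ V'))).op := rfl

lemma stable_preimage {Z : Set X} (hZ : StableUnderSpecialization Z) (O : X.Opens) :
    StableUnderSpecialization (O.ι.base ⁻¹' Z) :=
  hZ.preimage O.ι.continuous

/-- closed subset of `O` inside `Z ∩ O` cut out by a closed `T ⊆ Z` -/
def clPre {Z : Set X} (O : X.Opens) (T : Cl Z) : Cl (O.ι.base ⁻¹' Z) :=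
  ⟨⟨O.ι.base ⁻¹' (T.1 : Set X), T.1.2.preimage O.ι.continuous⟩, Set.preimage_mono T.2⟩

lemma clPre_U {Z : Set X} (O : X.Opens) (T : Cl Z) : (clPre O T).U = O.ι ⁻¹ᵁ T.U := by
  ext x; rfl

lemma image_clPre {Z : Set X} (O : X.Opens) (T : Cl Z) (W : X.Opens) (hW : W ≤ O) :
    O.ι ''ᵁ (O.ι ⁻¹ᵁ W ⊓ (clPre O T).U) = W ⊓ T.U := by
  rw [clPre_U, ← Scheme.Hom.preimage_inf, ι_image_preimage]
  exact inf_eq_right.2 (inf_le_left.trans hW)

lemma image_preimage_of_le (O W : X.Opens) (hW : W ≤ O) : O.ι ''ᵁ O.ι ⁻¹ᵁ W = W := by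
  rw [ι_image_preimage]; exact inf_eq_right.2 hW

lemma exists_cl [IsLocallyNoetherian X] {Z : Set X} (hZ : StableUnderSpecialization Z) (O : X.Opens)
    (T' : Cl (O.ι.base ⁻¹' Z)) (V' : O.toScheme.Opens) (hV' : IsCompact (V' : Set O.toScheme)) :
    ∃ T : Cl Z, O.ι ''ᵁ V' ⊓ T.U = O.ι ''ᵁ (V' ⊓ T'.U) := by
  have hWc : IsCompact ((O.ι ''ᵁ V' : X.Opens) : Set X) := by
    rw [Scheme.Hom.coe_image]; exact hV'.image O.ι.continuous
  let S : Set X := O.ι.base '' ((V' : Set O.toScheme) ∩ (T'.1 : Set O.toScheme))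
  have hSW : S ⊆ (O.ι ''ᵁ V' : X.Opens) := by
    rw [Scheme.Hom.coe_image]; exact Set.image_mono Set.inter_subset_left
  have hdiff : ((O.ι ''ᵁ V' : X.Opens) : Set X) \ S = ((O.ι ''ᵁ (V' ⊓ T'.U) : X.Opens) : Set X) := by
    rw [Scheme.Hom.coe_image, Scheme.Hom.coe_image]
    show O.ι.base '' _ \ O.ι.base '' _ = _
    rw [← Set.image_sdiff O.ι.isOpenEmbedding.injective]
    congr 1
    ext y
    simp only [Set.mem_sdiff, Set.mem_inter_iff, SetLike.mem_coe, not_and, Opens.coe_inf]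
    constructor
    · rintro ⟨h1, h2⟩; exact ⟨h1, fun h => h2 h1 h⟩
    · rintro ⟨h1, h2⟩; exact ⟨h1, fun _ h => h2 h⟩
  have hopen : IsOpen (((O.ι ''ᵁ V' : X.Opens) : Set X) \ S) := by
    rw [hdiff]; exact (O.ι ''ᵁ (V' ⊓ T'.U)).2
  have hSZ : S ⊆ Z := by
    rintro _ ⟨y, ⟨_, hy⟩, rfl⟩
    exact T'.2 hy
  refine ⟨⟨⟨closure S, isClosed_closure⟩,
    closure_subset_of_stable hZ _ hWc S hSW hopen hSZ⟩, ?_⟩
  apply Opens.ext
  rw [← hdiff]
  ext x
  constructor
  · rintro ⟨h1, h2⟩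
    exact ⟨h1, fun h => h2 (subset_closure h)⟩
  · rintro hx
    refine ⟨hx.1, fun h => ?_⟩
    have hd : Disjoint (((O.ι ''ᵁ V' : X.Opens) : Set X) \ S) S := Set.disjoint_sdiff_left
    exact Set.disjoint_left.1 (hd.closure_right hopen) hx h

theorem pure_restrict [IsLocallyNoetherian X] {Z : Set X} (hZ : StableUnderSpecialization Z)
    (F : X.Modules) (O : X.Opens) (h : IsZPure Z F) :
    IsZPure (O.ι.base ⁻¹' Z) ((Scheme.Modules.restrictFunctor O.ι).obj F) := by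
  rw [ZClosLib.isZPure_iff]
  intro T'
  show Mono ((resPushUnit T'.U).app _)
  rw [ZClosLib.mono_unit_iff_compact]
  intro V' hV'
  rw [resInf_restrict]
  obtain ⟨T, hT⟩ := exists_cl hZ O T' V' hV'
  have h1 : Mono ((resPushUnit T.U).app F) := (ZClosLib.isZPure_iff _ _).1 h T
  have h2 := (ZClosLib.mono_iff_injective_app _).1 h1 (O.ι ''ᵁ V')
  have h3 := (ZClosLib.injective_unit_app_iff _ _ _).1 h2
  exact (map_congr_inj F.presheaf _ _ rfl hT).1 h3

theorem closed_restrict [IsLocallyNoetherian X] {Z : Set X} (hZ : StableUnderSpecialization Z)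
    (F : X.Modules) (O : X.Opens) (h : IsZClosed Z F) :
    IsZClosed (O.ι.base ⁻¹' Z) ((Scheme.Modules.restrictFunctor O.ι).obj F) := by
  rw [ZClosLib.isZClosed_iff]
  intro T'
  show IsIso ((resPushUnit T'.U).app _)
  rw [ZClosLib.isIso_unit_iff_compact]
  intro V' hV'
  rw [resInf_restrict]
  obtain ⟨T, hT⟩ := exists_cl hZ O T' V' hV'
  have h1 : IsIso ((resPushUnit T.U).app F) := (ZClosLib.isZClosed_iff _ _).1 h T
  have h2 := (ZClosLib.isIso_iff_bijective_app _).1 h1 (O.ι ''ᵁ V')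
  have h3 := (ZClosLib.bijective_unit_app_iff _ _ _).1 h2
  exact (map_congr_bij F.presheaf _ _ rfl hT).1 h3

theorem pure_of_cover {Z : Set X} (F : X.Modules) {ι : Type u} (V : ι → X.Opens)
    (hV : iSup V = ⊤)
    (h : ∀ i, IsZPure ((V i).ι.base ⁻¹' Z) ((Scheme.Modules.restrictFunctor (V i).ι).obj F)) :
    IsZPure Z F := by
  rw [ZClosLib.isZPure_iff]
  intro T
  show Mono ((resPushUnit T.U).app F)
  rw [ZClosLib.mono_iff_injective_app]
  intro W0
  rw [ZClosLib.injective_unit_app_iff]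
  apply injective_of_basis (ZClosLib.abSheaf F) {W | ∃ i, W ≤ V i} T.U ?_ ?_ W0
  · intro W x hx
    have : x ∈ iSup V := by rw [hV]; trivial
    obtain ⟨i, hi⟩ := Opens.mem_iSup.1 this
    exact ⟨W ⊓ V i, ⟨i, inf_le_right⟩, ⟨hx, hi⟩, inf_le_left⟩
  · rintro W ⟨i, hWi⟩
    have h1 : Mono ((resPushUnit (clPre (V i) T).U).app _) :=
      (ZClosLib.isZPure_iff _ _).1 (h i) (clPre (V i) T)
    have h2 := (ZClosLib.mono_iff_injective_app _).1 h1 ((V i).ι ⁻¹ᵁ W)
    have h3 := (ZClosLib.injective_unit_app_iff _ _ _).1 h2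
    rw [resInf_restrict] at h3
    exact (map_congr_inj F.presheaf _ _ (image_preimage_of_le (V i) W hWi)
      (image_clPre (V i) T W hWi)).1 h3

theorem closed_of_cover {Z : Set X} (F : X.Modules) {ι : Type u} (V : ι → X.Opens)
    (hV : iSup V = ⊤)
    (h : ∀ i, IsZClosed ((V i).ι.base ⁻¹' Z) ((Scheme.Modules.restrictFunctor (V i).ι).obj F)) :
    IsZClosed Z F := by
  rw [ZClosLib.isZClosed_iff]
  intro T
  show IsIso ((resPushUnit T.U).app F)
  rw [ZClosLib.isIso_iff_bijective_app]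
  intro W0
  rw [ZClosLib.bijective_unit_app_iff]
  apply bijective_of_basis (ZClosLib.abSheaf F) {W | ∃ i, W ≤ V i} T.U ?_ ?_ W0
  · intro W x hx
    have : x ∈ iSup V := by rw [hV]; trivial
    obtain ⟨i, hi⟩ := Opens.mem_iSup.1 this
    exact ⟨W ⊓ V i, ⟨i, inf_le_right⟩, ⟨hx, hi⟩, inf_le_left⟩
  · rintro W ⟨i, hWi⟩
    have h1 : IsIso ((resPushUnit (clPre (V i) T).U).app _) :=
      (ZClosLib.isZClosed_iff _ _).1 (h i) (clPre (V i) T)
    have h2 := (ZClosLib.isIso_iff_bijective_app _).1 h1 ((V i).ι ⁻¹ᵁ W)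
    have h3 := (ZClosLib.bijective_unit_app_iff _ _ _).1 h2
    rw [resInf_restrict] at h3
    exact (map_congr_bij F.presheaf _ _ (image_preimage_of_le (V i) W hWi)
      (image_clPre (V i) T W hWi)).1 h3

end Groth.Agent.Lib.Helper17.ZClosCover
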