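import Mathlib
import Groth.Prelude.Def_ZClos
import Groth.Agent.Lib.Helper17.ZClosSec
import Groth.Agent.Lib.Helper17.ZClosTop

open CategoryTheory CategoryTheory.Limits TopologicalSpace Opposite AlgebraicGeometry

universe u

namespace Groth.Agent.Lib.Helper17.ZClosFac

open ZClos SheafBasis ZClosSec ZClosTop

variable {X : Scheme.{u}}

/-- the stalk map of a morphism of modules -/
noncomputable abbrev stalkMap {M N : X.Modules} (φ : M ⟶ N) (x : X) :
    M.presheaf.stalk x ⟶ N.presheaf.stalk x :=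
  (TopCat.Presheaf.stalkFunctor (C := Ab.{u}) x).map φ.mapPresheaf

lemma stalkMap_germ {M N : X.Modules} (φ : M ⟶ N) (x : X) (U : X.Opens) (hx : x ∈ U)
    (s : Γ(M, U)) :
    stalkMap φ x (M.presheaf.germ U x hx s) = N.presheaf.germ U x hx (φ.app U s) :=
  TopCat.Presheaf.stalkFunctor_map_germ_apply U x hx φ.mapPresheaf s

lemma app_res {M N : X.Modules} (φ : M ⟶ N) {U V : X.Opens} (i : U ⟶ V) (s : Γ(M, V)) :
    φ.app U (M.presheaf.map i.op s) = N.presheaf.map i.op (φ.app V s) := by
  have n := φ.mapPresheaf.naturality i.op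
  exact congrArg (fun ψ => ψ s) n

/-- bijectivity of a stalk map from bijectivity over compact opens -/
theorem bijective_stalkMap_of_compact {M N : X.Modules} (φ : M ⟶ N)
    (h : ∀ W : X.Opens, IsCompact (W : Set X) → Function.Bijective (φ.app W)) (x : X) :
    Function.Bijective (stalkMap φ x) := by
  constructor
  · refine (injective_iff_map_eq_zero (stalkMap φ x).hom).2 fun t ht => ?_
    obtain ⟨U, hxU, s, rfl⟩ := TopCat.Presheaf.exists_germ_eq M.presheaf t
    change stalkMap φ x (M.presheaf.germ U x hxU s) = 0 at ht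
    rw [stalkMap_germ] at ht
    have ht' : N.presheaf.germ U x hxU (φ.app U s) = N.presheaf.germ U x hxU 0 := by
      rw [map_zero]; exact ht
    obtain ⟨W, hxW, iU, iV, hW⟩ := TopCat.Presheaf.germ_eq _ x hxU hxU _ _ ht'
    obtain ⟨W', hW'c, hxW', hW'W⟩ := ZClosLib.exists_compact_nhd W x hxW
    have h1 : φ.app W' (M.presheaf.map (homOfLE hW'W ≫ iU).op s) = 0 := by
      rw [app_res]
      rw [← map_map_apply N.presheaf (homOfLE hW'W) iU _ (φ.app U s)]
      erw [hW]
      rw [map_zero, map_zero]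
    have h2 : M.presheaf.map (homOfLE hW'W ≫ iU).op s = 0 :=
      (h W' hW'c).1 (h1.trans (map_zero _).symm)
    rw [← TopCat.Presheaf.germ_res_apply M.presheaf (homOfLE hW'W ≫ iU) x hxW' s, h2, map_zero]
  · intro t
    obtain ⟨U, hxU, q, rfl⟩ := TopCat.Presheaf.exists_germ_eq N.presheaf t
    obtain ⟨W, hWc, hxW, hWU⟩ := ZClosLib.exists_compact_nhd U x hxU
    obtain ⟨s, hs⟩ := (h W hWc).2 (N.presheaf.map (homOfLE hWU).op q)
    refine ⟨M.presheaf.germ W x hxW s, ?_⟩
    rw [stalkMap_germ, hs, TopCat.Presheaf.germ_res_apply]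

theorem isIso_of_bijective_compact {M N : X.Modules} (φ : M ⟶ N)
    (h : ∀ W : X.Opens, IsCompact (W : Set X) → Function.Bijective (φ.app W)) : IsIso φ := by
  rw [ZClosLib.isIso_iff_bijective_app]
  intro U
  let f : ZClosLib.abSheaf M ⟶ ZClosLib.abSheaf N := ⟨φ.mapPresheaf⟩
  exact TopCat.Presheaf.app_bijective_of_stalkFunctor_map_bijective f U
    (fun x _ => bijective_stalkMap_of_compact φ h x)

/-- two sections over a compact open whose germs agree off `Z` agree off some closed `T ⊆ Z`. -/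
theorem exists_eq_off [IsLocallyNoetherian X] {Z : Set X} (hZ : StableUnderSpecialization Z)
    (F : X.Modules) (W : X.Opens) (hW : IsCompact (W : Set X)) (a b : Γ(F, W))
    (h : ∀ (x : X) (hx : x ∈ W), x ∉ Z → F.presheaf.germ W x hx a = F.presheaf.germ W x hx b) :
    ∃ T : Cl Z, ∀ (W' : X.Opens) (i : W' ⟶ W), W' ≤ T.U →
      F.presheaf.map i.op a = F.presheaf.map i.op b := by
  obtain ⟨T, hT⟩ := exists_vanish hZ F W hW (a - b) (fun x hx hxZ => by
    rw [map_sub, h x hx hxZ, sub_self])
  refine ⟨T, fun W' i hW' => ?_⟩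
  have := hT W' i hW'
  rwa [map_sub, sub_eq_zero] at this

/-- sections with the same image under `u` (injective on stalks off `Z`) have the same image in the
`Z`-closure -/
theorem rho_eq_of_eq [IsLocallyNoetherian X] {Z : Set X} (hZ : StableUnderSpecialization Z)
    {F F' : X.Modules} (u : F ⟶ F') (hu : ∀ x : X, x ∉ Z → Function.Injective (stalkMap u x))
    (N : X.Opens) (hN : IsCompact (N : Set X)) (a b : Γ(F, N)) (hab : u.app N a = u.app N b) :
    (rhoApp Z F).app N a = (rhoApp Z F).app N b := by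
  obtain ⟨T, hT⟩ := exists_eq_off hZ F N hN a b (fun x hx hxZ => hu x hxZ (by
    rw [stalkMap_germ, stalkMap_germ, hab]))
  rw [rho_app_eq Z F T, rho_app_eq Z F T, hT _ _ (by
    show cap T.U N ≤ T.U
    rw [cap_eq]; exact inf_le_left)]

lemma bijective_resInf_of_closed {Z : Set X} (G : X.Modules) (hG : IsZClosed Z G) (T : Cl Z)
    (V : X.Opens) : Function.Bijective (resInf G.presheaf T.U V) := by
  have h1 : IsIso ((resPushUnit T.U).app G) := (ZClosLib.isZClosed_iff Z G).1 hG T
  exact (ZClosLib.bijective_unit_app_iff _ _ _).1 ((ZClosLib.isIso_iff_bijective_app _).1 h1 V)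

theorem isIso_fac [IsLocallyNoetherian X] {Z : Set X} (hZ : StableUnderSpecialization Z)
    (F F' : X.Modules) (hF' : IsZClosed Z F') (u : F ⟶ F')
    (hu : ∀ x : X, x ∉ Z → Function.Bijective (stalkMap u x))
    (v : (H0 Z).obj F ⟶ F') (hv : rhoApp Z F ≫ v = u) : IsIso v := by
  apply isIso_of_bijective_compact
  intro V hVc
  have hV := NoethColimMod.isCompact_of_le V hVc
  have hH := isZClosed_H0 Z F
  have hvapp : ∀ (N : X.Opens) (a : Γ(F, N)), v.app N ((rhoApp Z F).app N a) = u.app N a := by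
    intro N a; rw [← hv]; rfl
  constructor
  · refine (injective_iff_map_eq_zero (v.app V).hom).2 fun q hq => ?_
    obtain ⟨T, a, rfl⟩ := exists_cls Z F V hV V le_rfl q
    have hWV : cap T.U V ≤ V := T.U.ι.image_preimage_le V
    have h1 : ((H0 Z).obj F).presheaf.map (homOfLE hWV).op (cls Z F T V a) =
        (rhoApp Z F).app (cap T.U V) a := by
      rw [cls_res, rho_app_eq Z F T]
    have h2 : u.app (cap T.U V) a = u.app (cap T.U V) 0 := by
      rw [← hvapp, ← h1, app_res, map_zero]
      erw [hq]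
      rw [map_zero]
    have h3 := rho_eq_of_eq hZ u (fun x hx => (hu x hx).1) (cap T.U V) (hV _ hWV) a 0 h2
    rw [map_zero, ← h1] at h3
    apply (bijective_resInf_of_closed _ hH T V).1
    unfold resInf
    rw [map_zero]
    rw [← map_map_apply ((H0 Z).obj F).presheaf
      (homOfLE (by rw [cap_eq, inf_comm]) : V ⊓ T.U ⟶ cap T.U V) (homOfLE hWV) _ _, h3, map_zero]
  · intro s'
    have step1 : ∀ x : X, x ∈ V → x ∉ Z → ∃ (N : X.Opens) (_ : x ∈ N) (i : N ⟶ V) (a : Γ(F, N)),
        u.app N a = F'.presheaf.map i.op s' := by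
      intro x hxV hxZ
      obtain ⟨t, ht⟩ := (hu x hxZ).2 (F'.presheaf.germ V x hxV s')
      obtain ⟨U, hxU, b, rfl⟩ := TopCat.Presheaf.exists_germ_eq F.presheaf t
      rw [stalkMap_germ] at ht
      obtain ⟨N, hxN, iU, iV, hN⟩ := TopCat.Presheaf.germ_eq _ x hxU hxV _ _ ht
      exact ⟨N, hxN, iV, F.presheaf.map iU.op b, by rw [app_res]; exact hN⟩
    let I := {x : X // x ∈ V ∧ x ∉ Z}
    choose N hxN iN a ha using fun x : I => step1 x.1 x.2.1 x.2.2
    let sf : ∀ x : I, Γ((H0 Z).obj F, N x) := fun x => (rhoApp Z F).app (N x) (a x)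
    have hcompat : TopCat.Presheaf.IsCompatible ((H0 Z).obj F).presheaf N sf := by
      intro x y
      show ((H0 Z).obj F).presheaf.map (Opens.infLELeft (N x) (N y)).op
          ((rhoApp Z F).app (N x) (a x)) =
        ((H0 Z).obj F).presheaf.map (Opens.infLERight (N x) (N y)).op
          ((rhoApp Z F).app (N y) (a y))
      rw [← app_res, ← app_res]
      apply rho_eq_of_eq hZ u (fun x hx => (hu x hx).1) _ (hV _ (inf_le_left.trans (iN x).le))
      rw [app_res, app_res, ha, ha,
        map_map_apply F'.presheaf _ _ (Opens.infLELeft _ _ ≫ iN x),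
        map_map_apply F'.presheaf _ _ (Opens.infLELeft _ _ ≫ iN x)]
    obtain ⟨q0, hq0, -⟩ := TopCat.Sheaf.existsUnique_gluing
      (ZClosLib.abSheaf ((H0 Z).obj F)) N sf hcompat
    have hsupV : iSup N ≤ V := iSup_le fun x => (iN x).le
    have hvq0 : v.app (iSup N) q0 = F'.presheaf.map (homOfLE hsupV).op s' := by
      apply TopCat.Sheaf.eq_of_locally_eq (ZClosLib.abSheaf F') N
      intro x
      show F'.presheaf.map (Opens.leSupr N x).op (v.app (iSup N) q0) =
        F'.presheaf.map (Opens.leSupr N x).op (F'.presheaf.map (homOfLE hsupV).op s')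
      rw [← app_res]
      erw [hq0 x]
      rw [hvapp, ha, map_map_apply F'.presheaf _ _ (iN x)]
    let S0 : Set X := (V : Set X) \ (iSup N : X.Opens)
    have hS0open : IsOpen ((V : Set X) \ S0) := by
      have : (V : Set X) \ S0 = ((iSup N : X.Opens) : Set X) := by
        ext y; constructor
        · rintro ⟨h1, h2⟩; by_contra h3; exact h2 ⟨h1, h3⟩
        · intro h; exact ⟨hsupV h, fun h' => h'.2 h⟩
      rw [this]; exact (iSup N).2
    have hS0Z : S0 ⊆ Z := by
      intro y hy
      by_contra hyZ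
      exact hy.2 (Opens.mem_iSup.2 ⟨⟨y, hy.1, hyZ⟩, hxN _⟩)
    let T0 : Cl Z := ⟨⟨closure S0, isClosed_closure⟩,
      closure_subset_of_stable hZ V hVc S0 Set.sdiff_subset hS0open hS0Z⟩
    have hle : V ⊓ T0.U ≤ iSup N := by
      intro y hy
      by_contra h
      exact hy.2 (subset_closure ⟨hy.1, h⟩)
    obtain ⟨q, hq⟩ := (bijective_resInf_of_closed _ hH T0 V).2
      (((H0 Z).obj F).presheaf.map (homOfLE hle).op q0)
    refine ⟨q, ?_⟩
    apply (bijective_resInf_of_closed _ hF' T0 V).1
    unfold resInf at hq ⊢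
    rw [← app_res, hq, app_res, hvq0, map_map_apply]

end Groth.Agent.Lib.Helper17.ZClosFac
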