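import Mathlib
import Groth.Prelude.Def_ZClos
import Groth.Agent.Lib.Helper17.ZClosSec
import Groth.Agent.Lib.Helper17.ZClosTop
import Groth.Agent.Lib.Helper17.ZClosCover
import Groth.Agent.Lib.Helper17.ZClosFac

open CategoryTheory CategoryTheory.Limits TopologicalSpace Opposite AlgebraicGeometry

universe u

namespace Groth.Agent.Lib.Helper17.ZClosFlat

open ZClos SheafBasis ZClosSec ZClosTop

theorem closure_image_subset_aux {α β : Type*} [TopologicalSpace α] [TopologicalSpace β] {Z : Set β}
    (hZ : StableUnderSpecialization Z) (g : α → β) (hg : Continuous g)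
    (s : Set α) [hN : NoetherianSpace s] [hQ : QuasiSober s]
    (S : Set α) (hSW : S ⊆ s) (hS : IsOpen (s \ S)) (hSZ : g '' S ⊆ Z) : closure (g '' S) ⊆ Z := by
  have hcl : IsClosed ((Subtype.val : s → α) ⁻¹' S) := by
    rw [← isOpen_compl_iff]
    have : ((Subtype.val : s → α) ⁻¹' S)ᶜ = (Subtype.val : s → α) ⁻¹' (s \ S) := by
      ext w; simp
    rw [this]
    exact hS.preimage continuous_subtype_val
  obtain ⟨𝒮, hfin, hcl', hirr, hU⟩ :=
    NoetherianSpace.exists_finite_set_isClosed_irreducible hcl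
  have hSeq : S = ⋃ t ∈ 𝒮, (Subtype.val : s → α) '' t := by
    have h1 : S = (Subtype.val : s → α) '' ((Subtype.val : s → α) ⁻¹' S) := by
      rw [Subtype.image_preimage_coe]
      exact (Set.inter_eq_right.2 hSW).symm
    rw [h1, hU, Set.sUnion_eq_biUnion, Set.image_iUnion₂]
  have hgS : g '' S = ⋃ t ∈ 𝒮, (fun w : s => g w.1) '' t := by
    rw [hSeq, Set.image_iUnion₂]
    refine Set.iUnion₂_congr fun t _ => ?_
    rw [Set.image_image]
  have hc : Continuous (fun w : s => g w.1) := hg.comp continuous_subtype_val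
  intro y hy
  rw [hgS, hfin.closure_biUnion] at hy
  obtain ⟨t, ht, hyt⟩ := Set.mem_iUnion₂.1 hy
  obtain ⟨η, hη⟩ := QuasiSober.sober (hirr t ht) (hcl' t ht)
  have hη' : closure ({η} : Set s) = t := hη
  rw [← hη', closure_image_closure hc, Set.image_singleton] at hyt
  have hsp : g (η : α) ⤳ y := specializes_iff_mem_closure.2 hyt
  have hηS : (η : α) ∈ S := by
    have : η ∈ (Subtype.val : s → α) ⁻¹' S := by
      rw [hU]; exact Set.mem_sUnion.2 ⟨t, ht, hη' ▸ subset_closure rfl⟩
    exact this
  exact hZ hsp (hSZ ⟨_, hηS, rfl⟩)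

variable {X X' : Scheme.{u}}

theorem exists_cl_flat [IsLocallyNoetherian X'] (f : X' ⟶ X) {Z : Set X}
    (hZ : StableUnderSpecialization Z) (V' : X'.Opens) (hV' : IsCompact (V' : Set X'))
    (T' : Cl (f.base ⁻¹' Z)) : ∃ T : Cl Z, V' ⊓ f ⁻¹ᵁ T.U ≤ T'.U := by
  have : CompactSpace V' := isCompact_iff_compactSpace.1 hV'
  have : IsNoetherian V'.toScheme := { }
  have hN : NoetherianSpace ((V' : Set X') : Type u) :=
    (inferInstance : NoetherianSpace V'.toScheme)
  have hQ : QuasiSober ((V' : Set X') : Type u) := V'.2.isOpenEmbedding_subtypeVal.quasiSober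
  let S : Set X' := (V' : Set X') ∩ (T'.1 : Set X')
  have hS : IsOpen ((V' : Set X') \ S) := by
    have : (V' : Set X') \ S = (V' : Set X') ∩ ((T'.1 : Set X'))ᶜ := by
      ext y; simp [S]
    rw [this]
    exact V'.2.inter T'.1.2.isOpen_compl
  have hSZ : f.base '' S ⊆ Z := by
    rintro _ ⟨y, hy, rfl⟩
    exact T'.2 hy.2
  have h := closure_image_subset_aux hZ f.base f.continuous (V' : Set X') S Set.inter_subset_left
    hS hSZ
  refine ⟨⟨⟨closure (f.base '' S), isClosed_closure⟩, h⟩, ?_⟩
  intro y hy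
  intro hyT
  exact hy.2 (subset_closure ⟨y, ⟨hy.1, hyT⟩, rfl⟩)

/-- the unit of `j^* ⊣ j_*` is an isomorphism on modules of the form `j_* N`. -/
theorem isIso_unit_of_iso_push (U : X.Opens) (G : X.Modules) (N : U.toScheme.Modules)
    (e : G ≅ (Scheme.Modules.pushforward U.ι).obj N) : IsIso ((resPushUnit U).app G) := by
  have h := (Scheme.Modules.restrictAdjunction U.ι).right_triangle_components N
  have hc : IsIso ((Scheme.Modules.restrictAdjunction U.ι).counit.app N) := inferInstance
  have h1 : IsIso ((resPushUnit U).app ((Scheme.Modules.pushforward U.ι).obj N)) := by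
    have h2 : IsIso ((resPushUnit U).app ((Scheme.Modules.pushforward U.ι).obj N) ≫
        (Scheme.Modules.pushforward U.ι).map
          ((Scheme.Modules.restrictAdjunction U.ι).counit.app N)) := by
      rw [h]; infer_instance
    exact IsIso.of_isIso_comp_right _ ((Scheme.Modules.pushforward U.ι).map
          ((Scheme.Modules.restrictAdjunction U.ι).counit.app N))
  have n : e.hom ≫ (resPushUnit U).app ((Scheme.Modules.pushforward U.ι).obj N) =
      (resPushUnit U).app G ≫ (resPush U).map e.hom := (resPushUnit U).naturality e.hom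
  have h4 : IsIso ((resPushUnit U).app G ≫ (resPush U).map e.hom) := by
    rw [← n]; infer_instance
  exact IsIso.of_isIso_comp_right _ ((resPush U).map e.hom)

end Groth.Agent.Lib.Helper17.ZClosFlat
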