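import Mathlib
import Groth.Prelude.Def_ZClos
import Groth.Prelude.Def_Coh
import Groth.Agent.Lib.Helper17.ZClosFlat1
import Groth.Agent.Lib.Helper26.FlatBC
import Groth.Agent.Lib.Helper29.QCohCrit
import Groth.Agent.Lib.Helper29.QCohQcqs

open CategoryTheory CategoryTheory.Limits TopologicalSpace Opposite AlgebraicGeometry

universe u

namespace Groth.Agent.Lib.Helper17.ZClosFlat

open ZClos SheafBasis ZClosSec ZClosTop
open Groth.Agent.Lib.Helper29.QCoh

variable {X X' : Scheme.{u}}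

/-- `H⁰_{X/Z}(F)` is quasi-coherent for `F` quasi-coherent on a locally Noetherian scheme. -/
theorem isQuasicoherent_H0 [IsLocallyNoetherian X] (Z : Set X) (F : X.Modules)
    [F.IsQuasicoherent] : ((H0 Z).obj F).IsQuasicoherent := by
  show (colimit ((diagram Z).obj F)).IsQuasicoherent
  apply isQuasicoherent_colimit
  intro T
  show ((Scheme.Modules.pushforward T.U.ι).obj
    ((Scheme.Modules.restrictFunctor T.U.ι).obj F)).IsQuasicoherent
  exact isQuasicoherent_pushforward_of_qcqs T.U.ι _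

/-- for `T ⊆ Z` closed, the pullback of `H⁰_{X/Z}(F)` along a flat `f` is a direct image from
`f⁻¹(X ∖ T)`. -/
theorem isIso_unit_pullback_H0 [IsLocallyNoetherian X] (f : X' ⟶ X) [Flat f]
    (Z : Set X) (F : X.Modules) [F.IsQuasicoherent] (T : Cl Z) :
    IsIso ((resPushUnit (f ⁻¹ᵁ T.U)).app
      ((Scheme.Modules.pullback f).obj ((H0 Z).obj F))) := by
  have hH : ((H0 Z).obj F).IsQuasicoherent := isQuasicoherent_H0 Z F
  have h1 : IsIso ((resPushUnit T.U).app ((H0 Z).obj F)) :=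
    (ZClosLib.isZClosed_iff Z _).1 (isZClosed_H0 Z F) T
  let M : T.U.toScheme.Modules := (Scheme.Modules.restrictFunctor T.U.ι).obj ((H0 Z).obj F)
  have hM : M.IsQuasicoherent := inferInstance
  have hc : IsPullback (f ∣_ T.U) (f ⁻¹ᵁ T.U).ι T.U.ι f := isPullback_morphismRestrict f T.U
  have h2 := Groth.Agent.Lib.Helper26.FlatBC.isIso_uMap T.U.ι f (f ∣_ T.U) (f ⁻¹ᵁ T.U).ι hc M
  let e1 : (Scheme.Modules.pullback f).obj ((H0 Z).obj F) ≅
      (Scheme.Modules.pullback f).obj ((Scheme.Modules.pushforward T.U.ι).obj M) :=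
    (Scheme.Modules.pullback f).mapIso (asIso ((resPushUnit T.U).app ((H0 Z).obj F)))
  exact isIso_unit_of_iso_push _ _ _ (e1 ≪≫ asIso
    (Groth.Agent.Lib.Helper26.AffineBC.uMap T.U.ι f (f ∣_ T.U) (f ⁻¹ᵁ T.U).ι hc.w M))

/-- (A): the pullback of `H⁰_{X/Z}(F)` along a flat morphism is `f⁻¹(Z)`-closed. -/
theorem isZClosed_pullback_H0 [IsLocallyNoetherian X] [IsLocallyNoetherian X'] (f : X' ⟶ X) [Flat f]
    {Z : Set X} (hZ : StableUnderSpecialization Z) (F : X.Modules) [F.IsQuasicoherent] :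
    IsZClosed (f.base ⁻¹' Z) ((Scheme.Modules.pullback f).obj ((H0 Z).obj F)) := by
  set G := (Scheme.Modules.pullback f).obj ((H0 Z).obj F) with hG
  rw [ZClosLib.isZClosed_iff]
  intro T'
  show IsIso ((resPushUnit T'.U).app G)
  rw [ZClosLib.isIso_unit_iff_compact]
  intro V' hV'
  obtain ⟨T, hT⟩ := exists_cl_flat f hZ V' hV' T'
  have hb : ∀ W : X'.Opens, Function.Bijective (resInf G.presheaf (f ⁻¹ᵁ T.U) W) := by
    intro W
    have h1 := isIso_unit_pullback_H0 f Z F T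
    exact (ZClosLib.bijective_unit_app_iff _ _ _).1 ((ZClosLib.isIso_iff_bijective_app _).1 h1 W)
  -- a : G(V') → G(V' ⊓ T'.U); b : G(V' ⊓ T'.U) → G(V' ⊓ T'.U ⊓ U₁); c : G(V') → G(V' ⊓ U₁)
  have e : V' ⊓ T'.U ⊓ f ⁻¹ᵁ T.U = V' ⊓ f ⁻¹ᵁ T.U := by
    apply le_antisymm
    · exact inf_le_inf_right _ inf_le_left
    · exact le_inf (le_inf inf_le_left hT) inf_le_right
  have hc := hb V'
  have hbb := hb (V' ⊓ T'.U)
  have hle : V' ⊓ T'.U ⊓ f ⁻¹ᵁ T.U ≤ V' := inf_le_left.trans inf_le_left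
  have hc' : Function.Bijective (G.presheaf.map (homOfLE hle).op) :=
    (ZClosCover.map_congr_bij G.presheaf hle (inf_le_left : V' ⊓ f ⁻¹ᵁ T.U ≤ V') rfl e).2 hc
  have hcomp : (G.presheaf.map (homOfLE hle).op : _ → _) =
      (resInf G.presheaf (f ⁻¹ᵁ T.U) (V' ⊓ T'.U)) ∘ (resInf G.presheaf T'.U V') := by
    funext s
    exact (map_map_apply G.presheaf _ _ _ s).symm
  rw [hcomp] at hc'
  exact (Function.Bijective.of_comp_iff' hbb _).1 hc'

end Groth.Agent.Lib.Helper17.ZClosFlat
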