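import Mathlib
import Groth.Prelude.Def_ZClos
import Groth.Prelude.Def_Coh
import Groth.Agent.Lib.Helper17.ZClosFlat2
import Groth.Agent.Lib.Helper28.StalkAdj2
import Groth.Agent.Lib.Helper29.QCohDescent

open CategoryTheory CategoryTheory.Limits TopologicalSpace Opposite AlgebraicGeometry

universe u

namespace Groth.Agent.Lib.Helper17.ZClosFlat

open ZClos SheafBasis ZClosSec ZClosTop
open Groth.Agent.Lib.Helper29.QCoh

variable {X X' : Scheme.{u}}

lemma isIso_stalkFunctor_map_iff {M N : X.Modules} (φ : M ⟶ N) (x : X) :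
    IsIso ((DerSch.stalkFunctor X x).map φ) ↔ Function.Bijective (ZClosFac.stalkMap φ x) := by
  rw [ConcreteCategory.isIso_iff_bijective]
  rfl

theorem bijective_stalkMap_pullback (f : X' ⟶ X) {M N : X.Modules} (φ : M ⟶ N) (x' : X')
    (h : Function.Bijective (ZClosFac.stalkMap φ (f.base x'))) :
    Function.Bijective (ZClosFac.stalkMap ((Scheme.Modules.pullback f).map φ) x') := by
  rw [← isIso_stalkFunctor_map_iff] at h ⊢
  have h2 : IsIso ((DerSch.stalkFunctor X (f.base x') ⋙
      Groth.Agent.Lib.Helper28.StalkTensor.esStalk f x').map φ) := by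
    rw [Functor.comp_map]; infer_instance
  exact (NatIso.isIso_map_iff (Groth.Agent.Lib.Helper28.StalkTensor.pullStalkNatIso f x') φ).2 h2

/-- flat base change for `H⁰_{X/Z}`. -/
theorem main [IsLocallyNoetherian X] [IsLocallyNoetherian X'] (f : X' ⟶ X) [Flat f]
    {Z : Set X} (hZ : StableUnderSpecialization Z) (F : X.Modules) [F.IsQuasicoherent] :
    Nonempty ((Scheme.Modules.pullback f).obj ((ZClos.H0 Z).obj F) ≅
      (ZClos.H0 (f.base ⁻¹' Z)).obj ((Scheme.Modules.pullback f).obj F)) := by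
  have hZ' : StableUnderSpecialization (f.base ⁻¹' Z) := hZ.preimage f.continuous
  have hA := isZClosed_pullback_H0 f hZ F
  let u := (Scheme.Modules.pullback f).map (rhoApp Z F)
  obtain ⟨v, hv, -⟩ := ZClosLib.existsUnique_fac (f.base ⁻¹' Z) _ _ hA u
  have hB : ∀ x' : X', x' ∉ f.base ⁻¹' Z → Function.Bijective (ZClosFac.stalkMap u x') := by
    intro x' hx'
    apply bijective_stalkMap_pullback
    exact isZClosedAt_of_not_mem Z F (f.base x') hx'
  have hi : IsIso v := ZClosFac.isIso_fac hZ' _ _ hA u hB v hv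
  exact ⟨(asIso v).symm⟩

end Groth.Agent.Lib.Helper17.ZClosFlat
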